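import Cfsg.Agent.Leech.Shapes

/-!
The numbers of vectors of the three smallest norms.
-/

namespace Cfsg.Lib.Leech

open Cfsg Cfsg.Lib.Golay Finset

theorem counts_eval :
    evenCount allEven 8 + oddCount allOdd 1 = 196560 ∧ evenCount allEven 12 + oddCount allOdd 3 = 16773120 ∧
      evenCount allEven 16 + oddCount allOdd 5 = 398034000 := by decide +kernel

theorem shape_eval :
    evenCount [0, 2, -2] 12 = 5275648 ∧ evenCount allEven 12 = 8384512 ∧ oddCount [1, -1, 3, -3] 3 = 8290304 ∧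
      oddCount allOdd 3 = 8388608 := by decide +kernel

theorem ncard_32 : {x : GolayPt → ℤ | x ∈ leechLattice ∧ Cfsg.sqNorm x = 32}.ncard = 196560 := by
  rw [← counts_eval.1, ← ncard_norm 8 1 (by norm_num) (by norm_num)]
  norm_num

theorem ncard_48 : {x : GolayPt → ℤ | x ∈ leechLattice ∧ Cfsg.sqNorm x = 48}.ncard = 16773120 := by
  rw [← counts_eval.2.1, ← ncard_norm 12 3 (by norm_num) (by norm_num)]
  norm_num

theorem ncard_64 : {x : GolayPt → ℤ | x ∈ leechLattice ∧ Cfsg.sqNorm x = 64}.ncard = 398034000 := by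
  rw [← counts_eval.2.2, ← ncard_norm 16 5 (by norm_num) (by norm_num)]
  norm_num

/-- The number of coordinates of absolute value three is forced by the norm. -/
theorem three_threes {x : GolayPt → ℤ} (hn : Cfsg.sqNorm x = 48) (ho : ∀ i, x i ∈ allOdd ∧ x i % 2 = 1) :
    (∃ i j k, i ≠ j ∧ j ≠ k ∧ i ≠ k ∧ |x i| = 3 ∧ |x j| = 3 ∧ |x k| = 3) ↔ ∀ i, x i ∈ ([1, -1, 3, -3] : List ℤ) := by
  have hsplit : ∀ s : Finset GolayPt, Cfsg.sqNorm x = 24 + ∑ i ∈ s, (x i ^ 2 - 1) + ∑ i ∈ sᶜ, (x i ^ 2 - 1) := by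
    intro s
    rw [add_assoc, sum_add_sum_compl, sum_sub_distrib, sum_const, card_pts]
    unfold Cfsg.sqNorm; ring
  have hsq : ∀ i, 1 ≤ x i ^ 2 := fun i => by
    have := (ho i).1
    simp only [allOdd, List.mem_cons, List.not_mem_nil, or_false] at this
    rcases this with h | h | h | h | h | h | h | h <;> rw [h] <;> norm_num
  constructor
  · rintro ⟨i, j, k, hij, hjk, hik, hi, hj, hk⟩ l
    by_contra hl
    have hl' : 25 ≤ x l ^ 2 := by
      have := (ho l).1
      simp only [allOdd, List.mem_cons, List.not_mem_nil, or_false] at this hl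
      rcases this with h | h | h | h | h | h | h | h <;> simp [h] at hl ⊢
    have h9 : ∀ a, |x a| = 3 → x a ^ 2 = 9 := fun a ha => by rw [← sq_abs, ha]; norm_num
    have hli : l ≠ i := fun e => by rw [e, h9 i hi] at hl'; norm_num at hl'
    have hlj : l ≠ j := fun e => by rw [e, h9 j hj] at hl'; norm_num at hl'
    have hlk : l ≠ k := fun e => by rw [e, h9 k hk] at hl'; norm_num at hl'
    have hs := hsplit {i, j, k, l}
    have hrest : 0 ≤ ∑ a ∈ ({i, j, k, l} : Finset GolayPt)ᶜ, (x a ^ 2 - 1) :=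
      sum_nonneg fun a _ => by linarith [hsq a]
    rw [sum_insert (by simp [hij, hik, hli.symm]), sum_insert (by simp [hjk, hlj.symm]),
      sum_insert (by simp [hlk.symm]), sum_singleton, h9 i hi, h9 j hj, h9 k hk, hn] at hs
    omega
  · intro hall
    have h19 : ∀ i, x i ^ 2 - 1 = if |x i| = 3 then 8 else 0 := fun i => by
      have := hall i
      simp only [List.mem_cons, List.not_mem_nil, or_false] at this
      rcases this with h | h | h | h <;> rw [h] <;> norm_num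
    have hs := hsplit univ
    rw [compl_univ, sum_empty, hn, sum_congr rfl fun i _ => h19 i, sum_ite, sum_const, sum_const_zero] at hs
    have h3 : (univ.filter fun i => |x i| = 3).card = 3 := by
      simp only [nsmul_eq_mul] at hs
      omega
    obtain ⟨i, j, k, hij, hik, hjk, he⟩ := card_eq_three.mp h3
    have hm : ∀ a ∈ ({i, j, k} : Finset GolayPt), |x a| = 3 := fun a ha => by
      rw [← he] at ha; exact (mem_filter.mp ha).2
    exact ⟨i, j, k, hij, hjk, hik, hm i (by simp), hm j (by simp), hm k (by simp)⟩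

theorem shapes_48 :
    {x : GolayPt → ℤ | x ∈ leechLattice ∧ Cfsg.sqNorm x = 48 ∧ ∀ i, x i = 0 ∨ x i = 2 ∨ x i = -2}.ncard = 5275648 ∧
    {x : GolayPt → ℤ | x ∈ leechLattice ∧ Cfsg.sqNorm x = 48 ∧
      ∃ i j k, i ≠ j ∧ j ≠ k ∧ i ≠ k ∧ |x i| = 3 ∧ |x j| = 3 ∧ |x k| = 3}.ncard = 8290304 ∧
    {x : GolayPt → ℤ | x ∈ leechLattice ∧ Cfsg.sqNorm x = 48 ∧ ∃ i, |x i| = 4}.ncard = 3108864 ∧
    {x : GolayPt → ℤ | x ∈ leechLattice ∧ Cfsg.sqNorm x = 48 ∧ ∃ i, |x i| = 5}.ncard = 98304 := by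
  have hbd : ∀ x : GolayPt → ℤ, Cfsg.sqNorm x = 48 → ∀ i, -8 ≤ x i ∧ x i ≤ 8 := fun x h i =>
    abs_le_eight (by rw [h]; norm_num) i
  have hE : ∀ l : List ℤ, l.Nodup → l.length ≤ 9 → {x : GolayPt → ℤ | x ∈ leechLattice ∧ Cfsg.sqNorm x = 48 ∧
      ∀ i, x i ∈ l ∧ x i % 2 = 0}.ncard = evenCount l 12 := fun l h1 h2 => by
    rw [← ncard_even l h1 h2 12]; norm_num
  have hO : ∀ l : List ℤ, l.Nodup → l.length ≤ 9 → (∀ v ∈ l, -v ∈ l) → {x : GolayPt → ℤ | x ∈ leechLattice ∧
      Cfsg.sqNorm x = 48 ∧ ∀ i, x i ∈ l ∧ x i % 2 = 1}.ncard = oddCount l 3 := fun l h1 h2 h3 => by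
    rw [← ncard_odd l h1 h2 h3 3]; norm_num
  have hfin : ∀ p : (GolayPt → ℤ) → Prop, {x : GolayPt → ℤ | x ∈ leechLattice ∧ Cfsg.sqNorm x = 48 ∧ p x}.Finite :=
    fun p => finite_of_bound fun x hx i => hbd x hx.2.1 i
  obtain ⟨e1, e2, e3, e4⟩ := shape_eval
  have h1 : {x : GolayPt → ℤ | x ∈ leechLattice ∧ Cfsg.sqNorm x = 48 ∧ ∀ i, x i = 0 ∨ x i = 2 ∨ x i = -2}
      = {x : GolayPt → ℤ | x ∈ leechLattice ∧ Cfsg.sqNorm x = 48 ∧ ∀ i, x i ∈ ([0, 2, -2] : List ℤ) ∧ x i % 2 = 0} := by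
    ext x
    refine and_congr_right fun _ => and_congr_right fun _ => forall_congr' fun i => ?_
    simp only [List.mem_cons, List.not_mem_nil, or_false]
    constructor
    · intro h; exact ⟨h, by rcases h with e | e | e <;> rw [e] <;> decide⟩
    · exact fun h => h.1
  have h2 : {x : GolayPt → ℤ | x ∈ leechLattice ∧ Cfsg.sqNorm x = 48 ∧
      ∃ i j k, i ≠ j ∧ j ≠ k ∧ i ≠ k ∧ |x i| = 3 ∧ |x j| = 3 ∧ |x k| = 3}
      = {x : GolayPt → ℤ | x ∈ leechLattice ∧ Cfsg.sqNorm x = 48 ∧ ∀ i, x i ∈ ([1, -1, 3, -3] : List ℤ) ∧ x i % 2 = 1} := by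
    ext x
    refine and_congr_right fun hL => and_congr_right fun hn => ?_
    constructor
    · intro h3
      have hodd : ∀ i, x i % 2 = 1 := by
        obtain ⟨i, -, -, -, -, -, hi, -, -⟩ := id h3
        refine (parity_uniform hL).resolve_left fun h => ?_
        have := h i
        rcases abs_choice (x i) with e | e <;> omega
      have ho : ∀ i, x i ∈ allOdd ∧ x i % 2 = 1 := fun i => ⟨mem_allOdd (hbd x hn i) (hodd i), hodd i⟩
      exact fun i => ⟨(three_threes hn ho).mp h3 i, hodd i⟩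
    · intro h
      exact (three_threes hn fun i => ⟨mem_allOdd (hbd x hn i) (h i).2, (h i).2⟩).mpr fun i => (h i).1
  have h4 : {x : GolayPt → ℤ | x ∈ leechLattice ∧ Cfsg.sqNorm x = 48 ∧ ∃ i, |x i| = 4}
      = {x : GolayPt → ℤ | x ∈ leechLattice ∧ Cfsg.sqNorm x = 48 ∧ ∀ i, x i ∈ allEven ∧ x i % 2 = 0} \
        {x : GolayPt → ℤ | x ∈ leechLattice ∧ Cfsg.sqNorm x = 48 ∧ ∀ i, x i ∈ ([0, 2, -2] : List ℤ) ∧ x i % 2 = 0} := by
    ext x
    simp only [Set.mem_diff, Set.mem_setOf_eq]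
    constructor
    · rintro ⟨hL, hn, i, hi⟩
      have he : ∀ j, x j % 2 = 0 := (parity_uniform hL).resolve_right fun h => by
        have := h i
        rcases abs_choice (x i) with e | e <;> omega
      refine ⟨⟨hL, hn, fun j => ⟨mem_allEven (hbd x hn j) (he j), he j⟩⟩, fun hh => ?_⟩
      have hmem := (hh.2.2 i).1
      simp only [List.mem_cons, List.not_mem_nil, or_false] at hmem
      rcases hmem with e | e | e <;> rw [e] at hi <;> norm_num at hi
    · rintro ⟨⟨hL, hn, he⟩, h⟩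
      refine ⟨hL, hn, ?_⟩
      obtain ⟨i, hi⟩ : ∃ i, x i ∉ ([0, 2, -2] : List ℤ) := by
        by_contra hall
        push Not at hall
        exact h ⟨hL, hn, fun i => ⟨hall i, (he i).2⟩⟩
      by_contra hno
      push Not at hno
      -- a coordinate six would need a word of weight four
      have hval : ∀ j, x j ∈ ([0, 2, -2, 6, -6] : List ℤ) := fun j => by
        have h1 := hbd x hn j
        have h2 := (he j).2
        have h3 := hno j
        have h4 : x j ^ 2 ≤ 48 := hn ▸ single_le_sum (f := fun a => x a ^ 2) (fun a _ => sq_nonneg _) (mem_univ j)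
        simp only [List.mem_cons, List.not_mem_nil, or_false]
        obtain ⟨ha, hb⟩ := h1
        interval_cases hxj : x j <;> simp_all
      have hi6 : x i ^ 2 = 36 := by
        have := hval i
        simp only [List.mem_cons, List.not_mem_nil, or_false] at this
        rcases this with e | e | e | e | e <;> first | (rw [e]; norm_num; done) | skip
        all_goals exact absurd (by simp [e]) hi
      have hc : (univ.filter fun j => x j % 4 = 2) ∈ code := by
        obtain ⟨m, -, -, hk⟩ : x ∈ leechSet := by rw [← SetLike.mem_coe, leechLattice_eq] at hL; exact hL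
        exact hk 2
      set c := univ.filter fun j => x j % 4 = 2
      have hin : i ∈ c := by
        refine mem_filter.mpr ⟨mem_univ _, ?_⟩
        rcases sq_eq_sq_iff_eq_or_eq_neg.mp (show x i ^ 2 = (6 : ℤ) ^ 2 by rw [hi6]; norm_num) with e | e <;> omega
      have h8 : 8 ≤ c.card := by
        have := card_pos.mpr ⟨i, hin⟩
        rcases card_support_mem hc with e | e | e | e | e <;> omega
      have hle : ∑ j ∈ c.erase i, (4 : ℤ) ≤ ∑ j ∈ c.erase i, x j ^ 2 := sum_le_sum fun j hj => by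
        have := (mem_filter.mp (mem_of_mem_erase hj)).2
        have : x j ≤ -2 ∨ 2 ≤ x j := by omega
        rcases this with e | e <;> nlinarith
      have htot : x i ^ 2 + ∑ j ∈ c.erase i, x j ^ 2 ≤ 48 := by
        rw [add_sum_erase c (fun j => x j ^ 2) hin, ← hn]
        exact sum_le_sum_of_subset_of_nonneg (subset_univ _) fun _ _ _ => sq_nonneg _
      rw [sum_const, card_erase_of_mem hin, nsmul_eq_mul] at hle
      push_cast [Nat.cast_sub (show 1 ≤ c.card by omega)] at hle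
      omega
  have h5 : {x : GolayPt → ℤ | x ∈ leechLattice ∧ Cfsg.sqNorm x = 48 ∧ ∃ i, |x i| = 5}
      = {x : GolayPt → ℤ | x ∈ leechLattice ∧ Cfsg.sqNorm x = 48 ∧ ∀ i, x i ∈ allOdd ∧ x i % 2 = 1} \
        {x : GolayPt → ℤ | x ∈ leechLattice ∧ Cfsg.sqNorm x = 48 ∧ ∀ i, x i ∈ ([1, -1, 3, -3] : List ℤ) ∧ x i % 2 = 1} := by
    ext x
    simp only [Set.mem_diff, Set.mem_setOf_eq]
    constructor
    · rintro ⟨hL, hn, i, hi⟩
      have he : ∀ j, x j % 2 = 1 := (parity_uniform hL).resolve_left fun h => by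
        have := h i
        rcases abs_choice (x i) with e | e <;> omega
      refine ⟨⟨hL, hn, fun j => ⟨mem_allOdd (hbd x hn j) (he j), he j⟩⟩, fun hh => ?_⟩
      have hmem := (hh.2.2 i).1
      simp only [List.mem_cons, List.not_mem_nil, or_false] at hmem
      rcases hmem with e | e | e | e <;> rw [e] at hi <;> norm_num at hi
    · rintro ⟨⟨hL, hn, he⟩, h⟩
      refine ⟨hL, hn, ?_⟩
      obtain ⟨i, hi⟩ : ∃ i, x i ∉ ([1, -1, 3, -3] : List ℤ) := by
        by_contra hall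
        push Not at hall
        exact h ⟨hL, hn, fun i => ⟨hall i, (he i).2⟩⟩
      refine ⟨i, ?_⟩
      have h1 := (he i).1
      have h49 : x i ^ 2 ≤ 48 := hn ▸ single_le_sum (f := fun a => x a ^ 2) (fun a _ => sq_nonneg _) (mem_univ i)
      simp only [allOdd, List.mem_cons, List.not_mem_nil, or_false] at h1
      rcases h1 with e | e | e | e | e | e | e | e <;> rw [e] at h49 <;>
        first
        | (exfalso; norm_num at h49; done)
        | (rw [e]; norm_num; done)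
        | exact absurd (by simp [e] : x i ∈ ([1, -1, 3, -3] : List ℤ)) hi
  refine ⟨?_, ?_, ?_, ?_⟩
  · rw [h1, hE _ (by decide) (by decide), e1]
  · rw [h2, hO _ (by decide) (by decide) (by decide), e3]
  · have hsub : {x : GolayPt → ℤ | x ∈ leechLattice ∧ Cfsg.sqNorm x = 48 ∧ ∀ i, x i ∈ ([0, 2, -2] : List ℤ) ∧ x i % 2 = 0}
        ⊆ {x : GolayPt → ℤ | x ∈ leechLattice ∧ Cfsg.sqNorm x = 48 ∧ ∀ i, x i ∈ allEven ∧ x i % 2 = 0} :=
      fun x hx => ⟨hx.1, hx.2.1, fun i => ⟨mem_allEven (hbd x hx.2.1 i) (hx.2.2 i).2, (hx.2.2 i).2⟩⟩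
    rw [h4, Set.ncard_diff hsub (hfin _), hE _ (by decide) (by decide), hE _ (by decide) (by decide), e1, e2]
  · have hsub : {x : GolayPt → ℤ | x ∈ leechLattice ∧ Cfsg.sqNorm x = 48 ∧ ∀ i, x i ∈ ([1, -1, 3, -3] : List ℤ) ∧ x i % 2 = 1}
        ⊆ {x : GolayPt → ℤ | x ∈ leechLattice ∧ Cfsg.sqNorm x = 48 ∧ ∀ i, x i ∈ allOdd ∧ x i % 2 = 1} :=
      fun x hx => ⟨hx.1, hx.2.1, fun i => ⟨mem_allOdd (hbd x hx.2.1 i) (hx.2.2 i).2, (hx.2.2 i).2⟩⟩
    rw [h5, Set.ncard_diff hsub (hfin _), hO _ (by decide) (by decide) (by decide), hO _ (by decide) (by decide) (by decide), e3, e4]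

end Cfsg.Lib.Leech
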