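import Cfsg.Agent.Leech.Maximal

/-!
The counting which finishes the maximality of the frame stabiliser.
-/

namespace Cfsg.Lib.Leech

open Cfsg Cfsg.Lib.Golay Finset MulAction

theorem finite_norm (n : ℤ) (hn : n ≤ 64) : {v : leechLattice | Cfsg.sqNorm (v : GolayPt → ℤ) = n}.Finite :=
  (finite_of_bound (s := {x : GolayPt → ℤ | Cfsg.sqNorm x = n}) fun x hx i =>
    abs_le_eight (le_trans (le_of_eq hx) hn) i).preimage Subtype.val_injective.injOn

/-- The vectors of norm 32. -/
noncomputable def shell32 : Finset leechLattice := (finite_norm 32 (by norm_num)).toFinset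

theorem mem_shell32 {v : leechLattice} : v ∈ shell32 ↔ Cfsg.sqNorm (v : GolayPt → ℤ) = 32 :=
  Set.Finite.mem_toFinset _

theorem card_shell32 : shell32.card = 196560 := by
  rw [← ncard_32, shell32, ← Set.ncard_eq_toFinset_card _ (finite_norm 32 (by norm_num)),
    ← Set.ncard_image_of_injective _ Subtype.val_injective]
  congr 1
  ext x
  simp only [Set.mem_image, Set.mem_setOf_eq]
  exact ⟨fun ⟨v, hv, e⟩ => e ▸ ⟨v.2, hv⟩, fun h => ⟨⟨x, h.1⟩, h.2, rfl⟩⟩

theorem meet_e8 : (shell32.filter fun v : leechLattice => dotInt (v : GolayPt → ℤ) (e8 pN : GolayPt → ℤ) = 32).card = 46 := by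
  classical
  set T := ((univ : Finset GolayPt).erase pN) ×ˢ ({1, -1} : Finset ℤ)
  have hT : T.card = 46 := by rw [card_product, card_erase_of_mem (mem_univ _), card_pts]; rfl
  rw [← hT]
  symm
  refine card_bij (fun p hp => ⟨pairVec pN p.1 p.2, pairVec_mem (by
    have := (mem_product.mp hp).2; simpa using this)⟩) ?_ ?_ ?_
  · intro p hp
    obtain ⟨h1, h2⟩ := mem_product.mp hp
    have hk : pN ≠ p.1 := (mem_erase.mp h1).1.symm
    refine mem_filter.mpr ⟨mem_shell32.mpr (pairVec_norm hk (by simpa using h2)), ?_⟩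
    rw [dot_comm, dot_e8]
    simp [pairVec, hk]
  · intro p hp q hq h
    have hk : p.1 ≠ pN := (mem_erase.mp (mem_product.mp hp).1).1
    have hs : p.2 = 1 ∨ p.2 = -1 := by simpa using (mem_product.mp hp).2
    have hs' : q.2 = 1 ∨ q.2 = -1 := by simpa using (mem_product.mp hq).2
    have h1 := congrFun (congrArg Subtype.val h) p.1
    simp only [pairVec, hk, if_false, if_true, zero_add] at h1
    by_cases e : p.1 = q.1
    · rw [if_pos e] at h1
      exact Prod.ext e (by omega)
    · rw [if_neg e] at h1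
      omega
  · intro v hv
    obtain ⟨hv32, hd⟩ := mem_filter.mp hv
    rw [dot_comm, dot_e8] at hd
    obtain ⟨j, hjN, hj, h0⟩ := four_coord v.2 (mem_shell32.mp hv32) (i := pN) (Or.inl (by omega))
    refine ⟨(j, if (v : GolayPt → ℤ) j = 4 then 1 else -1),
      mem_product.mpr ⟨mem_erase.mpr ⟨hjN, mem_univ j⟩, by split <;> simp⟩, Subtype.ext (funext fun i => ?_)⟩
    simp only [pairVec]
    by_cases hiN : i = pN
    · subst hiN; simp [hjN.symm]; omega
    by_cases hij : i = j
    · subst hij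
      rcases hj with e | e <;> simp [e, hiN]
    · simp [hiN, hij, h0 i hiN hij]

section count

variable {M : Subgroup Co0}

/-- The orbit of the base frame vector. -/
noncomputable def orb64 (M : Subgroup Co0) : Finset leechLattice :=
  (((finite_norm 64 le_rfl).subset fun _ h => h.1 :
    {y : leechLattice | Cfsg.sqNorm (y : GolayPt → ℤ) = 64 ∧ ∃ g ∈ M, g • e8 pN = y}.Finite)).toFinset

theorem mem_orb64 {y : leechLattice} : y ∈ orb64 M ↔ ∃ g ∈ M, g • e8 pN = y := by
  classical
  simp only [orb64, Set.Finite.mem_toFinset, Set.mem_setOf_eq, and_iff_right_iff_imp]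
  rintro ⟨g, -, rfl⟩
  exact (g.2.2 _).trans (sqNorm_e8 pN)

theorem orb64_smul {g : Co0} (hg : g ∈ M) {y : leechLattice} : g • y ∈ orb64 M ↔ y ∈ orb64 M := by
  simp only [mem_orb64]
  constructor
  · rintro ⟨a, ha, e⟩
    exact ⟨g⁻¹ * a, mul_mem (inv_mem hg) ha, by rw [mul_smul, e, inv_smul_smul]⟩
  · rintro ⟨a, ha, rfl⟩
    exact ⟨g * a, mul_mem hg ha, mul_smul _ _ _⟩

theorem incidence (hS : ∀ x ∈ leechLattice, Cfsg.sqNorm x = 32 → InS M x) (v : leechLattice)
    (hv : Cfsg.sqNorm (v : GolayPt → ℤ) = 32) :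
    196560 * ((orb64 M).filter fun y : leechLattice => dotInt (v : GolayPt → ℤ) (y : GolayPt → ℤ) = 32).card
      = 46 * (orb64 M).card := by
  classical
  have hmove : ∀ g ∈ M, ∀ w : leechLattice,
      ((orb64 M).filter fun y : leechLattice => dotInt ((g • w : leechLattice) : GolayPt → ℤ) (y : GolayPt → ℤ) = 32).card
        = ((orb64 M).filter fun y : leechLattice => dotInt (w : GolayPt → ℤ) (y : GolayPt → ℤ) = 32).card := by
    intro g hg w
    symm
    refine card_bij (fun y _ => g • y) ?_ ?_ ?_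
    · intro y hy
      obtain ⟨h1, h2⟩ := mem_filter.mp hy
      exact mem_filter.mpr ⟨(orb64_smul hg).mpr h1, by rw [dot_smul]; exact h2⟩
    · intro a _ b _ h; exact smul_left_cancel g h
    · intro y hy
      obtain ⟨h1, h2⟩ := mem_filter.mp hy
      refine ⟨g⁻¹ • y, mem_filter.mpr ⟨(orb64_smul (inv_mem hg)).mpr h1, ?_⟩, smul_inv_smul g y⟩
      rw [← dot_smul g, smul_inv_smul]; exact h2
  have hmove' : ∀ g : Co0, ∀ y : leechLattice,
      (shell32.filter fun w : leechLattice => dotInt (w : GolayPt → ℤ) ((g • y : leechLattice) : GolayPt → ℤ) = 32).card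
        = (shell32.filter fun w : leechLattice => dotInt (w : GolayPt → ℤ) (y : GolayPt → ℤ) = 32).card := by
    intro g y
    symm
    refine card_bij (fun w _ => g • w) ?_ ?_ ?_
    · intro w hw
      obtain ⟨h1, h2⟩ := mem_filter.mp hw
      exact mem_filter.mpr ⟨mem_shell32.mpr ((g.2.2 w).trans (mem_shell32.mp h1)), by rw [dot_smul]; exact h2⟩
    · intro a _ b _ h; exact smul_left_cancel g h
    · intro w hw
      obtain ⟨h1, h2⟩ := mem_filter.mp hw
      refine ⟨g⁻¹ • w, mem_filter.mpr ⟨mem_shell32.mpr (((g⁻¹).2.2 w).trans (mem_shell32.mp h1)), ?_⟩, smul_inv_smul g w⟩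
      rw [← dot_smul g, smul_inv_smul]; exact h2
  have hrow : ∀ w ∈ shell32,
      ((orb64 M).filter fun y : leechLattice => dotInt (w : GolayPt → ℤ) (y : GolayPt → ℤ) = 32).card
        = ((orb64 M).filter fun y : leechLattice => dotInt (v : GolayPt → ℤ) (y : GolayPt → ℤ) = 32).card := by
    intro w hw
    obtain ⟨a, ha, w', e1, e2⟩ := hS _ w.2 (mem_shell32.mp hw)
    obtain ⟨b, hb, v', e3, e4⟩ := hS _ v.2 hv
    obtain rfl : w' = w := Subtype.ext e1
    obtain rfl : v' = v := Subtype.ext e3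
    have e : (b⁻¹ * a) • w' = v' := by
      rw [mul_smul, inv_smul_eq_iff]; exact Subtype.ext (e2.trans e4.symm)
    rw [← e, hmove _ (mul_mem (inv_mem hb) ha)]
  have hcol : ∀ y ∈ orb64 M,
      (shell32.filter fun w : leechLattice => dotInt (w : GolayPt → ℤ) (y : GolayPt → ℤ) = 32).card = 46 := by
    intro y hy
    obtain ⟨g, -, rfl⟩ := mem_orb64.mp hy
    rw [hmove', meet_e8]
  have h := sum_card_bipartiteAbove_eq_sum_card_bipartiteBelow
    (fun (w y : leechLattice) => dotInt (w : GolayPt → ℤ) (y : GolayPt → ℤ) = 32) (s := shell32) (t := orb64 M)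
  simp only [bipartiteAbove, bipartiteBelow] at h
  rw [sum_congr rfl hrow, sum_congr rfl hcol, sum_const, sum_const, card_shell32, smul_eq_mul, smul_eq_mul] at h
  rw [h, mul_comm]

theorem orb64_card (hM : monoGroup ≤ M) : (orb64 M).card * 20891566080 = Nat.card M ∧
    Nat.card monoGroup = 48 * 20891566080 := by
  classical
  have hs : Nat.card (stabilizer Co0 (e8 pN)) = 20891566080 := by
    have := card_stab_e8
    change Nat.card (stabilizer Co0 (e8 pN)) * 48 = _ at this
    omega
  refine ⟨?_, ?_⟩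
  · have hle : stabilizer Co0 (e8 pN) ≤ M := fun g hg => hM (mem_monoGroup_of_fixes (stab_fixesFrame hg))
    have e1 : Nat.card (stabilizer M (e8 pN)) = 20891566080 := by
      rw [← hs]
      exact Nat.card_congr ⟨fun g => ⟨g.1.1, g.2⟩, fun g => ⟨⟨g.1, hle g.2⟩, g.2⟩, fun _ => rfl, fun _ => rfl⟩
    have e2 : Nat.card (orbit M (e8 pN)) = (orb64 M).card := by
      rw [← Nat.card_eq_finsetCard]
      refine Nat.card_congr (Equiv.subtypeEquivRight fun y => ?_)
      rw [mem_orb64]
      exact ⟨fun ⟨g, h⟩ => ⟨g.1, g.2, h⟩, fun ⟨g, hg, h⟩ => ⟨⟨g, hg⟩, h⟩⟩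
    have h := Nat.card_congr (orbitProdStabilizerEquivGroup M (e8 pN))
    rw [Nat.card_prod] at h
    rw [← h, ← e2, ← e1]
  · rw [← SetLike.coe_sort_coe, coe_monoGroup]
    exact card_frameStab.trans (by norm_num)

/-- The action of the permutations of the points on coordinate vectors. -/
def permAct (σ : Equiv.Perm GolayPt) (y : GolayPt → ℤ) : GolayPt → ℤ := fun i => y (σ.symm i)

theorem mono_permAct {σ : Equiv.Perm GolayPt} (hσ : σ ∈ M24) (y : leechLattice) :
    ((mono hσ empty_mem_code • y : leechLattice) : GolayPt → ℤ) = permAct σ y :=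
  funext fun i => by simp [mono_apply, signedPerm, permAct]

theorem transl_fixed {y : leechLattice} (hn : Cfsg.sqNorm (y : GolayPt → ℤ) = 64)
    (h : permAct transl y = (y : GolayPt → ℤ)) : y = e8 pN ∨ y = -e8 pN := by
  have hconst : ∀ a : ZMod 23, (y : GolayPt → ℤ) (some a) = (y : GolayPt → ℤ) (some 0) := by
    have step : ∀ a : ZMod 23, (y : GolayPt → ℤ) (some (a + 1)) = (y : GolayPt → ℤ) (some a) := fun a => by
      have h' := congrFun h (some (a + 1))
      simp only [permAct, transl, Equiv.optionCongr_symm, Equiv.optionCongr_apply, Option.map_some] at h'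
      rw [← h']
      refine congrArg (fun c => (y : GolayPt → ℤ) (some c)) ?_
      show (Equiv.addRight (1 : ZMod 23)).symm (a + 1) = a
      rw [Equiv.addRight_symm, Equiv.coe_addRight]; ring
    have hn' : ∀ n : ℕ, (y : GolayPt → ℤ) (some (n : ZMod 23)) = (y : GolayPt → ℤ) (some 0) := by
      intro n
      induction n with
      | zero => rw [Nat.cast_zero]
      | succ n ih => rw [Nat.cast_succ, step, ih]
    intro a
    rw [← ZMod.natCast_zmod_val a, hn']
  set a := (y : GolayPt → ℤ) pN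
  set b := (y : GolayPt → ℤ) (some 0)
  have hn' : a ^ 2 + 23 * b ^ 2 = 64 := by
    rw [← hn, Cfsg.sqNorm, Fintype.sum_option, sum_congr rfl fun c _ => by rw [hconst c], sum_const, card_univ,
      ZMod.card, nsmul_eq_mul]
    rfl
  have hb : -1 ≤ b ∧ b ≤ 1 := by constructor <;> nlinarith
  have hb0 : b = 0 := by
    by_contra hne
    have : b ^ 2 = 1 := by rcases (show b = 1 ∨ b = -1 by omega) with e | e <;> rw [e] <;> norm_num
    have h41 : a ^ 2 = 41 := by omega
    have : -7 ≤ a ∧ a ≤ 7 := by constructor <;> nlinarith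
    obtain ⟨l, u⟩ := this
    interval_cases a <;> simp at h41
  have ha : a = 8 ∨ a = -8 := by
    rw [hb0] at hn'
    exact sq_eq_sq_iff_eq_or_eq_neg.mp (by omega)
  rcases ha with ha | ha
  · refine Or.inl (Subtype.ext (funext fun i => ?_))
    cases i with
    | none => simpa [e8] using ha
    | some c => simp [e8, hconst c, hb0]
  · refine Or.inr (Subtype.ext (funext fun i => ?_))
    cases i with
    | none => simpa [e8] using ha
    | some c => simp [e8, hconst c, hb0]

theorem transl_facts : transl pN = pN ∧ transl ^ 23 = 1 := by decide +kernel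

/-- A set of frame vectors moved to itself by the translation. -/
theorem transl_mod (X : Finset leechLattice) (hn : ∀ y ∈ X, Cfsg.sqNorm (y : GolayPt → ℤ) = 64)
    (hX : ∀ y : leechLattice, mono transl_mem empty_mem_code • y ∈ X ↔ y ∈ X) :
    X.card ≡ (X.filter fun y => y = e8 pN ∨ y = -e8 pN).card [MOD 23] := by
  classical
  have : Fact (Nat.Prime 23) := ⟨by norm_num⟩
  set t : Co0 := mono transl_mem empty_mem_code
  have hpow : ∀ k : ℕ, ∀ y : leechLattice, ((t ^ k • y : leechLattice) : GolayPt → ℤ) = permAct (transl ^ k) y := by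
    intro k
    induction k with
    | zero => intro y; rw [pow_zero, one_smul, pow_zero]; rfl
    | succ k ih =>
      intro y
      rw [pow_succ', mul_smul, mono_permAct, ih, pow_succ']
      rfl
  set τ : Equiv.Perm {y // y ∈ X} := (MulAction.toPerm t).subtypePerm hX
  have hτk : ∀ k : ℕ, ∀ y, ((τ ^ k) y : leechLattice) = t ^ k • (y : leechLattice) := by
    intro k
    induction k with
    | zero => intro y; simp
    | succ k ih =>
      intro y
      rw [pow_succ', Equiv.Perm.mul_apply, pow_succ', mul_smul, ← ih]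
      rfl
  have hτ : τ ^ 23 ^ 1 = 1 := by
    refine Equiv.ext fun y => Subtype.ext (Subtype.ext ?_)
    rw [pow_one, hτk, hpow, transl_facts.2]
    rfl
  have h := Equiv.Perm.card_compl_support_modEq (n := 1) hτ
  rw [Fintype.card_coe] at h
  refine h.symm.trans (?_ : _ ≡ _ [MOD 23])
  rw [← Finset.card_map (Function.Embedding.subtype _)]
  refine congrArg (· % 23) (congrArg Finset.card (?_ : _ = _))
  ext y
  simp only [mem_map, mem_compl, Equiv.Perm.mem_support, not_not, Function.Embedding.subtype_apply, mem_filter]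
  constructor
  · rintro ⟨⟨z, hz⟩, he, rfl⟩
    refine ⟨hz, transl_fixed (hn z hz) ?_⟩
    rw [← mono_permAct transl_mem]
    exact congrArg (fun w => (((w : {y // y ∈ X}) : leechLattice) : GolayPt → ℤ)) he
  · rintro ⟨hy, hcase⟩
    refine ⟨⟨y, hy⟩, Subtype.ext ?_, rfl⟩
    show t • y = y
    have he : t • e8 pN = e8 pN := by rw [monoFun_e8, if_neg (notMem_empty _), transl_facts.1]
    rcases hcase with rfl | rfl
    · exact he
    · rw [smul_neg', he]

theorem divisor_cases : ∀ d < 2026, 2025 % d = 0 → d % 23 = 1 → d = 1 ∨ d = 2025 := by decide +kernel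

theorem vC_ok : inL vC = true ∧ Cfsg.sqNorm vC = 32 ∧ vC pN = -3 := by decide +kernel

theorem vC_fix {σ : Equiv.Perm GolayPt} (hσ : σ pN = pN) (i : GolayPt) : vC (σ i) = vC i := by
  have : σ i = pN ↔ i = pN := ⟨fun e => σ.injective (e.trans hσ.symm), fun e => e ▸ hσ⟩
  simp only [vC]
  exact if_congr this rfl rfl

theorem not_small (hM : monoGroup ≤ M) (hcard : ((orb64 M).filter fun y : leechLattice =>
    dotInt vC (y : GolayPt → ℤ) = 32).card = 46) : False := by
  classical
  obtain ⟨hvL, hvn, hvN⟩ := vC_ok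
  have hm := mem_of_inL hvL
  set K := (orb64 M).filter fun y : leechLattice => dotInt vC (y : GolayPt → ℤ) = 32 with hK
  have h64 : ∀ y ∈ K, Cfsg.sqNorm (y : GolayPt → ℤ) = 64 := fun y hy => by
    obtain ⟨g, -, rfl⟩ := mem_orb64.mp (mem_filter.mp hy).1
    exact (g.2.2 _).trans (sqNorm_e8 pN)
  set G : Subgroup M24 := stabilizer M24 pN
  have hG : ∀ s : G, ((s : M24) : Equiv.Perm GolayPt) pN = pN := fun s => s.2
  let ι : G → Co0 := fun s => mono (s : M24).2 empty_mem_code
  have hι : ∀ s : G, ι s ∈ M := fun s => hM (mono_mem_monoGroup _ _)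
  have hKι : ∀ s : G, ∀ y : leechLattice, ι s • y ∈ K ↔ y ∈ K := by
    intro s y
    have hv : ι s • (⟨vC, hm⟩ : leechLattice) = ⟨vC, hm⟩ := by
      refine Subtype.ext ((mono_permAct _ _).trans (funext fun i => ?_))
      show vC (((s : M24) : Equiv.Perm GolayPt).symm i) = vC i
      conv_rhs => rw [← ((s : M24) : Equiv.Perm GolayPt).apply_symm_apply i]
      rw [vC_fix (hG s)]
    have hd : dotInt vC ((ι s • y : leechLattice) : GolayPt → ℤ) = dotInt vC (y : GolayPt → ℤ) := by
      conv_lhs => rw [show vC = ((ι s • (⟨vC, hm⟩ : leechLattice) : leechLattice) : GolayPt → ℤ) by rw [hv]]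
      rw [dot_smul]
    simp only [hK, mem_filter, orb64_smul (hι s), hd]
  letI : MulAction G {y // y ∈ K} :=
    { smul := fun s y => ⟨ι s • y.1, (hKι s y.1).mpr y.2⟩
      one_smul := fun y => Subtype.ext (Subtype.ext ((mono_permAct _ _).trans rfl))
      mul_smul := fun s t y => Subtype.ext (Subtype.ext ((mono_permAct _ _).trans (by
        show _ = ((ι s • ι t • y.1 : leechLattice) : GolayPt → ℤ)
        rw [mono_permAct, mono_permAct]
        rfl))) }
  obtain ⟨y₀, hy₀⟩ := card_pos.mp (show 0 < K.card by omega)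
  set Y : {y // y ∈ K} := ⟨y₀, hy₀⟩
  set O : Finset leechLattice := K.filter fun y => ∃ h : y ∈ K, (⟨y, h⟩ : {y // y ∈ K}) ∈ orbit G Y
  have hOcard : O.card = Nat.card (orbit G Y) := by
    rw [← Nat.card_eq_finsetCard O]
    refine Nat.card_congr ⟨fun p => ⟨⟨p.1, (mem_filter.mp p.2).1⟩, ?_⟩,
      fun p => ⟨p.1.1, mem_filter.mpr ⟨p.1.2, p.1.2, p.2⟩⟩, fun _ => rfl, fun _ => rfl⟩
    exact (mem_filter.mp p.2).2.2
  have hOmod := transl_mod O (fun y hy => h64 y (mem_filter.mp hy).1) fun y => by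
    set s : G := ⟨⟨transl, transl_mem⟩, transl_facts.1⟩
    show ι s • y ∈ O ↔ y ∈ O
    simp only [O, mem_filter]
    constructor
    · rintro ⟨h1, h, ho⟩
      refine ⟨(hKι s y).mp h1, (hKι s y).mp h1, ?_⟩
      have e : (⟨y, (hKι s y).mp h1⟩ : {y // y ∈ K}) = s⁻¹ • ⟨ι s • y, h⟩ := by
        rw [eq_inv_smul_iff]; rfl
      rw [e]
      exact mem_orbit_of_mem_orbit s⁻¹ ho
    · rintro ⟨h1, h, ho⟩
      exact ⟨(hKι s y).mpr h1, (hKι s y).mpr h1, mem_orbit_of_mem_orbit s ho⟩
  rw [show (O.filter fun y => y = e8 pN ∨ y = -e8 pN).card = 0 from card_eq_zero.mpr (filter_eq_empty_iff.mpr fun y hy hc => by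
    have h := (mem_filter.mp (mem_filter.mp hy).1).2
    rcases hc with rfl | rfl
    · rw [dot_comm, dot_e8, hvN] at h; omega
    · rw [AddSubgroup.coe_neg, dot_comm, minForm.neg_left, dot_e8, hvN] at h; omega)] at hOmod
  have hO46 : O.card ≤ 46 := hcard ▸ card_le_card (filter_subset _ _)
  have hOpos : 1 ≤ O.card := card_pos.mpr ⟨y₀, mem_filter.mpr ⟨hy₀, hy₀, mem_orbit_self Y⟩⟩
  have hG10 : Nat.card G * 24 = 244823040 := by
    have h := Nat.card_congr (orbitProdStabilizerEquivGroup M24 pN)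
    have hu : orbit M24 pN = Set.univ := Set.eq_univ_of_forall fun p => by
      obtain ⟨σ, hσ, e⟩ := M24_pretransitive pN p
      exact ⟨⟨σ, hσ⟩, e⟩
    rw [Nat.card_prod, card_M24, hu, Nat.card_congr (Equiv.Set.univ _), Nat.card_eq_fintype_card (α := GolayPt),
      Fintype.card_option, ZMod.card] at h
    rw [← h]; ring
  have hS := Nat.card_congr (orbitProdStabilizerEquivGroup G Y)
  rw [Nat.card_prod, ← hOcard] at hS
  have hdvd : 11 ∣ Nat.card (stabilizer G Y) ∧ 7 ∣ Nat.card (stabilizer G Y) := by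
    rw [Nat.ModEq, Nat.zero_mod] at hOmod
    rcases (show O.card = 23 ∨ O.card = 46 by omega) with e | e <;> rw [e] at hS <;> constructor <;> omega
  obtain ⟨π, hπ⟩ := exists_prime_orderOf_dvd_card' (G := stabilizer G Y) 11 (hp := ⟨by norm_num⟩) hdvd.1
  obtain ⟨ρ, hρ⟩ := exists_prime_orderOf_dvd_card' (G := stabilizer G Y) 7 (hp := ⟨by norm_num⟩) hdvd.2
  set b : GolayPt → ℤ := (y₀ : GolayPt → ℤ) - vC
  have hb : ∀ u : stabilizer G Y, ∀ i, b (((u : G) : M24).1 i) = b i := by
    intro u i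
    have h := congrArg (fun z : {y // y ∈ K} => ((z.1 : leechLattice) : GolayPt → ℤ) (((u : G) : M24).1 i)) u.2
    change ((ι (u : G) • y₀ : leechLattice) : GolayPt → ℤ) _ = (y₀ : GolayPt → ℤ) _ at h
    rw [mono_permAct] at h
    simp only [permAct, Equiv.symm_apply_apply] at h
    simp only [b, Pi.sub_apply, vC_fix (hG (u : G)), ← h]
  have horder : ∀ u : stabilizer G Y, orderOf (((u : G) : M24).1) = orderOf u := fun u =>
    orderOf_injective ((M24.subtype.comp G.subtype).comp (stabilizer G Y).subtype)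
      (Subtype.val_injective.comp (Subtype.val_injective.comp Subtype.val_injective)) u
  obtain ⟨k, a, hk, hka⟩ := const_off_two ((π : G) : M24).2 ((ρ : G) : M24).2 ((horder π).trans hπ)
    ((horder ρ).trans hρ) (hG π) b (hb π) (hb ρ)
  have hy32 : dotInt vC (y₀ : GolayPt → ℤ) = 32 := (mem_filter.mp hy₀).2
  have hbn : Cfsg.sqNorm b = 32 := by
    rw [sqNorm_sub, dot_comm, hy32, hvn, h64 y₀ hy₀]; norm_num
  have hbv : dotInt vC b = 0 := by rw [dot_sub_right, hy32, ← sqNorm_eq_dot, hvn]; norm_num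
  have e1 : ∑ i, b i ^ 2 = b pN ^ 2 + b k ^ 2 + 22 * a ^ 2 := by
    rw [← add_sum_erase _ _ (mem_univ pN), ← add_sum_erase _ _ (mem_erase.mpr ⟨hk, mem_univ k⟩),
      sum_congr rfl fun i hi => by
        obtain ⟨h1, h2⟩ := mem_erase.mp hi
        rw [hka i (mem_erase.mp h2).1 h1], sum_const, card_erase_of_mem (mem_erase.mpr ⟨hk, mem_univ k⟩),
      card_erase_of_mem (mem_univ _), card_pts, nsmul_eq_mul]
    push_cast; ring
  have e2 : dotInt vC b = -3 * b pN + b k + 22 * a := by
    rw [dotInt, ← add_sum_erase _ _ (mem_univ pN), ← add_sum_erase _ _ (mem_erase.mpr ⟨hk, mem_univ k⟩),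
      sum_congr rfl fun i hi => by
        obtain ⟨h1, h2⟩ := mem_erase.mp hi
        rw [hka i (mem_erase.mp h2).1 h1, show vC i = 1 from if_neg (mem_erase.mp h2).1, one_mul], sum_const,
      card_erase_of_mem (mem_erase.mpr ⟨hk, mem_univ k⟩), card_erase_of_mem (mem_univ _), card_pts, nsmul_eq_mul,
      hvN, show vC k = 1 from if_neg hk]
    push_cast; ring
  rw [show ∑ i, b i ^ 2 = 32 from hbn] at e1
  rw [hbv] at e2
  have hx : -5 ≤ b pN ∧ b pN ≤ 5 := by constructor <;> nlinarith
  have hz : -5 ≤ b k ∧ b k ≤ 5 := by constructor <;> nlinarith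
  have ha : -1 ≤ a ∧ a ≤ 1 := by constructor <;> nlinarith
  obtain ⟨x1, x2⟩ := hx
  obtain ⟨a1, a2⟩ := ha
  interval_cases (b pN) <;> interval_cases a <;> first | omega | nlinarith [hz.1, hz.2]

end count

theorem frame_maximal {M : Subgroup Co0} (hM : monoGroup < M) : M = ⊤ := by
  classical
  obtain ⟨g₀, hg₀, hout⟩ : ∃ g ∈ M, ((g • e8 pN : leechLattice) : GolayPt → ℤ) ∉ stdCross := by
    by_contra h
    push Not at h
    exact hM.ne (eq_mono_of_e8 hM.le h).symm
  have hC := InS_vC hM.le hg₀ hout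
  have hS : ∀ x ∈ leechLattice, Cfsg.sqNorm x = 32 → InS M x :=
    fun x hx hn => all_InS hM.le (InS_vB_of_vC hM.le hC) hC hx hn
  obtain ⟨hvL, hvn, hvN⟩ := vC_ok
  have hinc := incidence hS ⟨vC, mem_of_inL hvL⟩ hvn
  set k := ((orb64 M).filter fun y : leechLattice => dotInt vC (y : GolayPt → ℤ) = 32).card with hk
  obtain ⟨hMc, hHc⟩ := orb64_card hM.le
  obtain ⟨n, hn⟩ : Nat.card monoGroup ∣ Nat.card M := Subgroup.card_dvd_of_le hM.le
  have hm : (orb64 M).card = 48 * n := by
    have h : (orb64 M).card * 20891566080 = 48 * n * 20891566080 := by rw [hMc, hn, hHc]; ring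
    exact Nat.eq_of_mul_eq_mul_right (by norm_num) h
  have hn8 : n ∣ 8292375 := by
    have h := Subgroup.card_subgroup_dvd_card M
    rw [hn, hHc, card_co0, show 8315553613086720000 = 48 * 20891566080 * 8292375 by norm_num] at h
    exact Nat.dvd_of_mul_dvd_mul_left (by norm_num) h
  have hmod := transl_mod (orb64 M) (fun y hy => by
      obtain ⟨g, -, rfl⟩ := mem_orb64.mp hy
      exact (g.2.2 _).trans (sqNorm_e8 pN))
    fun y => orb64_smul (hM.le (mono_mem_monoGroup _ _))
  have h2 : ((orb64 M).filter fun y => y = e8 pN ∨ y = -e8 pN).card = 2 := by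
    rw [show ((orb64 M).filter fun y => y = e8 pN ∨ y = -e8 pN) = {e8 pN, -e8 pN} from ?_, card_pair]
    · intro h
      have := congrFun (congrArg Subtype.val h) pN
      simp [e8] at this
    · ext y
      simp only [mem_filter, mem_insert, mem_singleton, and_iff_right_iff_imp]
      rintro (rfl | rfl)
      · exact mem_orb64.mpr ⟨1, one_mem _, one_smul _ _⟩
      · exact mem_orb64.mpr ⟨negOne, hM.le (mono_mem_monoGroup _ _), negOne_apply _⟩
  rw [hm, h2, Nat.ModEq] at hmod
  rw [hm] at hinc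
  obtain ⟨d, rfl⟩ : 4095 ∣ n := by
    have h : 4095 ∣ 46 * n := ⟨k, by omega⟩
    exact Nat.Coprime.dvd_of_dvd_mul_left (by norm_num) h
  have hd : d ∣ 2025 := by
    rw [show 8292375 = 4095 * 2025 by norm_num] at hn8
    exact Nat.dvd_of_mul_dvd_mul_left (by norm_num) hn8
  rcases divisor_cases d (Nat.lt_succ_of_le (Nat.le_of_dvd (by norm_num) hd)) (Nat.dvd_iff_mod_eq_zero.mp hd) (by omega) with rfl | rfl
  · exact (not_small hM.le (by rw [← hk]; omega)).elim
  · have : Finite Co0 := Nat.finite_of_card_ne_zero (by rw [card_co0]; norm_num)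
    apply Subgroup.eq_top_of_card_eq
    rw [hn, hHc, card_co0]

end Cfsg.Lib.Leech
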