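import Cfsg.Agent.Leech.Transitive64
import Cfsg.Agent.Golay.M24

/-!
The stabiliser of the standard frame is the monomial group; the order of the automorphism group.
-/

namespace Cfsg.Lib.Leech

open Cfsg Cfsg.Lib.Golay Finset MulAction
open scoped Pointwise

theorem word_even {x : GolayPt → ℤ} (hx : x ∈ leechLattice) (he : ∀ i, x i % 2 = 0) :
    (univ.filter fun i => x i % 4 = 2) ∈ code := by
  obtain ⟨m, c, z, h⟩ := mem_lattice.mp hx
  have hm : m % 2 = 0 := by have := he none; rw [h.hx none] at this; omega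
  rcases (show m % 4 = 0 ∨ m % 4 = 2 by omega) with h4 | h4
  · convert h.hc using 1
    ext i
    simp only [mem_filter, mem_univ, true_and, h.hx i, indZ]
    by_cases hi : i ∈ c <;> simp [hi] <;> omega
  · convert compl_mem_supports h.hc using 1
    ext i
    simp only [mem_filter, mem_univ, true_and, h.hx i, indZ, mem_compl]
    by_cases hi : i ∈ c <;> simp [hi] <;> omega

theorem word_odd {x : GolayPt → ℤ} (hx : x ∈ leechLattice) (ho : ∀ i, x i % 2 = 1) :
    (univ.filter fun i => x i % 4 = 3) ∈ code := by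
  obtain ⟨m, c, z, h⟩ := mem_lattice.mp hx
  have hm : m % 2 = 1 := by have := ho none; rw [h.hx none] at this; omega
  rcases (show m % 4 = 1 ∨ m % 4 = 3 by omega) with h4 | h4
  · convert h.hc using 1
    ext i
    simp only [mem_filter, mem_univ, true_and, h.hx i, indZ]
    by_cases hi : i ∈ c <;> simp [hi] <;> omega
  · convert compl_mem_supports h.hc using 1
    ext i
    simp only [mem_filter, mem_univ, true_and, h.hx i, indZ, mem_compl]
    by_cases hi : i ∈ c <;> simp [hi] <;> omega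

theorem stdCross_eq_e8 {y : GolayPt → ℤ} :
    y ∈ stdCross ↔ ∃ i, y = (e8 i : GolayPt → ℤ) ∨ y = -(e8 i : GolayPt → ℤ) := by
  constructor
  · rintro ⟨i, s, hs | hs, rfl⟩
    · exact ⟨i, Or.inl (by rw [hs]; rfl)⟩
    · exact ⟨i, Or.inr (by rw [hs]; exact Pi.single_neg (f := fun _ : GolayPt => ℤ) i (8 : ℤ))⟩
  · rintro ⟨i, rfl | rfl⟩
    · exact ⟨i, 8, Or.inl rfl, rfl⟩
    · exact ⟨i, -8, Or.inr rfl, (Pi.single_neg (f := fun _ : GolayPt => ℤ) i (8 : ℤ)).symm⟩

theorem sqNorm_e8 (i : GolayPt) : Cfsg.sqNorm (e8 i : GolayPt → ℤ) = 64 := by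
  rw [Cfsg.sqNorm, sum_eq_single i (fun j _ hj => by simp [e8, hj]) (by simp)]
  simp [e8]

/-- Preserving the standard frame. -/
def FixesFrame (g : Co0) : Prop :=
  ∀ v : leechLattice, (v : GolayPt → ℤ) ∈ stdCross → ((g • v : leechLattice) : GolayPt → ℤ) ∈ stdCross

theorem e8_mem_stdCross (i : GolayPt) : (e8 i : GolayPt → ℤ) ∈ stdCross := stdCross_eq_e8.mpr ⟨i, Or.inl rfl⟩

theorem fixesFrame_mono {σ : Equiv.Perm GolayPt} {c : Finset GolayPt} (hσ : σ ∈ M24) (hc : c ∈ code) :
    FixesFrame (mono hσ hc) := by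
  intro v hv
  obtain ⟨i, h | h⟩ := stdCross_eq_e8.mp hv
  · rw [show v = e8 i from Subtype.ext h, monoFun_e8]
    split
    · exact stdCross_eq_e8.mpr ⟨σ i, Or.inr rfl⟩
    · exact e8_mem_stdCross _
  · rw [show v = -e8 i from Subtype.ext h, smul_neg', monoFun_e8]
    split
    · rw [neg_neg]; exact e8_mem_stdCross _
    · exact stdCross_eq_e8.mpr ⟨σ i, Or.inr rfl⟩

theorem frame_is_monomial {g : Co0} (hg : FixesFrame g) :
    ∃ (σ : Equiv.Perm GolayPt) (c : Finset GolayPt) (hσ : σ ∈ M24) (hc : c ∈ code), g = mono hσ hc := by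
  classical
  have h0 : ∀ i, ∃ p : GolayPt × Bool, g • e8 i = if p.2 then -e8 p.1 else e8 p.1 := fun i => by
    obtain ⟨j, h | h⟩ := stdCross_eq_e8.mp (hg (e8 i) (e8_mem_stdCross i))
    · exact ⟨(j, false), Subtype.ext h⟩
    · exact ⟨(j, true), Subtype.ext h⟩
  choose p hp using h0
  have hinj : Function.Injective fun i => (p i).1 := by
    intro i j h
    by_contra hne
    have hij : g • e8 i = g • e8 j ∨ g • e8 i = -(g • e8 j) := by
      rw [hp i, hp j, show (p i).1 = (p j).1 from h]
      cases (p i).2 <;> cases (p j).2 <;> simp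
    rcases hij with h' | h'
    · have := congrFun (congrArg Subtype.val (smul_left_cancel g h')) i
      simp [e8, hne] at this
    · rw [← smul_neg'] at h'
      have := congrFun (congrArg Subtype.val (smul_left_cancel g h')) i
      simp [e8, hne] at this
  set π : Equiv.Perm GolayPt := Equiv.ofBijective _ ((Finite.injective_iff_bijective).mp hinj) with hπ
  have hπi : ∀ i, π i = (p i).1 := fun i => rfl
  set D := univ.filter fun j => (p (π.symm j)).2 = true with hD
  have himg : ∀ (v : leechLattice), ((g • v : leechLattice) : GolayPt → ℤ) = signedPerm π D v := by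
    intro v
    funext j
    obtain ⟨k, rfl⟩ : ∃ k, π k = j := ⟨π.symm j, π.apply_symm_apply j⟩
    have h := congrFun (congrArg Subtype.val (congrArg (fun w => g • w) (eight_smul v))) (π k)
    simp only [smul_zsmul', smul_sum'] at h
    rw [AddSubgroup.val_finsetSum, Finset.sum_apply, sum_eq_single k (fun i _ hik => by
      rw [hp i]
      have hne : π k ≠ (p i).1 := fun e => hik (π.injective (hπi i ▸ e).symm)
      cases (p i).2 <;> simp [e8, hne]) (by simp)] at h
    simp only [AddSubgroup.coe_zsmul, Pi.smul_apply, smul_eq_mul, hp k] at h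
    simp only [signedPerm, hD, mem_filter, mem_univ, true_and, Equiv.symm_apply_apply]
    have hk : (p k).1 = π k := (hπi k).symm
    cases hb : (p k).2 <;> simp [hb, hk, e8] at h ⊢ <;> omega
  have hM : π ∈ M24 := by
    show π • code = code
    refine Set.eq_of_subset_of_ncard_le ?_ (le_of_eq (Set.ncard_smul_set π code).symm) (Set.toFinite _)
    rintro _ ⟨c, hc, rfl⟩
    have hv : (fun i => 2 * indZ c i) ∈ leechLattice :=
      mem_lattice.mpr ⟨0, c, 0, hc, fun i => by simp, by simp⟩
    have hmem := (g • (⟨_, hv⟩ : leechLattice) : leechLattice).2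
    rw [himg ⟨_, hv⟩] at hmem
    convert word_even hmem (fun i => by simp only [signedPerm, indZ]; split <;> split <;> rfl) using 1
    ext i
    show i ∈ π • c ↔ _
    rw [← Finset.inv_smul_mem_iff, Equiv.Perm.smul_def, Equiv.Perm.inv_def, mem_filter]
    simp only [mem_univ, true_and, signedPerm, indZ]
    by_cases h1 : π.symm i ∈ c <;> by_cases h2 : i ∈ D <;> simp [h1, h2]
  have hDc : D ∈ code := by
    have hv : (fun i => 1 - 4 * (if i = (none : GolayPt) then 1 else 0 : ℤ)) ∈ leechLattice :=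
      mem_lattice.mpr ⟨1, ∅, fun i => -(if i = (none : GolayPt) then 1 else 0 : ℤ), empty_mem_code,
        fun i => by simp [indZ]; ring, by simp⟩
    have hmem := (g • (⟨_, hv⟩ : leechLattice) : leechLattice).2
    rw [himg ⟨_, hv⟩] at hmem
    convert word_odd hmem (fun i => by simp only [signedPerm]; split <;> split <;> rfl) using 1
    ext i
    simp only [mem_filter, mem_univ, true_and, signedPerm]
    split <;> split <;> simp_all
  exact ⟨π, D, hM, hDc, co0_ext fun v => Subtype.ext (himg v)⟩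

theorem s1571_maps {g : Co0} (hg : FixesFrame g) :
    ∃ f ∈ golayMonomialMaps, ∀ v : leechLattice, ((g • v : leechLattice) : GolayPt → ℤ) = f (v : GolayPt → ℤ) := by
  obtain ⟨σ, c, hσ, hc, rfl⟩ := frame_is_monomial hg
  exact ⟨signedPerm σ c, ⟨σ, hσ, c, hc, rfl⟩, fun v => mono_apply hσ hc v⟩

theorem card_code : Nat.card code = 4096 := by
  have h : codeFin.card = 4096 := by
    have := sum_code fun _ => 1
    simpa using this
  rw [Nat.card_coe_set_eq, Set.ncard_eq_toFinset_card code (Set.toFinite _)]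
  exact h

theorem mono_injective {σ τ : Equiv.Perm GolayPt} {c d : Finset GolayPt} (hσ : σ ∈ M24) (hc : c ∈ code)
    (hτ : τ ∈ M24) (hd : d ∈ code) (h : mono hσ hc = mono hτ hd) : σ = τ ∧ c = d := by
  have key : ∀ i, σ i = τ i ∧ (σ i ∈ c ↔ τ i ∈ d) := by
    intro i
    have h' := congrArg (fun g : Co0 => g • e8 i) h
    simp only [monoFun_e8] at h'
    have h1 := congrFun (congrArg Subtype.val h') (σ i)
    by_cases he : σ i = τ i
    · refine ⟨he, ?_⟩
      by_cases a : σ i ∈ c <;> by_cases b : τ i ∈ d <;> simp [a, b, e8, he] at h1 ⊢ <;> simp_all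
    · exfalso
      by_cases a : σ i ∈ c <;> by_cases b : τ i ∈ d <;> simp [a, b, e8, he] at h1
  refine ⟨Equiv.ext fun i => (key i).1, ?_⟩
  ext j
  obtain ⟨i, rfl⟩ : ∃ i, σ i = j := ⟨σ.symm j, σ.apply_symm_apply j⟩
  rw [(key i).2, (key i).1]

theorem card_frameStab : Nat.card {g : Co0 // FixesFrame g} = 4096 * 244823040 := by
  let f : code × M24 → {g : Co0 // FixesFrame g} := fun p => ⟨mono p.2.2 p.1.2, fixesFrame_mono _ _⟩
  have hf : Function.Bijective f := by
    constructor
    · rintro ⟨⟨c, hc⟩, ⟨σ, hσ⟩⟩ ⟨⟨d, hd⟩, ⟨τ, hτ⟩⟩ h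
      obtain ⟨e1, e2⟩ := mono_injective _ _ _ _ (congrArg Subtype.val h)
      subst e1; subst e2; rfl
    · rintro ⟨g, hg⟩
      obtain ⟨σ, c, hσ, hc, rfl⟩ := frame_is_monomial hg
      exact ⟨(⟨c, hc⟩, ⟨σ, hσ⟩), rfl⟩
  rw [← Nat.card_eq_of_bijective f hf, Nat.card_prod, card_code, card_M24]

theorem class_e8 {y : GolayPt → ℤ} (hy : y ∈ leechLattice) (hn : Cfsg.sqNorm y = 64)
    (hc : Cong leechLattice (e8 none : GolayPt → ℤ) y) : y ∈ stdCross := by
  classical
  set C := {y | (y ∈ leechLattice ∧ Cfsg.sqNorm y = 64) ∧ Cong leechLattice (e8 none : GolayPt → ℤ) y}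
  have h48 : C.ncard = 48 := leech_classes.2 _ (e8 none).2 (sqNorm_e8 none)
  set S : Finset (GolayPt → ℤ) := (univ : Finset (GolayPt × Bool)).image
    fun p => if p.2 then -(e8 p.1 : GolayPt → ℤ) else (e8 p.1 : GolayPt → ℤ)
  have hS : S.card = 48 := by
    rw [card_image_of_injective, card_univ, Fintype.card_prod, Fintype.card_option, ZMod.card, Fintype.card_bool]
    rintro ⟨i, a⟩ ⟨j, b⟩ h
    have h1 := congrFun h i
    by_cases hij : i = j
    · subst hij; cases a <;> cases b <;> simp [e8] at h1 ⊢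
    · cases a <;> cases b <;> simp [e8, hij] at h1
  have hfin : C.Finite := Set.finite_of_ncard_pos (by rw [h48]; norm_num)
  have hsub : (S : Set (GolayPt → ℤ)) ⊆ C := by
    intro v hv
    obtain ⟨⟨i, b⟩, -, rfl⟩ := mem_image.mp hv
    have hpair : ∀ i j : GolayPt, ∀ s t : ℤ, (s = 1 ∨ s = -1) → (t = 1 ∨ t = -1) →
        Cong leechLattice (s • (e8 i : GolayPt → ℤ)) (t • (e8 j : GolayPt → ℤ)) := by
      intro i j s t hs ht
      refine ⟨fun k => 4 * ((if k = i then s else 0) - if k = j then t else 0), ?_, ?_⟩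
      · refine mem_lattice.mpr ⟨0, ∅, fun k => (if k = i then s else 0) - if k = j then t else 0, empty_mem_code,
          fun k => by simp [indZ], ?_⟩
        rw [sum_sub_distrib, sum_ite_eq', sum_ite_eq', if_pos (mem_univ _), if_pos (mem_univ _)]
        rcases hs with rfl | rfl <;> rcases ht with rfl | rfl <;> rfl
      · funext k
        simp only [Pi.sub_apply, Pi.smul_apply, e8, Pi.single_apply, smul_eq_mul, nsmul_eq_mul, Pi.natCast_def,
          Pi.mul_apply]
        push_cast
        split <;> split <;> ring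
    cases b
    · refine ⟨⟨(e8 i).2, sqNorm_e8 i⟩, ?_⟩
      simpa using hpair none i 1 1 (Or.inl rfl) (Or.inl rfl)
    · refine ⟨⟨neg_mem (e8 i).2, ?_⟩, ?_⟩
      · rw [← sqNorm_e8 i]; simp [Cfsg.sqNorm]
      · simpa using hpair none i 1 (-1) (Or.inl rfl) (Or.inr rfl)
  have heq : (S : Set (GolayPt → ℤ)) = C :=
    Set.eq_of_subset_of_ncard_le hsub (by rw [h48, Set.ncard_coe_finset, hS]) hfin
  have : y ∈ (S : Set (GolayPt → ℤ)) := by rw [heq]; exact ⟨⟨hy, hn⟩, hc⟩
  obtain ⟨⟨i, b⟩, -, rfl⟩ := mem_image.mp this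
  exact stdCross_eq_e8.mpr ⟨i, by cases b <;> simp⟩

theorem cong_smul (g : Co0) {v w : leechLattice} (h : Cong leechLattice (v : GolayPt → ℤ) w) :
    Cong leechLattice ((g • v : leechLattice) : GolayPt → ℤ) ((g • w : leechLattice) : GolayPt → ℤ) := by
  obtain ⟨z, hz, he⟩ := h
  refine ⟨_, (g • (⟨z, hz⟩ : leechLattice) : leechLattice).2, ?_⟩
  have h1 : v - w = (2 : ℤ) • (⟨z, hz⟩ : leechLattice) := Subtype.ext (by simpa using he)
  have h2 := congrArg Subtype.val (congrArg (fun u => g • u) h1)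
  simp only [smul_zsmul', sub_eq_add_neg] at h2
  have h3 : g • (v + -w) = g • v + -(g • w) := by rw [← smul_neg']; exact g.2.1 v (-w)
  rw [h3] at h2
  simpa [← sub_eq_add_neg] using h2

theorem stab_fixesFrame {g : Co0} (hg : g • e8 none = e8 none) : FixesFrame g := by
  intro v hv
  have hn : Cfsg.sqNorm (v : GolayPt → ℤ) = 64 := by
    obtain ⟨i, h | h⟩ := stdCross_eq_e8.mp hv <;> rw [h]
    · exact sqNorm_e8 i
    · rw [← sqNorm_e8 i]; simp [Cfsg.sqNorm]
  obtain ⟨i, hi⟩ := stdCross_eq_e8.mp hv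
  refine class_e8 (g • v).2 (by rw [← hn]; exact g.2.2 v) ?_
  have hc : Cong leechLattice (e8 none : GolayPt → ℤ) (v : GolayPt → ℤ) := by
    obtain ⟨z, hz, he⟩ : Cong leechLattice (e8 none : GolayPt → ℤ) (e8 i : GolayPt → ℤ) :=
      ⟨fun k => 4 * ((if k = none then 1 else 0) - if k = i then 1 else 0),
        mem_lattice.mpr ⟨0, ∅, fun k => (if k = none then 1 else 0) - if k = i then 1 else 0, empty_mem_code,
          fun k => by simp [indZ], by rw [sum_sub_distrib, sum_ite_eq', sum_ite_eq']; simp⟩,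
        funext fun k => by
          simp only [e8, Pi.sub_apply, Pi.smul_apply, Pi.single_apply, nsmul_eq_mul]; push_cast; ring_nf
          split <;> split <;> norm_num⟩
    rcases hi with h | h <;> rw [h]
    · exact ⟨z, hz, he⟩
    · exact ⟨z + (e8 i : GolayPt → ℤ), add_mem hz (e8 i).2, by rw [nsmul_add, ← he, two_nsmul]; abel⟩
  have := cong_smul g hc
  rwa [hg] at this

theorem frame_transitive (i : GolayPt) (s : Bool) :
    ∃ g : Co0, FixesFrame g ∧ g • e8 none = if s then -e8 i else e8 i := by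
  obtain ⟨σ, hσ, hi⟩ := M24_pretransitive none i
  cases s
  · exact ⟨mono hσ empty_mem_code, fixesFrame_mono _ _, by rw [monoFun_e8, if_neg (notMem_empty _), hi]; rfl⟩
  · exact ⟨mono hσ univ_mem_code, fixesFrame_mono _ _, by rw [monoFun_e8, if_pos (mem_univ _), hi]; rfl⟩

theorem card_stab_e8 : Nat.card (stabilizer Co0 (e8 none)) * 48 = 4096 * 244823040 := by
  let T : GolayPt × Bool → leechLattice := fun p => if p.2 then -e8 p.1 else e8 p.1
  have hT : Function.Injective T := by
    rintro ⟨i, a⟩ ⟨j, b⟩ h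
    have h1 := congrFun (congrArg Subtype.val h) i
    by_cases hij : i = j
    · subst hij; cases a <;> cases b <;> simp [T, e8] at h1 ⊢
    · cases a <;> cases b <;> simp [T, e8, hij] at h1
  choose r hr1 hr2 using frame_transitive
  let f : (GolayPt × Bool) × stabilizer Co0 (e8 none) → {g : Co0 // FixesFrame g} := fun p =>
    ⟨r p.1.1 p.1.2 * p.2.1, fun v hv => by rw [mul_smul]; exact hr1 _ _ _ (stab_fixesFrame p.2.2 v hv)⟩
  have hf : Function.Bijective f := by
    constructor
    · rintro ⟨⟨i, a⟩, u⟩ ⟨⟨j, b⟩, w⟩ h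
      have h1 : r i a * u.1 = r j b * w.1 := congrArg Subtype.val h
      have h2 : T (i, a) = T (j, b) := by
        have := congrArg (fun g : Co0 => g • e8 none) h1
        simp only [mul_smul] at this
        rwa [show u.1 • e8 none = e8 none from u.2, show w.1 • e8 none = e8 none from w.2, hr2, hr2] at this
      obtain ⟨rfl, rfl⟩ := Prod.mk.injEq .. ▸ hT h2
      rw [Subtype.ext (mul_left_cancel h1) (a1 := u) (a2 := w)]
    · rintro ⟨g, hg⟩
      obtain ⟨i, h | h⟩ := stdCross_eq_e8.mp (hg _ (e8_mem_stdCross none))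
      · exact ⟨((i, false), ⟨(r i false)⁻¹ * g, by
          rw [mem_stabilizer_iff, mul_smul, show g • e8 none = e8 i from Subtype.ext h, inv_smul_eq_iff, hr2]; rfl⟩),
          Subtype.ext (mul_inv_cancel_left _ _)⟩
      · exact ⟨((i, true), ⟨(r i true)⁻¹ * g, by
          rw [mem_stabilizer_iff, mul_smul, show g • e8 none = -e8 i from Subtype.ext h, inv_smul_eq_iff, hr2]; rfl⟩),
          Subtype.ext (mul_inv_cancel_left _ _)⟩
  have h := Nat.card_eq_of_bijective f hf
  rw [card_frameStab, Nat.card_prod, Nat.card_prod, Nat.card_eq_fintype_card (α := GolayPt), Fintype.card_option,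
    ZMod.card, Nat.card_eq_fintype_card (α := Bool), Fintype.card_bool] at h
  rw [← h]; ring

theorem card_co0 : Nat.card Co0 = 8315553613086720000 := by
  have horb : orbit Co0 (e8 none) = {v : leechLattice | Cfsg.sqNorm (v : GolayPt → ℤ) = 64} := by
    ext v
    constructor
    · rintro ⟨g, rfl⟩
      exact (g.2.2 (e8 none)).trans (sqNorm_e8 none)
    · intro hv
      obtain ⟨g, hg⟩ := transitive64 (e8 none) v (sqNorm_e8 none) hv
      exact ⟨g, hg⟩
  have hcard : Nat.card (orbit Co0 (e8 none)) = 398034000 := by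
    rw [Nat.card_coe_set_eq, horb, ← ncard_64, ← Set.ncard_image_of_injective _ Subtype.val_injective]
    congr 1
    ext x
    simp only [Set.mem_image, Set.mem_setOf_eq]
    exact ⟨fun ⟨v, hv, e⟩ => e ▸ ⟨v.2, hv⟩, fun h => ⟨⟨x, h.1⟩, h.2, rfl⟩⟩
  have h1 : Nat.card Co0 = Nat.card (orbit Co0 (e8 none)) * Nat.card (stabilizer Co0 (e8 none)) := by
    rw [← Nat.card_prod]
    exact (Nat.card_congr (orbitProdStabilizerEquivGroup Co0 (e8 none))).symm
  have h2 := card_stab_e8
  rw [h1, hcard]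
  omega

end Cfsg.Lib.Leech
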