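import Cfsg.Agent.Leech.Transitive
import Cfsg.Agent.Leech.FrameStab

/-!
Transitivity on the vectors of norm 48.
-/

namespace Cfsg.Lib.Leech

open Cfsg Cfsg.Lib.Golay Finset MulAction

/-- An odd vector of norm 48 with a coordinate five. -/
def vD : GolayPt → ℤ := fun p => if p = none then 5 else 1

/-- An odd vector of norm 48 with three coordinates minus three. -/
def vE : GolayPt → ℤ := fun p => if p = none ∨ p = some 0 ∨ p = some 1 then -3 else 1

theorem three_points (a b c : GolayPt) (hab : a ≠ b) (hac : a ≠ c) (hbc : b ≠ c) :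
    ∃ σ ∈ M24, σ a = none ∧ σ b = some 0 ∧ σ c = some 1 := by
  have h3 : IsMultiplyPretransitive M24 GolayPt 3 := by
    have := M24_five_transitive
    exact isMultiplyPretransitive_of_le (n := 5) (by norm_num) (by simp)
  have hinj : Function.Injective ![a, b, c] := fun i j h => by
    fin_cases i <;> fin_cases j <;> simp_all
  have hinj' : Function.Injective ![(none : GolayPt), some 0, some 1] := by decide +kernel
  obtain ⟨σ, hσ⟩ := exists_smul_eq M24 (⟨_, hinj⟩ : Fin 3 ↪ GolayPt) ⟨_, hinj'⟩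
  refine ⟨σ, σ.2, ?_, ?_, ?_⟩
  · exact congrArg (fun e : Fin 3 ↪ GolayPt => e 0) hσ
  · exact congrArg (fun e : Fin 3 ↪ GolayPt => e 1) hσ
  · exact congrArg (fun e : Fin 3 ↪ GolayPt => e 2) hσ

theorem odd48 {x : GolayPt → ℤ} (hx : x ∈ leechLattice) (hn : Cfsg.sqNorm x = 48) (ho : ∀ i, x i % 2 = 1) :
    ((∃ i, x i = 5 ∨ x i = -5) → Rel x vD) ∧ ((¬ ∃ i, x i = 5 ∨ x i = -5) → Rel x vE) := by
  classical
  set d := univ.filter fun i => x i % 4 = 3
  have hd : d ∈ code := word_odd hx ho
  have hflip := rel_flip hd hx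
  have hy := flip_mem hd hx
  set y := flipOn d x with hy'
  have hmod : ∀ i, y i % 4 = 1 := fun i => by
    have := ho i
    simp only [hy', flipOn, d, mem_filter, mem_univ, true_and]; split <;> omega
  have hny : Cfsg.sqNorm y = 48 := by rw [hy', sqNorm_flipOn, hn]
  have habs : ∀ i, (x i = 5 ∨ x i = -5) ↔ y i = 5 := fun i => by
    have := hmod i
    simp only [hy', flipOn] at this ⊢; split <;> rename_i h <;> simp [h] at this <;> omega
  have hge : ∀ i, y i = 1 ∨ y i = -3 ∨ y i = 5 := by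
    intro i
    have h1 : y i ^ 2 + (23 : ℤ) ≤ 48 := by
      have h : ∑ j ∈ univ.erase i, (1 : ℤ) ≤ ∑ j ∈ univ.erase i, y j ^ 2 := by
        refine sum_le_sum fun j _ => ?_
        have := hmod j
        have h0 : y j ≠ 0 := by omega
        have := Int.one_le_abs h0
        nlinarith [sq_abs (y j)]
      rw [sum_const, card_erase_of_mem (mem_univ i), card_pts, nsmul_eq_mul, mul_one] at h
      have := add_sum_erase univ (fun j => y j ^ 2) (mem_univ i)
      have hny' : ∑ j, y j ^ 2 = 48 := hny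
      push_cast at h
      omega
    have : -5 ≤ y i ∧ y i ≤ 5 := by constructor <;> nlinarith
    have := hmod i
    omega
  set F := univ.filter fun i => y i = 5
  set T := univ.filter fun i => y i = -3
  have hcount : 24 + 24 * F.card + 8 * T.card = 48 := by
    have hny' : ∑ j, y j ^ 2 = 48 := hny
    have e : ∀ j, y j ^ 2 = 1 + 24 * (if y j = 5 then 1 else 0) + 8 * (if y j = -3 then 1 else 0) := fun j => by
      rcases hge j with h | h | h <;> rw [h] <;> norm_num
    simp only [e, sum_add_distrib, ← mul_sum, sum_boole, sum_const, card_pts, nsmul_eq_mul, mul_one] at hny'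
    exact_mod_cast hny'
  constructor
  · rintro ⟨i, hi⟩
    have hyi := (habs i).mp hi
    have hF : 1 ≤ F.card := card_pos.mpr ⟨i, by simp [F, hyi]⟩
    have hT : T.card = 0 := by omega
    obtain ⟨σ, hσ, hσi⟩ := M24_pretransitive i none
    refine hflip.trans ?_
    convert rel_perm hσ hy using 1
    funext k
    obtain ⟨j, rfl⟩ : ∃ j, σ j = k := ⟨σ.symm k, σ.apply_symm_apply k⟩
    simp only [Equiv.symm_apply_apply, vD]
    by_cases hj : j = i
    · rw [hj, hσi, if_pos rfl, hyi]
    · rw [if_neg fun h => hj (σ.injective (h.trans hσi.symm))]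
      rcases hge j with h | h | h
      · exact h.symm
      · exact absurd (card_pos.mpr ⟨j, show j ∈ T by simp [T, h]⟩) (by omega)
      · exact absurd (one_lt_card.mpr ⟨j, show j ∈ F by simp [F, h], i, show i ∈ F by simp [F, hyi], hj⟩) (by omega)
  · intro hnone
    have hF : F.card = 0 := card_eq_zero.mpr (filter_eq_empty_iff.mpr fun i _ h => hnone ⟨i, (habs i).mpr h⟩)
    have hT : T.card = 3 := by omega
    obtain ⟨a, b, c, hab, hac, hbc, hTe⟩ := card_eq_three.mp hT
    obtain ⟨σ, hσ, ha, hb, hc⟩ := three_points a b c hab hac hbc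
    refine hflip.trans ?_
    convert rel_perm hσ hy using 1
    funext k
    obtain ⟨j, rfl⟩ : ∃ j, σ j = k := ⟨σ.symm k, σ.apply_symm_apply k⟩
    simp only [Equiv.symm_apply_apply, vE]
    have hm : (σ j = none ∨ σ j = some 0 ∨ σ j = some 1) ↔ y j = -3 := by
      rw [← ha, ← hb, ← hc, σ.injective.eq_iff, σ.injective.eq_iff, σ.injective.eq_iff]
      have := Finset.ext_iff.mp hTe j
      simp only [T, mem_filter, mem_univ, true_and, mem_insert, mem_singleton] at this
      exact this.symm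
    by_cases h : y j = -3
    · rw [if_pos (hm.mpr h), h]
    · rw [if_neg fun h' => h (hm.mp h')]
      rcases hge j with e | e | e
      · exact e.symm
      · exact absurd e h
      · exact absurd ⟨j, (habs j).mpr e⟩ hnone

theorem vD_ok : inL vD = true ∧ Cfsg.sqNorm vD = 48 ∧ (∀ i, xi vD i % 2 = 1) ∧ ∀ i, xi vD i ≠ 5 ∧ xi vD i ≠ -5 := by
  decide +kernel

theorem vD_rel_vE : Rel vD vE := by
  obtain ⟨hm, hn, ho, h5⟩ := vD_ok
  have h := rel_xi (mem_of_inL hm)
  exact h.trans ((odd48 h.mem_right (by rw [h.norm_eq, hn]) ho).2 fun ⟨i, hi⟩ => hi.elim (h5 i).1 (h5 i).2)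

/-- The first tetrad. -/
def tetZero : Fin 4 → GolayPt := fun k => ptAt (k : ℕ)

theorem tetZero_ok : Function.Injective tetZero ∧ univ.filter (fun p => tet p = 0) = univ.image tetZero := by
  decide +kernel

theorem make_odd {x : GolayPt → ℤ} (hx : x ∈ leechLattice) (hn : Cfsg.sqNorm x = 48) :
    ∃ w, Rel x w ∧ Cfsg.sqNorm w = 48 ∧ ∀ i, w i % 2 = 1 := by
  classical
  rcases parity_uniform hx with he | ho
  swap
  · exact ⟨x, ⟨1, ⟨x, hx⟩, rfl, by rw [one_smul]⟩, hn, ho⟩
  set c := univ.filter fun i => x i % 4 = 2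
  have hc : c ∈ code := word_even hx he
  have hn' : ∑ i, x i ^ 2 = 48 := hn
  have hle : 4 * (c.card : ℤ) ≤ 48 := by
    rw [← hn', mul_comm, ← nsmul_eq_mul, ← sum_const]
    refine le_trans (sum_le_sum fun i hi => ?_) (sum_le_sum_of_subset_of_nonneg (subset_univ c) fun i _ _ => sq_nonneg _)
    have h2 := (mem_filter.mp hi).2
    have : x i ≤ -2 ∨ 2 ≤ x i := by omega
    rcases this with h | h <;> nlinarith
  have hne : c ≠ ∅ := by
    intro h
    obtain ⟨m, d, z, hd⟩ := mem_lattice.mp hx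
    have h4 : ∀ i, (4 : ℤ) ∣ x i := fun i => by
      have h' : ¬ x i % 4 = 2 := fun h2 => by
        have : i ∈ c := mem_filter.mpr ⟨mem_univ _, h2⟩
        simp [h] at this
      have := he i; omega
    choose u hu using h4
    have e : ∑ i, x i ^ 2 = 16 * ∑ i, u i ^ 2 := by
      rw [mul_sum]; exact sum_congr rfl fun i _ => by rw [hu i]; ring
    have hsum : (8 : ℤ) ∣ ∑ i, x i := by
      obtain ⟨a, ha⟩ := four_dvd_card hd.hc
      have hz := hd.hz
      have h0 := he none
      rw [hd.hx none] at h0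
      rw [hd.sum, ha]; push_cast; omega
    have e2 : ∑ i, x i = 4 * ∑ i, u i := by rw [mul_sum]; exact sum_congr rfl fun i _ => hu i
    have e3 : (∑ i, u i ^ 2) % 2 = (∑ i, u i) % 2 := by
      rw [Finset.sum_int_mod univ 2 (fun i => u i ^ 2), Finset.sum_int_mod univ 2 u]
      congr 1
      refine sum_congr rfl fun i _ => ?_
      rcases Int.emod_two_eq (u i) with h | h <;> simp [pow_two, Int.mul_emod, h]
    omega
  obtain ⟨a, ha⟩ := nonempty_iff_ne_empty.mpr hne
  obtain ⟨t, ht, htc⟩ : ∃ t : Finset GolayPt, t ⊆ cᶜ ∧ t.card = 3 :=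
    exists_subset_card_eq (by rw [card_compl, Fintype.card_option, ZMod.card]; omega)
  obtain ⟨b1, b2, b3, h12, h13, h23, rfl⟩ := card_eq_three.mp htc
  have hb : ∀ b ∈ ({b1, b2, b3} : Finset GolayPt), b ∉ c ∧ a ≠ b := fun b hb =>
    ⟨mem_compl.mp (ht hb), fun e => mem_compl.mp (ht hb) (e ▸ ha)⟩
  have hinj : Function.Injective ![a, b1, b2, b3] := by
    obtain ⟨-, n1⟩ := hb b1 (by simp); obtain ⟨-, n2⟩ := hb b2 (by simp); obtain ⟨-, n3⟩ := hb b3 (by simp)
    intro i j h
    fin_cases i <;> fin_cases j <;> simp_all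
  have h4 : IsMultiplyPretransitive M24 GolayPt 4 := by
    have := M24_five_transitive
    exact isMultiplyPretransitive_of_le (n := 5) (by norm_num) (by simp)
  obtain ⟨σ, hσ⟩ := exists_smul_eq M24 (⟨_, hinj⟩ : Fin 4 ↪ GolayPt) ⟨_, tetZero_ok.1⟩
  have hσk : ∀ k, (σ : Equiv.Perm GolayPt) (![a, b1, b2, b3] k) = tetZero k := fun k =>
    congrArg (fun e : Fin 4 ↪ GolayPt => e k) hσ
  have h1 := rel_perm σ.2 hx
  set y := fun i => x ((σ : Equiv.Perm GolayPt).symm i)
  have hsum : tsum' y 0 % 4 = 2 := by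
    have e : tsum' y 0 = x a + x b1 + x b2 + x b3 := by
      rw [tsum', tetZero_ok.2, sum_image fun i _ j _ h => tetZero_ok.1 h]
      simp only [y, ← hσk, Equiv.symm_apply_apply, Fin.sum_univ_four]
      rfl
    have e1 := (mem_filter.mp ha).2
    have e2 : ∀ b, b ∉ c → x b % 4 = 0 := fun b hbc => by
      have : ¬ x b % 4 = 2 := fun h => hbc (mem_filter.mpr ⟨mem_univ _, h⟩)
      have := he b; omega
    have := e2 b1 (hb b1 (by simp)).1
    have := e2 b2 (hb b2 (by simp)).1
    have := e2 b3 (hb b3 (by simp)).1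
    omega
  have h2 := rel_xi h1.mem_right
  refine ⟨_, h1.trans h2, by rw [h2.norm_eq, h1.norm_eq, hn], ?_⟩
  rcases parity_uniform h2.mem_right with h | h
  · exfalso
    have h0 : tet (tetZero 0) = 0 := by decide +kernel
    have := h (tetZero 0)
    simp only [xi, h0, sgT, if_true] at this
    have := he ((σ : Equiv.Perm GolayPt).symm (tetZero 0))
    have hy : y (tetZero 0) = x ((σ : Equiv.Perm GolayPt).symm (tetZero 0)) := rfl
    omega
  · exact h

theorem rel_vD {x : GolayPt → ℤ} (hx : x ∈ leechLattice) (hn : Cfsg.sqNorm x = 48) : Rel x vD := by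
  obtain ⟨w, hw, hwn, hwo⟩ := make_odd hx hn
  by_cases h : ∃ i, w i = 5 ∨ w i = -5
  · exact hw.trans ((odd48 hw.mem_right hwn hwo).1 h)
  · exact (hw.trans ((odd48 hw.mem_right hwn hwo).2 h)).trans vD_rel_vE.symm

theorem transitive48 (v w : leechLattice) (hv : Cfsg.sqNorm (v : GolayPt → ℤ) = 48)
    (hw : Cfsg.sqNorm (w : GolayPt → ℤ) = 48) : ∃ g : Co0, g • v = w := by
  obtain ⟨g, v', h1, h2⟩ := (rel_vD v.2 hv).trans (rel_vD w.2 hw).symm
  obtain rfl : v' = v := Subtype.ext h1
  exact ⟨g, Subtype.ext h2⟩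

end Cfsg.Lib.Leech
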