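import Cfsg.Agent.Leech.Co2Core
import Cfsg.Agent.Leech.MaximalCount
import Cfsg.Agent.Leech.Transitive48
import Cfsg.Agent.Leech.Counts
import Cfsg.Agent.Golay.Conj
import Cfsg.Agent.Golay.LinearGroup23
import Cfsg.Agent.S0377

/-!
The stabilisers of the vectors of the two smallest norms are simple.

An element of order 23 fixes a single frame, so its normaliser lies among the coordinate
permutations; it acts without fixed points on any normal subgroup of order prime to 23.
-/

namespace Cfsg.Lib.Leech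

open Cfsg Cfsg.Lib.Golay Finset MulAction
open scoped Pointwise

local instance fact23' : Fact (Nat.Prime 23) := ⟨by norm_num⟩

theorem finite_co0 : Finite Co0 := Nat.finite_of_card_ne_zero (by rw [card_co0]; norm_num)

local instance finiteCo0Inst : Finite Co0 := finite_co0

/-- One coordinate `a`, the others 1. -/
def oddVec (a : ℤ) : GolayPt → ℤ := fun p => if p = none then a else 1

theorem mono_fix_odd {a : ℤ} (ha : a = -3 ∨ a = 5) {σ : Equiv.Perm GolayPt} {c : Finset GolayPt}
    (hσ : σ ∈ M24) (hc : c ∈ code) {v : leechLattice} (hv : (v : GolayPt → ℤ) = oddVec a)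
    (h : mono hσ hc • v = v) : σ none = none ∧ c = ∅ := by
  have e : ∀ i, signedPerm σ c (oddVec a) i = oddVec a i := fun i => by
    have := congrFun (congrArg Subtype.val h) i
    rwa [mono_apply, hv] at this
  have h0 : σ none = none := by
    by_contra hne
    have h1 := e (σ none)
    simp only [signedPerm, oddVec, Equiv.symm_apply_apply, if_pos, if_neg hne] at h1
    rcases ha with rfl | rfl <;> split at h1 <;> simp at h1
  refine ⟨h0, eq_empty_of_forall_notMem fun i hi => ?_⟩
  have h1 := e i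
  simp only [signedPerm, oddVec, if_pos hi] at h1
  by_cases hin : i = none
  · subst hin
    rw [if_pos (by rw [Equiv.symm_apply_eq]; exact h0.symm), if_pos rfl] at h1
    rcases ha with rfl | rfl <;> simp at h1
  · rw [if_neg (by rw [Equiv.symm_apply_eq, h0]; exact hin), if_neg hin] at h1
    simp at h1

/-- The point stabiliser of the largest Mathieu group as coordinate permutations. -/
noncomputable def pointEmb : stabilizer M24 (none : GolayPt) →* Co0 :=
  MonoidHom.mk' (fun σ => mono σ.1.2 empty_mem_code) fun σ τ => (mono_one_mul σ.1.2 τ.1.2).symm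

theorem pointEmb_injective : Function.Injective pointEmb := by
  intro σ τ h
  refine Subtype.ext (Subtype.ext (Equiv.ext fun i => ?_))
  have h1 : mono σ.1.2 empty_mem_code • e8 i = mono τ.1.2 empty_mem_code • e8 i := congrArg (· • e8 i) h
  rw [monoFun_e8, monoFun_e8, if_neg (notMem_empty _), if_neg (notMem_empty _)] at h1
  by_contra hne
  have h2 := congrFun (congrArg Subtype.val h1) ((σ.1 : Equiv.Perm GolayPt) i)
  simp [e8, hne] at h2

theorem pointEmb_fix {a : ℤ} {v : leechLattice} (hv : (v : GolayPt → ℤ) = oddVec a)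
    (σ : stabilizer M24 (none : GolayPt)) : pointEmb σ • v = v := by
  refine Subtype.ext (funext fun i => ?_)
  have h0 : (σ.1 : Equiv.Perm GolayPt) none = none := σ.2
  simp only [pointEmb, MonoidHom.mk'_apply, mono_apply, signedPerm, notMem_empty, if_false, hv, oddVec]
  by_cases hi : i = none
  · subst hi
    rw [if_pos (by rw [Equiv.symm_apply_eq]; exact h0.symm), if_pos rfl]
  · rw [if_neg (by rw [Equiv.symm_apply_eq, h0]; exact hi), if_neg hi]

/-- The translation in the point stabiliser. -/
def translPt : stabilizer M24 (none : GolayPt) := ⟨⟨transl, transl_mem⟩, rfl⟩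

theorem translPt_order : orderOf translPt = 23 := by
  refine orderOf_eq_prime (Subtype.ext (Subtype.ext ?_)) fun h => ?_
  · show ((translPt ^ 23).1 : Equiv.Perm GolayPt) = 1
    rw [Subgroup.coe_pow, Subgroup.coe_pow]
    exact transl_facts.2
  · have := DFunLike.congr_fun (congrArg (fun s : stabilizer M24 (none : GolayPt) => (s.1 : Equiv.Perm GolayPt)) h)
      (some 0)
    simp [translPt, transl] at this

theorem fixed64 {w : leechLattice} (hn : Cfsg.sqNorm (w : GolayPt → ℤ) = 64)
    (hx : pointEmb translPt • w = w) : w = e8 none ∨ w = -e8 none := by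
  have hstep : ∀ k : ZMod 23, (w : GolayPt → ℤ) (some (k + 1)) = (w : GolayPt → ℤ) (some k) := fun k => by
    have h := congrFun (congrArg Subtype.val hx) (some (k + 1))
    simp only [pointEmb, MonoidHom.mk'_apply, mono_apply, signedPerm, notMem_empty, if_false] at h
    rw [show ((translPt.1 : Equiv.Perm GolayPt)).symm (some (k + 1)) = some k by
      rw [Equiv.symm_apply_eq]; rfl] at h
    exact h.symm
  set a := (w : GolayPt → ℤ) none with ha
  set b := (w : GolayPt → ℤ) (some 0) with hb
  have hall : ∀ k : ZMod 23, (w : GolayPt → ℤ) (some k) = b := fun k => by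
    have : ∀ n : ℕ, (w : GolayPt → ℤ) (some (n : ZMod 23)) = b := fun n => by
      induction n with
      | zero => rw [Nat.cast_zero]
      | succ n ih => rw [Nat.cast_succ, hstep, ih]
    simpa [ZMod.natCast_zmod_val] using this k.val
  have hsum : a * a + 23 * (b * b) = 64 := by
    rw [← hn, Cfsg.sqNorm, Fintype.sum_option]
    simp [hall, ← ha, pow_two]
  have hb1 : b ≤ 1 := by nlinarith [mul_self_nonneg a]
  have hb2 : -1 ≤ b := by nlinarith [mul_self_nonneg a]
  have ha1 : a ≤ 8 := by nlinarith [mul_self_nonneg b]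
  have ha2 : -8 ≤ a := by nlinarith [mul_self_nonneg b]
  have hb0 : b = 0 := by interval_cases b <;> interval_cases a <;> omega
  have ha8 : a = 8 ∨ a = -8 := by rw [hb0] at hsum; interval_cases a <;> omega
  rcases ha8 with h | h
  · left
    refine Subtype.ext (funext fun p => ?_)
    cases p with
    | none => simp [e8, ← ha, h]
    | some k => simp [e8, hall k, hb0]
  · right
    refine Subtype.ext (funext fun p => ?_)
    cases p with
    | none => simp [e8, ← ha, h]
    | some k => simp [e8, hall k, hb0]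

section
variable {a : ℤ} (ha : a = -3 ∨ a = 5) {v : leechLattice} (hv : (v : GolayPt → ℤ) = oddVec a)

/-- The permutations inside the vector's stabiliser. -/
noncomputable def pointIn : stabilizer M24 (none : GolayPt) →* stabilizer Co0 v :=
  pointEmb.codRestrict _ fun σ => pointEmb_fix hv σ

include ha in
theorem normalizer_small {g : stabilizer Co0 v}
    (hg : g⁻¹ * pointIn hv translPt * g ∈ Subgroup.zpowers (pointIn hv translPt)) :
    g ∈ (pointIn hv).range := by
  have hxe : pointEmb translPt • e8 none = e8 none := by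
    show mono _ empty_mem_code • e8 none = e8 none
    rw [monoFun_e8, if_neg (notMem_empty _)]; rfl
  obtain ⟨k, hk⟩ := hg
  have hfix : pointEmb translPt • ((g : Co0) • e8 none) = (g : Co0) • e8 none := by
    have h1 : ((pointEmb translPt) ^ k) • e8 none = e8 none :=
      (zpow_mem (show pointEmb translPt ∈ stabilizer Co0 (e8 none) from hxe) k)
    have h2 : (pointEmb translPt) ^ k = (g : Co0)⁻¹ * pointEmb translPt * (g : Co0) :=
      congrArg Subtype.val hk
    rw [h2, mul_smul, mul_smul, inv_smul_eq_iff] at h1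
    exact h1
  have hn : Cfsg.sqNorm (((g : Co0) • e8 none : leechLattice) : GolayPt → ℤ) = 64 :=
    ((g : Co0).2.2 (e8 none)).trans (sqNorm_e8 none)
  have hmem : (g : Co0) ∈ monoGroup := by
    rcases fixed64 hn hfix with h | h
    · exact mem_monoGroup_of_fixes (stab_fixesFrame h)
    · have h1 : negOne * (g : Co0) ∈ monoGroup :=
        mem_monoGroup_of_fixes (stab_fixesFrame (by rw [mul_smul, h, negOne_apply, neg_neg]))
      have h2 := mul_mem (show negOne ∈ monoGroup from mono_mem_monoGroup _ _) h1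
      rwa [← mul_assoc, negOne_sq, one_mul] at h2
  have hf : FixesFrame (g : Co0) := by rw [← SetLike.mem_coe, coe_monoGroup] at hmem; exact hmem
  obtain ⟨σ, c, hσ, hc, he⟩ := frame_is_monomial hf
  obtain ⟨h0, rfl⟩ := mono_fix_odd ha hσ hc hv (he ▸ g.2)
  exact ⟨⟨⟨σ, hσ⟩, h0⟩, Subtype.ext he.symm⟩

include ha in
theorem centralizer_small {g : stabilizer Co0 v} (hg : Commute g (pointIn hv translPt)) :
    g ∈ Subgroup.zpowers (pointIn hv translPt) := by
  have hinj : Function.Injective (pointIn hv) := fun s t h => pointEmb_injective (congrArg Subtype.val h)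
  obtain ⟨σ, rfl⟩ := normalizer_small ha hv (g := g) ⟨1, by
    simp only [zpow_one]; rw [mul_assoc, ← hg.eq, inv_mul_cancel_left]⟩
  have hc : σ * translPt = translPt * σ := hinj (by simp only [map_mul]; exact hg.eq)
  have h0 : (σ.1 : Equiv.Perm GolayPt) none = none := σ.2
  obtain ⟨c, hcv⟩ : ∃ c, (σ.1 : Equiv.Perm GolayPt) (some 0) = some c := by
    rcases h : (σ.1 : Equiv.Perm GolayPt) (some 0) with _ | c
    · exact absurd ((σ.1 : Equiv.Perm GolayPt).injective (h.trans h0.symm)) (by simp)
    · exact ⟨c, rfl⟩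
  have hc' : ∀ p, (σ.1 : Equiv.Perm GolayPt) (transl p) = transl ((σ.1 : Equiv.Perm GolayPt) p) := fun p =>
    DFunLike.congr_fun (congrArg (fun s : stabilizer M24 (none : GolayPt) => (s.1 : Equiv.Perm GolayPt)) hc) p
  have hstep : ∀ n : ℕ, (σ.1 : Equiv.Perm GolayPt) (some (n : ZMod 23)) = some (c + n) := fun n => by
    induction n with
    | zero => simpa using hcv
    | succ n ih =>
      rw [Nat.cast_succ, show (some ((n : ZMod 23) + 1) : GolayPt) = transl (some n) from rfl, hc', ih]
      exact congrArg some (show c + (n : ZMod 23) + 1 = c + ((n : ZMod 23) + 1) from add_assoc _ _ _)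
  have htp : ∀ (n : ℕ) (p : ZMod 23), (transl ^ n) (some p) = some (p + n) ∧ (transl ^ n) none = none := fun n => by
    induction n with
    | zero => simp
    | succ n ih =>
      intro p
      rw [pow_succ', Equiv.Perm.mul_apply, Equiv.Perm.mul_apply, (ih p).1, (ih p).2]
      exact ⟨by rw [Nat.cast_succ, ← add_assoc]; rfl, rfl⟩
  refine ⟨c.val, ?_⟩
  show pointIn hv translPt ^ (c.val : ℤ) = pointIn hv σ
  rw [zpow_natCast, ← map_pow]
  congr 1
  refine Subtype.ext (Subtype.ext ?_)
  rw [Subgroup.coe_pow, Subgroup.coe_pow]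
  refine Equiv.ext fun p => ?_
  rcases p with _ | k
  · exact ((htp c.val 0).2).trans h0.symm
  · have hk := hstep k.val
    rw [ZMod.natCast_zmod_val] at hk
    rw [hk]
    exact ((htp c.val k).1).trans (by rw [ZMod.natCast_zmod_val, add_comm])

theorem pointIn_order : orderOf (pointIn hv translPt) = 23 := by
  rw [orderOf_injective _ (fun s t h => pointEmb_injective (congrArg Subtype.val h)), translPt_order]

include ha hv in
/-- Numerical criterion: a normal subgroup of order prime to 23 has prime power parts congruent to 1. -/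
theorem prime_part {n : ℕ} (hn : Nat.card (stabilizer Co0 v) = n) (h23 : 23 ∣ n) (h23' : ¬ 23 ^ 2 ∣ n)
    (N : Subgroup (stabilizer Co0 v)) [N.Normal] (hN : ¬ 23 ∣ Nat.card N) (p : ℕ) [Fact p.Prime] :
    p ^ (Nat.card N).factorization p % 23 = 1 := by
  classical
  set x : stabilizer Co0 v := pointIn hv translPt
  let P : Sylow p N := default
  set Q : Subgroup (stabilizer Co0 v) := (P : Subgroup N).map N.subtype with hQ
  have hQN : Q ≤ N := by rintro _ ⟨q, -, rfl⟩; exact q.2
  have hQc : Nat.card Q = p ^ (Nat.card N).factorization p := by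
    rw [hQ, Subgroup.card_map_of_injective N.subtype_injective, P.card_eq_multiplicity]
  set M := Subgroup.normalizer (Q : Set (stabilizer Co0 v))
  have hMN : M ⊔ N = ⊤ := Sylow.normalizer_sup_eq_top P
  have hsurj : Function.Surjective ((QuotientGroup.mk' N).comp M.subtype) := by
    rw [← MonoidHom.range_eq_top, MonoidHom.range_comp, Subgroup.range_subtype]
    refine top_le_iff.mp ?_
    rw [← Subgroup.map_top_of_surjective (QuotientGroup.mk' N) (QuotientGroup.mk'_surjective N), ← hMN,
      Subgroup.map_sup]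
    simp
  have hdvd : 23 ∣ Nat.card M := by
    refine dvd_trans ?_ (Subgroup.card_dvd_of_surjective _ hsurj)
    have h := Subgroup.card_eq_card_quotient_mul_card_subgroup N
    rw [hn] at h
    exact ((Nat.Prime.dvd_mul (by norm_num)).mp (h ▸ h23)).resolve_right hN
  obtain ⟨y, hy⟩ := exists_prime_orderOf_dvd_card' 23 hdvd
  have hf : n.factorization 23 = 1 := by
    have hn0 : n ≠ 0 := by rw [← hn]; exact Nat.card_pos.ne'
    refine le_antisymm (Nat.le_of_lt_succ (Nat.lt_succ_of_le ?_)) ?_
    · by_contra hlt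
      exact h23' ((pow_dvd_pow 23 (not_le.mp hlt)).trans (Nat.ordProj_dvd n 23))
    · exact (Nat.Prime.factorization_pos_of_dvd (by norm_num) hn0 h23)
  have hy' : orderOf (y : stabilizer Co0 v) = 23 := by rw [Subgroup.orderOf_coe, hy]
  let S := Sylow.ofCard (p := 23) (Subgroup.zpowers (y : stabilizer Co0 v)) (by rw [Nat.card_zpowers, hy', hn, hf, pow_one])
  let T := Sylow.ofCard (p := 23) (Subgroup.zpowers x) (by rw [Nat.card_zpowers, pointIn_order hv, hn, hf, pow_one])
  obtain ⟨g, hg⟩ := exists_smul_eq (stabilizer Co0 v) S T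
  have hxM : g⁻¹ * x * g ∈ M := by
    have hx : x ∈ (T : Subgroup (stabilizer Co0 v)) := Subgroup.mem_zpowers x
    rw [← hg, Sylow.coe_subgroup_smul] at hx
    obtain ⟨z, hz, he⟩ := hx
    have hzM : z ∈ M := (Subgroup.zpowers_le (g := (y : stabilizer Co0 v))).mpr y.2 hz
    rw [← he]
    simpa [MulAut.conj, mul_assoc] using hzM
  set Q' : Subgroup (stabilizer Co0 v) := Q.map (MulAut.conj g).toMonoidHom with hQ'
  have hxQ : x ∈ Subgroup.normalizer (Q' : Set (stabilizer Co0 v)) := by
    refine Cfsg.Lib.Golay.LinearGroup23.mem_norm_of_conj ?_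
    rintro _ ⟨q, hq, rfl⟩
    refine ⟨g⁻¹ * x * g * q * (g⁻¹ * x * g)⁻¹, (Subgroup.mem_normalizer_iff.mp hxM q).mp hq, ?_⟩
    simp only [MulEquiv.coe_toMonoidHom, MulAut.conj_apply]; group
  have hQ'N : Q' ≤ N := by
    rintro _ ⟨q, hq, rfl⟩
    exact (inferInstance : N.Normal).conj_mem q (hQN hq) g
  set X := Subgroup.zpowers x
  have hX : IsPGroup 23 X := IsPGroup.of_card (n := 1) (by rw [Nat.card_zpowers, pointIn_order hv, pow_one])
  letI : MulAction X Q' := MulAction.compHom Q'
    ((Subgroup.normalizerMonoidHom Q').comp (Subgroup.inclusion (Subgroup.zpowers_le.mpr hxQ)))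
  have hfix : Nat.card (fixedPoints X Q') = 1 := by
    rw [Nat.card_eq_one_iff_exists]
    refine ⟨⟨1, fun s => map_one (Subgroup.normalizerMonoidHom Q' (Subgroup.inclusion (Subgroup.zpowers_le.mpr hxQ) s))⟩, fun ⟨q, hq⟩ => Subtype.ext (Subtype.ext ?_)⟩
    have hc : x * (q : stabilizer Co0 v) * x⁻¹ = q := congrArg Subtype.val (hq ⟨x, Subgroup.mem_zpowers x⟩)
    have hq1 : (q : stabilizer Co0 v) ∈ X := centralizer_small ha hv (show Commute (q : stabilizer Co0 v) x from (mul_inv_eq_iff_eq_mul.mp hc).symm)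
    have hd1 : orderOf (q : stabilizer Co0 v) ∣ 23 := by
      have := Subgroup.orderOf_dvd_natCard X hq1
      rwa [Nat.card_zpowers, pointIn_order hv] at this
    rcases (Nat.dvd_prime (by norm_num)).mp hd1 with h | h
    · simpa using orderOf_eq_one_iff.mp h
    · exact absurd (h ▸ Subgroup.orderOf_dvd_natCard N (hQ'N q.2)) hN
  have := hX.card_modEq_card_fixedPoints Q'
  rw [hfix, hQ', Subgroup.card_map_of_injective (MulEquiv.injective _), hQc] at this
  exact this

include ha hv in
theorem stab_simple {n : ℕ} (hn : Nat.card (stabilizer Co0 v) = n) (h23 : 23 ∣ n) (h23' : ¬ 23 ^ 2 ∣ n)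
    (hsmall : ∀ N : Subgroup (stabilizer Co0 v), N.Normal → ¬ 23 ∣ Nat.card N → N = ⊥) :
    IsSimpleGroup (stabilizer Co0 v) := by
  classical
  set x : stabilizer Co0 v := pointIn hv translPt
  have hx := pointIn_order hv
  haveI : Nontrivial (stabilizer Co0 v) := ⟨⟨x, 1, fun h => by rw [show pointIn hv translPt = 1 from h, orderOf_one] at hx; norm_num at hx⟩⟩
  refine ⟨fun N hN => ?_⟩
  by_cases h : 23 ∣ Nat.card N
  swap
  · exact Or.inl (hsmall N hN h)
  right
  haveI := hN
  have hf : n.factorization 23 = 1 := by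
    have hn0 : n ≠ 0 := by rw [← hn]; exact Nat.card_pos.ne'
    refine le_antisymm (Nat.le_of_lt_succ (Nat.lt_succ_of_le ?_)) ?_
    · by_contra hlt
      exact h23' ((pow_dvd_pow 23 (not_le.mp hlt)).trans (Nat.ordProj_dvd n 23))
    · exact (Nat.Prime.factorization_pos_of_dvd (by norm_num) hn0 h23)
  obtain ⟨y, hy⟩ := exists_prime_orderOf_dvd_card' 23 h
  have hy' : orderOf (y : stabilizer Co0 v) = 23 := by rw [Subgroup.orderOf_coe, hy]
  let S := Sylow.ofCard (p := 23) (Subgroup.zpowers (y : stabilizer Co0 v)) (by rw [Nat.card_zpowers, hy', hn, hf, pow_one])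
  let T := Sylow.ofCard (p := 23) (Subgroup.zpowers x) (by rw [Nat.card_zpowers, hx, hn, hf, pow_one])
  obtain ⟨g, hg⟩ := exists_smul_eq (stabilizer Co0 v) S T
  have hxN : x ∈ N := by
    have hxT : x ∈ (T : Subgroup (stabilizer Co0 v)) := Subgroup.mem_zpowers x
    rw [← hg, Sylow.coe_subgroup_smul] at hxT
    obtain ⟨z, hz, he⟩ := hxT
    rw [← he]
    exact (inferInstance : N.Normal).conj_mem z ((Subgroup.zpowers_le (g := (y : stabilizer Co0 v))).mpr y.2 hz) g
  haveI := Cfsg.Agent.S0377.result none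
  have hrange : (pointIn hv).range ≤ N := by
    rintro _ ⟨σ, rfl⟩
    rcases (inferInstance : (N.comap (pointIn hv)).Normal).eq_bot_or_eq_top with h' | h'
    · exfalso
      have h1 : translPt = 1 := Subgroup.mem_bot.mp (h' ▸ (show translPt ∈ N.comap (pointIn hv) from hxN))
      have := translPt_order
      rw [h1, orderOf_one] at this
      norm_num at this
    · exact (show σ ∈ N.comap (pointIn hv) from h' ▸ Subgroup.mem_top σ)
  have htop := Sylow.normalizer_sup_eq_top' T ((Subgroup.zpowers_le).mpr hxN)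
  refine top_le_iff.mp (htop ▸ sup_le (fun k hk => hrange (normalizer_small ha hv ?_)) le_rfl)
  have h2 := (Subgroup.mem_normalizer_iff.mp (inv_mem hk) x).mp (Subgroup.mem_zpowers x)
  rwa [inv_inv] at h2

end

theorem card_stabilizer32 {v : leechLattice} (hv : Cfsg.sqNorm (v : GolayPt → ℤ) = 32) :
    Nat.card (stabilizer Co0 v) = 42305421312000 := by
  have horb : orbit Co0 v = {w : leechLattice | Cfsg.sqNorm (w : GolayPt → ℤ) = 32} := by
    ext w
    exact ⟨fun ⟨g, hg⟩ => hg ▸ (g.2.2 v).trans hv, fun hw => transitive32 v w hv hw⟩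
  have hc : (orbit Co0 v).ncard = 196560 := by
    rw [horb, ← ncard_32, ← Set.ncard_image_of_injective _ Subtype.val_injective]
    congr 1
    ext x
    exact ⟨fun ⟨w, hw, e⟩ => e ▸ ⟨w.2, hw⟩, fun ⟨hx, hn⟩ => ⟨⟨x, hx⟩, hn, rfl⟩⟩
  have h := Subgroup.card_mul_index (stabilizer Co0 v)
  rw [index_stabilizer, hc, card_co0] at h
  omega

theorem card_stabilizer48 {v : leechLattice} (hv : Cfsg.sqNorm (v : GolayPt → ℤ) = 48) :
    Nat.card (stabilizer Co0 v) = 495766656000 := by
  have horb : orbit Co0 v = {w : leechLattice | Cfsg.sqNorm (w : GolayPt → ℤ) = 48} := by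
    ext w
    exact ⟨fun ⟨g, hg⟩ => hg ▸ (g.2.2 v).trans hv, fun hw => transitive48 v w hv hw⟩
  have hc : (orbit Co0 v).ncard = 16773120 := by
    rw [horb, ← ncard_48, ← Set.ncard_image_of_injective _ Subtype.val_injective]
    congr 1
    ext x
    exact ⟨fun ⟨w, hw, e⟩ => e ▸ ⟨w.2, hw⟩, fun ⟨hx, hn⟩ => ⟨⟨x, hx⟩, hn, rfl⟩⟩
  have h := Subgroup.card_mul_index (stabilizer Co0 v)
  rw [index_stabilizer, hc, card_co0] at h
  omega

/-- The stabilisers of vectors in one orbit are isomorphic. -/
noncomputable def stabConj {v w : leechLattice} (g : Co0) (h : g • v = w) :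
    stabilizer Co0 v ≃* stabilizer Co0 w :=
  conjEquiv g fun _ => conj_mem_stabilizer h

theorem small_powers : ∀ q ∈ ([(2, 18), (3, 7), (5, 3), (7, 1), (11, 1)] : List (ℕ × ℕ)),
    ∀ d ≤ q.2, q.1 ^ d % 23 = 1 → d = 0 ∨ (q.1 = 2 ∧ d = 11) := by decide +kernel

theorem power_cases {n p k : ℕ} (hn : n = 2 ^ 18 * 3 ^ 7 * 5 ^ 3 * 7 * 11 * 23) (hp : p.Prime) (hp23 : p ≠ 23)
    (hd : p ^ k ∣ n) (hm : p ^ k % 23 = 1) : k = 0 ∨ (p = 2 ∧ k = 11) := by
  rcases Nat.eq_zero_or_pos k with hk | hk
  · exact Or.inl hk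
  subst hn
  have hp1 : p ∣ 2 ^ 18 * 3 ^ 7 * 5 ^ 3 * 7 * 11 * 23 := (dvd_pow_self p hk.ne').trans hd
  obtain ⟨e, he, hmem⟩ : ∃ e, k ≤ e ∧ (p, e) ∈ ([(2, 18), (3, 7), (5, 3), (7, 1), (11, 1)] : List (ℕ × ℕ)) := by
    have hfac : p = 2 ∨ p = 3 ∨ p = 5 ∨ p = 7 ∨ p = 11 := by
      simp only [hp.dvd_mul, Nat.prime_dvd_prime_iff_eq hp (by norm_num : Nat.Prime 23),
        Nat.prime_dvd_prime_iff_eq hp (by norm_num : Nat.Prime 7),
        Nat.prime_dvd_prime_iff_eq hp (by norm_num : Nat.Prime 11)] at hp1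
      rcases hp1 with ((((h | h) | h) | h) | h) | h
      · exact Or.inl ((Nat.prime_dvd_prime_iff_eq hp Nat.prime_two).mp (hp.dvd_of_dvd_pow h))
      · exact Or.inr (Or.inl ((Nat.prime_dvd_prime_iff_eq hp Nat.prime_three).mp (hp.dvd_of_dvd_pow h)))
      · exact Or.inr (Or.inr (Or.inl ((Nat.prime_dvd_prime_iff_eq hp Nat.prime_five).mp (hp.dvd_of_dvd_pow h))))
      · exact Or.inr (Or.inr (Or.inr (Or.inl h)))
      · exact Or.inr (Or.inr (Or.inr (Or.inr h)))
      · exact absurd h hp23
    rcases hfac with rfl | rfl | rfl | rfl | rfl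
    · exact ⟨18, by by_contra h; exact absurd ((pow_dvd_pow 2 (not_le.mp h)).trans hd) (by norm_num), by simp⟩
    · exact ⟨7, by by_contra h; exact absurd ((pow_dvd_pow 3 (not_le.mp h)).trans hd) (by norm_num), by simp⟩
    · exact ⟨3, by by_contra h; exact absurd ((pow_dvd_pow 5 (not_le.mp h)).trans hd) (by norm_num), by simp⟩
    · exact ⟨1, by by_contra h; exact absurd ((pow_dvd_pow 7 (not_le.mp h)).trans hd) (by norm_num), by simp⟩
    · exact ⟨1, by by_contra h; exact absurd ((pow_dvd_pow 11 (not_le.mp h)).trans hd) (by norm_num), by simp⟩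
  exact small_powers _ hmem k he hm

theorem odd32_mem : oddVec (-3) ∈ leechLattice ∧ Cfsg.sqNorm (oddVec (-3)) = 32 :=
  ⟨vC_rel_vA.symm.mem_right, by decide +kernel⟩

theorem isCo3_stabilizer {v : leechLattice} (hv : Cfsg.sqNorm (v : GolayPt → ℤ) = 48) :
    IsCo3 (stabilizer Co0 v) := by
  refine ⟨?_, card_stabilizer48 hv⟩
  have hd : oddVec 5 ∈ leechLattice := mem_of_inL vD_ok.1
  have hd48 : Cfsg.sqNorm (oddVec 5) = 48 := vD_ok.2.1
  set w : leechLattice := ⟨oddVec 5, hd⟩
  obtain ⟨g, hg⟩ := transitive48 v w hv hd48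
  haveI : IsSimpleGroup (stabilizer Co0 w) := by
    refine stab_simple (Or.inr rfl) rfl (card_stabilizer48 (v := w) hd48) (by norm_num) (by norm_num)
      fun N hN h => ?_
    rw [← Subgroup.card_eq_one]
    have hdvd : Nat.card N ∣ 495766656000 := card_stabilizer48 (v := w) hd48 ▸ N.card_subgroup_dvd_card
    by_contra hne
    obtain ⟨p, hp, hpN⟩ := Nat.exists_prime_and_dvd hne
    haveI := Fact.mk hp
    haveI := hN
    have hm := prime_part (Or.inr rfl) rfl (card_stabilizer48 (v := w) hd48) (by norm_num) (by norm_num) N h p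
    have hle := (Nat.ordProj_dvd (Nat.card N) p).trans hdvd
    have hk : (Nat.card N).factorization p ≠ 0 :=
      (Nat.Prime.factorization_pos_of_dvd hp Nat.card_pos.ne' hpN).ne'
    rcases power_cases rfl hp (fun e => h (e ▸ hpN)) (hle.trans (by norm_num)) hm with h0 | ⟨rfl, h11⟩
    · exact hk h0
    · rw [h11] at hle; norm_num at hle
  exact simple_congr (stabConj g hg)

theorem isCo2_stabilizer {v : leechLattice} (hv : Cfsg.sqNorm (v : GolayPt → ℤ) = 32) :
    IsCo2 (stabilizer Co0 v) := by
  refine ⟨?_, card_stabilizer32 hv⟩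
  set w : leechLattice := ⟨oddVec (-3), odd32_mem.1⟩
  have hw : Cfsg.sqNorm (w : GolayPt → ℤ) = 32 := odd32_mem.2
  obtain ⟨g, hg⟩ := transitive32 v w hv hw
  haveI : IsSimpleGroup (stabilizer Co0 w) := by
    refine stab_simple (Or.inl rfl) rfl (card_stabilizer32 hw) (by norm_num) (by norm_num) fun N hN h => ?_
    have hdvd : Nat.card N ∣ 42305421312000 := card_stabilizer32 hw ▸ N.card_subgroup_dvd_card
    have hP : IsPGroup 2 N := by
      refine IsPGroup.of_card (n := (Nat.card N).primeFactorsList.length)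
        (Nat.eq_prime_pow_of_unique_prime_dvd Nat.card_pos.ne' fun {p} hp hpN => ?_)
      by_contra hp2
      haveI := Fact.mk hp
      haveI := hN
      have hm := prime_part (Or.inl rfl) rfl (card_stabilizer32 hw) (by norm_num) (by norm_num) N h p
      have hk : (Nat.card N).factorization p ≠ 0 :=
        (Nat.Prime.factorization_pos_of_dvd hp Nat.card_pos.ne' hpN).ne'
      rcases power_cases rfl hp (fun e => h (e ▸ hpN))
          (((Nat.ordProj_dvd (Nat.card N) p).trans hdvd).trans (by norm_num)) hm with h0 | ⟨e, -⟩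
      · exact hk h0
      · exact hp2 e
    obtain ⟨r, hr⟩ := transitive32 w bP hw bP_norm
    let e := stabConj r hr
    set R : Subgroup Co0 := (N.map e.toMonoidHom).map (stabilizer Co0 bP).subtype
    have h1 := co2_no_two R
      ((hP.map e.toMonoidHom).map _) (by rintro _ ⟨q, -, rfl⟩; exact q.2) (by
        rintro k hk _ ⟨q, hq, rfl⟩
        exact ⟨⟨k, hk⟩ * q * ⟨k, hk⟩⁻¹,
          (Subgroup.Normal.map hN e.toMonoidHom e.surjective).conj_mem q hq ⟨k, hk⟩, rfl⟩)
    refine (Subgroup.eq_bot_iff_forall _).mpr fun q hq => ?_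
    have h2 : (e q : Co0) = 1 := h1 _ ⟨e q, ⟨q, hq, rfl⟩, rfl⟩
    exact e.injective ((Subtype.ext h2).trans (map_one e).symm)
  exact simple_congr (stabConj g hg)

end Cfsg.Lib.Leech
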