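import Cfsg.Agent.Leech.Co1Core
import Cfsg.Agent.Classical.IwasawaQuot
import Cfsg.Agent.S1572

/-!
The lattice automorphism group modulo its centre is simple: sign changes generate it.
-/

namespace Cfsg.Lib.Leech

open Cfsg Cfsg.Lib.Golay Cfsg.Lib.Golay.Modules Finset
open scoped Pointwise

theorem isCoatom_monoGroup : IsCoatom monoGroup := Cfsg.Agent.S1572.result monoGroup coe_monoGroup

theorem flip_mul {c d : Finset GolayPt} (hc : c ∈ code) (hd : d ∈ code) :
    mono (one_mem M24) hc * mono (one_mem M24) hd = mono (one_mem M24) (symmDiff_mem_supports hc hd) := by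
  refine co0_ext fun v => Subtype.ext (funext fun i => ?_)
  rw [mul_smul, mono_apply, mono_apply, mono_apply]
  simp only [signedPerm, show (1 : Equiv.Perm GolayPt).symm i = i from rfl, mem_symmDiff]
  by_cases h1 : i ∈ c <;> by_cases h2 : i ∈ d <;> simp [h1, h2]

theorem flip_empty : mono (one_mem M24) empty_mem_code = 1 :=
  co0_ext fun v => Subtype.ext (funext fun i => by
    rw [one_smul, mono_apply]; simp [signedPerm, show (1 : Equiv.Perm GolayPt).symm i = i from rfl])

theorem flip_congr {c d : Finset GolayPt} (h : c = d) {hc : c ∈ code} {hd : d ∈ code} :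
    mono (one_mem M24) hc = mono (one_mem M24) hd := by subst h; rfl

theorem flip_sq {c : Finset GolayPt} (hc : c ∈ code) : mono (one_mem M24) hc * mono (one_mem M24) hc = 1 := by
  rw [flip_mul, flip_congr (symmDiff_self c) (hd := empty_mem_code), flip_empty]

theorem flipC_inv {c : Finset GolayPt} (hc : c ∈ code) : (mono (one_mem M24) hc)⁻¹ = mono (one_mem M24) hc :=
  inv_eq_of_mul_eq_one_right (flip_sq hc)

/-- The sign changes. -/
noncomputable def flips : Subgroup Co0 where
  carrier := {g | ∃ (c : Finset GolayPt) (hc : c ∈ code), g = mono (one_mem M24) hc}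
  one_mem' := ⟨∅, empty_mem_code, flip_empty.symm⟩
  mul_mem' := by rintro _ _ ⟨c, hc, rfl⟩ ⟨d, hd, rfl⟩; exact ⟨_, _, flip_mul hc hd⟩
  inv_mem' := by rintro _ ⟨c, hc, rfl⟩; exact ⟨c, hc, flipC_inv hc⟩

theorem flips_comm {g h : Co0} (hg : g ∈ flips) (hh : h ∈ flips) : g * h = h * g := by
  obtain ⟨c, hc, rfl⟩ := hg
  obtain ⟨d, hd, rfl⟩ := hh
  rw [flip_mul, flip_mul, flip_congr (symmDiff_comm c d)]

theorem flips_le : flips ≤ monoGroup := by rintro _ ⟨c, hc, rfl⟩; exact mono_mem_monoGroup _ _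

/-- The coordinate permutations as automorphisms. -/
noncomputable def permEmb : M24 →* Co0 :=
  MonoidHom.mk' (fun σ => mono σ.2 empty_mem_code) fun σ τ => (mono_one_mul σ.2 τ.2).symm

theorem smul_mem_code {σ : Equiv.Perm GolayPt} (hσ : σ ∈ M24) {c : Finset GolayPt} (hc : c ∈ code) : σ • c ∈ code := by
  obtain ⟨w, hw, rfl⟩ := hc
  rw [← support₂_pw]
  exact support_mem_code (pw_mem_code hσ hw)

theorem permEmb_conj (σ : M24) {c : Finset GolayPt} (hc : c ∈ code) :
    permEmb σ * mono (one_mem M24) hc * (permEmb σ)⁻¹ = mono (one_mem M24) (smul_mem_code σ.2 hc) := by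
  rw [mul_inv_eq_iff_eq_mul]
  refine co0_ext fun v => Subtype.ext (funext fun i => ?_)
  simp only [permEmb, MonoidHom.mk'_apply, mul_smul, mono_apply, signedPerm, notMem_empty, if_false,
    show ∀ j, (1 : Equiv.Perm GolayPt).symm j = j from fun _ => rfl]
  have hiff : i ∈ (σ : Equiv.Perm GolayPt) • c ↔ (σ : Equiv.Perm GolayPt).symm i ∈ c := by
    rw [← Equiv.Perm.inv_def, ← Equiv.Perm.smul_def, inv_smul_mem_iff]
  by_cases h : (σ : Equiv.Perm GolayPt).symm i ∈ c <;> simp [h, hiff]

theorem monoGroup_cases {g : Co0} (hg : g ∈ monoGroup) : ∃ (σ : M24), ∃ e ∈ flips, g = e * permEmb σ := by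
  have hf : FixesFrame g := by rw [← SetLike.mem_coe, coe_monoGroup] at hg; exact hg
  obtain ⟨σ, c, hσ, hc, rfl⟩ := frame_is_monomial hf
  exact ⟨⟨σ, hσ⟩, _, ⟨c, hc, rfl⟩, mono_split hσ hc⟩

theorem permEmb_mem (σ : M24) : permEmb σ ∈ monoGroup := mono_mem_monoGroup _ _

theorem flips_normal {m x : Co0} (hm : m ∈ monoGroup) (hx : x ∈ flips) : m * x * m⁻¹ ∈ flips := by
  obtain ⟨σ, e, he, rfl⟩ := monoGroup_cases hm
  obtain ⟨c, hc, rfl⟩ := hx
  rw [show e * permEmb σ * mono (one_mem M24) hc * (e * permEmb σ)⁻¹ =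
    e * (permEmb σ * mono (one_mem M24) hc * (permEmb σ)⁻¹) * e⁻¹ by group, permEmb_conj]
  exact mul_mem (mul_mem he ⟨_, _, rfl⟩) (inv_mem he)

/-- A subgroup normalized by the permutations, with a sign change other than the trivial two, has all. -/
theorem flips_le_of_mem {N : Subgroup Co0} (hN : ∀ σ : M24, ∀ x ∈ N, permEmb σ * x * (permEmb σ)⁻¹ ∈ N)
    {c : Finset GolayPt} (hc : c ∈ code) (h0 : c ≠ ∅) (h1 : c ≠ univ) (hmem : mono (one_mem M24) hc ∈ N) :
    flips ≤ N := by
  let U : Submodule (ZMod 2) (GolayPt → ZMod 2) :=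
    { carrier := {w | ∃ h : support₂ w ∈ code, mono (one_mem M24) h ∈ N}
      zero_mem' := by
        have e : support₂ (0 : GolayPt → ZMod 2) = ∅ := by ext; simp [support₂]
        refine ⟨e ▸ empty_mem_code, ?_⟩
        rw [flip_congr e (hd := empty_mem_code), flip_empty]
        exact one_mem _
      add_mem' := by
        rintro v w ⟨hv, hv'⟩ ⟨hw, hw'⟩
        have e : support₂ (v + w) = symmDiff (support₂ v) (support₂ w) := by
          rw [← ind_support₂ v, ← ind_support₂ w, add_ind, support₂_ind, support₂_ind, support₂_ind]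
        refine ⟨e ▸ symmDiff_mem_supports hv hw, ?_⟩
        rw [flip_congr e (hd := symmDiff_mem_supports hv hw), ← flip_mul hv hw]
        exact mul_mem hv' hw'
      smul_mem' := by
        rintro a w hw
        rcases zmod2_cases a with rfl | rfl
        · rw [zero_smul]
          have e : support₂ (0 : GolayPt → ZMod 2) = ∅ := by ext; simp [support₂]
          refine ⟨e ▸ empty_mem_code, ?_⟩
          rw [flip_congr e (hd := empty_mem_code), flip_empty]
          exact one_mem _
        · rw [one_smul]; exact hw }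
  have hU : ∀ σ ∈ M24, ∀ w ∈ U, pw σ w ∈ U := by
    rintro σ hσ w ⟨hw, hw'⟩
    refine ⟨(support₂_pw σ w).symm ▸ smul_mem_code hσ hw, ?_⟩
    rw [flip_congr (support₂_pw σ w) (hd := smul_mem_code hσ hw), ← permEmb_conj ⟨σ, hσ⟩ hw]
    exact hN _ _ hw'
  have hcU : ind c ∈ U := ⟨(support₂_ind c).symm ▸ hc, by rw [flip_congr (support₂_ind c) (hd := hc)]; exact hmem⟩
  rcases code_le_or_small (U := U) hU with hle | hs
  · rintro _ ⟨d, hd, rfl⟩
    obtain ⟨_, hd'⟩ := hle (ind_mem_code.mpr hd)
    rwa [flip_congr (support₂_ind d) (hd := hd)] at hd'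
  · rcases hs _ hcU (ind_mem_code.mpr hc) with e | e
    · exact absurd (by rw [← support₂_ind c, e]; ext; simp [support₂]) h0
    · exact absurd (ind_inj (e.trans ind_univ.symm)) h1

theorem exists_commutator_octad : ∃ (A : Finset GolayPt) (hA : A ∈ code) (σ : M24),
    symmDiff ((σ : Equiv.Perm GolayPt) • A) A ≠ ∅ ∧ symmDiff ((σ : Equiv.Perm GolayPt) • A) A ≠ univ := by
  have h01 : (Finset.univ.filter fun p => tetIdx p ∈ ({0, 1} : Finset (Fin 6))) ∈ octads :=
    ⟨tetUnion_mem (by decide), by decide +kernel⟩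
  have h12 : (Finset.univ.filter fun p => tetIdx p ∈ ({1, 2} : Finset (Fin 6))) ∈ octads :=
    ⟨tetUnion_mem (by decide), by decide +kernel⟩
  obtain ⟨σ, hσ⟩ := M24_octads_transitive h01 h12
  refine ⟨_, h01.1, σ, ?_, ?_⟩ <;> rw [show (σ : Equiv.Perm GolayPt) • _ = _ from hσ] <;> decide +kernel

theorem normal_eq_top {K : Subgroup Co0} [K.Normal] (hK : flips ≤ K) : K = ⊤ := by
  obtain ⟨c, hc, hcodd⟩ := exists_odd_octad
  have hout : tetFlip hc.1 ∈ K := (inferInstance : K.Normal).conj_mem _ (hK ⟨c, hc.1, rfl⟩) tetAut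
  -- some conjugate of a sign change induces a permutation
  obtain ⟨d, hd, j, hj, hswap⟩ := exists_swap
  have hx : tetFlip hd ∈ K := (inferInstance : K.Normal).conj_mem _ (hK ⟨d, hd, rfl⟩) tetAut
  obtain ⟨r, hr, hr8⟩ := frame_transitive j false
  have hrM := mem_monoGroup_of_fixes hr
  have hfix : (r⁻¹ * tetFlip hd) • e8 pN = e8 pN := by
    rw [mul_smul, inv_smul_eq_iff, hr8, hswap]; rfl
  have hxM : tetFlip hd ∈ monoGroup := by
    have := mul_mem hrM (mem_monoGroup_of_fixes (stab_fixesFrame hfix))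
    rwa [mul_inv_cancel_left] at this
  obtain ⟨σ, e, he, hxe⟩ := monoGroup_cases hxM
  have hσ1 : σ ≠ 1 := by
    rintro rfl
    rw [map_one, mul_one] at hxe
    obtain ⟨c', hc', rfl⟩ := he
    rw [hxe] at hswap
    rcases flip_lines hc' pN with h | h <;> rw [h] at hswap <;>
      have := congrFun (congrArg Subtype.val hswap) j <;> simp [e8, hj] at this
  have hσK : permEmb σ ∈ K := by
    have := mul_mem (inv_mem (hK he)) hx
    rwa [hxe, inv_mul_cancel_left] at this
  haveI := isSimple_M24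
  have htop : K.comap permEmb = ⊤ :=
    ((inferInstance : (K.comap permEmb).Normal).eq_bot_or_eq_top).resolve_left fun h => hσ1 (by
      have : σ ∈ K.comap permEmb := hσK
      rwa [h, Subgroup.mem_bot] at this)
  have hM : monoGroup ≤ K := fun g hg => by
    obtain ⟨τ, e', he', rfl⟩ := monoGroup_cases hg
    exact mul_mem (hK he') (htop.ge (Subgroup.mem_top τ))
  rcases hM.eq_or_lt with h | h
  · exact absurd (h ▸ hout) (tetFlip_outside hc.1 hcodd)
  · exact isCoatom_monoGroup.2 K h

theorem commutator_co0 : commutator Co0 = ⊤ := by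
  obtain ⟨A, hA, σ, h0, h1⟩ := exists_commutator_octad
  refine normal_eq_top (flips_le_of_mem (fun τ x hx => Subgroup.Normal.conj_mem inferInstance x hx _)
    (symmDiff_mem_supports (smul_mem_code σ.2 hA) hA) h0 h1 ?_)
  rw [← flip_mul (smul_mem_code σ.2 hA) hA, ← permEmb_conj σ hA]
  nth_rw 2 [← flipC_inv hA]
  exact Subgroup.commutator_mem_commutator (Subgroup.mem_top _) (Subgroup.mem_top _)

theorem core_le_center {g : Co0} (hg : ∀ h : Co0, h * g * h⁻¹ ∈ monoGroup) : g ∈ Subgroup.center Co0 := by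
  set N := monoGroup.normalCore with hNdef
  have hgN : g ∈ N := hg
  have hNle : N ≤ monoGroup := Subgroup.normalCore_le _
  have hnot : ¬ flips ≤ N := by
    intro h
    obtain ⟨c, hc, hcodd⟩ := exists_odd_octad
    exact tetFlip_outside hc.1 hcodd (hNle ((inferInstance : N.Normal).conj_mem _ (h ⟨c, hc.1, rfl⟩) tetAut))
  have hsmall : ∀ c, ∀ hc : c ∈ code, mono (one_mem M24) hc ∈ N → c = ∅ ∨ c = univ := by
    intro c hc h
    by_contra hne
    rw [not_or] at hne
    exact hnot (flips_le_of_mem (fun τ x hx => (inferInstance : N.Normal).conj_mem x hx _) hc hne.1 hne.2 h)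
  obtain ⟨σ, e, he, rfl⟩ := monoGroup_cases (hNle hgN)
  by_cases hσ : σ = 1
  · obtain ⟨c, hc, rfl⟩ := he
    subst hσ
    rw [map_one, mul_one] at hgN ⊢
    rcases hsmall c hc hgN with rfl | rfl
    · rw [flip_empty]; exact one_mem _
    · exact Subgroup.mem_center_iff.mpr fun h => (negOne_comm h).symm
  exfalso
  -- all permutations occur, so some commutator is a forbidden sign change
  let S : Subgroup M24 := (N ⊔ flips).comap permEmb
  haveI hS : S.Normal := ⟨fun x hx τ => by
    show permEmb (τ * x * τ⁻¹) ∈ N ⊔ flips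
    rw [map_mul, map_mul, map_inv]
    obtain ⟨n, hn, f, hf, hnf⟩ := Subgroup.mem_sup_of_normal_left.mp (show permEmb x ∈ N ⊔ flips from hx)
    rw [← hnf, show permEmb τ * (n * f) * (permEmb τ)⁻¹ =
      (permEmb τ * n * (permEmb τ)⁻¹) * (permEmb τ * f * (permEmb τ)⁻¹) by group]
    exact Subgroup.mul_mem_sup ((inferInstance : N.Normal).conj_mem n hn _) (flips_normal (permEmb_mem τ) hf)⟩
  have hσS : σ ∈ S := by
    show permEmb σ ∈ N ⊔ flips
    rw [show permEmb σ = e⁻¹ * (e * permEmb σ) by group]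
    exact mul_mem (Subgroup.mem_sup_right (inv_mem he)) (Subgroup.mem_sup_left hgN)
  haveI := isSimple_M24
  have htop : S = ⊤ := (hS.eq_bot_or_eq_top).resolve_left fun h => hσ (by rwa [h, Subgroup.mem_bot] at hσS)
  obtain ⟨A, hA, τ, h0, h1⟩ := exists_commutator_octad
  obtain ⟨n, hn, f, hf, hnf⟩ := Subgroup.mem_sup_of_normal_left.mp
    (show permEmb τ ∈ N ⊔ flips from htop.ge (Subgroup.mem_top τ))
  have hconj : n * mono (one_mem M24) hA * n⁻¹ = mono (one_mem M24) (smul_mem_code τ.2 hA) := by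
    rw [← permEmb_conj τ hA, ← hnf, show n * f * mono (one_mem M24) hA * (n * f)⁻¹ =
      n * (f * mono (one_mem M24) hA * f⁻¹) * n⁻¹ by group, flips_comm hf ⟨A, hA, rfl⟩, mul_inv_cancel_right]
  rcases hsmall _ (symmDiff_mem_supports (smul_mem_code τ.2 hA) hA) (by
    rw [← flip_mul (smul_mem_code τ.2 hA) hA, ← hconj]
    nth_rw 2 [← flipC_inv hA]
    rw [show n * mono (one_mem M24) hA * n⁻¹ * (mono (one_mem M24) hA)⁻¹ =
      n * (mono (one_mem M24) hA * n⁻¹ * (mono (one_mem M24) hA)⁻¹) by group]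
    exact mul_mem hn ((inferInstance : N.Normal).conj_mem _ (inv_mem hn) _)) with h | h
  · exact h0 h
  · exact h1 h

/-- The conjugate of the sign changes attached to a coset of the monomial group. -/
noncomputable def cosetFlips (x : Co0 ⧸ monoGroup) : Subgroup Co0 := flips.map (MulAut.conj x.out).toMonoidHom

theorem cosetFlips_mk (g : Co0) : cosetFlips (QuotientGroup.mk g) = flips.map (MulAut.conj g).toMonoidHom := by
  obtain ⟨m, hm⟩ := QuotientGroup.mk_out_eq_mul monoGroup g
  unfold cosetFlips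
  rw [hm]
  ext y
  simp only [Subgroup.mem_map, MulEquiv.coe_toMonoidHom, MulAut.conj_apply]
  constructor
  · rintro ⟨x, hx, rfl⟩
    exact ⟨(m : Co0) * x * (m : Co0)⁻¹, flips_normal m.2 hx, by group⟩
  · rintro ⟨x, hx, rfl⟩
    exact ⟨(m : Co0)⁻¹ * x * (m : Co0)⁻¹⁻¹, flips_normal (inv_mem m.2) hx, by group⟩

/-- The Iwasawa structure on the cosets of the monomial group. -/
noncomputable def co0Iwasawa : MulAction.IwasawaStructure Co0 (Co0 ⧸ monoGroup) where
  T := cosetFlips
  is_comm x := ⟨⟨fun a b => by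
    obtain ⟨_, u, hu, rfl⟩ := a
    obtain ⟨_, v, hv, rfl⟩ := b
    exact Subtype.ext (by simp only [Subgroup.coe_mul, ← map_mul, flips_comm hu hv])⟩⟩
  is_conj g x := by
    induction x using QuotientGroup.induction_on with
    | H h =>
      rw [show g • (QuotientGroup.mk h : Co0 ⧸ monoGroup) = QuotientGroup.mk (g * h) from rfl, cosetFlips_mk,
        cosetFlips_mk, Subgroup.pointwise_smul_def]
      show _ = (flips.map (MulAut.conj h).toMonoidHom).map (MulAut.conj g).toMonoidHom
      rw [Subgroup.map_map]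
      congr 1
  is_generator := by
    refine top_le_iff.mp ((normal_eq_top Subgroup.le_normalClosure).ge.trans
      ((Subgroup.closure_le _).mpr fun y hy => ?_))
    obtain ⟨x, hx, hc⟩ := Group.mem_conjugatesOfSet_iff.mp hy
    obtain ⟨h, rfl⟩ := isConj_iff.mp hc
    exact Subgroup.mem_iSup_of_mem (QuotientGroup.mk h : Co0 ⧸ monoGroup)
      (by rw [cosetFlips_mk]; exact ⟨x, hx, rfl⟩)

theorem isCo1_quotient : IsCo1 (Co0 ⧸ Subgroup.center Co0) := by
  haveI : Nontrivial (Co0 ⧸ monoGroup) := QuotientGroup.nontrivial_iff.mpr isCoatom_monoGroup.1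
  haveI : MulAction.IsPreprimitive Co0 (Co0 ⧸ monoGroup) := by
    rw [← MulAction.isCoatom_stabilizer_iff_preprimitive Co0 (QuotientGroup.mk 1 : Co0 ⧸ monoGroup),
      MulAction.stabilizer_quotient]
    exact isCoatom_monoGroup
  have hne : Subgroup.center Co0 ≠ ⊤ := fun h => by
    have := card_center
    rw [h, Subgroup.card_top, card_co0] at this
    norm_num at this
  refine ⟨Cfsg.Lib.Classical.isSimpleGroup_quotient_of_iwasawa co0Iwasawa commutator_co0 _ (fun g hg => ?_) hne, ?_⟩
  · refine core_le_center fun h => ?_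
    have h1 : g • (QuotientGroup.mk h⁻¹ : Co0 ⧸ monoGroup) = QuotientGroup.mk h⁻¹ := hg _
    rw [MulAction.Quotient.smul_mk, QuotientGroup.eq] at h1
    have := inv_mem h1
    simpa [smul_eq_mul, mul_assoc] using this
  · have h := Subgroup.card_eq_card_quotient_mul_card_subgroup (Subgroup.center Co0)
    rw [card_co0, card_center] at h
    omega

end Cfsg.Lib.Leech
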