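import Mathlib

/-!
Counting tuples with a given total weight by evaluating a generating polynomial at a large number.
-/

namespace Cfsg.Lib.Leech

open Finset

theorem digit_sum {B : ℕ} : ∀ (M : ℕ) (a : ℕ → ℕ), (∀ n, a n < B) → ∀ k,
    (∑ n ∈ range M, a n * B ^ n) / B ^ k % B = if k < M then a k else 0 := by
  intro M
  induction M with
  | zero => intro a _ k; simp
  | succ M ih =>
    intro a ha k
    have hB : 0 < B := (Nat.zero_le _).trans_lt (ha 0)
    have e : ∑ n ∈ range (M + 1), a n * B ^ n = a 0 + B * ∑ n ∈ range M, a (n + 1) * B ^ n := by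
      rw [sum_range_succ', pow_zero, mul_one, add_comm, mul_sum]
      congr 1
      exact sum_congr rfl fun n _ => by ring
    rw [e]
    cases k with
    | zero => simp [Nat.add_mul_mod_self_left, Nat.mod_eq_of_lt (ha 0)]
    | succ k =>
      rw [pow_succ', ← Nat.div_div_eq_div_mul, Nat.add_mul_div_left _ _ hB, Nat.div_eq_of_lt (ha 0), zero_add,
        ih (fun n => a (n + 1)) (fun n => ha _) k]
      simp

variable {α : Type*} [Fintype α] [DecidableEq α]

/-- The number of tuples of a given total weight is a digit of the product of the weight series. -/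
theorem card_weight_eq (t : α → Finset ℤ) (e : α → ℤ → ℕ) {B : ℕ} (hB : ∏ i, (t i).card < B) (n : ℕ) :
    ((Fintype.piFinset t).filter fun x => ∑ i, e i (x i) = n).card
      = (∏ i, ∑ v ∈ t i, B ^ e i v) / B ^ n % B := by
  have hprod : ∏ i, ∑ v ∈ t i, B ^ e i v = ∑ x ∈ Fintype.piFinset t, B ^ (∑ i, e i (x i)) := by
    rw [prod_univ_sum]
    exact sum_congr rfl fun x _ => prod_pow_eq_pow_sum _ _ _
  set M := ∑ i, ((t i).sup (e i)) + n + 1 with hM
  have hlt : ∀ x ∈ Fintype.piFinset t, ∑ i, e i (x i) ∈ range M := fun x hx => by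
    rw [mem_range, hM]
    have : ∑ i, e i (x i) ≤ ∑ i, (t i).sup (e i) :=
      sum_le_sum fun i _ => le_sup (Fintype.mem_piFinset.mp hx i)
    omega
  have hfib : ∑ x ∈ Fintype.piFinset t, B ^ (∑ i, e i (x i))
      = ∑ k ∈ range M, ((Fintype.piFinset t).filter fun x => ∑ i, e i (x i) = k).card * B ^ k := by
    rw [← sum_fiberwise_of_maps_to hlt]
    refine sum_congr rfl fun k _ => ?_
    rw [sum_congr rfl fun x hx => by rw [(mem_filter.mp hx).2], sum_const, smul_eq_mul]
  rw [hprod, hfib, digit_sum M _ (fun k => lt_of_le_of_lt ((card_filter_le _ _).trans (Fintype.card_piFinset t).le) hB) n,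
    if_pos (by omega)]

/-- The weight series of a list of values. -/
def series (B : ℕ) (e : ℤ → ℕ) (l : List ℤ) : ℕ := (l.map fun v => B ^ e v).sum

/-- A weight and a parity in one exponent. -/
def wq (w q : ℤ → ℕ) (v : ℤ) : ℕ := w v * 32 + q v

/-- The digits with a given parity of the second weight, at a total of the first. -/
def parityDigits (B P N par : ℕ) : ℕ :=
  ((List.range 32).map fun q => bif q % 2 == par then P / B ^ (N * 32 + q) % B else 0).sum

/-- Tuples with a given weight and parity, for two classes of coordinates. -/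
theorem card_two_class (c : Finset α) (hα : Fintype.card α = 24) (l₁ l₀ : List ℤ) (h₁ : l₁.Nodup) (h₀ : l₀.Nodup)
    (w₁ w₀ q₁ q₀ : ℤ → ℕ) (hq₁ : ∀ v, q₁ v ≤ 1) (hq₀ : ∀ v, q₀ v ≤ 1) {B : ℕ}
    (hB : (l₁.length + l₀.length + 1) ^ 24 < B) (N par : ℕ) :
    ((Fintype.piFinset fun i => if i ∈ c then l₁.toFinset else l₀.toFinset).filter fun x =>
        (∑ i, (if i ∈ c then w₁ else w₀) (x i)) = N ∧ (∑ i, (if i ∈ c then q₁ else q₀) (x i)) % 2 = par).card
      = parityDigits B (series B (wq w₁ q₁) l₁ ^ c.card * series B (wq w₀ q₀) l₀ ^ (24 - c.card)) N par := by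
  set t : α → Finset ℤ := fun i => if i ∈ c then l₁.toFinset else l₀.toFinset with ht
  set e : α → ℤ → ℕ := fun i => if i ∈ c then wq w₁ q₁ else wq w₀ q₀ with he
  have hprod : ∏ i, ∑ v ∈ t i, B ^ e i v
      = series B (wq w₁ q₁) l₁ ^ c.card * series B (wq w₀ q₀) l₀ ^ (24 - c.card) := by
    have ha : ∀ i ∈ c, ∑ v ∈ t i, B ^ e i v = series B (wq w₁ q₁) l₁ := fun i hi => by
      simp only [ht, he, hi, if_true, series, List.sum_toFinset _ h₁]
    have hb : ∀ i ∈ cᶜ, ∑ v ∈ t i, B ^ e i v = series B (wq w₀ q₀) l₀ := fun i hi => by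
      simp only [ht, he, mem_compl.mp hi, if_false, series, List.sum_toFinset _ h₀]
    rw [← prod_mul_prod_compl c, prod_congr rfl ha, prod_congr rfl hb, prod_const, prod_const, card_compl, hα]
  have hbound : ∏ i, (t i).card < B := by
    refine lt_of_le_of_lt ?_ hB
    calc ∏ i, (t i).card ≤ ∏ _i : α, (l₁.length + l₀.length + 1) := prod_le_prod' fun i _ => by
          simp only [ht]
          split
          · have := List.toFinset_card_le l₁; omega
          · have := List.toFinset_card_le l₀; omega
      _ = (l₁.length + l₀.length + 1) ^ 24 := by rw [prod_const, card_univ, hα]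
  have hsum : ∀ x : α → ℤ, ∑ i, e i (x i) = 32 * (∑ i, (if i ∈ c then w₁ else w₀) (x i))
      + ∑ i, (if i ∈ c then q₁ else q₀) (x i) := fun x => by
    rw [mul_sum, ← sum_add_distrib]
    refine sum_congr rfl fun i _ => ?_
    simp only [he]; split <;> simp [wq, mul_comm]
  have hq : ∀ x : α → ℤ, ∑ i, (if i ∈ c then q₁ else q₀) (x i) < 32 := fun x => by
    have : ∑ i, (if i ∈ c then q₁ else q₀) (x i) ≤ ∑ _i : α, 1 := sum_le_sum fun i _ => by
      split
      · exact hq₁ _
      · exact hq₀ _
    rw [sum_const, card_univ, hα] at this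
    simp at this
    omega
  rw [parityDigits, ← hprod]
  have hq' : ∀ x ∈ ((Fintype.piFinset t).filter fun x =>
      (∑ i, (if i ∈ c then w₁ else w₀) (x i)) = N ∧ (∑ i, (if i ∈ c then q₁ else q₀) (x i)) % 2 = par),
      (∑ i, (if i ∈ c then q₁ else q₀) (x i)) ∈ range 32 := fun x _ => mem_range.mpr (hq x)
  rw [card_eq_sum_card_fiberwise hq',
    show (Finset.range 32) = (List.range 32).toFinset by ext; simp, List.sum_toFinset _ List.nodup_range]
  congr 1
  refine List.map_congr_left fun q hq32 => ?_
  rw [filter_filter]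
  by_cases hp : q % 2 = par
  · rw [show (q % 2 == par) = true from beq_iff_eq.mpr hp, cond_true, ← card_weight_eq t e hbound (N * 32 + q)]
    congr 1
    ext x
    simp only [mem_filter]
    refine and_congr_right fun _ => ?_
    rw [hsum x]
    have := hq x
    have := List.mem_range.mp hq32
    omega
  · rw [show (q % 2 == par) = false from beq_eq_false_iff_ne.mpr hp, cond_false, card_eq_zero, filter_eq_empty_iff]
    intro x _ h
    exact hp (h.2 ▸ h.1.2)

end Cfsg.Lib.Leech
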