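import Cfsg.Agent.Leech.Basic
import Cfsg.Agent.Leech.GenCount

/-!
Counting the short vectors of the lattice by shape.
-/

namespace Cfsg.Lib.Leech

open Cfsg Cfsg.Lib.Golay Finset

/-- The code as a finite set. -/
noncomputable def codeFin : Finset (Finset GolayPt) := (Set.toFinite code).toFinset

theorem mem_codeFin {c : Finset GolayPt} : c ∈ codeFin ↔ c ∈ code := Set.Finite.mem_toFinset _

theorem sum_code (f : ℕ → ℕ) : ∑ c ∈ codeFin, f c.card = f 0 + 759 * f 8 + 2576 * f 12 + 759 * f 16 + f 24 := by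
  have h : ∀ k, (codeFin.filter fun c => c.card = k).card = (codeMasks.filter fun m => pc m == k).length := by
    intro k
    rw [← ncard_supports_filter (fun s => s.card = k) (fun m => pc m == k) (by simp [pc_eq_card]),
      ← Set.ncard_coe_finset]
    congr 1
    ext c; simp [mem_codeFin]
  rw [← sum_fiberwise_of_maps_to (t := ({0, 8, 12, 16, 24} : Finset ℕ)) (g := Finset.card) (fun c hc => by
    rcases card_support_mem (mem_codeFin.mp hc) with e | e | e | e | e <;> rw [e] <;> decide)]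
  have hk : ∀ k, ∑ c ∈ codeFin.filter (fun c => c.card = k), f c.card
      = (codeMasks.filter fun m => pc m == k).length * f k := fun k => by
    rw [sum_congr rfl fun c hc => by rw [(mem_filter.mp hc).2], sum_const, smul_eq_mul, h]
  have hd : (codeMasks.filter fun m => pc m == 0).length = 1 ∧ (codeMasks.filter fun m => pc m == 8).length = 759 ∧
      (codeMasks.filter fun m => pc m == 12).length = 2576 ∧ (codeMasks.filter fun m => pc m == 16).length = 759 ∧
      (codeMasks.filter fun m => pc m == 24).length = 1 := by decide +kernel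
  simp only [sum_insert (show (0 : ℕ) ∉ ({8, 12, 16, 24} : Finset ℕ) by decide),
    sum_insert (show (8 : ℕ) ∉ ({12, 16, 24} : Finset ℕ) by decide),
    sum_insert (show (12 : ℕ) ∉ ({16, 24} : Finset ℕ) by decide),
    sum_insert (show (16 : ℕ) ∉ ({24} : Finset ℕ) by decide), sum_singleton, hk, hd]
  ring

/-- Weight of an even value. -/
def evenW (v : ℤ) : ℕ := (v * v / 4).toNat

/-- Parity of an even value in a word. -/
def evenQ1 (v : ℤ) : ℕ := ((v - 2) / 4 % 2).toNat

/-- Parity of an even value outside a word. -/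
def evenQ0 (v : ℤ) : ℕ := (v / 4 % 2).toNat

/-- Weight of an odd value. -/
def oddW (v : ℤ) : ℕ := ((v * v - 1) / 8).toNat

/-- Parity of a value congruent to one modulo four. -/
def oddQ (v : ℤ) : ℕ := ((v - 1) / 4 % 2).toNat

/-- A base beyond all counts. -/
def base : ℕ := 2 ^ 128

/-- Even vectors on one word with values in a list. -/
def evenTerm (S : List ℤ) (N k : ℕ) : ℕ :=
  parityDigits base (series base (wq evenW evenQ1) (S.filter fun v => v % 4 == 2) ^ k *
    series base (wq evenW evenQ0) (S.filter fun v => v % 4 == 0) ^ (24 - k)) N 0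

/-- Even vectors with values in a list. -/
def evenCount (S : List ℤ) (N : ℕ) : ℕ :=
  evenTerm S N 0 + 759 * evenTerm S N 8 + 2576 * evenTerm S N 12 + 759 * evenTerm S N 16 + evenTerm S N 24

/-- Odd vectors with values in a symmetric list. -/
def oddCount (S : List ℤ) (N : ℕ) : ℕ :=
  4096 * parityDigits base (series base (wq oddW oddQ) (S.filter fun v => v % 4 == 1) ^ 24) N 1

theorem mem_toFinset_mod (S : List ℤ) (r v : ℤ) : v ∈ (S.filter fun v => v % 4 == r).toFinset ↔ v ∈ S ∧ v % 4 = r := by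
  simp [List.mem_filter]

theorem sum_mod_two {α : Type*} [Fintype α] (f : α → ℕ) (g : α → ℤ) (h : ∀ i, (f i : ℤ) % 2 = g i % 2) :
    ((∑ i, f i : ℕ) : ℤ) % 2 = (∑ i, g i) % 2 := by
  rw [Finset.sum_int_mod univ 2 g, Nat.cast_sum, Finset.sum_int_mod univ 2 (fun i => (f i : ℤ))]
  simp only [h]

/-- The even vectors on a word. -/
theorem even_iff {S : List ℤ} {N : ℕ} {c : Finset GolayPt} (hc : c ∈ code) {x : GolayPt → ℤ} :
    (x ∈ (Fintype.piFinset fun i => if i ∈ c then (S.filter fun v => v % 4 == 2).toFinset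
        else (S.filter fun v => v % 4 == 0).toFinset) ∧
      (∑ i, (if i ∈ c then evenW else evenW) (x i)) = N ∧ (∑ i, (if i ∈ c then evenQ1 else evenQ0) (x i)) % 2 = 0) ↔
    (x ∈ leechLattice ∧ Cfsg.sqNorm x = 4 * N ∧ (∀ i, x i ∈ S ∧ x i % 2 = 0) ∧ ∀ i, i ∈ c ↔ x i % 4 = 2) := by
  have hmem : x ∈ (Fintype.piFinset fun i => if i ∈ c then (S.filter fun v => v % 4 == 2).toFinset
      else (S.filter fun v => v % 4 == 0).toFinset) ↔ ∀ i, x i ∈ S ∧ x i % 4 = 2 * indZ c i := by
    rw [Fintype.mem_piFinset]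
    refine forall_congr' fun i => ?_
    simp only [indZ]
    split <;> simp [mem_toFinset_mod]
  have hnorm : (∀ i, x i % 2 = 0) → ((∑ i, (if i ∈ c then evenW else evenW) (x i)) = N ↔ Cfsg.sqNorm x = 4 * N) := by
    intro he
    have e : Cfsg.sqNorm x = 4 * ((∑ i, (if i ∈ c then evenW else evenW) (x i) : ℕ) : ℤ) := by
      unfold Cfsg.sqNorm
      push_cast
      rw [mul_sum]
      refine sum_congr rfl fun i _ => ?_
      obtain ⟨k, hk⟩ : ∃ k, x i = 2 * k := ⟨x i / 2, by have := he i; omega⟩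
      simp only [ite_self, evenW, hk]
      rw [show 2 * k * (2 * k) / 4 = k * k by rw [show 2 * k * (2 * k) = 4 * (k * k) by ring]; omega,
        Int.toNat_of_nonneg (mul_self_nonneg k)]
      ring
    rw [e]
    omega
  -- the second coordinates
  have hpar : (∀ i, x i % 4 = 2 * indZ c i) → ((∑ i, (if i ∈ c then evenQ1 else evenQ0) (x i)) % 2 = 0 ↔
      (∑ i, (x i - 2 * indZ c i) / 4) % 2 = 0) := by
    intro h4
    have e := sum_mod_two (fun i => (if i ∈ c then evenQ1 else evenQ0) (x i)) (fun i => (x i - 2 * indZ c i) / 4)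
      (fun i => by by_cases h : i ∈ c <;> simp only [indZ, h, if_true, if_false, evenQ1, evenQ0] <;> omega)
    omega
  constructor
  · rintro ⟨h1, h2, h3⟩
    have h1' := hmem.mp h1
    have h4 : ∀ i, x i % 4 = 2 * indZ c i := fun i => (h1' i).2
    have he : ∀ i, x i % 2 = 0 := fun i => by have := h4 i; simp only [indZ] at this; split at this <;> omega
    refine ⟨mem_lattice.mpr ⟨0, c, fun i => (x i - 2 * indZ c i) / 4, hc, fun i => ?_, ?_⟩, (hnorm he).mp h2,
      fun i => ⟨(h1' i).1, he i⟩, fun i => ?_⟩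
    · have := h4 i
      by_cases h : i ∈ c <;> simp only [indZ, h, if_true, if_false] at this ⊢ <;> omega
    · exact (hpar h4).mp h3
    · have := h4 i; simp only [indZ] at this; split at this <;> simp_all
  · rintro ⟨hL, h2, h3, hcl⟩
    have h4 : ∀ i, x i % 4 = 2 * indZ c i := fun i => by
      have := (h3 i).2
      simp only [indZ]
      split
      · rename_i h; have := (hcl i).mp h; omega
      · rename_i h; have : x i % 4 ≠ 2 := fun e => h ((hcl i).mpr e); omega
    refine ⟨hmem.mpr fun i => ⟨(h3 i).1, h4 i⟩, (hnorm fun i => (h3 i).2).mpr h2, (hpar h4).mpr ?_⟩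
    obtain ⟨m, d, z, hd⟩ := mem_lattice.mp hL
    have hm : m % 2 = 0 := by
      have := (h3 none).2
      rw [hd.hx none] at this
      omega
    rcases Int.emod_two_eq (m / 2) with e | e
    · have hdc : ∀ i, indZ c i = indZ d i := fun i => by
        have := h4 i; rw [hd.hx i] at this
        simp only [indZ] at this ⊢
        split_ifs at this ⊢ <;> omega
      have e' : ∀ i, (x i - 2 * indZ c i) / 4 = m / 4 + z i := fun i => by
        rw [hdc i, hd.hx i]; omega
      rw [sum_congr rfl fun i _ => e' i, sum_add_distrib, sum_const, card_pts, nsmul_eq_mul]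
      have := hd.hz
      push_cast
      omega
    · have hdc : ∀ i, indZ c i = 1 - indZ d i := fun i => by
        have := h4 i; rw [hd.hx i] at this
        simp only [indZ] at this ⊢
        split_ifs at this ⊢ <;> omega
      have e' : ∀ i, (x i - 2 * indZ c i) / 4 = (m - 2) / 4 + indZ d i + z i := fun i => by
        rw [hdc i, hd.hx i]; omega
      obtain ⟨a, ha⟩ := four_dvd_card hd.hc
      rw [sum_congr rfl fun i _ => e' i, sum_add_distrib, sum_add_distrib, sum_const, card_pts, nsmul_eq_mul,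
        card_filter_indZ, ha]
      have := hd.hz
      push_cast
      omega

theorem evenQ_le : (∀ v, evenQ1 v ≤ 1) ∧ (∀ v, evenQ0 v ≤ 1) ∧ ∀ v, oddQ v ≤ 1 :=
  ⟨fun v => by simp only [evenQ1]; omega, fun v => by simp only [evenQ0]; omega, fun v => by simp only [oddQ]; omega⟩

theorem base_bound {a b : ℕ} (h : a + b + 1 ≤ 20) : (a + b + 1) ^ 24 < base :=
  lt_of_le_of_lt (Nat.pow_le_pow_left h 24) (by norm_num [base])

/-- The even vectors of a given norm with values in a list. -/
theorem ncard_even (S : List ℤ) (hS : S.Nodup) (hlen : S.length ≤ 9) (N : ℕ) :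
    {x : GolayPt → ℤ | x ∈ leechLattice ∧ Cfsg.sqNorm x = 4 * N ∧ ∀ i, x i ∈ S ∧ x i % 2 = 0}.ncard
      = evenCount S N := by
  classical
  let F : Finset GolayPt → Finset (GolayPt → ℤ) := fun c =>
    (Fintype.piFinset fun i => if i ∈ c then (S.filter fun v => v % 4 == 2).toFinset
      else (S.filter fun v => v % 4 == 0).toFinset).filter fun x =>
        (∑ i, (if i ∈ c then evenW else evenW) (x i)) = N ∧ (∑ i, (if i ∈ c then evenQ1 else evenQ0) (x i)) % 2 = 0
  have hset : {x : GolayPt → ℤ | x ∈ leechLattice ∧ Cfsg.sqNorm x = 4 * N ∧ ∀ i, x i ∈ S ∧ x i % 2 = 0}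
      = (codeFin.biUnion F : Set (GolayPt → ℤ)) := by
    ext x
    simp only [Set.mem_setOf_eq, mem_coe, mem_biUnion, F, mem_filter, mem_codeFin]
    constructor
    · rintro ⟨hL, hN, hS'⟩
      have hc : (univ.filter fun i => x i % 4 = 2) ∈ code := by
        obtain ⟨m, -, -, hk⟩ : x ∈ leechSet := by rw [← SetLike.mem_coe, leechLattice_eq] at hL; exact hL
        exact hk 2
      exact ⟨_, hc, (even_iff hc).mpr ⟨hL, hN, hS', fun i => by simp⟩⟩
    · rintro ⟨c, hc, h⟩
      obtain ⟨hL, hN, hS', -⟩ := (even_iff hc).mp h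
      exact ⟨hL, hN, hS'⟩
  rw [hset, Set.ncard_coe_finset, card_biUnion, sum_congr rfl fun c _ => show (F c).card = evenTerm S N c.card from
    card_two_class c (by rw [Fintype.card_option, ZMod.card]) _ _ (hS.filter _) (hS.filter _) evenW evenW evenQ1 evenQ0
      evenQ_le.1 evenQ_le.2.1 (base_bound (by
        have := List.length_filter_le (fun v : ℤ => v % 4 == 2) S
        have := List.length_filter_le (fun v : ℤ => v % 4 == 0) S
        omega)) N 0, sum_code (evenTerm S N)]
  · rfl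
  · intro c hc c' hc' hne
    rw [Function.onFun, disjoint_left]
    intro x hx hx'
    simp only [F, mem_filter] at hx hx'
    refine hne (ext fun i => ?_)
    rw [((even_iff (mem_codeFin.mp hc)).mp hx).2.2.2 i, ((even_iff (mem_codeFin.mp hc')).mp hx').2.2.2 i]

theorem odd_iff {S : List ℤ} {N : ℕ} {x : GolayPt → ℤ} :
    (x ∈ (Fintype.piFinset fun i => if i ∈ (univ : Finset GolayPt) then (S.filter fun v => v % 4 == 1).toFinset
        else (S.filter fun v => v % 4 == 1).toFinset) ∧
      (∑ i, (if i ∈ (univ : Finset GolayPt) then oddW else oddW) (x i)) = N ∧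
      (∑ i, (if i ∈ (univ : Finset GolayPt) then oddQ else oddQ) (x i)) % 2 = 1) ↔
    (x ∈ leechLattice ∧ Cfsg.sqNorm x = 8 * N + 24 ∧ ∀ i, x i ∈ S ∧ x i % 4 = 1) := by
  simp only [ite_self, Fintype.mem_piFinset, mem_toFinset_mod]
  refine ⟨fun ⟨h1, h2, h3⟩ => ⟨?_, ?_, h1⟩, fun ⟨hL, h2, h1⟩ => ⟨h1, ?_, ?_⟩⟩
  all_goals
    have hq : ((∑ i, oddQ (x i) : ℕ) : ℤ) % 2 = (∑ i, (x i - 1) / 4) % 2 :=
      sum_mod_two (fun i => oddQ (x i)) _ fun i => by simp only [oddQ]; omega
  all_goals
    have hw : Cfsg.sqNorm x = 8 * ((∑ i, oddW (x i) : ℕ) : ℤ) + 24 := by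
      unfold Cfsg.sqNorm
      push_cast
      rw [mul_sum, show (24 : ℤ) = ∑ _i : GolayPt, (1 : ℤ) by rw [sum_const, card_pts]; norm_num, ← sum_add_distrib]
      refine sum_congr rfl fun i _ => ?_
      obtain ⟨k, hk⟩ : ∃ k, x i = 4 * k + 1 := ⟨x i / 4, by have := (h1 i).2; omega⟩
      simp only [oddW, hk]
      rw [show ((4 * k + 1) * (4 * k + 1) - 1) / 8 = k * (2 * k + 1) by
        rw [show (4 * k + 1) * (4 * k + 1) - 1 = 8 * (k * (2 * k + 1)) by ring]; omega,
        Int.toNat_of_nonneg (by rcases le_or_gt 0 k with h | h <;> nlinarith)]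
      ring
  · refine mem_lattice.mpr ⟨1, ∅, fun i => (x i - 1) / 4, empty_mem_code, fun i => ?_, by omega⟩
    have := (h1 i).2
    simp [indZ]; omega
  · omega
  · omega
  · obtain ⟨m, d, z, hd⟩ := mem_lattice.mp hL
    have hm : m % 2 = 1 := by
      have := (h1 none).2
      rw [hd.hx none] at this
      omega
    rcases Int.emod_two_eq ((m - 1) / 2) with e | e
    · have hd0 : ∀ i, indZ d i = 0 := fun i => by
        have := (h1 i).2; rw [hd.hx i] at this
        simp only [indZ] at this ⊢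
        split_ifs at this ⊢ <;> omega
      have e' : ∀ i, (x i - 1) / 4 = (m - 1) / 4 + z i := fun i => by
        rw [hd.hx i, hd0 i]; omega
      rw [sum_congr rfl fun i _ => e' i, sum_add_distrib, sum_const, card_pts, nsmul_eq_mul] at hq
      have := hd.hz
      simp only [Nat.cast_ofNat] at hq
      omega
    · have hd1 : ∀ i, indZ d i = 1 := fun i => by
        have := (h1 i).2; rw [hd.hx i] at this
        simp only [indZ] at this ⊢
        split_ifs at this ⊢ <;> omega
      have e' : ∀ i, (x i - 1) / 4 = (m + 1) / 4 + z i := fun i => by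
        rw [hd.hx i, hd1 i]; omega
      rw [sum_congr rfl fun i _ => e' i, sum_add_distrib, sum_const, card_pts, nsmul_eq_mul] at hq
      have := hd.hz
      simp only [Nat.cast_ofNat] at hq
      omega

/-- Changing the signs on a set. -/
def flipOn (c : Finset GolayPt) (x : GolayPt → ℤ) : GolayPt → ℤ := fun i => if i ∈ c then -x i else x i

theorem flipOn_flipOn (c : Finset GolayPt) (x : GolayPt → ℤ) : flipOn c (flipOn c x) = x := by
  funext i; simp only [flipOn]; split <;> simp

theorem flipOn_mem_iff {c : Finset GolayPt} (hc : c ∈ code) {x : GolayPt → ℤ} :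
    flipOn c x ∈ leechLattice ↔ x ∈ leechLattice :=
  ⟨fun h => by rw [← flipOn_flipOn c x]; exact sign_mem hc h, fun h => sign_mem hc h⟩

theorem sqNorm_flipOn (c : Finset GolayPt) (x : GolayPt → ℤ) : Cfsg.sqNorm (flipOn c x) = Cfsg.sqNorm x := by
  unfold Cfsg.sqNorm flipOn
  refine sum_congr rfl fun i _ => ?_
  split <;> ring

/-- The odd vectors of a given norm with values in a symmetric list. -/
theorem ncard_odd (S : List ℤ) (hS : S.Nodup) (hlen : S.length ≤ 9) (hsym : ∀ v ∈ S, -v ∈ S) (N : ℕ) :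
    {x : GolayPt → ℤ | x ∈ leechLattice ∧ Cfsg.sqNorm x = 8 * N + 24 ∧ ∀ i, x i ∈ S ∧ x i % 2 = 1}.ncard
      = oddCount S N := by
  classical
  set F₀ := (Fintype.piFinset fun i => if i ∈ (univ : Finset GolayPt) then (S.filter fun v => v % 4 == 1).toFinset
      else (S.filter fun v => v % 4 == 1).toFinset).filter fun x =>
        (∑ i, (if i ∈ (univ : Finset GolayPt) then oddW else oddW) (x i)) = N ∧
        (∑ i, (if i ∈ (univ : Finset GolayPt) then oddQ else oddQ) (x i)) % 2 = 1 with hF₀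
  have hF : ∀ x, x ∈ F₀ ↔ x ∈ leechLattice ∧ Cfsg.sqNorm x = 8 * N + 24 ∧ ∀ i, x i ∈ S ∧ x i % 4 = 1 := fun x => by
    rw [hF₀, mem_filter]; exact odd_iff
  have hcl : ∀ c x, x ∈ F₀ → ∀ i, i ∈ c ↔ flipOn c x i % 4 = 3 := fun c x hx i => by
    have := (((hF x).mp hx).2.2 i).2
    by_cases h : i ∈ c <;> simp only [flipOn, h, if_true, if_false, true_iff, false_iff] <;> omega
  have hset : {x : GolayPt → ℤ | x ∈ leechLattice ∧ Cfsg.sqNorm x = 8 * N + 24 ∧ ∀ i, x i ∈ S ∧ x i % 2 = 1}
      = (codeFin.biUnion fun c => F₀.image (flipOn c) : Set (GolayPt → ℤ)) := by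
    ext x
    simp only [Set.mem_setOf_eq, mem_coe, mem_biUnion, mem_image, mem_codeFin]
    constructor
    · rintro ⟨hL, hN, hS'⟩
      have hc : (univ.filter fun i => x i % 4 = 3) ∈ code := by
        obtain ⟨m, -, -, hk⟩ : x ∈ leechSet := by rw [← SetLike.mem_coe, leechLattice_eq] at hL; exact hL
        exact hk 3
      refine ⟨_, hc, flipOn _ x, (hF _).mpr ⟨(flipOn_mem_iff hc).mpr hL, by rw [sqNorm_flipOn]; exact hN, fun i => ?_⟩,
        flipOn_flipOn _ _⟩
      obtain ⟨hi, h2⟩ := hS' i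
      simp only [flipOn, mem_filter, mem_univ, true_and]
      split
      · exact ⟨hsym _ hi, by omega⟩
      · exact ⟨hi, by omega⟩
    · rintro ⟨c, hc, y, hy, rfl⟩
      obtain ⟨hL, hN, hS'⟩ := (hF y).mp hy
      refine ⟨(flipOn_mem_iff hc).mpr hL, by rw [sqNorm_flipOn]; exact hN, fun i => ?_⟩
      obtain ⟨hi, h4⟩ := hS' i
      simp only [flipOn]
      split
      · exact ⟨hsym _ hi, by omega⟩
      · exact ⟨hi, by omega⟩
  have hc0 : F₀.card = parityDigits base (series base (wq oddW oddQ) (S.filter fun v => v % 4 == 1) ^ 24) N 1 := by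
    rw [hF₀, card_two_class univ (by rw [Fintype.card_option, ZMod.card]) _ _ (hS.filter _) (hS.filter _) oddW oddW
      oddQ oddQ evenQ_le.2.2 evenQ_le.2.2 (base_bound (by
        have := List.length_filter_le (fun v : ℤ => v % 4 == 1) S; omega)) N 1, card_pts, Nat.sub_self, pow_zero,
      mul_one]
  rw [hset, Set.ncard_coe_finset, card_biUnion, sum_congr rfl fun c _ =>
    card_image_of_injective F₀ (Function.LeftInverse.injective (flipOn_flipOn c)), sum_const, smul_eq_mul, hc0]
  · have h := sum_code fun _ => 1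
    rw [sum_const, smul_eq_mul, mul_one] at h
    rw [h]; rfl
  · intro c _ c' _ hne
    rw [Function.onFun, disjoint_left]
    intro x hx hx'
    obtain ⟨y, hy, rfl⟩ := mem_image.mp hx
    obtain ⟨y', hy', he⟩ := mem_image.mp hx'
    refine hne (ext fun i => ?_)
    rw [hcl c y hy i, hcl c' y' hy' i, he]

/-- All values up to eight. -/
def allEven : List ℤ := [-8, -6, -4, -2, 0, 2, 4, 6, 8]

/-- All odd values up to seven. -/
def allOdd : List ℤ := [-7, -5, -3, -1, 1, 3, 5, 7]

theorem abs_le_eight {x : GolayPt → ℤ} (h : Cfsg.sqNorm x ≤ 64) (i : GolayPt) : -8 ≤ x i ∧ x i ≤ 8 := by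
  have h2 : x i ^ 2 ≤ Cfsg.sqNorm x := single_le_sum (f := fun j => x j ^ 2) (fun j _ => sq_nonneg _) (mem_univ i)
  constructor <;> nlinarith

theorem mem_allEven {v : ℤ} (h : -8 ≤ v ∧ v ≤ 8) (he : v % 2 = 0) : v ∈ allEven := by
  obtain ⟨h1, h2⟩ := h
  interval_cases v <;> simp_all [allEven]

theorem mem_allOdd {v : ℤ} (h : -8 ≤ v ∧ v ≤ 8) (he : v % 2 = 1) : v ∈ allOdd := by
  obtain ⟨h1, h2⟩ := h
  interval_cases v <;> simp_all [allOdd]

theorem parity_uniform {x : GolayPt → ℤ} (hx : x ∈ leechLattice) : (∀ i, x i % 2 = 0) ∨ ∀ i, x i % 2 = 1 := by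
  obtain ⟨c, z, h⟩ := mem_lattice_normal.mp hx
  rcases h with h | h
  · exact Or.inl fun i => by rw [h.hx i]; omega
  · exact Or.inr fun i => by rw [h.hx i]; omega

theorem finite_of_bound {s : Set (GolayPt → ℤ)} (h : ∀ x ∈ s, ∀ i, -8 ≤ x i ∧ x i ≤ 8) : s.Finite :=
  (Set.Finite.pi (t := fun _ : GolayPt => Set.Icc (-8 : ℤ) 8) fun _ => Set.finite_Icc _ _).subset
    fun x hx i _ => h x hx i

/-- The vectors of a given small norm. -/
theorem ncard_norm (N M : ℕ) (hM : 4 * (N : ℤ) = 8 * M + 24) (hN : 4 * N ≤ 64) :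
    {x : GolayPt → ℤ | x ∈ leechLattice ∧ Cfsg.sqNorm x = 4 * N}.ncard
      = evenCount allEven N + oddCount allOdd M := by
  have hb : ∀ x : GolayPt → ℤ, Cfsg.sqNorm x = 4 * N → Cfsg.sqNorm x ≤ 64 := fun x h => by rw [h]; omega
  have hf₁ : {x : GolayPt → ℤ | x ∈ leechLattice ∧ Cfsg.sqNorm x = 4 * N ∧ ∀ i, x i ∈ allEven ∧ x i % 2 = 0}.Finite :=
    finite_of_bound fun x hx i => abs_le_eight (hb x hx.2.1) i
  have hf₂ : {x : GolayPt → ℤ | x ∈ leechLattice ∧ Cfsg.sqNorm x = 8 * M + 24 ∧ ∀ i, x i ∈ allOdd ∧ x i % 2 = 1}.Finite :=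
    finite_of_bound fun x hx i => abs_le_eight (by rw [hx.2.1, ← hM]; omega) i
  rw [← ncard_even allEven (by decide) (by decide) N, ← ncard_odd allOdd (by decide) (by decide) (by decide) M,
    ← Set.ncard_union_eq ?_ hf₁ hf₂]
  · congr 1
    ext x
    simp only [Set.mem_setOf_eq, Set.mem_union]
    constructor
    · rintro ⟨hL, hn⟩
      rcases parity_uniform hL with h | h
      · exact Or.inl ⟨hL, hn, fun i => ⟨mem_allEven (abs_le_eight (hb x hn) i) (h i), h i⟩⟩
      · exact Or.inr ⟨hL, hn.trans hM, fun i => ⟨mem_allOdd (abs_le_eight (hb x hn) i) (h i), h i⟩⟩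
    · rintro (⟨hL, hn, -⟩ | ⟨hL, hn, -⟩)
      · exact ⟨hL, hn⟩
      · exact ⟨hL, hn.trans hM.symm⟩
  · refine Set.disjoint_left.mpr fun x hx hx' => ?_
    have := (hx.2.2 none).2
    have := (hx'.2.2 none).2
    omega

end Cfsg.Lib.Leech
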