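import Cfsg.Agent.Leech.Basic
import Cfsg.Agent.Leech.Shapes

/-!
Indices of the lattice and of a totally singular sublattice.
-/

namespace Cfsg.Lib.Leech

open Cfsg Cfsg.Lib.Golay Finset

/-- Reduction of the coordinates modulo `n`. -/
def redMod (n : ℕ) : (GolayPt → ℤ) →+ (GolayPt → ZMod n) where
  toFun x i := (x i : ZMod n)
  map_zero' := funext fun _ => Int.cast_zero
  map_add' _ _ := funext fun _ => Int.cast_add _ _

theorem redMod_surjective (n : ℕ) : Function.Surjective (redMod n) := fun v =>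
  ⟨fun i => (ZMod.intCast_surjective (v i)).choose, funext fun i => (ZMod.intCast_surjective (v i)).choose_spec⟩

theorem redMod_eq_zero {n : ℕ} {x : GolayPt → ℤ} : redMod n x = 0 ↔ ∀ i, (n : ℤ) ∣ x i := by
  rw [funext_iff]
  exact forall_congr' fun i => ZMod.intCast_zmod_eq_zero_iff_dvd (x i) n

theorem redMod_eq_iff {n : ℕ} {x y : GolayPt → ℤ} : redMod n x = redMod n y ↔ ∀ i, (n : ℤ) ∣ x i - y i := by
  rw [← sub_eq_zero, ← map_sub, redMod_eq_zero]; rfl

theorem mem_of_eight_dvd {x : GolayPt → ℤ} (h : ∀ i, (8 : ℤ) ∣ x i) : x ∈ leechLattice := by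
  refine mem_lattice.mpr ⟨0, ∅, fun i => x i / 4, empty_mem_code, fun i => ?_, ?_⟩
  · obtain ⟨k, hk⟩ := h i
    simp [indZ, hk]; omega
  · have e : ∀ i, x i / 4 = 2 * (x i / 8) := fun i => by obtain ⟨k, hk⟩ := h i; omega
    rw [sum_congr rfl fun i _ => e i, ← mul_sum]
    omega

/-- Lifts of a family of parities with a given sum. -/
def liftZ (w : ZMod 23 → Fin 2) (m : ℤ) : GolayPt → ℤ
  | some a => ((w a : ℕ) : ℤ)
  | none => (m - ∑ a, ((w a : ℕ) : ℤ)) % 2

theorem liftZ_bound (w : ZMod 23 → Fin 2) (m : ℤ) (i : GolayPt) : 0 ≤ liftZ w m i ∧ liftZ w m i ≤ 1 := by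
  cases i with
  | none => simp only [liftZ]; omega
  | some a => simp only [liftZ]; have := (w a).isLt; omega

theorem sum_liftZ (w : ZMod 23 → Fin 2) (m : ℤ) : (∑ i, liftZ w m i) % 2 = m % 2 := by
  rw [Fintype.sum_option]
  show ((m - ∑ a, ((w a : ℕ) : ℤ)) % 2 + ∑ a, ((w a : ℕ) : ℤ)) % 2 = m % 2
  omega

/-- The standard vector with given parameters. -/
def paramVec (m : ℤ) (c : Finset GolayPt) (w : ZMod 23 → Fin 2) (i : GolayPt) : ℤ :=
  m + 2 * indZ c i + 4 * liftZ w m i

theorem paramVec_mem {m : ℤ} {c : Finset GolayPt} (hc : c ∈ code) (w : ZMod 23 → Fin 2) :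
    paramVec m c w ∈ leechLattice :=
  mem_lattice.mpr ⟨m, c, liftZ w m, hc, fun _ => rfl, sum_liftZ w m⟩

theorem paramVec_red_injective {m m' : ℤ} (hm : m = 0 ∨ m = 1) (hm' : m' = 0 ∨ m' = 1) {c c' : Finset GolayPt}
    {w w' : ZMod 23 → Fin 2} (h : redMod 8 (paramVec m c w) = redMod 8 (paramVec m' c' w')) :
    m = m' ∧ c = c' ∧ w = w' := by
  rw [redMod_eq_iff] at h
  have hb := liftZ_bound w m
  have hb' := liftZ_bound w' m'
  have hmm : m = m' := by
    have := h none
    simp only [paramVec, Nat.cast_ofNat] at this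
    omega
  subst hmm
  have hc : ∀ i, indZ c i = indZ c' i := fun i => by
    have := h i
    simp only [paramVec, Nat.cast_ofNat] at this
    simp only [indZ] at this ⊢
    split_ifs at this ⊢ <;> omega
  refine ⟨rfl, ext fun i => ?_, funext fun a => Fin.ext ?_⟩
  · have := hc i
    simp only [indZ] at this
    split_ifs at this <;> simp_all
  · have := h (some a)
    simp only [paramVec, liftZ, Nat.cast_ofNat, hc (some a)] at this
    have := (w a).isLt
    have := (w' a).isLt
    omega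

theorem exists_paramVec {x : GolayPt → ℤ} {m : ℤ} {c : Finset GolayPt} {z : GolayPt → ℤ} (hd : IsDecomp x m c z) :
    ∃ w, redMod 8 (paramVec m c w) = redMod 8 x := by
  refine ⟨fun a => if z (some a) % 2 = 0 then 0 else 1, redMod_eq_iff.mpr fun i => ?_⟩
  have key : ∀ a : ZMod 23, (((if z (some a) % 2 = 0 then 0 else 1 : Fin 2) : ℕ) : ℤ) = z (some a) % 2 := fun a => by
    by_cases h : z (some a) % 2 = 0 <;> simp [h] <;> omega
  rw [hd.hx i]
  simp only [paramVec, Nat.cast_ofNat]
  cases i with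
  | some a => simp only [liftZ, key]; omega
  | none =>
    have hs : (∑ a, z (some a)) % 2 = (∑ a, z (some a) % 2) % 2 := Finset.sum_int_mod _ _ _
    have := hd.hz
    rw [Fintype.sum_option] at this
    simp only [liftZ, key]
    omega

theorem card_image_lattice : Nat.card ↥(leechLattice.map (redMod 8)) = 2 ^ 36 := by
  let f : (Fin 2 × codeFin × (ZMod 23 → Fin 2)) → ↥(leechLattice.map (redMod 8)) := fun p =>
    ⟨redMod 8 (paramVec (p.1 : ℕ) p.2.1 p.2.2), AddSubgroup.mem_map_of_mem _ (paramVec_mem (mem_codeFin.mp p.2.1.2) _)⟩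
  have hbij : Function.Bijective f := by
    constructor
    · rintro ⟨a, ⟨c, hc⟩, w⟩ ⟨a', ⟨c', hc'⟩, w'⟩ h
      have := a.isLt
      have := a'.isLt
      obtain ⟨e1, e2, e3⟩ := paramVec_red_injective (by omega) (by omega) (congrArg Subtype.val h)
      simp only [Prod.mk.injEq, Subtype.mk.injEq]
      exact ⟨Fin.ext (by exact_mod_cast e1), e2, e3⟩
    · rintro ⟨_, x, hx, rfl⟩
      obtain ⟨c, z, hd | hd⟩ := mem_lattice_normal.mp hx
      · obtain ⟨w, hw⟩ := exists_paramVec hd
        exact ⟨(0, ⟨c, mem_codeFin.mpr hd.hc⟩, w), Subtype.ext hw⟩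
      · obtain ⟨w, hw⟩ := exists_paramVec hd
        exact ⟨(1, ⟨c, mem_codeFin.mpr hd.hc⟩, w), Subtype.ext hw⟩
  have h := sum_code fun _ => 1
  rw [sum_const, smul_eq_mul, mul_one] at h
  rw [← Nat.card_eq_of_bijective f hbij, Nat.card_eq_fintype_card, Fintype.card_prod, Fintype.card_prod,
    Fintype.card_coe, h, Fintype.card_fun, Fintype.card_fin, ZMod.card]
  norm_num

theorem index_of_image {A : AddSubgroup (GolayPt → ℤ)} (hA : ∀ x, (∀ i, (8 : ℤ) ∣ x i) → x ∈ A) {a b : ℕ}
    (hab : a + b = 72) (hcard : Nat.card ↥(A.map (redMod 8)) = 2 ^ a) : A.index = 2 ^ b := by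
  have h1 : (A.map (redMod 8)).index = A.index := AddSubgroup.index_map_eq A (redMod_surjective 8) fun x hx =>
    hA x fun i => by exact_mod_cast redMod_eq_zero.mp (AddMonoidHom.mem_ker.mp hx) i
  have h2 := AddSubgroup.card_mul_index (A.map (redMod 8))
  rw [hcard, h1, Nat.card_eq_fintype_card, Fintype.card_fun, ZMod.card, Fintype.card_option, ZMod.card] at h2
  have h3 : (8 : ℕ) ^ (23 + 1) = 2 ^ a * 2 ^ b := by
    rw [← pow_add, hab, show (8 : ℕ) = 2 ^ 3 from rfl, ← pow_mul]
  exact Nat.eq_of_mul_eq_mul_left (Nat.two_pow_pos a) (h2.trans h3)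

theorem index_leech : leechLattice.index = 2 ^ 36 :=
  index_of_image (fun _ h => mem_of_eight_dvd h) (by norm_num) card_image_lattice

/-- Doubling. -/
def double : (GolayPt → ℤ) →+ (GolayPt → ℤ) := nsmulAddMonoidHom 2

theorem double_injective : Function.Injective double := fun x y h => funext fun i => by
  have := congrFun h i
  simp only [double, nsmulAddMonoidHom_apply, Pi.smul_apply, two_nsmul] at this
  omega

theorem double_range : double.range = (redMod 2).ker := by
  ext x
  constructor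
  · rintro ⟨y, rfl⟩
    exact redMod_eq_zero.mpr fun i => ⟨y i, by simp [double, two_mul, two_nsmul]⟩
  · intro h
    refine ⟨fun i => x i / 2, funext fun i => ?_⟩
    obtain ⟨k, hk⟩ := redMod_eq_zero.mp (AddMonoidHom.mem_ker.mp h) i
    simp only [double, nsmulAddMonoidHom_apply, Pi.smul_apply, two_nsmul]
    push_cast at hk
    omega

theorem index_double : (leechLattice.map double).index = 2 ^ 60 := by
  rw [AddSubgroup.index_map_of_injective leechLattice double_injective, index_leech, double_range,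
    AddSubgroup.index_ker, AddMonoidHom.range_eq_top.mpr (redMod_surjective 2), AddSubgroup.card_top,
    Nat.card_eq_fintype_card, Fintype.card_fun, ZMod.card, Fintype.card_option, ZMod.card]
  norm_num

theorem double_le : leechLattice.map double ≤ leechLattice := by
  rintro _ ⟨y, hy, rfl⟩
  exact AddSubgroup.nsmul_mem _ hy 2

theorem index_quotient : ((leechLattice.map double).addSubgroupOf leechLattice).index = 2 ^ 24 := by
  have h := AddSubgroup.relIndex_mul_index double_le
  rw [index_leech, index_double, show (2 : ℕ) ^ 60 = 2 ^ 24 * 2 ^ 36 by rw [← pow_add]] at h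
  exact Nat.eq_of_mul_eq_mul_right (Nat.two_pow_pos 36) h

/-- A sublattice of norms divisible by thirty-two. -/
def singular : AddSubgroup (GolayPt → ℤ) where
  carrier := {x | ∃ e : ℤ, ∃ z : GolayPt → ℤ, (∀ i, x i = 2 * e + 4 * z i) ∧ (∑ i, z i) % 2 = 0}
  zero_mem' := ⟨0, 0, fun i => by simp, by simp⟩
  add_mem' := by
    rintro x y ⟨e, z, hx, hz⟩ ⟨e', z', hy, hz'⟩
    exact ⟨e + e', z + z', fun i => by simp only [Pi.add_apply, hx, hy]; ring,
      by simp only [Pi.add_apply, sum_add_distrib]; omega⟩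
  neg_mem' := by
    rintro x ⟨e, z, hx, hz⟩
    exact ⟨-e, -z, fun i => by simp only [Pi.neg_apply, hx]; ring, by simp only [Pi.neg_apply, sum_neg_distrib]; omega⟩

theorem singular_le : singular ≤ leechLattice := by
  rintro x ⟨e, z, hx, hz⟩
  exact mem_lattice.mpr ⟨2 * e, ∅, z, empty_mem_code, fun i => by simp [indZ, hx i], by omega⟩

theorem singular_norm {x : GolayPt → ℤ} (hx : x ∈ singular) : (32 : ℤ) ∣ Cfsg.sqNorm x := by
  obtain ⟨e, z, hx, hz⟩ := hx
  have h : Cfsg.sqNorm x = 96 * (e * e) + 16 * e * (∑ i, z i) + 16 * ∑ i, z i * z i := by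
    unfold Cfsg.sqNorm
    rw [sum_congr rfl fun i _ => show x i ^ 2 = 4 * (e * e) + 16 * e * z i + 16 * (z i * z i) by rw [hx i]; ring,
      sum_add_distrib, sum_add_distrib, ← mul_sum _ _ (16 * e), ← mul_sum _ _ (16 : ℤ), sum_const, card_pts,
      nsmul_eq_mul]
    push_cast; ring
  have hpar : (∑ i, z i * z i) % 2 = 0 := by
    rw [← hz, Finset.sum_int_mod univ 2 z, Finset.sum_int_mod univ 2 fun i => z i * z i]
    congr 1
    refine sum_congr rfl fun i _ => ?_
    rcases Int.emod_two_eq (z i) with e | e <;> simp [Int.mul_emod, e]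
  obtain ⟨a, ha⟩ : ∃ a, ∑ i, z i = 2 * a := ⟨(∑ i, z i) / 2, by omega⟩
  rw [h, ha]
  obtain ⟨b, hb⟩ : ∃ b, ∑ i, z i * z i = 2 * b := ⟨(∑ i, z i * z i) / 2, by omega⟩
  rw [hb]
  exact ⟨3 * (e * e) + e * a + b, by ring⟩

theorem double_le_singular : leechLattice.map double ≤ singular := by
  rintro _ ⟨y, hy, rfl⟩
  obtain ⟨m, c, z, h⟩ := mem_lattice.mp hy
  obtain ⟨a, ha⟩ := four_dvd_card h.hc
  refine ⟨m, fun i => indZ c i + 2 * z i, fun i => ?_, ?_⟩
  · simp only [double, nsmulAddMonoidHom_apply, Pi.smul_apply, two_nsmul, h.hx i]; ring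
  · rw [sum_add_distrib, card_filter_indZ, ← mul_sum, ha]; push_cast; omega

theorem card_image_singular : Nat.card ↥(singular.map (redMod 8)) = 2 ^ 24 := by
  let f : (Fin 2 × (ZMod 23 → Fin 2)) → ↥(singular.map (redMod 8)) := fun p =>
    ⟨redMod 8 (paramVec 0 (if p.1 = 0 then ∅ else univ) p.2), by
      refine AddSubgroup.mem_map_of_mem _ ⟨if p.1 = 0 then 0 else 1, liftZ p.2 0, fun i => ?_, sum_liftZ p.2 0⟩
      simp only [paramVec]
      split <;> simp [indZ]⟩
  have hbij : Function.Bijective f := by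
    constructor
    · rintro ⟨a, w⟩ ⟨a', w'⟩ h
      obtain ⟨-, e2, e3⟩ := paramVec_red_injective (Or.inl rfl) (Or.inl rfl) (congrArg Subtype.val h)
      have hne : (∅ : Finset GolayPt) ≠ univ := fun e => Nat.zero_ne_add_one _ ((congrArg Finset.card e).trans card_pts)
      have e2' : (if a = 0 then (∅ : Finset GolayPt) else univ) = if a' = 0 then ∅ else univ := e2
      refine Prod.ext ?_ e3
      show a = a'
      by_cases ha : a = 0
      · by_cases ha' : a' = 0
        · rw [ha, ha']
        · rw [if_pos ha, if_neg ha'] at e2'; exact absurd e2' hne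
      · by_cases ha' : a' = 0
        · rw [if_neg ha, if_pos ha'] at e2'; exact absurd e2'.symm hne
        · omega
    · rintro ⟨_, x, ⟨e, z, hx, hz⟩, rfl⟩
      have key : ∃ b : Fin 2, ∃ z', IsDecomp x 0 (if b = 0 then ∅ else univ) z' := by
        rcases Int.emod_two_eq e with he | he
        · refine ⟨0, fun i => z i + e / 2, empty_mem_code, fun i => ?_, ?_⟩
          · simp [indZ, hx i]; omega
          · rw [sum_add_distrib, sum_const, card_pts, nsmul_eq_mul]; push_cast; omega
        · refine ⟨1, fun i => z i + e / 2, univ_mem_code, fun i => ?_, ?_⟩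
          · simp [indZ, hx i]; omega
          · rw [sum_add_distrib, sum_const, card_pts, nsmul_eq_mul]; push_cast; omega
      obtain ⟨b, z', hd⟩ := key
      obtain ⟨w, hw⟩ := exists_paramVec hd
      exact ⟨(b, w), Subtype.ext hw⟩
  rw [← Nat.card_eq_of_bijective f hbij, Nat.card_eq_fintype_card, Fintype.card_prod, Fintype.card_fun,
    Fintype.card_fin, ZMod.card]
  norm_num

theorem index_singular : (singular.addSubgroupOf leechLattice).index = 2 ^ 12 := by
  have h8 : ∀ x : GolayPt → ℤ, (∀ i, (8 : ℤ) ∣ x i) → x ∈ singular := fun x h => by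
    refine ⟨0, fun i => x i / 4, fun i => ?_, ?_⟩
    · show x i = 2 * 0 + 4 * (x i / 4)
      obtain ⟨k, hk⟩ := h i; omega
    · have e : ∀ i, x i / 4 = 2 * (x i / 8) := fun i => by obtain ⟨k, hk⟩ := h i; omega
      rw [sum_congr rfl fun i _ => e i, ← mul_sum]; omega
  have hi : singular.index = 2 ^ 48 := index_of_image h8 (by norm_num) card_image_singular
  have h := AddSubgroup.relIndex_mul_index singular_le
  rw [index_leech, hi, show (2 : ℕ) ^ 48 = 2 ^ 12 * 2 ^ 36 by rw [← pow_add]] at h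
  exact Nat.eq_of_mul_eq_mul_right (Nat.two_pow_pos 36) h

theorem s5553 : ∃ A : AddSubgroup (GolayPt → ℤ), A ≤ leechLattice ∧ (∀ v ∈ leechLattice, (2 : ℤ) • v ∈ A) ∧
    (A.addSubgroupOf leechLattice).index = 2 ^ 12 ∧ ∀ v ∈ A, (32 : ℤ) ∣ Cfsg.sqNorm v :=
  ⟨singular, singular_le, fun v hv => by
    rw [show (2 : ℤ) • v = double v by simp [double, two_smul, two_nsmul]]
    exact double_le_singular ⟨v, hv, rfl⟩, index_singular, fun _ hv => singular_norm hv⟩

end Cfsg.Lib.Leech
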