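import Cfsg.Agent.Leech.Basic
import Cfsg.Agent.Leech.Index
import Cfsg.Agent.Golay.Generators
import Cfsg.Agent.Golay.Subgroups

/-!
The monomial automorphisms of the lattice and the centre of its automorphism group.
-/

namespace Cfsg.Lib.Leech

open Cfsg Cfsg.Lib.Golay Finset MulAction

theorem signedPerm_mem {σ : Equiv.Perm GolayPt} {c : Finset GolayPt} (hσ : σ ∈ M24) (hc : c ∈ code)
    {x : GolayPt → ℤ} (hx : x ∈ leechLattice) : signedPerm σ c x ∈ leechLattice :=
  sign_mem hc (perm_mem (inv_mem hσ) hx)

theorem sqNorm_signedPerm (σ : Equiv.Perm GolayPt) (c : Finset GolayPt) (x : GolayPt → ℤ) :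
    Cfsg.sqNorm (signedPerm σ c x) = Cfsg.sqNorm x := by
  refine Eq.trans ?_ (Equiv.sum_comp σ.symm fun i => x i ^ 2)
  refine Finset.sum_congr rfl fun i _ => ?_
  simp only [signedPerm]
  split <;> ring

/-- The monomial map as a function on the lattice. -/
def monoFun {σ : Equiv.Perm GolayPt} {c : Finset GolayPt} (hσ : σ ∈ M24) (hc : c ∈ code) (v : leechLattice) :
    leechLattice := ⟨signedPerm σ c v, signedPerm_mem hσ hc v.2⟩

theorem monoFun_bijective {σ : Equiv.Perm GolayPt} {c : Finset GolayPt} (hσ : σ ∈ M24) (hc : c ∈ code) :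
    Function.Bijective (monoFun hσ hc) := by
  constructor
  · intro v w h
    refine Subtype.ext (funext fun i => ?_)
    have := congrFun (congrArg Subtype.val h) (σ i)
    simp only [monoFun, signedPerm, Equiv.symm_apply_apply] at this
    split at this
    · exact neg_injective this
    · exact this
  · intro y
    refine ⟨⟨fun i => if σ i ∈ c then -(y : GolayPt → ℤ) (σ i) else (y : GolayPt → ℤ) (σ i),
      perm_mem hσ (sign_mem hc y.2)⟩, Subtype.ext (funext fun i => ?_)⟩
    simp only [monoFun, signedPerm, Equiv.apply_symm_apply]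
    split <;> simp

/-- The monomial automorphism. -/
noncomputable def mono {σ : Equiv.Perm GolayPt} {c : Finset GolayPt} (hσ : σ ∈ M24) (hc : c ∈ code) : Co0 :=
  ⟨Equiv.ofBijective (monoFun hσ hc) (monoFun_bijective hσ hc),
    fun v w => Subtype.ext (funext fun i => by
      simp only [Equiv.ofBijective_apply, monoFun, signedPerm, AddSubgroup.coe_add, Pi.add_apply]
      split <;> ring),
    fun v => sqNorm_signedPerm σ c v⟩

theorem mono_apply {σ : Equiv.Perm GolayPt} {c : Finset GolayPt} (hσ : σ ∈ M24) (hc : c ∈ code) (v : leechLattice) :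
    ((mono hσ hc • v : leechLattice) : GolayPt → ℤ) = signedPerm σ c v := rfl

/-- The negation of the lattice. -/
noncomputable def negOne : Co0 := mono (one_mem M24) univ_mem_code

theorem negOne_apply (v : leechLattice) : negOne • v = -v :=
  Subtype.ext (funext fun i => if_pos (Finset.mem_univ i))

theorem co0_ext {g h : Co0} (he : ∀ v : leechLattice, g • v = h • v) : g = h :=
  Subtype.ext (Equiv.ext he)

/-- The additive map of an automorphism. -/
def toHom (g : Co0) : leechLattice →+ leechLattice := AddMonoidHom.mk' (fun v => g • v) g.2.1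

theorem smul_neg' (g : Co0) (v : leechLattice) : g • (-v) = -(g • v) := (toHom g).map_neg v

theorem smul_zsmul' (g : Co0) (k : ℤ) (v : leechLattice) : g • (k • v) = k • (g • v) := (toHom g).map_zsmul k v

theorem smul_sum' (g : Co0) {ι : Type*} (s : Finset ι) (f : ι → leechLattice) :
    g • (∑ i ∈ s, f i) = ∑ i ∈ s, g • f i := map_sum (toHom g) f s

theorem negOne_comm (g : Co0) : negOne * g = g * negOne :=
  co0_ext fun v => by rw [mul_smul, mul_smul, negOne_apply, negOne_apply, smul_neg']

theorem negOne_ne_one : negOne ≠ 1 := by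
  intro h
  have hv : (fun i => if i = none then (8 : ℤ) else 0) ∈ leechLattice := mem_of_eight_dvd fun i => by split <;> simp
  have := congrFun (congrArg Subtype.val ((negOne_apply ⟨_, hv⟩).symm.trans (by rw [h, one_smul]))) none
  simp at this

theorem negOne_sq : negOne * negOne = 1 :=
  co0_ext fun v => by rw [mul_smul, negOne_apply, negOne_apply, neg_neg, one_smul]

/-- Eight times a basis vector. -/
def e8 (i : GolayPt) : leechLattice :=
  ⟨Pi.single i 8, mem_of_eight_dvd fun j => by rcases eq_or_ne j i with rfl | h <;> simp [*]⟩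

theorem eight_smul (v : leechLattice) : (8 : ℤ) • v = ∑ i, (v : GolayPt → ℤ) i • e8 i := by
  refine Subtype.ext (funext fun j => ?_)
  rw [AddSubgroup.val_finsetSum]
  simp [e8, Finset.sum_apply, Pi.single_apply, Finset.sum_ite_eq, mul_comm]

theorem eq_of_e8 {g : Co0} {s : ℤ} (h : ∀ i, g • e8 i = s • e8 i) (v : leechLattice) : g • v = s • v := by
  have h8 : (8 : ℤ) • (g • v) = (8 : ℤ) • (s • v) := by
    rw [← smul_zsmul', eight_smul, smul_sum', smul_comm (8 : ℤ) s v, eight_smul, Finset.smul_sum]
    exact Finset.sum_congr rfl fun i _ => by rw [smul_zsmul', h, smul_comm]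
  refine Subtype.ext (funext fun j => ?_)
  have := congrFun (congrArg Subtype.val h8) j
  simpa using this

theorem support_mem_code {w : GolayPt → ZMod 2} (hw : w ∈ golayCode) : support₂ w ∈ code := ⟨w, hw, rfl⟩

theorem sep_points : ∀ i j : GolayPt, i ≠ j → ∃ t : ZMod 23, qrWord t i ≠ qrWord t j := by decide +kernel

theorem exists_code_sep {i j : GolayPt} (h : i ≠ j) : ∃ c ∈ code, ¬ (i ∈ c ↔ j ∈ c) := by
  obtain ⟨t, ht⟩ := sep_points i j h
  refine ⟨support₂ (qrWord t), support_mem_code (Submodule.subset_span (Or.inl ⟨t, rfl⟩)), fun hij => ht ?_⟩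
  have two : ∀ a : ZMod 2, a = 0 ∨ a = 1 := by decide
  simp only [support₂, Finset.mem_filter, Finset.mem_univ, true_and] at hij
  rcases two (qrWord t i) with a | a <;> rcases two (qrWord t j) with b | b <;> rw [a, b] at hij ⊢ <;> simp at hij

theorem M24_pretransitive (p q : GolayPt) : ∃ σ ∈ M24, σ p = q := by
  have h5 := M24_five_transitive
  have h2 : IsMultiplyPretransitive M24 GolayPt 2 := isMultiplyPretransitive_of_le (n := 5) (by norm_num) (by simp)
  have := isPretransitive_of_is_two_pretransitive (G := M24) (α := GolayPt)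
  obtain ⟨σ, hσ⟩ := exists_smul_eq M24 p q
  exact ⟨σ, σ.2, hσ⟩

theorem signedPerm_one_e8 (c : Finset GolayPt) (i : GolayPt) :
    signedPerm 1 c (e8 i) = if i ∈ c then -(e8 i : GolayPt → ℤ) else (e8 i : GolayPt → ℤ) := by
  funext j
  have hj1 : (1 : Equiv.Perm GolayPt).symm j = j := rfl
  rcases eq_or_ne j i with rfl | h
  · simp only [signedPerm, e8, hj1]; split <;> simp
  · simp only [signedPerm, e8, hj1]; split <;> split <;> simp [Pi.single_apply, h]

theorem center_cases {g : Co0} (hg : g ∈ Subgroup.center Co0) : g = 1 ∨ g = negOne := by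
  have hcomm : ∀ (σ : Equiv.Perm GolayPt) (c : Finset GolayPt) (hσ : σ ∈ M24) (hc : c ∈ code) (v : leechLattice),
      signedPerm σ c ((g • v : leechLattice) : GolayPt → ℤ) = ((g • monoFun hσ hc v : leechLattice) : GolayPt → ℤ) :=
    fun σ c hσ hc v => by
      have := congrArg (fun k : Co0 => ((k • v : leechLattice) : GolayPt → ℤ)) (Subgroup.mem_center_iff.mp hg (mono hσ hc))
      simp only [mul_smul] at this
      exact this
  set u : GolayPt → GolayPt → ℤ := fun i => ((g • e8 i : leechLattice) : GolayPt → ℤ) with hu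
  have hoff : ∀ i j, j ≠ i → u i j = 0 := by
    intro i j hji
    obtain ⟨c, hc, hsep⟩ := exists_code_sep hji
    have h := congrFun (hcomm 1 c (one_mem _) hc (e8 i)) j
    have he : monoFun (one_mem M24) hc (e8 i) = if i ∈ c then -e8 i else e8 i := by
      refine Subtype.ext ((signedPerm_one_e8 c i).trans ?_)
      split <;> rfl
    rw [he] at h
    simp only [signedPerm, show (1 : Equiv.Perm GolayPt).symm j = j from rfl] at h
    show u i j = 0
    by_cases hi : i ∈ c
    · have hj : j ∉ c := fun hj => hsep (iff_of_true hj hi)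
      rw [if_pos hi, if_neg hj, smul_neg', AddSubgroup.coe_neg, Pi.neg_apply] at h
      change u i j = -u i j at h
      omega
    · have hj : j ∈ c := by_contra fun hj => hsep (iff_of_false hj hi)
      rw [if_neg hi, if_pos hj] at h
      change -u i j = u i j at h
      omega
  have hdiag : ∀ i, u i i = 8 ∨ u i i = -8 := by
    intro i
    have h := g.2.2 (e8 i)
    change Cfsg.sqNorm (u i) = Cfsg.sqNorm (e8 i : GolayPt → ℤ) at h
    rw [Cfsg.sqNorm, Cfsg.sqNorm, Finset.sum_eq_single i (fun j _ hj => by rw [hoff i j hj]; ring) (by simp),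
      Finset.sum_eq_single i (fun j _ hj => by simp [e8, hj]) (by simp)] at h
    exact sq_eq_sq_iff_eq_or_eq_neg.mp (by simpa [e8] using h)
  have hconst : ∀ i, u i i = u none none := by
    intro i
    obtain ⟨σ, hσ, hσi⟩ := M24_pretransitive none i
    have h := congrFun (hcomm σ ∅ hσ empty_mem_code (e8 none)) i
    have he : monoFun hσ empty_mem_code (e8 none) = e8 i := Subtype.ext (funext fun j => by
      simp only [monoFun, signedPerm, Finset.notMem_empty, if_false, e8, Pi.single_apply]
      exact if_congr (by rw [Equiv.symm_apply_eq, hσi]) rfl rfl)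
    rw [he] at h
    simp only [signedPerm, Finset.notMem_empty, if_false, ← hσi, Equiv.symm_apply_apply] at h
    rw [← hσi]; exact h.symm
  have hg8 : ∀ i, g • e8 i = (u none none / 8) • e8 i := by
    intro i
    refine Subtype.ext (funext fun j => ?_)
    change u i j = _
    rcases eq_or_ne j i with rfl | h
    · rw [hconst j]
      rcases hdiag none with e | e <;> simp [e8, e]
    · rw [hoff i j h]; simp [e8, h]
  rcases hdiag none with h | h <;> rw [h] at hg8
  · exact Or.inl (co0_ext fun v => by rw [eq_of_e8 hg8, one_smul, show (8 : ℤ) / 8 = 1 by norm_num, one_smul])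
  · exact Or.inr (co0_ext fun v => by
      rw [eq_of_e8 hg8, negOne_apply, show (-8 : ℤ) / 8 = -1 by norm_num, neg_one_zsmul])

theorem center_eq : (Subgroup.center Co0 : Set Co0) = {1, negOne} := by
  ext g
  refine ⟨fun h => center_cases h, ?_⟩
  rintro (rfl | rfl)
  · exact one_mem _
  · exact Subgroup.mem_center_iff.mpr fun g => (negOne_comm g).symm

theorem card_center : Nat.card (Subgroup.center Co0) = 2 := by
  rw [← SetLike.coe_sort_coe, center_eq, Nat.card_coe_set_eq, Set.ncard_pair negOne_ne_one.symm]

theorem projInv_swaps : ∀ p, (projInv p ∈ Spor.squareDodecad ↔ p ∉ Spor.squareDodecad) ∧ projInv (projInv p) = p := by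
  decide +kernel

theorem squareDodecad_mem : Spor.squareDodecad ∈ code :=
  support_mem_code (Submodule.subset_span (Or.inl ⟨0, rfl⟩))

/-- A square root of the negation. -/
theorem exists_sqrt_negOne : ∃ h : Co0, h * h = negOne := by
  refine ⟨mono projInv_mem squareDodecad_mem, co0_ext fun v => ?_⟩
  rw [mul_smul, negOne_apply]
  refine Subtype.ext (funext fun i => ?_)
  obtain ⟨h1, h2⟩ := projInv_swaps i
  have hs : ∀ p, projInv.symm p = projInv p := fun p => rfl
  simp only [mono_apply, signedPerm, hs, h1, h2, AddSubgroup.coe_neg, Pi.neg_apply]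
  split_ifs <;> ring

end Cfsg.Lib.Leech
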