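import Cfsg.Agent.Leech.Pairs

/-!
Orbits on the triangles of two vectors of norm 48 and one of norm 32.
-/

namespace Cfsg.Lib.Leech

open Cfsg Cfsg.Lib.Golay Finset MulAction

theorem four_points (a b c d : GolayPt) (h1 : a ≠ b) (h2 : a ≠ c) (h3 : a ≠ d) (h4 : b ≠ c) (h5 : b ≠ d) (h6 : c ≠ d) :
    ∃ σ ∈ M24, σ a = pN ∧ σ b = pO ∧ σ c = pI ∧ σ d = pJ := by
  have h : IsMultiplyPretransitive M24 GolayPt 4 := by
    have := M24_five_transitive
    exact isMultiplyPretransitive_of_le (n := 5) (by norm_num) (by simp)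
  have hinj : Function.Injective ![a, b, c, d] := fun i j h => by fin_cases i <;> fin_cases j <;> simp_all
  have hinj' : Function.Injective ![pN, pO, pI, pJ] := by decide +kernel
  obtain ⟨σ, hσ⟩ := exists_smul_eq M24 (⟨_, hinj⟩ : Fin 4 ↪ GolayPt) ⟨_, hinj'⟩
  refine ⟨σ, σ.2, ?_, ?_, ?_, ?_⟩
  · exact congrArg (fun e : Fin 4 ↪ GolayPt => e 0) hσ
  · exact congrArg (fun e : Fin 4 ↪ GolayPt => e 1) hσ
  · exact congrArg (fun e : Fin 4 ↪ GolayPt => e 2) hσ
  · exact congrArg (fun e : Fin 4 ↪ GolayPt => e 3) hσ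

theorem odd_values {y : GolayPt → ℤ} (hn : Cfsg.sqNorm y = 48) (ho : ∀ i, y i % 4 = 1) :
    (∀ i, y i = 1 ∨ y i = -3 ∨ y i = 5) ∧
      24 * (univ.filter fun i => y i = 5).card + 8 * (univ.filter fun i => y i = -3).card = 24 := by
  have hn' : ∑ j, y j ^ 2 = 48 := hn
  have hge : ∀ i, y i = 1 ∨ y i = -3 ∨ y i = 5 := by
    intro i
    have h : ∑ j ∈ univ.erase i, (1 : ℤ) ≤ ∑ j ∈ univ.erase i, y j ^ 2 := sum_le_sum fun j _ => by
      have := Int.one_le_abs (show y j ≠ 0 by have := ho j; omega)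
      nlinarith [sq_abs (y j)]
    rw [sum_const, card_erase_of_mem (mem_univ i), card_pts, nsmul_eq_mul, mul_one] at h
    have := add_sum_erase univ (fun j => y j ^ 2) (mem_univ i)
    push_cast at h
    have h1 : y i ^ 2 ≤ 25 := by omega
    have : -5 ≤ y i ∧ y i ≤ 5 := by constructor <;> nlinarith
    have := ho i
    omega
  refine ⟨hge, ?_⟩
  have e : ∀ j, y j ^ 2 = 1 + 24 * (if y j = 5 then 1 else 0) + 8 * (if y j = -3 then 1 else 0) := fun j => by
    rcases hge j with h | h | h <;> rw [h] <;> norm_num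
  simp only [e, sum_add_distrib, ← mul_sum, sum_boole, sum_const, card_pts, nsmul_eq_mul, mul_one] at hn'
  have h : (24 : ℤ) + 24 * ((univ.filter fun i => y i = 5).card : ℤ) + 8 * ((univ.filter fun i => y i = -3).card : ℤ) = 48 := hn'
  omega

theorem octad_four : ∃ m ∈ octMasks, m.testBit (pidx pN) ∧ m.testBit (pidx pO) ∧ m.testBit (pidx pI) ∧
    m.testBit (pidx pJ) := by decide +kernel

/-- The vector with threes at three of the four base points. -/
def vF : GolayPt → ℤ := fun p => if p = pN ∨ p = pI ∨ p = pJ then -3 else 1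

/-- The witness for the vector `vF`, on a mask. -/
def witF (m : ℕ) : GolayPt → ℤ :=
  fun p => if m.testBit (pidx p) then (if p = pN ∨ p = pO ∨ p = pI ∨ p = pJ then -2 else 2) else 0

theorem witF_ok : ∃ m, inL (witF m) = true ∧ Cfsg.sqNorm (witF m) = 32 ∧
    dotInt (-pairVec pN pO (-1)) (witF m) = 0 ∧ dotInt vF (witF m) = 24 := by
  have h : (octMasks.any fun m => inL (witF m) && decide (Cfsg.sqNorm (witF m) = 32) &&
      decide (dotInt (-pairVec pN pO (-1)) (witF m) = 0) && decide (dotInt vF (witF m) = 24)) = true := by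
    decide +kernel
  simp only [List.any_eq_true, Bool.and_eq_true, decide_eq_true_eq] at h
  obtain ⟨m, -, ⟨⟨h1, h2⟩, h3⟩, h4⟩ := h
  exact ⟨m, h1, h2, h3, h4⟩

theorem exists_odd_dot (v : GolayPt → ℤ) (hv : v ∈ leechLattice) (hn : Cfsg.sqNorm v = 48)
    (hd : v pN + v pO = 4) :
    ∃ b ∈ leechLattice, Cfsg.sqNorm b = 32 ∧ dotInt (pairVec pN pO 1) b = 0 ∧ (dotInt v b = 8 ∨ dotInt v b = 24) := by
  classical
  have key : ∀ b ∈ leechLattice, Cfsg.sqNorm b = 32 → dotInt (pairVec pN pO 1) b = 0 → dotInt v b % 16 = 8 →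
      ∃ b ∈ leechLattice, Cfsg.sqNorm b = 32 ∧ dotInt (pairVec pN pO 1) b = 0 ∧ (dotInt v b = 8 ∨ dotInt v b = 24) := by
    intro b hb hbn hb0 hbd
    have hlo := thirtytwo_le_sqNorm (sub_mem hv hb) fun e => by
      rw [sub_eq_zero] at e; rw [e, hbn] at hn; omega
    have hhi := thirtytwo_le_sqNorm (add_mem hv hb) fun e => by
      rw [eq_neg_of_add_eq_zero_left e] at hn
      rw [show Cfsg.sqNorm (-b) = Cfsg.sqNorm b by simp [Cfsg.sqNorm], hbn] at hn; omega
    rw [sqNorm_sub, hn, hbn] at hlo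
    rw [sqNorm_add, hn, hbn] at hhi
    rcases (show dotInt v b = 8 ∨ dotInt v b = 24 ∨ dotInt v b = -8 ∨ dotInt v b = -24 by omega) with e | e | e | e
    · exact ⟨b, hb, hbn, hb0, Or.inl e⟩
    · exact ⟨b, hb, hbn, hb0, Or.inr e⟩
    all_goals
      refine ⟨-b, neg_mem hb, by rw [← hbn]; simp [Cfsg.sqNorm], ?_, ?_⟩
      · rw [dot_comm, minForm.neg_left, dot_comm, hb0, neg_zero]
      · rw [dot_comm, minForm.neg_left, dot_comm, e]; norm_num
  rcases parity_uniform hv with he | ho
  · set c := univ.filter fun i => v i % 4 = 2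
    have hc : c ∈ code := word_even hv he
    have hn' : ∑ i, v i ^ 2 = 48 := hn
    have hne : c ≠ ∅ := by
      intro h
      have h4 : ∀ i, (4 : ℤ) ∣ v i := fun i => by
        have h' : ¬ v i % 4 = 2 := fun h2 => by
          have : i ∈ c := mem_filter.mpr ⟨mem_univ _, h2⟩
          simp [h] at this
        have := he i; omega
      choose u hu using h4
      obtain ⟨m, e, z, hd'⟩ := mem_lattice.mp hv
      have hsum : (8 : ℤ) ∣ ∑ i, v i := by
        obtain ⟨a, ha⟩ := four_dvd_card hd'.hc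
        have hz := hd'.hz
        have h0 := he none
        rw [hd'.hx none] at h0
        rw [hd'.sum, ha]; push_cast; omega
      have e1 : ∑ i, v i ^ 2 = 16 * ∑ i, u i ^ 2 := by
        rw [mul_sum]; exact sum_congr rfl fun i _ => by rw [hu i]; ring
      have e2 : ∑ i, v i = 4 * ∑ i, u i := by rw [mul_sum]; exact sum_congr rfl fun i _ => hu i
      have e3 : (∑ i, u i ^ 2) % 2 = (∑ i, u i) % 2 := by
        rw [Finset.sum_int_mod univ 2 (fun i => u i ^ 2), Finset.sum_int_mod univ 2 u]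
        congr 1
        refine sum_congr rfl fun i _ => ?_
        rcases Int.emod_two_eq (u i) with h | h <;> simp [pow_two, Int.mul_emod, h]
      omega
    have hle : 4 * (c.card : ℤ) ≤ 48 := by
      rw [← hn', mul_comm, ← nsmul_eq_mul, ← sum_const]
      refine le_trans (sum_le_sum fun i hi => ?_) (sum_le_sum_of_subset_of_nonneg (subset_univ c) fun i _ _ => sq_nonneg _)
      have h2 := (mem_filter.mp hi).2
      have : v i ≤ -2 ∨ 2 ≤ v i := by omega
      rcases this with h | h <;> nlinarith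
    have h8 : 8 ≤ c.card := by
      have : c.card ≠ 0 := fun e => hne (card_eq_zero.mp e)
      rcases card_support_mem hc with e | e | e | e | e <;> omega
    have hpair : ({pN, pO} : Finset GolayPt).card ≤ 2 := card_le_two
    obtain ⟨k, hk⟩ : (c \ {pN, pO}).Nonempty := card_pos.mp (by have := le_card_sdiff ({pN, pO} : Finset GolayPt) c; omega)
    obtain ⟨l, hl⟩ : (cᶜ \ {pN, pO}).Nonempty := card_pos.mp (by
      have := le_card_sdiff ({pN, pO} : Finset GolayPt) cᶜ
      have : cᶜ.card = 24 - c.card := by rw [card_compl, Fintype.card_option, ZMod.card]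
      omega)
    simp only [mem_sdiff, mem_compl, mem_insert, mem_singleton, not_or] at hk hl
    have hkl : k ≠ l := fun e => hl.1 (e ▸ hk.1)
    refine key (pairVec k l 1) (pairVec_mem (Or.inl rfl)) (pairVec_norm hkl (Or.inl rfl)) ?_ ?_
    · rw [dot_pairVec]
      simp [pairVec, Ne.symm hk.2.1, Ne.symm hk.2.2, Ne.symm hl.2.1, Ne.symm hl.2.2]
    · rw [dot_comm, dot_pairVec]
      have h1 := (mem_filter.mp hk.1).2
      have h2 : ¬ v l % 4 = 2 := fun h => hl.1 (mem_filter.mpr ⟨mem_univ _, h⟩)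
      have := he l
      omega
  · refine key (pairVec pN pO (-1)) (pairVec_mem (Or.inr rfl)) (pairVec_norm (by decide) (Or.inr rfl)) ?_ ?_
    · rw [dot_pairVec]; simp [pairVec]
    · rw [dot_comm, dot_pairVec]
      have := ho pN
      have := ho pO
      omega

/-- Moving a pair to the base pair, with the coordinates of a third vector. -/
theorem to_pair_coords (a b v : leechLattice) (ha : Cfsg.sqNorm (a : GolayPt → ℤ) = 32)
    (hb : Cfsg.sqNorm (b : GolayPt → ℤ) = 32) (hab : dotInt (a : GolayPt → ℤ) b = 0) {p q : ℤ}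
    (hp : dotInt (a : GolayPt → ℤ) v = p) (hq : dotInt (b : GolayPt → ℤ) v = q) :
    ∃ g : Co0, g • a = bP ∧ g • b = bQ ∧ 8 * ((g • v : leechLattice) : GolayPt → ℤ) pN = p + q ∧
      8 * ((g • v : leechLattice) : GolayPt → ℤ) pO = p - q := by
  obtain ⟨g, hg1, hg2⟩ := to_pair a b ha hb hab
  have e1 := dot_smul g a v
  have e2 := dot_smul g b v
  rw [hg1, hp] at e1
  rw [hg2, hq] at e2
  change dotInt (pairVec pN pO 1) _ = _ at e1
  change dotInt (pairVec pN pO (-1)) _ = _ at e2
  rw [dot_pairVec] at e1 e2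
  exact ⟨g, hg1, hg2, by omega, by omega⟩

theorem flip_base {d : Finset GolayPt} (hd : d ∈ code) (i : GolayPt) (x : leechLattice) :
    ((mono (one_mem M24) hd • x : leechLattice) : GolayPt → ℤ) i
      = if i ∈ d then -(x : GolayPt → ℤ) i else (x : GolayPt → ℤ) i := rfl

theorem third_point (v w : leechLattice) (hv : Cfsg.sqNorm (v : GolayPt → ℤ) = 48)
    (hw : Cfsg.sqNorm (w : GolayPt → ℤ) = 48) (hvw : dotInt (v : GolayPt → ℤ) w = -32) :
    ∃ x : leechLattice, Cfsg.sqNorm (x : GolayPt → ℤ) = 32 ∧ dotInt (v : GolayPt → ℤ) x = 24 ∧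
      dotInt (w : GolayPt → ℤ) x = -24 := by
  classical
  set a : leechLattice := v + w with hadef
  have ha : Cfsg.sqNorm (a : GolayPt → ℤ) = 32 := by
    rw [hadef, AddSubgroup.coe_add, sqNorm_add, hv, hw, hvw]; norm_num
  have hav : dotInt (a : GolayPt → ℤ) v = 16 := by
    rw [hadef, AddSubgroup.coe_add, dot_add_left, ← sqNorm_eq_dot, hv, dot_comm, hvw]; norm_num
  suffices h : ∃ x : leechLattice, Cfsg.sqNorm (x : GolayPt → ℤ) = 32 ∧ dotInt (a : GolayPt → ℤ) x = 0 ∧
      dotInt (v : GolayPt → ℤ) x = 24 by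
    obtain ⟨x, h1, h2, h3⟩ := h
    refine ⟨x, h1, h3, ?_⟩
    rw [hadef, AddSubgroup.coe_add, dot_add_left] at h2
    omega
  have hP : Cfsg.sqNorm (bP : GolayPt → ℤ) = 32 := pairVec_norm (by decide) (Or.inl rfl)
  obtain ⟨g, hg⟩ := transitive32 a bP ha hP
  have hgv : dotInt (bP : GolayPt → ℤ) ((g • v : leechLattice) : GolayPt → ℤ) = 16 := by rw [← hg, dot_smul, hav]
  have hsum : ((g • v : leechLattice) : GolayPt → ℤ) pN + ((g • v : leechLattice) : GolayPt → ℤ) pO = 4 := by
    change dotInt (pairVec pN pO 1) _ = _ at hgv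
    rw [dot_pairVec] at hgv; omega
  obtain ⟨b, hb, hbn, hb0, hbd⟩ := exists_odd_dot _ (g • v).2 ((g.2.2 v).trans hv) hsum
  have back : ∀ (h : Co0) (x : leechLattice), Cfsg.sqNorm (x : GolayPt → ℤ) = 32 →
      dotInt ((h • a : leechLattice) : GolayPt → ℤ) x = 0 → dotInt ((h • v : leechLattice) : GolayPt → ℤ) x = 24 →
      ∃ x : leechLattice, Cfsg.sqNorm (x : GolayPt → ℤ) = 32 ∧ dotInt (a : GolayPt → ℤ) x = 0 ∧
        dotInt (v : GolayPt → ℤ) x = 24 := fun h x h1 h2 h3 => by
    refine ⟨h⁻¹ • x, ((h⁻¹).2.2 x).trans h1, ?_, ?_⟩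
    · rw [← dot_smul h, smul_inv_smul, h2]
    · rw [← dot_smul h, smul_inv_smul, h3]
  rcases hbd with hbd | hbd
  swap
  · exact back g ⟨b, hb⟩ hbn (by rw [hg]; exact hb0) hbd
  obtain ⟨h, hh1, hh2, hN, hO⟩ := to_pair_coords bP ⟨b, hb⟩ (g • v) hP hbn hb0 hgv
    (q := 8) (by rw [dot_comm]; exact hbd)
  set y : GolayPt → ℤ := ((h • g • v : leechLattice) : GolayPt → ℤ) with hy
  have hyN : y pN = 3 := by omega
  have hyO : y pO = 1 := by omega
  have hodd : ∀ i, y i % 2 = 1 := by
    rcases parity_uniform (h • g • v).2 with e | e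
    · have := e pN; change y pN % 2 = 0 at this; omega
    · exact e
  set d := univ.filter fun i => y i % 4 = 3
  have hd : d ∈ code := word_odd (h • g • v).2 hodd
  set t := mono (one_mem M24) hd • h • g • v with ht
  have htn : Cfsg.sqNorm (t : GolayPt → ℤ) = 48 :=
    (((mono (one_mem M24) hd).2.2 _).trans ((h.2.2 _).trans (g.2.2 v))).trans hv
  have htv : ∀ i, (t : GolayPt → ℤ) i = if i ∈ d then -y i else y i := fun i => flip_base hd i _
  have hmod : ∀ i, (t : GolayPt → ℤ) i % 4 = 1 := fun i => by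
    rw [htv]; have := hodd i
    simp only [d, mem_filter, mem_univ, true_and]; split <;> omega
  obtain ⟨hval, hcount⟩ := odd_values htn hmod
  have htN : (t : GolayPt → ℤ) pN = -3 := by
    rw [htv, if_pos (by simp only [d, mem_filter, mem_univ, true_and]; omega)]; omega
  have htO : (t : GolayPt → ℤ) pO = 1 := by
    rw [htv, if_neg (by simp only [d, mem_filter, mem_univ, true_and]; omega)]; omega
  set T := univ.filter fun i => (t : GolayPt → ℤ) i = -3
  have hNT : pN ∈ T := by simp [T, htN]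
  have hT : T.card = 3 := by
    have : 1 ≤ T.card := card_pos.mpr ⟨_, hNT⟩
    omega
  have hF : ∀ i, (t : GolayPt → ℤ) i ≠ 5 := fun i e => by
    have : 1 ≤ (univ.filter fun i => (t : GolayPt → ℤ) i = 5).card := card_pos.mpr ⟨i, by simp [e]⟩
    omega
  obtain ⟨k, l, hkl, hTe⟩ := card_eq_two.mp (show (T.erase pN).card = 2 by rw [card_erase_of_mem hNT, hT])
  have hmem : ∀ i, (t : GolayPt → ℤ) i = -3 ↔ i = pN ∨ i = k ∨ i = l := fun i => by
    have h1 := Finset.ext_iff.mp hTe i
    simp only [mem_erase, T, mem_filter, mem_univ, true_and, mem_insert, mem_singleton] at h1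
    by_cases hi : i = pN
    · simp [hi, htN]
    · simp only [hi, ne_eq, not_false_eq_true, true_and, false_or] at h1 ⊢; exact h1
  have hkN : k ≠ pN := fun e => by
    have := (Finset.ext_iff.mp hTe k).mpr (by simp)
    simp [e] at this
  have hlN : l ≠ pN := fun e => by
    have := (Finset.ext_iff.mp hTe l).mpr (by simp)
    simp [e] at this
  have hOT : (t : GolayPt → ℤ) pO ≠ -3 := by omega
  have hkO : k ≠ pO := fun e => hOT ((hmem pO).mpr (Or.inr (Or.inl e.symm)))
  have hlO : l ≠ pO := fun e => hOT ((hmem pO).mpr (Or.inr (Or.inr e.symm)))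
  obtain ⟨σ, hσ, e1, e2, e3, e4⟩ := four_points pN pO k l (by decide) hkN.symm hlN.symm hkO.symm hlO.symm hkl
  obtain ⟨m, hm1, hm2, hm3, hm4⟩ := witF_ok
  refine back (mono hσ empty_mem_code * mono (one_mem M24) hd * h * g) ⟨witF m, mem_of_inL hm1⟩ hm2 ?_ ?_
  · rw [mul_smul, mul_smul, mul_smul, hg, hh1]
    have : (mono hσ empty_mem_code • mono (one_mem M24) hd • bP : leechLattice)
        = ⟨-pairVec pN pO (-1), neg_mem (pairVec_mem (Or.inr rfl))⟩ := by
      refine Subtype.ext (funext fun i => ?_)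
      obtain ⟨j, rfl⟩ : ∃ j, σ j = i := ⟨σ.symm i, σ.apply_symm_apply i⟩
      have f1 : σ j = pN ↔ j = pN := ⟨fun e => σ.injective (e.trans e1.symm), fun e => e.symm ▸ e1⟩
      have f2 : σ j = pO ↔ j = pO := ⟨fun e => σ.injective (e.trans e2.symm), fun e => e.symm ▸ e2⟩
      have hdN : pN ∈ d := by simp only [d, mem_filter, mem_univ, true_and]; omega
      have hdO : pO ∉ d := by simp only [d, mem_filter, mem_univ, true_and]; omega
      simp only [mono_apply, signedPerm, notMem_empty, if_false, Equiv.symm_apply_apply, bP, pairVec, Pi.neg_apply,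
        f1, f2, show (1 : Equiv.Perm GolayPt).symm j = j from rfl]
      rcases eq_or_ne j pN with rfl | hj
      · simp [hdN]
      rcases eq_or_ne j pO with rfl | hj'
      · simp [hdO]
      · simp [hj, hj']
    rw [this]; exact hm3
  · rw [mul_smul, mul_smul, mul_smul, ← ht]
    convert hm4 using 2
    funext i
    obtain ⟨j, rfl⟩ : ∃ j, σ j = i := ⟨σ.symm i, σ.apply_symm_apply i⟩
    simp only [mono_apply, signedPerm, notMem_empty, if_false, Equiv.symm_apply_apply, vF]
    have hc : (σ j = pN ∨ σ j = pI ∨ σ j = pJ) ↔ (t : GolayPt → ℤ) j = -3 := by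
      rw [hmem, show σ j = pN ↔ j = pN from ⟨fun e => σ.injective (e.trans e1.symm), fun e => e.symm ▸ e1⟩,
        show σ j = pI ↔ j = k from ⟨fun e => σ.injective (e.trans e3.symm), fun e => e.symm ▸ e3⟩,
        show σ j = pJ ↔ j = l from ⟨fun e => σ.injective (e.trans e4.symm), fun e => e.symm ▸ e4⟩]
    by_cases h3 : (t : GolayPt → ℤ) j = -3
    · rw [if_pos (hc.mpr h3), h3]
    · rw [if_neg fun e => h3 (hc.mp e)]
      rcases hval j with e | e | e
      · exact e
      · exact absurd e h3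
      · exact absurd e (hF j)

theorem to_triangle (v w x : leechLattice) (hv : Cfsg.sqNorm (v : GolayPt → ℤ) = 48)
    (hw : Cfsg.sqNorm (w : GolayPt → ℤ) = 48) (hvw : dotInt (v : GolayPt → ℤ) w = -32)
    (hx : Cfsg.sqNorm (x : GolayPt → ℤ) = 32) (hvx : dotInt (v : GolayPt → ℤ) x = 24)
    (hwx : dotInt (w : GolayPt → ℤ) x = -24) :
    ∃ g : Co0, g • v = ⟨vD, mem_of_inL vD_ok.1⟩ ∧ g • w = bQ - ⟨vD, mem_of_inL vD_ok.1⟩ ∧ g • x = bP := by
  classical
  set a : leechLattice := v + w with hadef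
  have ha : Cfsg.sqNorm (a : GolayPt → ℤ) = 32 := by
    rw [hadef, AddSubgroup.coe_add, sqNorm_add, hv, hw, hvw]; norm_num
  have hav : dotInt (a : GolayPt → ℤ) v = 16 := by
    rw [hadef, AddSubgroup.coe_add, dot_add_left, ← sqNorm_eq_dot, hv, dot_comm, hvw]; norm_num
  have hax : dotInt (a : GolayPt → ℤ) x = 0 := by rw [hadef, AddSubgroup.coe_add, dot_add_left, hvx, hwx]; norm_num
  obtain ⟨g, hg1, hg2, hN, hO⟩ := to_pair_coords a x v ha hx hax hav (q := 24) (by rw [dot_comm]; exact hvx)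
  set y : GolayPt → ℤ := ((g • v : leechLattice) : GolayPt → ℤ) with hy
  have hyN : y pN = 5 := by omega
  have hyO : y pO = -1 := by omega
  have hodd : ∀ i, y i % 2 = 1 := by
    rcases parity_uniform (g • v).2 with e | e
    · have := e pN; change y pN % 2 = 0 at this; omega
    · exact e
  set d := univ.filter fun i => y i % 4 = 3
  have hd : d ∈ code := word_odd (g • v).2 hodd
  have hdN : pN ∉ d := by simp only [d, mem_filter, mem_univ, true_and]; omega
  have hdO : pO ∈ d := by simp only [d, mem_filter, mem_univ, true_and]; omega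
  have hP : mono (one_mem M24) hd • bP = bQ := by
    refine Subtype.ext (funext fun i => ?_)
    rw [flip_base]
    simp only [bP, bQ, pairVec]
    rcases eq_or_ne i pN with rfl | hi
    · simp [hdN]
    rcases eq_or_ne i pO with rfl | hi'
    · simp [hdO]
    · simp [hi, hi']
  have hQ : mono (one_mem M24) hd • bQ = bP := by
    refine Subtype.ext (funext fun i => ?_)
    rw [flip_base]
    simp only [bP, bQ, pairVec]
    rcases eq_or_ne i pN with rfl | hi
    · simp [hdN]
    rcases eq_or_ne i pO with rfl | hi'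
    · simp [hdO]
    · simp [hi, hi']
  have hV : mono (one_mem M24) hd • g • v = ⟨vD, mem_of_inL vD_ok.1⟩ := by
    have hn : Cfsg.sqNorm ((mono (one_mem M24) hd • g • v : leechLattice) : GolayPt → ℤ) = 48 :=
      (((mono (one_mem M24) hd).2.2 _).trans (g.2.2 v)).trans hv
    have hmod : ∀ i, ((mono (one_mem M24) hd • g • v : leechLattice) : GolayPt → ℤ) i % 4 = 1 := fun i => by
      rw [flip_base]; have := hodd i
      show (if i ∈ d then -y i else y i) % 4 = 1
      simp only [d, mem_filter, mem_univ, true_and]; split <;> omega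
    obtain ⟨hval, hcount⟩ := odd_values hn hmod
    have h5 : ((mono (one_mem M24) hd • g • v : leechLattice) : GolayPt → ℤ) pN = 5 := by
      rw [flip_base, if_neg hdN]; show y pN = 5; omega
    refine Subtype.ext (funext fun i => ?_)
    show _ = (if i = none then (5 : ℤ) else 1)
    by_cases hi : i = none
    · rw [if_pos hi, hi]; exact h5
    · rw [if_neg hi]
      rcases hval i with e | e | e
      · exact e
      · exfalso
        have : 1 ≤ (univ.filter fun j => ((mono (one_mem M24) hd • g • v : leechLattice) : GolayPt → ℤ) j = -3).card :=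
          card_pos.mpr ⟨i, by simp [e]⟩
        have : 1 ≤ (univ.filter fun j => ((mono (one_mem M24) hd • g • v : leechLattice) : GolayPt → ℤ) j = 5).card :=
          card_pos.mpr ⟨pN, by simp [h5]⟩
        omega
      · exfalso
        have : 1 < (univ.filter fun j => ((mono (one_mem M24) hd • g • v : leechLattice) : GolayPt → ℤ) j = 5).card :=
          one_lt_card.mpr ⟨pN, by simp [h5], i, by simp [e], Ne.symm hi⟩
        omega
  refine ⟨mono (one_mem M24) hd * g, by rw [mul_smul, hV], ?_, by rw [mul_smul, hg2, hQ]⟩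
  rw [show w = a + -v by rw [hadef]; abel, smul_add', smul_neg', mul_smul, mul_smul, hg1, hP, hV, sub_eq_add_neg]

theorem triangle_transitive (v w x v' w' x' : leechLattice) (hv : Cfsg.sqNorm (v : GolayPt → ℤ) = 48)
    (hw : Cfsg.sqNorm (w : GolayPt → ℤ) = 48) (hvw : dotInt (v : GolayPt → ℤ) w = -32)
    (hx : Cfsg.sqNorm (x : GolayPt → ℤ) = 32) (hvx : dotInt (v : GolayPt → ℤ) x = 24)
    (hwx : dotInt (w : GolayPt → ℤ) x = -24) (hv' : Cfsg.sqNorm (v' : GolayPt → ℤ) = 48)
    (hw' : Cfsg.sqNorm (w' : GolayPt → ℤ) = 48) (hvw' : dotInt (v' : GolayPt → ℤ) w' = -32)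
    (hx' : Cfsg.sqNorm (x' : GolayPt → ℤ) = 32) (hvx' : dotInt (v' : GolayPt → ℤ) x' = 24)
    (hwx' : dotInt (w' : GolayPt → ℤ) x' = -24) :
    ∃ g : Co0, g • v = v' ∧ g • w = w' ∧ g • x = x' := by
  obtain ⟨g, g1, g2, g3⟩ := to_triangle v w x hv hw hvw hx hvx hwx
  obtain ⟨h, h1, h2, h3⟩ := to_triangle v' w' x' hv' hw' hvw' hx' hvx' hwx'
  exact ⟨h⁻¹ * g, by rw [mul_smul, g1, ← h1, inv_smul_smul], by rw [mul_smul, g2, ← h2, inv_smul_smul],
    by rw [mul_smul, g3, ← h3, inv_smul_smul]⟩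

theorem swap_pair (v w : leechLattice) (hv : Cfsg.sqNorm (v : GolayPt → ℤ) = 48)
    (hw : Cfsg.sqNorm (w : GolayPt → ℤ) = 48) (hvw : dotInt (v : GolayPt → ℤ) w = -32) :
    ∃ g : Co0, g • v = w ∧ g • w = v := by
  have hwv : dotInt (w : GolayPt → ℤ) v = -32 := by rw [dot_comm]; exact hvw
  obtain ⟨x, hx, hvx, hwx⟩ := third_point v w hv hw hvw
  obtain ⟨x', hx', hwx', hvx'⟩ := third_point w v hw hv hwv
  obtain ⟨g, g1, g2, -⟩ := triangle_transitive v w x w v x' hv hw hvw hx hvx hwx hw hv hwv hx' hwx' hvx'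
  exact ⟨g, g1, g2⟩

end Cfsg.Lib.Leech
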