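import Cfsg.Agent.Leech.MonsterFrame

/-!
The stabiliser of a least vector: no normal 2-subgroup, faithful action on the orthogonal classes.
-/

namespace Cfsg.Lib.Leech

open Cfsg Cfsg.Lib.Golay Finset

theorem leechU_eq : Spor.leechU = bP := Subtype.ext (funext fun p => by
  show Spor.vecU p = pairVec pN pO 1 p
  by_cases h : p = none
  · subst h; simp [Spor.vecU, pairVec]
  · by_cases h' : p = some 0
    · subst h'; simp [Spor.vecU, pairVec]
    · simp [Spor.vecU, pairVec, h, h'])

theorem bP_norm : Cfsg.sqNorm (bP : GolayPt → ℤ) = 32 := pairVec_norm (by decide) (Or.inl rfl)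

theorem bP_self : dotInt (bP : GolayPt → ℤ) bP = 32 := by
  have h := bP_norm
  unfold Cfsg.sqNorm at h
  rw [dotInt, ← h]
  exact sum_congr rfl fun i _ => (pow_two _).symm

/-- Least vectors congruent modulo two agree up to sign. -/
theorem short_congr {x y w : leechLattice} (hx : Cfsg.sqNorm (x : GolayPt → ℤ) = 32)
    (hy : Cfsg.sqNorm (y : GolayPt → ℤ) = 32) (h : x = y + (2 : ℤ) • w) : x = y ∨ x = -y := by
  obtain ⟨-, hs⟩ := s5551 (x : GolayPt → ℤ) y y.2 (by omega) (by omega) ⟨w, w.2, by rw [h]; simp [two_smul]⟩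
  rcases hs (by omega) with e | e
  · exact Or.inl (Subtype.ext e.symm)
  · exact Or.inr (Subtype.ext (by rw [AddSubgroup.coe_neg, e, neg_neg]))

theorem negOne_moves : negOne • bP ≠ bP := by
  intro h
  rw [negOne_apply] at h
  have := congrFun (congrArg Subtype.val h) pN
  simp [bP, pairVec] at this

/-- A central automorphism fixing the base vector is trivial. -/
theorem center_fix {g : Co0} (hg : g ∈ Subgroup.center Co0) (hb : g • bP = bP) : g = 1 :=
  (center_cases hg).resolve_right fun h => negOne_moves (h ▸ hb)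

/-- The vectors congruent modulo two to zero or to the base vector. -/
def twoBase : AddSubgroup leechLattice where
  carrier := {x | ∃ w : leechLattice, x = (2 : ℤ) • w ∨ x = bP + (2 : ℤ) • w}
  zero_mem' := ⟨0, Or.inl (smul_zero _).symm⟩
  add_mem' := by
    rintro x y ⟨v, hv | hv⟩ ⟨w, hw | hw⟩ <;> subst hv <;> subst hw
    · exact ⟨v + w, Or.inl (smul_add _ _ _).symm⟩
    · exact ⟨v + w, Or.inr (by rw [smul_add]; abel)⟩
    · exact ⟨v + w, Or.inr (by rw [smul_add]; abel)⟩
    · exact ⟨v + w + bP, Or.inl (by rw [smul_add, smul_add, two_smul ℤ bP]; abel)⟩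
  neg_mem' := by
    rintro x ⟨v, hv | hv⟩ <;> subst hv
    · exact ⟨-v, Or.inl (smul_neg _ _).symm⟩
    · exact ⟨-v - bP, Or.inr (by rw [smul_sub, smul_neg, two_smul ℤ bP]; abel)⟩

theorem mem_twoBase {x : leechLattice} :
    x ∈ twoBase ↔ ∃ w : leechLattice, x = (2 : ℤ) • w ∨ x = bP + (2 : ℤ) • w := Iff.rfl

theorem twoBase_smul {g : Co0} (hb : g • bP = bP) {x : leechLattice} (hx : x ∈ twoBase) : g • x ∈ twoBase := by
  obtain ⟨w, hw | hw⟩ := hx <;> subst hw
  · exact ⟨g • w, Or.inl (smul_zsmul' _ _ _)⟩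
  · exact ⟨g • w, Or.inr (by rw [smul_add', smul_zsmul', hb])⟩

theorem twoBase_finite : Finite (leechLattice ⧸ twoBase) := by
  have hle : (leechLattice.map double).addSubgroupOf leechLattice ≤ twoBase := by
    rintro x ⟨y, hy, hyx⟩
    exact ⟨⟨y, hy⟩, Or.inl (Subtype.ext (by
      show (x : GolayPt → ℤ) = (2 : ℤ) • y
      rw [show (x : GolayPt → ℤ) = double y from hyx.symm]
      simp [double, two_smul, two_nsmul]))⟩
  have h := AddSubgroup.index_dvd_of_le hle
  rw [index_quotient] at h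
  exact Nat.finite_of_card_ne_zero (ne_zero_of_dvd_ne_zero (by norm_num) h)

theorem twoBase_even : 2 ∣ Nat.card (leechLattice ⧸ twoBase) := by
  obtain ⟨a, b, -, -, -, hb, hab⟩ := perp_odd
  have hne : (a : leechLattice ⧸ twoBase) ≠ 0 := by
    rw [Ne, QuotientAddGroup.eq_zero_iff]
    rintro ⟨w, hw⟩
    obtain ⟨j, hj⟩ := eight_dvd_dot w.2 b.2
    rcases hw with hw | hw <;> rw [hw] at hab
    · rw [AddSubgroup.coe_zsmul, dotInt] at hab
      simp only [Pi.smul_apply, smul_eq_mul, mul_assoc, ← mul_sum] at hab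
      rw [show ∑ i, (w : GolayPt → ℤ) i * (b : GolayPt → ℤ) i = 8 * j from hj] at hab
      omega
    · rw [AddSubgroup.coe_add, dotInt_add_left, hb, AddSubgroup.coe_zsmul, zero_add, dotInt] at hab
      simp only [Pi.smul_apply, smul_eq_mul, mul_assoc, ← mul_sum] at hab
      rw [show ∑ i, (w : GolayPt → ℤ) i * (b : GolayPt → ℤ) i = 8 * j from hj] at hab
      omega
  have h2 : (2 : ℕ) • (a : leechLattice ⧸ twoBase) = 0 := by
    rw [← QuotientAddGroup.mk_nsmul, QuotientAddGroup.eq_zero_iff]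
    exact ⟨a, Or.inl (by rw [two_nsmul, two_smul])⟩
  haveI := twoBase_finite
  exact (addOrderOf_eq_prime h2 hne) ▸ addOrderOf_dvd_natCard _

/-- The stabiliser of the base vector has no normal 2-subgroup. -/
theorem co2_no_two (R : Subgroup Co0) (hP : IsPGroup 2 R) (hR : ∀ r ∈ R, r • bP = bP)
    (hn : ∀ h : Co0, h • bP = bP → ∀ r ∈ R, h * r * h⁻¹ ∈ R) : ∀ r ∈ R, r = 1 := by
  classical
  haveI := twoBase_finite
  letI : MulAction R (leechLattice ⧸ twoBase) :=
    { smul := fun r => QuotientAddGroup.map twoBase twoBase (toHom (r : Co0))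
        fun x hx => twoBase_smul (hR r r.2) hx
      one_smul := fun x => by
        induction x using QuotientAddGroup.induction_on with
        | H y => exact congrArg QuotientAddGroup.mk (one_smul Co0 y)
      mul_smul := fun r r' x => by
        induction x using QuotientAddGroup.induction_on with
        | H y => exact congrArg QuotientAddGroup.mk (mul_smul (r : Co0) (r' : Co0) y) }
  obtain ⟨x, hx, hx0⟩ := hP.exists_fixed_point_of_prime_dvd_card_of_fixed_point (leechLattice ⧸ twoBase)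
    twoBase_even (a := 0) fun r => (QuotientAddGroup.map twoBase twoBase (toHom (r : Co0))
      fun x hx => twoBase_smul (hR r r.2) hx).map_zero
  obtain ⟨y, rfl⟩ := QuotientAddGroup.mk_surjective x
  have hy : y ∉ twoBase := fun h => hx0 ((QuotientAddGroup.eq_zero_iff y).mpr h).symm
  let F : AddSubgroup (GolayPt → ℤ) :=
    ({ carrier := {x : leechLattice | ∀ r ∈ R, r • x - x ∈ twoBase}
       zero_mem' := fun r _ => by rw [show r • (0 : leechLattice) = 0 from (toHom r).map_zero, sub_zero]; exact zero_mem _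
       add_mem' := fun {a b} ha hb r hr => by
        rw [smul_add', add_sub_add_comm]; exact add_mem (ha r hr) (hb r hr)
       neg_mem' := fun {a} ha r hr => by
        rw [smul_neg', neg_sub_neg, ← neg_sub]; exact neg_mem (ha r hr) } : AddSubgroup leechLattice).map
      leechLattice.subtype
  have hmem : ∀ w : leechLattice, (w : GolayPt → ℤ) ∈ F ↔ ∀ r ∈ R, r • w - w ∈ twoBase := fun w => by
    constructor
    · rintro ⟨w', hw', he⟩
      obtain rfl : w' = w := Subtype.ext he
      exact hw'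
    · exact fun h => ⟨w, h, rfl⟩
  have hF2 : ∀ v ∈ leechLattice, (2 : ℤ) • v ∈ F := fun v hv =>
    (hmem ((2 : ℤ) • ⟨v, hv⟩)).mpr fun r _ => ⟨r • (⟨v, hv⟩ : leechLattice) - ⟨v, hv⟩,
      Or.inl (by rw [smul_zsmul', smul_sub])⟩
  have hFle : F ≤ leechLattice := by rintro _ ⟨w, -, rfl⟩; exact w.2
  have hFb : (bP : GolayPt → ℤ) ∈ F := (hmem bP).mpr fun r hr => by rw [hR r hr, sub_self]; exact zero_mem _
  have hFy : (y : GolayPt → ℤ) ∈ F := (hmem y).mpr fun r hr => by
    have h : ((r • y : leechLattice) : leechLattice ⧸ twoBase) = (y : leechLattice ⧸ twoBase) := hx ⟨r, hr⟩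
    rwa [QuotientAddGroup.eq_iff_sub_mem] at h
  have hFinv : ∀ h : Co0, h • bP = bP → ∀ w : leechLattice, (w : GolayPt → ℤ) ∈ F →
      ((h • w : leechLattice) : GolayPt → ℤ) ∈ F := by
    intro h hh w hw
    refine (hmem _).mpr fun r hr => ?_
    have hh' : h⁻¹ • bP = bP := by rw [inv_smul_eq_iff, hh]
    have h1 := twoBase_smul hh ((hmem w).mp hw _ (hn _ hh' r hr))
    rwa [show h • ((h⁻¹ * r * h⁻¹⁻¹) • w - w) = r • h • w - h • w from by
      rw [sub_eq_add_neg, smul_add', smul_neg', inv_inv, ← mul_smul, ← mul_smul, ← sub_eq_add_neg]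
      group] at h1
  intro r hr
  refine center_fix (perp_faithful r (Or.inl (hR r hr)) fun w hw hd => ?_) (hR r hr)
  obtain ⟨u, hu⟩ := (hmem w).mp (short_perp_mem (M := F) hF2 hFle hFinv hFy hFb
    (fun w hw he => hy ⟨⟨w, hw⟩, Or.inl (Subtype.ext he)⟩)
    (fun w hw he => hy ⟨⟨w, hw⟩, Or.inr (Subtype.ext he)⟩) w hw hd) r hr
  refine ⟨u, ?_⟩
  rcases hu with hu | hu
  · exact Or.inl (by rw [sub_eq_iff_eq_add.mp hu]; abel)
  · exact Or.inr (by rw [sub_eq_iff_eq_add.mp hu]; abel)

/-- Only the identity of the stabiliser is trivial on the orthogonal classes. -/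
theorem co2_faithful {g : Co0} (hb : g • bP = bP)
    (h : ∀ x : leechLattice, (16 : ℤ) ∣ dotInt (x : GolayPt → ℤ) bP → g • x - x ∈ twoBase) : g = 1 := by
  refine center_fix (perp_faithful g (Or.inl hb) fun w _ hd => ?_) hb
  obtain ⟨u, hu⟩ := h w (by rw [dot_comm, hd]; norm_num)
  refine ⟨u, ?_⟩
  rcases hu with hu | hu
  · exact Or.inl (by rw [sub_eq_iff_eq_add.mp hu]; abel)
  · exact Or.inr (by rw [sub_eq_iff_eq_add.mp hu]; abel)

end Cfsg.Lib.Leech
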