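import Cfsg.Agent.Leech.PairSimple
import Cfsg.Agent.Golay.Steiner3622
import Cfsg.Agent.Steiner.Graphs

/-!
The point-block graph of a Steiner system S(3, 6, 22) inside the lattice, and its automorphisms.

Over the pair `(5, 1^23)`, `(-1, -5, -1^22)` the 100 least vectors of products 24 and -24 are
`(4, 4, 0^22)`, 22 vectors `(1, 1, -3, 1^21)` and 77 vectors `(2, 2, 2^6, 0^16)`; adjacency is product 8.
-/

namespace Cfsg.Lib.Leech.HSGraph

open Cfsg Cfsg.Lib.Golay Cfsg.Lib.Steiner Finset MulAction
open scoped Pointwise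

local instance finiteCo0Inst'' : Finite Co0 := finite_co0

/-- `-3` at one coordinate, 1 elsewhere. -/
def pointVec (q : GolayPt) : GolayPt → ℤ := fun p => if p = q then -3 else 1

/-- Twice a set. -/
def twoOn (o : Finset GolayPt) : GolayPt → ℤ := fun p => if p ∈ o then 2 else 0

theorem pointVec_ok : ∀ q, inL (pointVec q) = true ∧ Cfsg.sqNorm (pointVec q) = 32 := by decide +kernel

theorem twoOn_mem {o : Finset GolayPt} (ho : o ∈ octads) : twoOn o ∈ leechLattice :=
  mem_lattice.mpr ⟨0, o, 0, ho.1, fun i => by simp only [twoOn, indZ, Pi.zero_apply]; split <;> norm_num, by simp⟩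

theorem sum_three (a b c : ℤ) (s : Finset GolayPt) :
    ∑ p ∈ s, threeVec a b c p =
      c * s.card + (if none ∈ s then a - c else 0) + (if some 0 ∈ s then b - c else 0) := by
  have e : ∀ p, threeVec a b c p = c + (if p = none then a - c else 0) + (if p = some 0 then b - c else 0) := by
    intro p
    unfold threeVec
    by_cases h1 : p = none
    · subst h1; simp
    · by_cases h2 : p = some 0 <;> simp [h1, h2]
  simp only [e, sum_add_distrib, sum_const, sum_ite_eq', nsmul_eq_mul]
  ring

theorem sum_point (q : GolayPt) (s : Finset GolayPt) :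
    ∑ p ∈ s, pointVec q p = (s.card : ℤ) - 4 * (if q ∈ s then 1 else 0) := by
  have e : ∀ p, pointVec q p = 1 - 4 * (if p = q then 1 else 0) := fun p => by unfold pointVec; split <;> norm_num
  simp only [e, sum_sub_distrib, sum_const, ← mul_sum, sum_ite_eq', nsmul_eq_mul, mul_one]

theorem dot_point (q : GolayPt) (f : GolayPt → ℤ) : dotInt (pointVec q) f = (∑ p, f p) - 4 * f q := by
  have e : ∀ p, pointVec q p * f p = f p - (if p = q then 4 * f p else 0) := fun p => by
    unfold pointVec; split <;> ring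
  simp only [dotInt, e, sum_sub_distrib, sum_ite_eq', mem_univ, if_true]

theorem dot_two (o : Finset GolayPt) (f : GolayPt → ℤ) : dotInt (twoOn o) f = 2 * ∑ p ∈ o, f p := by
  simp only [dotInt, twoOn, ite_mul, zero_mul, sum_ite_mem, univ_inter, mul_sum]

theorem card_univ24 : ((univ : Finset GolayPt).card : ℤ) = 24 := by
  rw [card_univ, Fintype.card_option, ZMod.card]; norm_num

/-- The lattice vector `(4, 4, 0^22)`. -/
def topVec : leechLattice := ⟨threeVec 4 4 0, mem_of_inL base_McL.2.2.1⟩

/-- The first base vector of norm 48. -/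
def baseV : leechLattice := ⟨threeVec 5 1 1, mem_of_inL base_HS.1⟩

/-- The second base vector of norm 48. -/
def baseW : leechLattice := ⟨threeVec (-1) (-5) (-1), mem_of_inL base_HS.2.2.1⟩

/-- The hundred vectors. -/
def hundred : Set leechLattice :=
  {x | Cfsg.sqNorm (x : GolayPt → ℤ) = 32 ∧ dotInt (baseV : GolayPt → ℤ) x = 24 ∧ dotInt (baseW : GolayPt → ℤ) x = -24}

theorem hundred_card : hundred.ncard = 100 := Stab.higman_sims baseV baseW base_HS.2.1 base_HS.2.2.2.1 base_HS.2.2.2.2

theorem topVec_ok : dotInt (threeVec 5 1 1) (threeVec 4 4 0) = 24 ∧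
    dotInt (threeVec (-1) (-5) (-1)) (threeVec 4 4 0) = -24 ∧ dotInt (threeVec 4 4 0) (threeVec 4 4 0) = 32 := by
  decide +kernel

/-- The group of the pair. -/
abbrev hsGrp : Subgroup Co0 := stabilizer Co0 baseV ⊓ stabilizer Co0 baseW

theorem hsGrp_isHS : IsHS ↥hsGrp := isHS_pair base_HS.2.1 base_HS.2.2.2.1 base_HS.2.2.2.2

theorem hundred_smul (g : hsGrp) {x : leechLattice} (hx : x ∈ hundred) : (g : Co0) • x ∈ hundred := by
  obtain ⟨h1, h2, h3⟩ := hx
  have e1 := dot_smul (g : Co0) baseV x
  have e2 := dot_smul (g : Co0) baseW x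
  rw [show (g : Co0) • baseV = baseV from g.2.1] at e1
  rw [show (g : Co0) • baseW = baseW from g.2.2] at e2
  exact ⟨((g : Co0).2.2 x).trans h1, e1.trans h2, e2.trans h3⟩

section
variable {α : Type*} [Fintype α] [DecidableEq α] {B : Set (Finset α)}
variable (e : Option (Option α) ≃ GolayPt) (hn : e none = none) (hn1 : e (some none) = some 0)
  (he : ∀ b : Finset α, (ins2 b).image e ∈ octads ↔ b ∈ B)

/-- The coordinate of a point. -/
def ptOf (a : α) : GolayPt := e (some (some a))

/-- The octad of a block. -/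
def octOf (b : Finset α) : Finset GolayPt := (ins2 b).image e

/-- A vertex as a vector. -/
def vecOf : Option (α ⊕ B) → leechLattice
  | none => topVec
  | some (Sum.inl a) => ⟨pointVec (ptOf e a), mem_of_inL (pointVec_ok _).1⟩
  | some (Sum.inr b) => ⟨twoOn (octOf e b.1), twoOn_mem ((he b.1).mpr b.2)⟩

include hn hn1 in
theorem ptOf_ne (a : α) : ptOf e a ≠ none ∧ ptOf e a ≠ some 0 :=
  ⟨fun h => by simpa [ptOf] using e.injective (h.trans hn.symm),
    fun h => by simpa [ptOf] using e.injective (h.trans hn1.symm)⟩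

include hn hn1 in
theorem octOf_mem (b : Finset α) : none ∈ octOf e b ∧ some 0 ∈ octOf e b :=
  ⟨mem_image.mpr ⟨none, none_mem_insertNone, hn⟩,
    mem_image.mpr ⟨some none, some_mem_insertNone.mpr none_mem_insertNone, hn1⟩⟩

theorem ptOf_mem_octOf (a : α) (b : Finset α) : ptOf e a ∈ octOf e b ↔ a ∈ b := by
  rw [ptOf, octOf, e.injective.mem_finset_image]; simp [ins2]

theorem inter_octOf (b c : Finset α) : (octOf e b ∩ octOf e c).card = (b ∩ c).card + 2 := by
  rw [octOf, octOf, ← image_inter _ _ e.injective, card_image_of_injective _ e.injective, ins2, ins2,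
    inter_insertNone, inter_insertNone, card_insertNone, card_insertNone]

include hn hn1 in
theorem dot_base {a b c : ℤ} :
    (∀ x : α, dotInt (pointVec (ptOf e x)) (threeVec a b c) = a + b + 22 * c - 4 * c) ∧
      ∀ y : Finset α, y.card = 6 → dotInt (twoOn (octOf e y)) (threeVec a b c) = 2 * (a + b + 6 * c) := by
  refine ⟨fun x => ?_, fun y hy => ?_⟩
  · obtain ⟨h1, h2⟩ := ptOf_ne e hn hn1 x
    rw [dot_point, sum_three, card_univ24, if_pos (mem_univ _), if_pos (mem_univ _), threeVec, if_neg h1, if_neg h2]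
    ring
  · obtain ⟨h1, h2⟩ := octOf_mem e hn hn1 y
    rw [dot_two, sum_three, if_pos h1, if_pos h2, octOf, card_image_of_injective _ e.injective, card_ins2, hy]
    push_cast; ring

theorem dot_two_two (o o' : Finset GolayPt) : dotInt (twoOn o) (twoOn o') = 4 * ((o ∩ o').card : ℤ) := by
  rw [dot_two]
  simp only [twoOn, sum_ite_mem, sum_const, nsmul_eq_mul]
  ring

include hn hn1 he in
theorem vecOf_mem (hB : IsSteinerSystem 3 6 B) (x : Option (α ⊕ B)) : vecOf e he x ∈ hundred := by
  obtain ⟨t1, t2, t3⟩ := topVec_ok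
  rcases x with _ | a | b
  · exact ⟨by rw [sqNorm_eq_dot]; exact t3, t1, t2⟩
  · refine ⟨(pointVec_ok _).2, ?_, ?_⟩ <;> rw [dot_comm]
    · exact ((dot_base e hn hn1).1 a).trans (by norm_num)
    · exact ((dot_base e hn hn1).1 a).trans (by norm_num)
  · refine ⟨?_, ?_, ?_⟩
    · show Cfsg.sqNorm (twoOn (octOf e b.1)) = 32
      rw [sqNorm_eq_dot, dot_two_two, inter_self, octOf, card_image_of_injective _ e.injective, card_ins2,
        hB.1 b.1 b.2]
      norm_num
    · rw [dot_comm]; exact ((dot_base e hn hn1).2 b.1 (hB.1 b.1 b.2)).trans (by norm_num)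
    · rw [dot_comm]; exact ((dot_base e hn hn1).2 b.1 (hB.1 b.1 b.2)).trans (by norm_num)

include hn hn1 he in
theorem vecOf_dot (hα : Fintype.card α = 22) (hB : IsSteinerSystem 3 6 B) (x y : Option (α ⊕ B)) :
    ((pointBlockGraph B).Adj x y → dotInt (vecOf e he x : GolayPt → ℤ) (vecOf e he y) = 8) ∧
    (¬ (pointBlockGraph B).Adj x y → x ≠ y → dotInt (vecOf e he x : GolayPt → ℤ) (vecOf e he y) = 16) ∧
    (x = y → dotInt (vecOf e he x : GolayPt → ℤ) (vecOf e he y) = 32) := by
  have hself : x = y → dotInt (vecOf e he x : GolayPt → ℤ) (vecOf e he y) = 32 := fun h => by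
    subst h; rw [← sqNorm_eq_dot]; exact (vecOf_mem e hn hn1 he hB x).1
  have hptpt : ∀ a a' : α, a ≠ a' → dotInt (pointVec (ptOf e a)) (pointVec (ptOf e a')) = 16 := fun a a' h => by
    have hne : ptOf e a ≠ ptOf e a' := fun h' => h (by simpa [ptOf] using e.injective h')
    rw [dot_point, sum_point, card_univ24, if_pos (mem_univ _), pointVec, if_neg hne]; norm_num
  have hptbl : ∀ (a : α) (b : B), dotInt (pointVec (ptOf e a)) (twoOn (octOf e b.1)) = if a ∈ b.1 then 8 else 16 := by
    intro a b
    rw [dot_point]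
    simp only [twoOn, sum_ite_mem, univ_inter, sum_const, nsmul_eq_mul, ptOf_mem_octOf]
    rw [octOf, card_image_of_injective _ e.injective, card_ins2, hB.1 b.1 b.2]
    split <;> norm_num
  have hblbl : ∀ b c : B, b ≠ c →
      dotInt (twoOn (octOf e b.1)) (twoOn (octOf e c.1)) = if Disjoint b.1 c.1 then 8 else 16 := by
    intro b c h
    rw [dot_two_two, inter_octOf]
    by_cases hd : Disjoint b.1 c.1
    · rw [if_pos hd, disjoint_iff_inter_eq_empty.mp hd]; norm_num
    · rw [if_neg hd]
      rcases inter_s3622 hα hB b.2 c.2 (fun h' => h (Subtype.ext h')) with h0 | h2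
      · exact absurd (disjoint_iff_inter_eq_empty.mpr (card_eq_zero.mp h0)) hd
      · rw [h2]; norm_num
  refine ⟨fun h => ?_, fun h hne => ?_, hself⟩
  all_goals
    rw [pointBlockGraph, SimpleGraph.fromRel_adj] at h
    rcases x with _ | a | b <;> rcases y with _ | a' | b' <;>
      simp only [pointBlockRel, ne_eq, not_true, false_and, or_false, false_or, and_true, not_false_eq_true,
        true_and, reduceCtorEq, Option.some.injEq, Sum.inl.injEq, Sum.inr.injEq, and_false] at h
  -- adjacent
  · exact (dot_comm _ _).trans (((dot_base e hn hn1).1 a').trans (by norm_num))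
  · exact ((dot_base e hn hn1).1 a).trans (by norm_num)
  · exact (hptbl a b').trans (if_pos h)
  · exact (dot_comm _ _).trans ((hptbl a' b).trans (if_pos h))
  · exact (hblbl b b' h.1).trans (if_pos (h.2.elim id fun h' => h'.symm))
  -- not adjacent
  · exact absurd rfl hne
  · exact (dot_comm _ _).trans (((dot_base e hn hn1).2 b'.1 (hB.1 _ b'.2)).trans (by norm_num))
  · exact hptpt a a' fun h' => hne (by rw [h'])
  · exact (hptbl a b').trans (if_neg h)
  · exact ((dot_base e hn hn1).2 b.1 (hB.1 _ b.2)).trans (by norm_num)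
  · exact (dot_comm _ _).trans ((hptbl a' b).trans (if_neg h))
  · have hb : b ≠ b' := fun h' => hne (by rw [h'])
    exact (hblbl b b' hb).trans (if_neg fun h' => h ⟨hb, Or.inl h'⟩)

include hn hn1 he in
theorem adj_iff (hα : Fintype.card α = 22) (hB : IsSteinerSystem 3 6 B) (x y : Option (α ⊕ B)) :
    (pointBlockGraph B).Adj x y ↔ dotInt (vecOf e he x : GolayPt → ℤ) (vecOf e he y) = 8 := by
  obtain ⟨h1, h2, h3⟩ := vecOf_dot e hn hn1 he hα hB x y
  refine ⟨h1, fun h => ?_⟩
  by_contra hna
  by_cases hxy : x = y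
  · rw [h3 hxy] at h; norm_num at h
  · rw [h2 hna hxy] at h; norm_num at h

include hn hn1 he in
theorem vecOf_bijective (hα : Fintype.card α = 22) (hB : IsSteinerSystem 3 6 B) :
    Function.Bijective fun x : Option (α ⊕ B) => (⟨vecOf e he x, vecOf_mem e hn hn1 he hB x⟩ : hundred) := by
  classical
  haveI : Fintype B := Fintype.ofFinite B
  haveI : Finite hundred := Set.finite_of_ncard_ne_zero (by rw [hundred_card]; norm_num)
  refine (Nat.bijective_iff_injective_and_card _).mpr ⟨fun x y h => ?_, ?_⟩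
  · by_contra hxy
    obtain ⟨h1, h2, -⟩ := vecOf_dot e hn hn1 he hα hB x y
    have hval : vecOf e he x = vecOf e he y := congrArg Subtype.val h
    have h32 : dotInt (vecOf e he y : GolayPt → ℤ) (vecOf e he y) = 32 :=
      (vecOf_dot e hn hn1 he hα hB y y).2.2 rfl
    by_cases ha : (pointBlockGraph B).Adj x y
    · have := h1 ha; rw [hval, h32] at this; norm_num at this
    · have := h2 ha hxy; rw [hval, h32] at this; norm_num at this
  · rw [Nat.card_coe_set_eq, hundred_card, Nat.card_eq_fintype_card, Fintype.card_option, Fintype.card_sum, hα,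
      ← Nat.card_eq_fintype_card, Nat.card_coe_set_eq, card_blocks_22 hα hB]

end

section
variable {α : Type*} [Fintype α] [DecidableEq α] {B : Set (Finset α)}

/-- The graph's automorphisms. -/
abbrev GraphAut (B : Set (Finset α)) : Type _ := pointBlockGraph B ≃g pointBlockGraph B

theorem finite_graphAut : Finite (GraphAut B) :=
  Finite.of_injective (fun f => (f : Option (α ⊕ B) → Option (α ⊕ B))) DFunLike.coe_injective

theorem exists_action (hα : Fintype.card α = 22) (hB : IsSteinerSystem 3 6 B) :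
    ∃ φ : hsGrp →* GraphAut B, Function.Injective φ ∧ ∀ x, ∃ g, φ g none = x := by
  classical
  obtain ⟨e, hn, hn1, he⟩ := exists_equiv_3622 hα hB
  set Φ := Equiv.ofBijective _ (vecOf_bijective e hn hn1 he hα hB) with hΦ
  let act : hsGrp → (hundred ≃ hundred) := fun g =>
    { toFun := fun x => ⟨(g : Co0) • x.1, hundred_smul g x.2⟩
      invFun := fun x => ⟨((g⁻¹ : hsGrp) : Co0) • x.1, hundred_smul _ x.2⟩
      left_inv := fun x => Subtype.ext (inv_smul_smul (g : Co0) x.1)
      right_inv := fun x => Subtype.ext (smul_inv_smul (g : Co0) x.1) }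
  have hval : ∀ (g : hsGrp) x, vecOf e he ((Φ.trans ((act g).trans Φ.symm)) x) = (g : Co0) • vecOf e he x := fun g x => by
    show ((Φ (Φ.symm (act g (Φ x))) : hundred) : leechLattice) = _
    rw [Equiv.apply_symm_apply]; rfl
  let φ : hsGrp →* GraphAut B := MonoidHom.mk'
    (fun g => ⟨Φ.trans ((act g).trans Φ.symm), fun {x y} => by
      rw [adj_iff e hn hn1 he hα hB, adj_iff e hn hn1 he hα hB x y, hval, hval, dot_smul]⟩)
    fun g g' => RelIso.ext fun x => by
      show Φ.symm (act (g * g') (Φ x)) = Φ.symm (act g (Φ (Φ.symm (act g' (Φ x)))))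
      rw [Equiv.apply_symm_apply]
      exact congrArg Φ.symm (Subtype.ext (mul_smul (g : Co0) (g' : Co0) (Φ x).1))
  have htr : ∀ x, ∃ g, φ g none = x := fun x => by
    obtain ⟨h1, h2, h3⟩ := (Φ none).2
    obtain ⟨k1, k2, k3⟩ := (Φ x).2
    obtain ⟨g, g1, g2, g3⟩ := triangle_transitive baseV baseW (Φ none).1 baseV baseW (Φ x).1 base_HS.2.1
      base_HS.2.2.2.1 base_HS.2.2.2.2 h1 h2 h3 base_HS.2.1 base_HS.2.2.2.1 base_HS.2.2.2.2 k1 k2 k3
    refine ⟨⟨g, g1, g2⟩, ?_⟩
    show Φ.symm (act ⟨g, g1, g2⟩ (Φ none)) = x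
    rw [Equiv.symm_apply_eq]
    exact Subtype.ext g3
  refine ⟨φ, ?_, htr⟩
  haveI : IsSimpleGroup hsGrp := hsGrp_isHS.1
  rcases (inferInstance : φ.ker.Normal).eq_bot_or_eq_top with h | h
  · exact (MonoidHom.ker_eq_bot_iff φ).mp h
  · exfalso
    obtain ⟨a⟩ : Nonempty α := Fintype.card_pos_iff.mp (by omega)
    obtain ⟨g, hg⟩ := htr (some (Sum.inl a))
    rw [show φ g = 1 from MonoidHom.mem_ker.mp (h ▸ Subgroup.mem_top g)] at hg
    exact absurd (show (none : Option (α ⊕ B)) = some (Sum.inl a) from hg) (by simp)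

theorem exists_HS (hα : Fintype.card α = 22) (hB : IsSteinerSystem 3 6 B) :
    ∃ H : Subgroup (GraphAut B), IsHS H := by
  obtain ⟨φ, hφ, -⟩ := exists_action hα hB
  refine ⟨φ.range, ?_, ?_⟩
  · haveI : IsSimpleGroup hsGrp := hsGrp_isHS.1
    exact simple_congr (MonoidHom.ofInjective hφ).symm
  · rw [← Nat.card_congr (MonoidHom.ofInjective hφ).toEquiv]
    exact hsGrp_isHS.2

/-- The stabiliser of the extra vertex is the automorphism group of the system. -/
theorem card_stab_none (hB : IsSteinerSystem 3 6 B) :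
    Nat.card (stabilizer (GraphAut B) (none : Option (α ⊕ B))) = Nat.card (setSystemAut B) := by
  classical
  have hadj : ∀ x : Option (α ⊕ B), (pointBlockGraph B).Adj none x ↔ ∃ a, x = some (Sum.inl a) := fun x => by
    rw [pointBlockGraph, SimpleGraph.fromRel_adj]
    rcases x with _ | a | b <;> simp [pointBlockRel]
  have hblk : ∀ (σ : setSystemAut B) (b : Finset α), (σ : Equiv.Perm α) • b ∈ B ↔ b ∈ B := fun σ b => by
    have hσ : (σ : Equiv.Perm α) • B = B := σ.2
    exact (Set.ext_iff.mp hσ _).symm.trans Set.smul_mem_smul_set_iff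
  let blk : setSystemAut B → (B ≃ B) := fun σ =>
    (MulAction.toPerm (σ : Equiv.Perm α)).subtypeEquiv fun b => (hblk σ b).symm
  have hval : ∀ (σ : setSystemAut B) (b : B), ((blk σ b : B) : Finset α) = (σ : Equiv.Perm α) • (b : Finset α) :=
    fun _ _ => rfl
  let lift : setSystemAut B → GraphAut B := fun σ =>
    ⟨Equiv.optionCongr (Equiv.sumCongr (σ : Equiv.Perm α) (blk σ)), fun {x y} => by
      rw [pointBlockGraph, SimpleGraph.fromRel_adj, SimpleGraph.fromRel_adj]
      refine and_congr (Equiv.optionCongr _).injective.ne_iff ?_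
      have hd : ∀ b c : Finset α, Disjoint ((σ : Equiv.Perm α) • b) ((σ : Equiv.Perm α) • c) ↔ Disjoint b c :=
        fun b c => disjoint_image (MulAction.injective _)
      have hm : ∀ (a : α) (b : Finset α), (σ : Equiv.Perm α) a ∈ (σ : Equiv.Perm α) • b ↔ a ∈ b :=
        fun a b => smul_mem_smul_finset_iff _
      rcases x with _ | a | b <;> rcases y with _ | a' | b' <;> simp [pointBlockRel, hval, hd, hm]⟩
  refine (Nat.card_eq_of_bijective (fun σ => (⟨lift σ, rfl⟩ : stabilizer (GraphAut B) (none : Option (α ⊕ B))))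
    ⟨fun σ τ h => ?_, fun f => ?_⟩).symm
  · refine Subtype.ext (Equiv.ext fun a => ?_)
    have h1 : lift σ (some (Sum.inl a)) = lift τ (some (Sum.inl a)) :=
      congrArg (fun g : stabilizer (GraphAut B) (none : Option (α ⊕ B)) => g.1 (some (Sum.inl a))) h
    simpa [lift] using h1
  have hf0 : f.1 none = none := f.2
  have hpts : ∀ a, ∃ a', f.1 (some (Sum.inl a)) = some (Sum.inl a') := fun a => by
    have h := f.1.map_rel_iff.mpr ((hadj (some (Sum.inl a))).mpr ⟨a, rfl⟩)
    rw [hf0] at h
    exact (hadj _).mp h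
  choose s hs using hpts
  have hsinj : Function.Injective s := fun a a' h => by
    simpa using f.1.injective ((hs a).trans ((congrArg _ (congrArg Sum.inl h)).trans (hs a').symm))
  let σ : Equiv.Perm α := Equiv.ofBijective s (Finite.injective_iff_bijective.mp hsinj)
  have hblocks : ∀ b : B, ∃ b' : B, f.1 (some (Sum.inr b)) = some (Sum.inr b') ∧ (b' : Finset α) = σ • (b : Finset α) := by
    intro b
    rcases h : f.1 (some (Sum.inr b)) with _ | a | b'
    · exact absurd (f.1.injective (h.trans hf0.symm)) (by simp)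
    · have h2 : (pointBlockGraph B).Adj none (some (Sum.inr b)) := by
        rw [← f.1.map_rel_iff, hf0, h]; exact (hadj _).mpr ⟨a, rfl⟩
      obtain ⟨a', ha'⟩ := (hadj _).mp h2
      simp at ha'
    · refine ⟨b', rfl, ext fun c => ?_⟩
      obtain ⟨a, rfl⟩ := σ.surjective c
      have h3 := f.1.map_rel_iff (a := some (Sum.inl a)) (b := some (Sum.inr b))
      rw [hs, h, pointBlockGraph, SimpleGraph.fromRel_adj, SimpleGraph.fromRel_adj] at h3
      simp only [pointBlockRel, ne_eq, reduceCtorEq, not_false_eq_true, true_and, or_false, Option.some.injEq] at h3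
      rw [show σ a = σ • a from rfl, smul_mem_smul_finset_iff]
      exact h3
  choose t ht ht' using hblocks
  have hσ : σ ∈ setSystemAut B := by
    rw [setSystemAut, mem_stabilizer_iff]
    refine Set.eq_of_subset_of_ncard_le ?_ (le_of_eq (Set.ncard_smul_set _ _).symm) (Set.toFinite _)
    rintro _ ⟨b, hb, rfl⟩
    show σ • b ∈ B
    rw [← ht' ⟨b, hb⟩]
    exact (t ⟨b, hb⟩).2
  refine ⟨⟨σ, hσ⟩, Subtype.ext (RelIso.ext fun x => ?_)⟩
  rcases x with _ | a | b
  · exact hf0.symm
  · exact (hs a).symm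
  · rw [ht b]
    exact congrArg (fun z => some (Sum.inr z)) (Subtype.ext (ht' b).symm : blk ⟨σ, hσ⟩ b = t b)

theorem card_graphAut (hα : Fintype.card α = 22) (hB : IsSteinerSystem 3 6 B) :
    Nat.card (GraphAut B) = 88704000 := by
  classical
  haveI : Finite (GraphAut B) := finite_graphAut
  haveI : Fintype B := Fintype.ofFinite B
  obtain ⟨φ, -, htr⟩ := exists_action hα hB
  have horb : orbit (GraphAut B) (none : Option (α ⊕ B)) = Set.univ :=
    Set.eq_univ_of_forall fun x => let ⟨g, hg⟩ := htr x; ⟨φ g, hg⟩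
  have h := Subgroup.card_mul_index (stabilizer (GraphAut B) (none : Option (α ⊕ B)))
  rw [index_stabilizer, horb, Set.ncard_univ, card_stab_none hB, (aut_3622 hα hB).1, Nat.card_eq_fintype_card (α := Option _),
    Fintype.card_option, Fintype.card_sum, hα, ← Nat.card_eq_fintype_card, Nat.card_coe_set_eq, card_blocks_22 hα hB] at h
  omega

end

end Cfsg.Lib.Leech.HSGraph
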