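import Cfsg.Agent.Golay.LinearGroup23

/-!
Simplicity from a self-centralizing element of prime order `q` with normalizer in a simple subgroup.
-/

namespace Cfsg.Lib.Leech

open MulAction
open scoped Pointwise

theorem sylow_zpowers {G : Type*} [Group G] [Finite G] {q : ℕ} [hq : Fact q.Prime]
    (h2 : ¬ q ^ 2 ∣ Nat.card G) {y : G} (hy : orderOf y = q) :
    ∃ S : Sylow q G, (S : Subgroup G) = Subgroup.zpowers y := by
  have hq1 : q ∣ Nat.card G := hy ▸ orderOf_dvd_natCard y
  have hf : (Nat.card G).factorization q = 1 := by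
    refine le_antisymm ?_ (hq.out.factorization_pos_of_dvd Nat.card_pos.ne' hq1)
    by_contra hlt
    exact h2 ((pow_dvd_pow q (not_le.mp hlt)).trans (Nat.ordProj_dvd _ q))
  exact ⟨Sylow.ofCard (Subgroup.zpowers y) (by rw [Nat.card_zpowers, hy, hf, pow_one]), rfl⟩

theorem simple_of_selfCentralizing {G S : Type*} [Group G] [Finite G] [Group S] [IsSimpleGroup S]
    (q : ℕ) [hq : Fact q.Prime] (φ : S →* G) (hφ : Function.Injective φ) (t : S) (ht : orderOf t = q)
    (hq2 : ¬ q ^ 2 ∣ Nat.card G)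
    (hC : ∀ g : G, Commute g (φ t) → g ∈ Subgroup.zpowers (φ t))
    (hN : ∀ g : G, g⁻¹ * φ t * g ∈ Subgroup.zpowers (φ t) → g ∈ φ.range)
    (hpow : ∀ p k : ℕ, p.Prime → 0 < k → p ^ k * Nat.card S ∣ Nat.card G → p ^ k % q ≠ 1) :
    IsSimpleGroup G := by
  classical
  set x : G := φ t with hxdef
  have hx : orderOf x = q := (orderOf_injective φ hφ t).trans ht
  have hxq : x ≠ 1 := fun h => hq.out.one_lt.ne ((orderOf_eq_one_iff.mpr h).symm.trans hx)
  haveI : Nontrivial G := ⟨⟨x, 1, hxq⟩⟩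
  haveI : Finite S := Finite.of_injective φ hφ
  obtain ⟨T, hT⟩ := sylow_zpowers hq2 hx
  refine ⟨fun N hN' => ?_⟩
  haveI := hN'
  by_cases h : q ∣ Nat.card N
  · right
    obtain ⟨y, hy⟩ := exists_prime_orderOf_dvd_card' q h
    have hy' : orderOf (y : G) = q := by rw [Subgroup.orderOf_coe, hy]
    obtain ⟨U, hU⟩ := sylow_zpowers hq2 hy'
    obtain ⟨g, hg⟩ := exists_smul_eq G U T
    have hxN : x ∈ N := by
      have hxT : x ∈ (T : Subgroup G) := hT ▸ Subgroup.mem_zpowers x
      rw [← hg, Sylow.coe_subgroup_smul, hU] at hxT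
      obtain ⟨z, hz, he⟩ := hxT
      rw [← he]
      exact hN'.conj_mem z ((Subgroup.zpowers_le (g := (y : G))).mpr y.2 hz) g
    have hrange : φ.range ≤ N := by
      rintro _ ⟨σ, rfl⟩
      rcases (inferInstance : (N.comap φ).Normal).eq_bot_or_eq_top with h' | h'
      · exfalso
        have h1 : t = 1 := Subgroup.mem_bot.mp (h' ▸ (show t ∈ N.comap φ from hxN))
        exact hxq (by rw [hxdef, h1, map_one])
      · exact (show σ ∈ N.comap φ from h' ▸ Subgroup.mem_top σ)
    have htop := Sylow.normalizer_sup_eq_top' T (hT ▸ (Subgroup.zpowers_le).mpr hxN)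
    refine top_le_iff.mp (htop ▸ sup_le (fun k hk => hrange (hN k ?_)) le_rfl)
    rw [show ((T : Set G)) = (Subgroup.zpowers x : Set G) from congrArg SetLike.coe hT] at hk
    have h2 := (Subgroup.mem_normalizer_iff.mp (inv_mem hk) x).mp (Subgroup.mem_zpowers x)
    rwa [inv_inv] at h2
  left
  by_contra hne
  obtain ⟨p, hp, hpN⟩ := Nat.exists_prime_and_dvd (fun e => hne (Subgroup.card_eq_one.mp e))
  haveI := Fact.mk hp
  set k := (Nat.card N).factorization p
  -- the product with the simple subgroup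
  have hdisj : ∀ s : S, φ s ∈ N → s = 1 := fun s hs => by
    rcases (inferInstance : (N.comap φ).Normal).eq_bot_or_eq_top with h' | h'
    · exact Subgroup.mem_bot.mp (h' ▸ (show s ∈ N.comap φ from hs))
    · refine absurd ?_ h
      rw [← hx]
      exact Subgroup.orderOf_dvd_natCard N (show t ∈ N.comap φ from h' ▸ Subgroup.mem_top t)
  have hdvd : p ^ k * Nat.card S ∣ Nat.card G := by
    have hinj : Function.Injective ((QuotientGroup.mk' N).comp φ) := by
      rw [injective_iff_map_eq_one]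
      exact fun s hs => hdisj s ((QuotientGroup.eq_one_iff _).mp hs)
    rw [Subgroup.card_eq_card_quotient_mul_card_subgroup N, mul_comm (Nat.card (G ⧸ N))]
    exact mul_dvd_mul (Nat.ordProj_dvd _ p) (Subgroup.card_dvd_of_injective _ hinj)
  refine hpow p k hp (hp.factorization_pos_of_dvd Nat.card_pos.ne' hpN) hdvd ?_
  -- an invariant Sylow subgroup
  let P : Sylow p N := default
  set Q : Subgroup G := (P : Subgroup N).map N.subtype with hQ
  have hQN : Q ≤ N := by rintro _ ⟨z, -, rfl⟩; exact z.2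
  have hQc : Nat.card Q = p ^ k := by
    rw [hQ, Subgroup.card_map_of_injective N.subtype_injective, P.card_eq_multiplicity]
  set M := Subgroup.normalizer (Q : Set G)
  have hMN : M ⊔ N = ⊤ := Sylow.normalizer_sup_eq_top P
  have hsurj : Function.Surjective ((QuotientGroup.mk' N).comp M.subtype) := by
    rw [← MonoidHom.range_eq_top, MonoidHom.range_comp, Subgroup.range_subtype]
    refine top_le_iff.mp ?_
    rw [← Subgroup.map_top_of_surjective (QuotientGroup.mk' N) (QuotientGroup.mk'_surjective N), ← hMN,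
      Subgroup.map_sup]
    simp
  have hqM : q ∣ Nat.card M := by
    refine dvd_trans ?_ (Subgroup.card_dvd_of_surjective _ hsurj)
    have h1 := Subgroup.card_eq_card_quotient_mul_card_subgroup N
    have h2 : q ∣ Nat.card G := hx ▸ orderOf_dvd_natCard x
    exact (hq.out.dvd_mul.mp (h1 ▸ h2)).resolve_right h
  obtain ⟨y, hy⟩ := exists_prime_orderOf_dvd_card' q hqM
  have hy' : orderOf (y : G) = q := by rw [Subgroup.orderOf_coe, hy]
  obtain ⟨U, hU⟩ := sylow_zpowers hq2 hy'
  obtain ⟨g, hg⟩ := exists_smul_eq G U T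
  have hxM : g⁻¹ * x * g ∈ M := by
    have hxT : x ∈ (T : Subgroup G) := hT ▸ Subgroup.mem_zpowers x
    rw [← hg, Sylow.coe_subgroup_smul, hU] at hxT
    obtain ⟨z, hz, he⟩ := hxT
    have hzM : z ∈ M := (Subgroup.zpowers_le (g := (y : G))).mpr y.2 hz
    rw [← he]
    simpa [MulAut.conj, mul_assoc] using hzM
  set Q' : Subgroup G := Q.map (MulAut.conj g).toMonoidHom with hQ'
  have hxQ : x ∈ Subgroup.normalizer (Q' : Set G) := by
    refine Cfsg.Lib.Golay.LinearGroup23.mem_norm_of_conj ?_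
    rintro _ ⟨z, hz, rfl⟩
    refine ⟨g⁻¹ * x * g * z * (g⁻¹ * x * g)⁻¹, (Subgroup.mem_normalizer_iff.mp hxM z).mp hz, ?_⟩
    simp only [MulEquiv.coe_toMonoidHom, MulAut.conj_apply]; group
  have hQ'N : Q' ≤ N := by
    rintro _ ⟨z, hz, rfl⟩
    exact hN'.conj_mem z (hQN hz) g
  have hX : IsPGroup q (Subgroup.zpowers x) :=
    IsPGroup.of_card (n := 1) (by rw [Nat.card_zpowers, hx, pow_one])
  let act := (Subgroup.normalizerMonoidHom Q').comp (Subgroup.inclusion (Subgroup.zpowers_le.mpr hxQ))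
  letI : MulAction (Subgroup.zpowers x) Q' := MulAction.compHom Q' act
  have hfix : Nat.card (fixedPoints (Subgroup.zpowers x) Q') = 1 := by
    rw [Nat.card_eq_one_iff_exists]
    refine ⟨⟨1, fun s => map_one (act s)⟩, fun ⟨z, hz⟩ => Subtype.ext (Subtype.ext ?_)⟩
    have hc : x * (z : G) * x⁻¹ = z := congrArg Subtype.val (hz ⟨x, Subgroup.mem_zpowers x⟩)
    have hz1 : (z : G) ∈ Subgroup.zpowers x := hC z (mul_inv_eq_iff_eq_mul.mp hc).symm
    have hd1 : orderOf (z : G) ∣ q := by
      have := Subgroup.orderOf_dvd_natCard (Subgroup.zpowers x) hz1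
      rwa [Nat.card_zpowers, hx] at this
    rcases (Nat.dvd_prime hq.out).mp hd1 with h1 | h1
    · simpa using orderOf_eq_one_iff.mp h1
    · exact absurd (h1 ▸ Subgroup.orderOf_dvd_natCard N (hQ'N z.2)) h
  have h1 := hX.card_modEq_card_fixedPoints Q'
  rw [hfix, hQ', Subgroup.card_map_of_injective (MulEquiv.injective _), hQc] at h1
  exact (show p ^ k % q = 1 % q from h1).trans (Nat.mod_eq_of_lt hq.out.one_lt)

end Cfsg.Lib.Leech
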