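import Cfsg.Agent.Leech.Stab.Configurations

/-!
The least vectors at product -16 with a vector of norm 48: 11178, one orbit.
-/

namespace Cfsg.Lib.Leech.Stab

open Cfsg Cfsg.Lib.Golay Finset

theorem count_D16 : countTri (fun t => dD t == -16) = 11178 := by decide +kernel

theorem six_minus_count (u : leechLattice) (hu : Cfsg.sqNorm (u : GolayPt → ℤ) = 48) :
    {x : leechLattice | Cfsg.sqNorm (x : GolayPt → ℤ) = 32 ∧ dotInt (u : GolayPt → ℤ) x = -16}.ncard = 11178 := by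
  obtain ⟨g, hg⟩ := transitive48 u bD hu vD_ok.2.1
  rw [← count_D16, ← census1D fun a => a == -16]
  refine transport g fun x => ?_
  simp only [Set.mem_ofPred_eq, beq_iff_eq, norm_smul']
  rw [dec_kD, show vD = ((g • u : leechLattice) : GolayPt → ℤ) by rw [hg], dot_smul]

theorem third_side {u x : leechLattice} (hu : Cfsg.sqNorm (u : GolayPt → ℤ) = 48)
    (hx : Cfsg.sqNorm (x : GolayPt → ℤ) = 32) (hux : dotInt (u : GolayPt → ℤ) x = -16) :
    Cfsg.sqNorm ((-(u + x) : leechLattice) : GolayPt → ℤ) = 48 ∧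
      dotInt (u : GolayPt → ℤ) ((-(u + x) : leechLattice) : GolayPt → ℤ) = -32 := by
  have h1 : Cfsg.sqNorm ((-(u + x) : leechLattice) : GolayPt → ℤ) =
      Cfsg.sqNorm ((u : GolayPt → ℤ) + (x : GolayPt → ℤ)) :=
    Finset.sum_congr rfl fun i _ => neg_sq _
  refine ⟨by rw [h1, sqNorm_add, hu, hx, hux]; norm_num, ?_⟩
  have h2 : dotInt (u : GolayPt → ℤ) ((-(u + x) : leechLattice) : GolayPt → ℤ) =
      -(dotInt (u : GolayPt → ℤ) ((u : GolayPt → ℤ) + (x : GolayPt → ℤ))) := by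
    simp only [dotInt, ← Finset.sum_neg_distrib]
    exact Finset.sum_congr rfl fun i _ => mul_neg _ _
  rw [h2, dot_add_right, ← sqNorm_eq_dot, hu, hux]; norm_num

theorem pair48_transitive (v w w' : leechLattice) (hv : Cfsg.sqNorm (v : GolayPt → ℤ) = 48)
    (hw : Cfsg.sqNorm (w : GolayPt → ℤ) = 48) (hvw : dotInt (v : GolayPt → ℤ) w = -32)
    (hw' : Cfsg.sqNorm (w' : GolayPt → ℤ) = 48) (hvw' : dotInt (v : GolayPt → ℤ) w' = -32) :
    ∃ g : Co0, g • v = v ∧ g • w = w' := by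
  obtain ⟨x, hx, h1, h2⟩ := third_point v w hv hw hvw
  obtain ⟨x', hx', h1', h2'⟩ := third_point v w' hv hw' hvw'
  obtain ⟨g, g1, g2, -⟩ := triangle_transitive v w x v w' x' hv hw hvw hx h1 h2 hv hw' hvw' hx' h1' h2'
  exact ⟨g, g1, g2⟩

theorem six_minus_transitive (u x x' : leechLattice) (hu : Cfsg.sqNorm (u : GolayPt → ℤ) = 48)
    (hx : Cfsg.sqNorm (x : GolayPt → ℤ) = 32) (hux : dotInt (u : GolayPt → ℤ) x = -16)
    (hx' : Cfsg.sqNorm (x' : GolayPt → ℤ) = 32) (hux' : dotInt (u : GolayPt → ℤ) x' = -16) :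
    ∃ g : Co0, g • u = u ∧ g • x = x' := by
  obtain ⟨g, g1, g2⟩ := pair48_transitive u _ _ hu (third_side hu hx hux).1 (third_side hu hx hux).2
    (third_side hu hx' hux').1 (third_side hu hx' hux').2
  rw [smul_neg', smul_add', g1, neg_inj, add_right_inj] at g2
  exact ⟨g, g1, g2⟩

end Cfsg.Lib.Leech.Stab
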