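import Cfsg.Agent.Leech.PointSimple
import Cfsg.Agent.Leech.SelfCentralizing
import Cfsg.Agent.Leech.SixShell
import Cfsg.Agent.S0378
import Cfsg.Agent.S0379

/-!
The stabilisers of the pairs `(32, 32, -8)` and `(48, 48, -32)` are simple.

An element of order 11 fixing two coordinates has its normaliser among the coordinate permutations.
-/

namespace Cfsg.Lib.Leech

open Cfsg Cfsg.Lib.Golay Cfsg.Lib.Golay.LinearGroup23 Finset MulAction
open scoped Pointwise

local instance fact23'' : Fact (Nat.Prime 23) := ⟨by norm_num⟩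

local instance fact11 : Fact (Nat.Prime 11) := ⟨by norm_num⟩

local instance finiteCo0Inst' : Finite Co0 := finite_co0

/-- Coordinates `a`, `b` at the two special points and `c` elsewhere. -/
def threeVec (a b c : ℤ) : GolayPt → ℤ := fun p => if p = none then a else if p = some 0 then b else c

/-- The permutations fixing two coordinates. -/
abbrev TwoPt : Type := ↥(stabilizer M24 (none : GolayPt) ⊓ stabilizer M24 (some 0 : GolayPt))

theorem TwoPt.fix (σ : TwoPt) :
    (σ.1 : Equiv.Perm GolayPt) none = none ∧ (σ.1 : Equiv.Perm GolayPt) (some 0) = some 0 :=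
  ⟨σ.2.1, σ.2.2⟩

/-- The inclusion by permutation matrices. -/
noncomputable def twoEmb : TwoPt →* Co0 :=
  MonoidHom.mk' (fun σ => mono σ.1.2 empty_mem_code) fun σ τ => (mono_one_mul σ.1.2 τ.1.2).symm

theorem twoEmb_injective : Function.Injective twoEmb := by
  intro σ τ h
  refine Subtype.ext (Subtype.ext (Equiv.ext fun i => ?_))
  have h1 : mono σ.1.2 empty_mem_code • e8 i = mono τ.1.2 empty_mem_code • e8 i := congrArg (· • e8 i) h
  rw [monoFun_e8, monoFun_e8, if_neg (notMem_empty _), if_neg (notMem_empty _)] at h1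
  by_contra hne
  have h2 := congrFun (congrArg Subtype.val h1) ((σ.1 : Equiv.Perm GolayPt) i)
  simp [e8, hne] at h2

theorem twoEmb_fix {a b c : ℤ} {v : leechLattice} (hv : (v : GolayPt → ℤ) = threeVec a b c) (σ : TwoPt) :
    twoEmb σ • v = v := by
  refine Subtype.ext (funext fun i => ?_)
  obtain ⟨h0, h1⟩ := σ.fix
  simp only [twoEmb, MonoidHom.mk'_apply, mono_apply, signedPerm, notMem_empty, if_false, hv, threeVec,
    Equiv.symm_apply_eq, h0, h1]

/-- An element of order eleven. -/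
def elevenPt : TwoPt :=
  ⟨⟨mu two, mem_M24_mu two_sq⟩, rfl, show mu two (some 0) = some 0 by rw [mu_some, mul_zero]⟩

theorem elevenPt_order : orderOf elevenPt = 11 := by
  refine orderOf_eq_prime (Subtype.ext (Subtype.ext ?_)) fun h => ?_
  · rw [Subgroup.coe_pow, Subgroup.coe_pow]
    show mu two ^ 11 = 1
    rw [mu_pow, two_pow, mu_one]
  · have h1 : mu two = mu 1 := by
      rw [mu_one]; exact congrArg (fun s : TwoPt => (s.1 : Equiv.Perm GolayPt)) h
    exact absurd (mu_inj h1) (by decide)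

/-- The nonzero squares. -/
def sqSet : Finset (ZMod 23) := (Finset.range 11).image fun i => (2 : ZMod 23) ^ i

/-- The nonsquares. -/
def nsqSet : Finset (ZMod 23) := (Finset.range 11).image fun i => 5 * (2 : ZMod 23) ^ i

theorem sq_split : (univ : Finset (ZMod 23)) = insert 0 (sqSet ∪ nsqSet) ∧ (0 : ZMod 23) ∉ sqSet ∪ nsqSet ∧
    Disjoint sqSet nsqSet ∧ sqSet.card = 11 ∧ nsqSet.card = 11 ∧ ((two : (ZMod 23)ˣ) : ZMod 23) = 2 := by
  decide +kernel

theorem fixed_shape {w : leechLattice} (hx : twoEmb elevenPt • w = w) :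
    (∀ p ∈ sqSet, (w : GolayPt → ℤ) (some p) = (w : GolayPt → ℤ) (some 1)) ∧
      ∀ p ∈ nsqSet, (w : GolayPt → ℤ) (some p) = (w : GolayPt → ℤ) (some 5) := by
  have hstep : ∀ k : ZMod 23, (w : GolayPt → ℤ) (some (2 * k)) = (w : GolayPt → ℤ) (some k) := fun k => by
    have h := congrFun (congrArg Subtype.val hx) (some (2 * k))
    simp only [twoEmb, MonoidHom.mk'_apply, mono_apply, signedPerm, notMem_empty, if_false] at h
    rw [show ((elevenPt.1 : Equiv.Perm GolayPt)).symm (some (2 * k)) = some k by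
      rw [Equiv.symm_apply_eq]; show _ = mu two (some k); rw [mu_some, sq_split.2.2.2.2.2]] at h
    exact h.symm
  have hall : ∀ (b : ZMod 23) (n : ℕ), (w : GolayPt → ℤ) (some (b * 2 ^ n)) = (w : GolayPt → ℤ) (some b) := by
    intro b n
    induction n with
    | zero => rw [pow_zero, mul_one]
    | succ n ih => rw [pow_succ', mul_left_comm, hstep, ih]
  refine ⟨fun p hp => ?_, fun p hp => ?_⟩
  · obtain ⟨i, -, rfl⟩ := mem_image.mp hp
    simpa using hall 1 i
  · obtain ⟨i, -, rfl⟩ := mem_image.mp hp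
    exact hall 5 i

theorem sum_four (f : GolayPt → ℤ) (c d : ℤ) (hc : ∀ p ∈ sqSet, f (some p) = c)
    (hd : ∀ p ∈ nsqSet, f (some p) = d) : ∑ p, f p = f none + f (some 0) + 11 * c + 11 * d := by
  obtain ⟨hu, h0, hdis, hs, hn, -⟩ := sq_split
  rw [Fintype.sum_option, hu, sum_insert h0, sum_union hdis, sum_congr rfl hc, sum_congr rfl hd, sum_const,
    sum_const, hs, hn]
  simp [add_assoc]

/-- The test words moved by two multipliers. -/
def twoMap (k l : ZMod 23) : GolayPt → GolayPt := Option.map fun p => if p ∈ sqSet then p * k else p * l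

theorem rows_in : ∀ r ∈ rows, inCode (mk (univ.filter fun p : GolayPt => r.testBit (pidx p) = true)) = true := by
  decide +kernel

theorem twoMap_code : ∀ k l : ZMod 23, k ≠ 0 → l ≠ 0 →
    (rows.all fun r => inCode (mk ((univ.filter fun p : GolayPt => r.testBit (pidx p) = true).image (twoMap k l))))
      = true → k = l ∧ k ∈ sqSet := by
  decide +kernel

theorem eleven_centralizer {σ : TwoPt} (h : σ * elevenPt = elevenPt * σ) :
    σ ∈ Subgroup.zpowers elevenPt := by
  obtain ⟨h0, h1⟩ := σ.fix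
  set s : Equiv.Perm GolayPt := (σ.1 : Equiv.Perm GolayPt) with hs
  have hc : ∀ p, s (mu two p) = mu two (s p) := fun p =>
    DFunLike.congr_fun (congrArg (fun τ : TwoPt => (τ.1 : Equiv.Perm GolayPt)) h) p
  have himg : ∀ b : ZMod 23, b ≠ 0 → ∃ k, k ≠ 0 ∧ s (some b) = some k := fun b hb => by
    rcases e : s (some b) with _ | k
    · exact absurd (s.injective (e.trans h0.symm)) (by simp)
    · refine ⟨k, fun hk => hb ?_, rfl⟩
      rw [hk] at e
      exact Option.some.inj (s.injective (e.trans h1.symm))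
  obtain ⟨k, hk0, hk⟩ := himg 1 one_ne_zero
  obtain ⟨m, hm0, hm⟩ := himg 5 (by decide)
  have hall : ∀ (b c : ZMod 23), s (some b) = some c → ∀ n : ℕ, s (some (b * 2 ^ n)) = some (c * 2 ^ n) := by
    intro b c hbc n
    induction n with
    | zero => simpa using hbc
    | succ n ih =>
      have := hc (some (b * 2 ^ n))
      rw [mu_some, sq_split.2.2.2.2.2, ih, mu_some, sq_split.2.2.2.2.2] at this
      rw [pow_succ', mul_left_comm, this, mul_left_comm]
  have hmap : (s : GolayPt → GolayPt) = twoMap k (m * 5⁻¹) := by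
    funext p
    rcases p with _ | q
    · exact h0
    · have hq : q ∈ insert 0 (sqSet ∪ nsqSet) := sq_split.1 ▸ mem_univ q
      rcases mem_insert.mp hq with rfl | hq
      · rw [h1]; simp [twoMap]
      · rcases mem_union.mp hq with hq | hq
        · obtain ⟨i, -, rfl⟩ := mem_image.mp hq
          have := hall 1 k hk i
          rw [one_mul] at this
          rw [this, twoMap, Option.map_some, if_pos hq, mul_comm]
        · have hn : q ∉ sqSet := disjoint_right.mp sq_split.2.2.1 hq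
          obtain ⟨i, -, rfl⟩ := mem_image.mp hq
          rw [hall 5 m hm i, twoMap, Option.map_some, if_neg hn]
          congr 1
          have h5 : (5 : ZMod 23) * 5⁻¹ = 1 := by decide +kernel
          rw [show 5 * 2 ^ i * (m * 5⁻¹) = m * 2 ^ i * ((5 : ZMod 23) * 5⁻¹) by ring, h5, mul_one]
  have hl0 : m * (5 : ZMod 23)⁻¹ ≠ 0 := mul_ne_zero hm0 (inv_ne_zero (by decide))
  obtain ⟨hkl, hks⟩ := twoMap_code k _ hk0 hl0 (List.all_eq_true.mpr fun r hr => by
    have h2 := (mem_M24_iff s).mp σ.1.2 _ ((mem_supports_iff _).mpr (rows_in r hr))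
    rw [mem_supports_iff, show s • (univ.filter fun p : GolayPt => r.testBit (pidx p) = true) =
      (univ.filter fun p : GolayPt => r.testBit (pidx p) = true).image s from rfl, hmap] at h2
    exact h2)
  obtain ⟨i, -, hi⟩ := mem_image.mp hks
  refine ⟨i, ?_⟩
  show elevenPt ^ (i : ℤ) = σ
  rw [zpow_natCast]
  refine Subtype.ext (Subtype.ext ?_)
  rw [Subgroup.coe_pow, Subgroup.coe_pow]
  show mu two ^ i = s
  rw [mu_pow]
  refine Equiv.coe_fn_injective (funext fun p => ?_)
  show mu (two ^ i) p = s p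
  rw [hmap]
  rcases p with _ | q
  · rfl
  · rw [mu_some, twoMap, Option.map_some, ← hkl, ite_self, Units.val_pow_eq_pow_val, sq_split.2.2.2.2.2, hi, mul_comm]

section
variable {a a₁ b₁ c₁ : ℤ} {v w : leechLattice}
  (hv : (v : GolayPt → ℤ) = threeVec a 1 1) (hw : (w : GolayPt → ℤ) = threeVec a₁ b₁ c₁)

/-- The permutations inside the stabiliser of the pair. -/
noncomputable def twoIn : TwoPt →* ↥(stabilizer Co0 v ⊓ stabilizer Co0 w) :=
  twoEmb.codRestrict _ fun σ => ⟨twoEmb_fix hv σ, twoEmb_fix hw σ⟩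

include hv hw in
/-- The simplicity criterion for the pair. -/
theorem pair_simple (ha : a = -3 ∨ a = 5) (hb : b₁ ≠ c₁)
    (hlin : ∀ A B C D : ℤ, A ^ 2 + B ^ 2 + 11 * C ^ 2 + 11 * D ^ 2 = 64 →
      a * A + B + 11 * C + 11 * D = 8 * a → a₁ * A + b₁ * B + 11 * (c₁ * C) + 11 * (c₁ * D) = 8 * a₁ →
      A = 8 ∧ B = 0 ∧ C = 0 ∧ D = 0)
    (h2 : ¬ 11 ^ 2 ∣ Nat.card ↥(stabilizer Co0 v ⊓ stabilizer Co0 w))
    (hpow : ∀ p k : ℕ, p.Prime → 0 < k →
      p ^ k * 443520 ∣ Nat.card ↥(stabilizer Co0 v ⊓ stabilizer Co0 w) → p ^ k % 11 ≠ 1) :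
    IsSimpleGroup ↥(stabilizer Co0 v ⊓ stabilizer Co0 w) := by
  have hne : (none : GolayPt) ≠ some 0 := by simp
  haveI : IsSimpleGroup TwoPt := Cfsg.Agent.S0379.result none (some 0) hne
  have hinj : Function.Injective (twoIn hv hw) := fun s t h => twoEmb_injective (congrArg Subtype.val h)
  have hNorm : ∀ g : ↥(stabilizer Co0 v ⊓ stabilizer Co0 w),
      g⁻¹ * twoIn hv hw elevenPt * g ∈ Subgroup.zpowers (twoIn hv hw elevenPt) → g ∈ (twoIn hv hw).range := by
    rintro g ⟨k, hk⟩
    have hxe : twoEmb elevenPt • e8 none = e8 none := by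
      show mono _ empty_mem_code • e8 none = e8 none
      rw [monoFun_e8, if_neg (notMem_empty _)]; rfl
    have hfix : twoEmb elevenPt • ((g : Co0) • e8 none) = (g : Co0) • e8 none := by
      have h1 : (twoEmb elevenPt ^ k) • e8 none = e8 none :=
        zpow_mem (show twoEmb elevenPt ∈ stabilizer Co0 (e8 none) from hxe) k
      have h3 : twoEmb elevenPt ^ k = (g : Co0)⁻¹ * twoEmb elevenPt * (g : Co0) := congrArg Subtype.val hk
      rw [h3, mul_smul, mul_smul, inv_smul_eq_iff] at h1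
      exact h1
    set u : leechLattice := (g : Co0) • e8 none with hu
    obtain ⟨hc, hd⟩ := fixed_shape hfix
    have hn : Cfsg.sqNorm (u : GolayPt → ℤ) = 64 := ((g : Co0).2.2 (e8 none)).trans (sqNorm_e8 none)
    have hdv : dotInt (v : GolayPt → ℤ) u = 8 * a := by
      have := dot_smul (g : Co0) v (e8 none)
      rw [show (g : Co0) • v = v from g.2.1] at this
      rw [hu, this, hv]
      simp [dotInt, threeVec, e8, Pi.single_apply, Fintype.sum_option]
      ring
    have hdw : dotInt (w : GolayPt → ℤ) u = 8 * a₁ := by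
      have := dot_smul (g : Co0) w (e8 none)
      rw [show (g : Co0) • w = w from g.2.2] at this
      rw [hu, this, hw]
      simp [dotInt, threeVec, e8, Pi.single_apply, Fintype.sum_option]
      ring
    have hout : ∀ p ∈ sqSet ∪ nsqSet, p ≠ (0 : ZMod 23) := fun p hp e => sq_split.2.1 (e ▸ hp)
    rw [Cfsg.sqNorm, sum_four _ ((u : GolayPt → ℤ) (some 1) ^ 2) ((u : GolayPt → ℤ) (some 5) ^ 2)
      (fun p hp => by rw [hc p hp]) (fun p hp => by rw [hd p hp])] at hn
    rw [dotInt, sum_four _ ((u : GolayPt → ℤ) (some 1)) ((u : GolayPt → ℤ) (some 5))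
      (fun p hp => by simp [hv, threeVec, hc p hp, hout p (mem_union_left _ hp)])
      (fun p hp => by simp [hv, threeVec, hd p hp, hout p (mem_union_right _ hp)])] at hdv
    rw [dotInt, sum_four _ (c₁ * (u : GolayPt → ℤ) (some 1)) (c₁ * (u : GolayPt → ℤ) (some 5))
      (fun p hp => by simp [hw, threeVec, hc p hp, hout p (mem_union_left _ hp)])
      (fun p hp => by simp [hw, threeVec, hd p hp, hout p (mem_union_right _ hp)])] at hdw
    simp only [hv, hw, threeVec, if_pos, show ((some 0 : GolayPt) = none) = False from by simp, if_false,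
      one_mul] at hdv hdw
    obtain ⟨hA, hB, hC, hD⟩ := hlin _ _ _ _ hn hdv hdw
    have hue : u = e8 none := by
      refine Subtype.ext (funext fun p => ?_)
      rcases p with _ | q
      · simpa [e8] using hA
      · have hq : q ∈ insert 0 (sqSet ∪ nsqSet) := sq_split.1 ▸ mem_univ q
        rcases mem_insert.mp hq with rfl | hq
        · simpa [e8] using hB
        · rcases mem_union.mp hq with hq | hq
          · simp [e8, hc q hq, hC]
          · simp [e8, hd q hq, hD]
    have hf : FixesFrame (g : Co0) := stab_fixesFrame hue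
    obtain ⟨σ, c, hσ, hcc, he⟩ := frame_is_monomial hf
    have hgv : mono hσ hcc • v = v := by rw [← he]; exact g.2.1
    have hodd : (v : GolayPt → ℤ) = oddVec a := by
      rw [hv]; funext p; simp only [threeVec, oddVec]; split <;> simp
    obtain ⟨h0, rfl⟩ := mono_fix_odd ha hσ hcc hodd hgv
    have h1 : σ (some 0) = some 0 := by
      by_contra hne1
      have hgw : mono hσ hcc • w = w := by rw [← he]; exact g.2.2
      have := congrFun (congrArg Subtype.val hgw) (σ (some 0))
      rw [mono_apply, hw] at this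
      have hne0 : σ (some 0) ≠ none := fun e => hne.symm (σ.injective (e.trans h0.symm))
      simp only [signedPerm, notMem_empty, if_false, Equiv.symm_apply_apply, threeVec, if_neg hne0, if_neg hne1,
        if_neg hne.symm, if_pos] at this
      exact hb this
    exact ⟨⟨⟨σ, hσ⟩, h0, h1⟩, Subtype.ext he.symm⟩
  refine simple_of_selfCentralizing 11 (twoIn hv hw) hinj elevenPt elevenPt_order h2 (fun g hg => ?_) hNorm ?_
  · obtain ⟨σ, rfl⟩ := hNorm g ⟨1, by simp only [zpow_one]; rw [mul_assoc, ← hg.eq, inv_mul_cancel_left]⟩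
    obtain ⟨k, hk⟩ := eleven_centralizer (hinj (by simp only [map_mul]; exact hg.eq))
    exact ⟨k, by simp only at hk ⊢; rw [← map_zpow, hk]⟩
  · rw [Cfsg.Agent.S0378.result none (some 0) hne]
    exact hpow

end

theorem pair_card {n : ℤ} {v w : leechLattice} (hw : Cfsg.sqNorm (w : GolayPt → ℤ) = n)
    {d : ℤ} (hd : dotInt (v : GolayPt → ℤ) w = d) {m : ℕ}
    (hm : {x : leechLattice | Cfsg.sqNorm (x : GolayPt → ℤ) = n ∧ dotInt (v : GolayPt → ℤ) x = d}.ncard = m)
    (ht : ∀ x : leechLattice, Cfsg.sqNorm (x : GolayPt → ℤ) = n → dotInt (v : GolayPt → ℤ) x = d →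
      ∃ g : Co0, g • v = v ∧ g • w = x) :
    Nat.card ↥(stabilizer Co0 v ⊓ stabilizer Co0 w) * m = Nat.card (stabilizer Co0 v) := by
  have horb : orbit (stabilizer Co0 v) w =
      {x : leechLattice | Cfsg.sqNorm (x : GolayPt → ℤ) = n ∧ dotInt (v : GolayPt → ℤ) x = d} := by
    ext x
    constructor
    · rintro ⟨g, rfl⟩
      refine ⟨((g : Co0).2.2 w).trans hw, ?_⟩
      show dotInt (v : GolayPt → ℤ) ((g : Co0) • w : leechLattice) = d
      have := dot_smul (g : Co0) v w
      rw [show (g : Co0) • v = v from g.2] at this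
      rw [this, hd]
    · rintro ⟨h1, h2⟩
      obtain ⟨g, g1, g2⟩ := ht x h1 h2
      exact ⟨⟨g, g1⟩, g2⟩
  have h := Subgroup.card_mul_index (stabilizer (stabilizer Co0 v) w)
  rw [index_stabilizer, horb, hm] at h
  rw [← h]
  congr 1
  refine Nat.card_congr ⟨fun g => ⟨⟨g.1, g.2.1⟩, g.2.2⟩, fun g => ⟨g.1.1, g.1.2, g.2⟩, fun _ => rfl, fun _ => rfl⟩

theorem pair48_count (v : leechLattice) (hv : Cfsg.sqNorm (v : GolayPt → ℤ) = 48) :
    {w : leechLattice | Cfsg.sqNorm (w : GolayPt → ℤ) = 48 ∧ dotInt (v : GolayPt → ℤ) w = -32}.ncard = 11178 := by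
  rw [← Stab.six_minus_count v hv]
  symm
  refine Set.ncard_congr (fun x _ => -(v + x)) (fun x hx => Stab.third_side hv hx.1 hx.2)
    (fun x y _ _ h => by simpa using h) fun w hw => ⟨-(v + w), ?_, by abel⟩
  constructor
  · rw [show Cfsg.sqNorm ((-(v + w) : leechLattice) : GolayPt → ℤ) = Cfsg.sqNorm ((v : GolayPt → ℤ) + (w : GolayPt → ℤ))
      from Finset.sum_congr rfl fun i _ => neg_sq _, sqNorm_add, hv, hw.1, hw.2]
    norm_num
  · have h2 : dotInt (v : GolayPt → ℤ) ((-(v + w) : leechLattice) : GolayPt → ℤ) =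
        -(dotInt (v : GolayPt → ℤ) ((v : GolayPt → ℤ) + (w : GolayPt → ℤ))) := by
      simp only [dotInt, ← Finset.sum_neg_distrib]
      exact Finset.sum_congr rfl fun i _ => mul_neg _ _
    rw [h2, dot_add_right, ← sqNorm_eq_dot, hv, hw.2]; norm_num

theorem card_HS_pair {v w : leechLattice} (hv : Cfsg.sqNorm (v : GolayPt → ℤ) = 48)
    (hw : Cfsg.sqNorm (w : GolayPt → ℤ) = 48) (hvw : dotInt (v : GolayPt → ℤ) w = -32) :
    Nat.card ↥(stabilizer Co0 v ⊓ stabilizer Co0 w) = 44352000 := by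
  have h := pair_card hw hvw (pair48_count v hv) fun x hx hd => Stab.pair48_transitive v w x hv hw hvw hx hd
  rw [card_stabilizer48 hv] at h
  omega

theorem pair32_count (v : leechLattice) (hv : Cfsg.sqNorm (v : GolayPt → ℤ) = 32) :
    {w : leechLattice | Cfsg.sqNorm (w : GolayPt → ℤ) = 32 ∧ dotInt (v : GolayPt → ℤ) w = -8}.ncard = 47104 := by
  rw [← Stab.count_P8, ← Stab.min_census v hv (-8), ← Set.ncard_image_of_injective _ Subtype.val_injective]
  congr 1
  ext x
  exact ⟨fun ⟨w, hw, e⟩ => e ▸ ⟨w.2, hw⟩, fun ⟨h1, h2⟩ => ⟨⟨x, h1⟩, h2, rfl⟩⟩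

theorem card_McL_pair {v w : leechLattice} (hv : Cfsg.sqNorm (v : GolayPt → ℤ) = 32)
    (hw : Cfsg.sqNorm (w : GolayPt → ℤ) = 32) (hvw : dotInt (v : GolayPt → ℤ) w = -8) :
    Nat.card ↥(stabilizer Co0 v ⊓ stabilizer Co0 w) = 898128000 := by
  have h := pair_card hw hvw (pair32_count v hv) fun x hx hd => eight_pairs v w x hv hw hx hvw hd
  rw [card_stabilizer32 hv] at h
  omega

/-- Conjugate pairs have isomorphic stabilisers. -/
noncomputable def pairConj {v w v' w' : leechLattice} (g : Co0) (h : g • v = v') (h' : g • w = w') :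
    ↥(stabilizer Co0 v ⊓ stabilizer Co0 w) ≃* ↥(stabilizer Co0 v' ⊓ stabilizer Co0 w') :=
  conjEquiv g fun _ => and_congr (conj_mem_stabilizer h) (conj_mem_stabilizer h')

theorem small_div {n : ℕ} (h : n = 2025 ∨ n = 100) : ∀ d < n + 1, d ∣ n → d % 11 = 1 →
    d = 1 ∨ d = 45 ∨ d = 100 ∨ d = 2025 := by
  rcases h with rfl | rfl <;> decide +kernel

theorem small_div_pow {n p k : ℕ} (h : n = 2025 ∨ n = 100) (hp : p.Prime) (hk : 0 < k) (hd : p ^ k ∣ n) :
    p ^ k % 11 ≠ 1 := by
  intro hm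
  have hpos : 0 < n := by omega
  rcases small_div h _ (Nat.lt_succ_of_le (Nat.le_of_dvd hpos hd)) hd hm with e | e | e | e
  · exact absurd e (Nat.one_lt_pow hk.ne' hp.one_lt).ne'
  · have h3 : 3 ∣ p ^ k := e ▸ (by norm_num)
    have h5 : 5 ∣ p ^ k := e ▸ (by norm_num)
    have h3' := (Nat.prime_dvd_prime_iff_eq Nat.prime_three hp).mp (Nat.prime_three.dvd_of_dvd_pow h3)
    have h5' := (Nat.prime_dvd_prime_iff_eq Nat.prime_five hp).mp (Nat.prime_five.dvd_of_dvd_pow h5)
    omega
  · have h3 : 2 ∣ p ^ k := e ▸ (by norm_num)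
    have h5 : 5 ∣ p ^ k := e ▸ (by norm_num)
    have h3' := (Nat.prime_dvd_prime_iff_eq Nat.prime_two hp).mp (Nat.prime_two.dvd_of_dvd_pow h3)
    have h5' := (Nat.prime_dvd_prime_iff_eq Nat.prime_five hp).mp (Nat.prime_five.dvd_of_dvd_pow h5)
    omega
  · have h3 : 3 ∣ p ^ k := e ▸ (by norm_num)
    have h5 : 5 ∣ p ^ k := e ▸ (by norm_num)
    have h3' := (Nat.prime_dvd_prime_iff_eq Nat.prime_three hp).mp (Nat.prime_three.dvd_of_dvd_pow h3)
    have h5' := (Nat.prime_dvd_prime_iff_eq Nat.prime_five hp).mp (Nat.prime_five.dvd_of_dvd_pow h5)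
    omega

theorem base_HS : inL (threeVec 5 1 1) = true ∧ Cfsg.sqNorm (threeVec 5 1 1) = 48 ∧
    inL (threeVec (-1) (-5) (-1)) = true ∧ Cfsg.sqNorm (threeVec (-1) (-5) (-1)) = 48 ∧
    dotInt (threeVec 5 1 1) (threeVec (-1) (-5) (-1)) = -32 := by decide +kernel

theorem base_McL : inL (threeVec (-3) 1 1) = true ∧ Cfsg.sqNorm (threeVec (-3) 1 1) = 32 ∧
    inL (threeVec 4 4 0) = true ∧ Cfsg.sqNorm (threeVec 4 4 0) = 32 ∧
    dotInt (threeVec (-3) 1 1) (threeVec 4 4 0) = -8 := by decide +kernel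

theorem isHS_pair {v w : leechLattice} (hv : Cfsg.sqNorm (v : GolayPt → ℤ) = 48)
    (hw : Cfsg.sqNorm (w : GolayPt → ℤ) = 48) (hvw : dotInt (v : GolayPt → ℤ) w = -32) :
    IsHS ↥(stabilizer Co0 v ⊓ stabilizer Co0 w) := by
  refine ⟨?_, card_HS_pair hv hw hvw⟩
  obtain ⟨m1, n1, m2, n2, hd⟩ := base_HS
  set v' : leechLattice := ⟨_, mem_of_inL m1⟩
  set w' : leechLattice := ⟨_, mem_of_inL m2⟩
  obtain ⟨r, hr⟩ := transitive48 v v' hv n1
  obtain ⟨s, hs1, hs2⟩ := Stab.pair48_transitive v' (r • w) w' n1 (((r : Co0).2.2 w).trans hw)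
    (by rw [← hr, dot_smul, hvw]) n2 hd
  have hc : Nat.card ↥(stabilizer Co0 v' ⊓ stabilizer Co0 w') = 44352000 := card_HS_pair n1 n2 hd
  haveI : IsSimpleGroup ↥(stabilizer Co0 v' ⊓ stabilizer Co0 w') := by
    refine pair_simple rfl rfl (Or.inr rfl) (by norm_num) ?_ (by rw [hc]; norm_num) fun p k hp hk h => ?_
    · intro A B C D h1 h2 h3
      have hA : A ≤ 8 := by nlinarith [mul_self_nonneg B, mul_self_nonneg C, mul_self_nonneg D]
      have hA' : -8 ≤ A := by nlinarith [mul_self_nonneg B, mul_self_nonneg C, mul_self_nonneg D]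
      have hB' : -8 ≤ B := by nlinarith [mul_self_nonneg A, mul_self_nonneg C, mul_self_nonneg D]
      obtain ⟨rfl, rfl⟩ : A = 8 ∧ B = 0 := by omega
      exact ⟨rfl, rfl, by nlinarith [mul_self_nonneg D, mul_self_nonneg C], by nlinarith [mul_self_nonneg D, mul_self_nonneg C]⟩
    · rw [hc, show 44352000 = 100 * 443520 from rfl] at h
      exact small_div_pow (Or.inr rfl) hp hk (Nat.dvd_of_mul_dvd_mul_right (by norm_num) h)
  exact simple_congr (pairConj (s * r) (by rw [mul_smul, hr, hs1]) (by rw [mul_smul, hs2]))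

theorem isMcL_pair {v w : leechLattice} (hv : Cfsg.sqNorm (v : GolayPt → ℤ) = 32)
    (hw : Cfsg.sqNorm (w : GolayPt → ℤ) = 32) (hvw : dotInt (v : GolayPt → ℤ) w = -8) :
    IsMcL ↥(stabilizer Co0 v ⊓ stabilizer Co0 w) := by
  refine ⟨?_, card_McL_pair hv hw hvw⟩
  obtain ⟨m1, n1, m2, n2, hd⟩ := base_McL
  set v' : leechLattice := ⟨_, mem_of_inL m1⟩
  set w' : leechLattice := ⟨_, mem_of_inL m2⟩
  obtain ⟨r, hr⟩ := transitive32 v v' hv n1
  obtain ⟨s, hs1, hs2⟩ := eight_pairs v' (r • w) w' n1 (((r : Co0).2.2 w).trans hw) n2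
    (by rw [← hr, dot_smul, hvw]) hd
  have hc : Nat.card ↥(stabilizer Co0 v' ⊓ stabilizer Co0 w') = 898128000 := card_McL_pair n1 n2 hd
  haveI : IsSimpleGroup ↥(stabilizer Co0 v' ⊓ stabilizer Co0 w') := by
    refine pair_simple rfl rfl (Or.inl rfl) (by norm_num) ?_ (by rw [hc]; norm_num) fun p k hp hk h => ?_
    · intro A B C D h1 h2 h3
      have hA : A ≤ 8 := by nlinarith [mul_self_nonneg B, mul_self_nonneg C, mul_self_nonneg D]
      have hA' : -8 ≤ A := by nlinarith [mul_self_nonneg B, mul_self_nonneg C, mul_self_nonneg D]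
      have hB' : B ≤ 8 := by nlinarith [mul_self_nonneg A, mul_self_nonneg C, mul_self_nonneg D]
      obtain ⟨rfl, rfl⟩ : A = 8 ∧ B = 0 := by omega
      exact ⟨rfl, rfl, by nlinarith [mul_self_nonneg D, mul_self_nonneg C], by nlinarith [mul_self_nonneg D, mul_self_nonneg C]⟩
    · rw [hc, show 898128000 = 2025 * 443520 from rfl] at h
      exact small_div_pow (Or.inl rfl) hp hk (Nat.dvd_of_mul_dvd_mul_right (by norm_num) h)
  exact simple_congr (pairConj (s * r) (by rw [mul_smul, hr, hs1]) (by rw [mul_smul, hs2]))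

end Cfsg.Lib.Leech
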