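import Cfsg.Agent.Leech.Extra
import Cfsg.Agent.Golay.Orbits

/-!
Transitivity on the vectors of least norm.
-/

namespace Cfsg.Lib.Leech

open Cfsg Cfsg.Lib.Golay Finset MulAction
open scoped Pointwise

/-- Being in one orbit of a subgroup of the automorphism group, on coordinate vectors. -/
def RelIn (G : Subgroup Co0) (x y : GolayPt → ℤ) : Prop :=
  ∃ g ∈ G, ∃ v : leechLattice, (v : GolayPt → ℤ) = x ∧ ((g • v : leechLattice) : GolayPt → ℤ) = y

/-- Being in one orbit of the automorphism group, on coordinate vectors. -/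
def Rel (x y : GolayPt → ℤ) : Prop :=
  ∃ (g : Co0) (v : leechLattice), (v : GolayPt → ℤ) = x ∧ ((g • v : leechLattice) : GolayPt → ℤ) = y

theorem Rel.symm {x y : GolayPt → ℤ} (h : Rel x y) : Rel y x := by
  obtain ⟨g, v, h1, h2⟩ := h
  exact ⟨g⁻¹, g • v, h2, by rw [inv_smul_smul, h1]⟩

theorem Rel.trans {x y w : GolayPt → ℤ} (h : Rel x y) (h' : Rel y w) : Rel x w := by
  obtain ⟨g, v, h1, h2⟩ := h
  obtain ⟨g', v', h3, h4⟩ := h'
  have : v' = g • v := Subtype.ext (h3.trans h2.symm)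
  subst this
  exact ⟨g' * g, v, h1, by rw [mul_smul]; exact h4⟩

theorem RelIn.trans {G : Subgroup Co0} {x y w : GolayPt → ℤ} (h : RelIn G x y) (h' : RelIn G y w) : RelIn G x w := by
  obtain ⟨g, hg, v, h1, h2⟩ := h
  obtain ⟨g', hg', v', h3, h4⟩ := h'
  have : v' = g • v := Subtype.ext (h3.trans h2.symm)
  subst this
  exact ⟨g' * g, mul_mem hg' hg, v, h1, by rw [mul_smul]; exact h4⟩

theorem RelIn.toRel {G : Subgroup Co0} {x y : GolayPt → ℤ} (h : RelIn G x y) : Rel x y := by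
  obtain ⟨g, -, v, h1, h2⟩ := h; exact ⟨g, v, h1, h2⟩

/-- The subgroup generated by the monomial maps. -/
noncomputable def monoGroup : Subgroup Co0 :=
  Subgroup.closure {g | ∃ (σ : Equiv.Perm GolayPt) (c : Finset GolayPt) (hσ : σ ∈ M24) (hc : c ∈ code), g = mono hσ hc}

theorem mono_mem_monoGroup {σ : Equiv.Perm GolayPt} {c : Finset GolayPt} (hσ : σ ∈ M24) (hc : c ∈ code) :
    mono hσ hc ∈ monoGroup := Subgroup.subset_closure ⟨σ, c, hσ, hc, rfl⟩

theorem mrel_flip {c : Finset GolayPt} (hc : c ∈ code) {x : GolayPt → ℤ} (hx : x ∈ leechLattice) :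
    RelIn monoGroup x (flipOn c x) := ⟨mono (one_mem M24) hc, mono_mem_monoGroup _ _, ⟨x, hx⟩, rfl, rfl⟩

theorem mrel_perm {σ : Equiv.Perm GolayPt} (hσ : σ ∈ M24) {x : GolayPt → ℤ} (hx : x ∈ leechLattice) :
    RelIn monoGroup x fun i => x (σ.symm i) :=
  ⟨mono hσ empty_mem_code, mono_mem_monoGroup _ _, ⟨x, hx⟩, rfl, funext fun i => by simp [mono_apply, signedPerm]⟩

theorem RelIn.mem_right {G : Subgroup Co0} {x y : GolayPt → ℤ} (h : RelIn G x y) : y ∈ leechLattice := by
  obtain ⟨g, -, v, -, h2⟩ := h; exact h2 ▸ (g • v : leechLattice).2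

theorem rel_flip {c : Finset GolayPt} (hc : c ∈ code) {x : GolayPt → ℤ} (hx : x ∈ leechLattice) :
    Rel x (flipOn c x) := ⟨mono (one_mem M24) hc, ⟨x, hx⟩, rfl, rfl⟩

theorem rel_perm {σ : Equiv.Perm GolayPt} (hσ : σ ∈ M24) {x : GolayPt → ℤ} (hx : x ∈ leechLattice) :
    Rel x fun i => x (σ.symm i) :=
  ⟨mono hσ empty_mem_code, ⟨x, hx⟩, rfl, funext fun i => by simp [mono_apply, signedPerm]⟩

theorem rel_xi {x : GolayPt → ℤ} (hx : x ∈ leechLattice) : Rel x (xi x) := ⟨extra, ⟨x, hx⟩, rfl, rfl⟩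

theorem Rel.mem_right {x y : GolayPt → ℤ} (h : Rel x y) : y ∈ leechLattice := by
  obtain ⟨g, v, -, h2⟩ := h; exact h2 ▸ (g • v : leechLattice).2

theorem Rel.norm_eq {x y : GolayPt → ℤ} (h : Rel x y) : Cfsg.sqNorm y = Cfsg.sqNorm x := by
  obtain ⟨g, v, rfl, rfl⟩ := h; exact g.2.2 v

/-- The base vector of shape four squared. -/
def vA : GolayPt → ℤ := fun p => if pidx p = 0 ∨ pidx p = 4 then 4 else 0

/-- The base vector of shape two to the eighth. -/
def vB : GolayPt → ℤ := twoVec 5279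

/-- The base vector of odd shape. -/
def vC : GolayPt → ℤ := fun p => if p = none then -3 else 1

theorem two_points (i j k l : GolayPt) (hij : i ≠ j) (hkl : k ≠ l) : ∃ σ ∈ M24, σ i = k ∧ σ j = l := by
  have h5 := M24_five_transitive
  have h2 : IsMultiplyPretransitive M24 GolayPt 2 := isMultiplyPretransitive_of_le (n := 5) (by norm_num) (by simp)
  obtain ⟨σ, h1, h3⟩ := is_two_pretransitive_iff.mp h2 hij hkl
  exact ⟨σ, σ.2, h1, h3⟩

theorem flip_mem {c : Finset GolayPt} (hc : c ∈ code) {x : GolayPt → ℤ} (hx : x ∈ leechLattice) :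
    flipOn c x ∈ leechLattice := (flipOn_mem_iff hc).mpr hx

/-- Every even subset of the standard octad is the trace of a word. -/
theorem trace_ok : ((List.range 8192).all fun e => !(e &&& 5279 == e && pc e % 2 == 0) ||
    codeMasks.any fun d => d &&& 5279 == e) = true := by decide +kernel

theorem octad_trace {e : Finset GolayPt} (he : e ⊆ pts 5279) (hev : Even e.card) :
    ∃ d ∈ code, d ∩ pts 5279 = e := by
  have hp : pts (mk e &&& 5279) = e := by rw [pts_land, pts_mk, Finset.inter_eq_left.mpr he]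
  have hm : mk e &&& 5279 = mk e :=
    eq_of_pts_eq (lt_of_le_of_lt Nat.and_le_left (mk_lt e)) (mk_lt e) (by rw [hp, pts_mk])
  have hlt : mk e < 8192 := lt_of_le_of_lt (hm ▸ Nat.and_le_right) (by norm_num)
  have := List.all_eq_true.mp trace_ok (mk e) (List.mem_range.mpr hlt)
  rw [hm, pc_eq_card, pts_mk, Nat.even_iff.mp hev] at this
  simp only [beq_self_eq_true, Bool.and_self, Bool.not_true, Bool.false_or, List.any_eq_true, beq_iff_eq] at this
  obtain ⟨d, hd, hde⟩ := this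
  have hdc := mem_codeMasks.mp hd
  refine ⟨pts d, (mem_supports_iff _).mpr (by rwa [mk_pts (lt_of_inCode hdc)]), ?_⟩
  rw [← pts_land, hde, pts_mk]

theorem min_even {x : GolayPt → ℤ} {c : Finset GolayPt} {z : GolayPt → ℤ} (hd : IsDecomp x 0 c z)
    (hn : Cfsg.sqNorm x = 32) :
    ((∀ i, 4 ∣ x i) ∧ ∃ i j, i ≠ j ∧ (x i = 4 ∨ x i = -4) ∧ (x j = 4 ∨ x j = -4) ∧ ∀ k, k ≠ i → k ≠ j → x k = 0) ∨
    (c ∈ octads ∧ (¬ ∀ i, 4 ∣ x i) ∧ ∀ i, x i = if i ∈ c then (if z i = 0 then 2 else -2) else 0) := by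
  have hn' : ∑ i, x i ^ 2 = 32 := hn
  by_cases hc : c = ∅
  · left
    have hx : ∀ i, x i = 4 * z i := fun i => by rw [hd.hx i]; simp [hc, indZ]
    refine ⟨fun i => ⟨z i, hx i⟩, ?_⟩
    have h2 : ∑ i, z i ^ 2 = 2 := by
      simp only [hx, mul_pow, ← Finset.mul_sum] at hn'; omega
    have hb : ∀ i, z i ^ 2 ≤ 2 := fun i => h2 ▸ Finset.single_le_sum (f := fun j => z j ^ 2) (fun j _ => sq_nonneg _) (Finset.mem_univ i)
    have hz : ∀ i, z i = 0 ∨ z i = 1 ∨ z i = -1 := fun i => by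
      have := hb i
      have : -1 ≤ z i ∧ z i ≤ 1 := by constructor <;> nlinarith
      omega
    have hcard : (univ.filter fun i => z i ≠ 0).card = 2 := by
      have : (((univ.filter fun i => z i ≠ 0).card : ℕ) : ℤ) = 2 := by
        rw [← h2, Finset.card_eq_sum_ones, Finset.sum_filter]
        push_cast
        exact Finset.sum_congr rfl fun i _ => by rcases hz i with e | e | e <;> simp [e]
      exact_mod_cast this
    obtain ⟨i, j, hij, hs⟩ := Finset.card_eq_two.mp hcard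
    have hm : ∀ k, z k ≠ 0 ↔ k = i ∨ k = j := fun k => by simpa using (Finset.ext_iff.mp hs k)
    refine ⟨i, j, hij, ?_, ?_, fun k hk1 hk2 => ?_⟩
    · rcases hz i with e | e | e
      · exact absurd e ((hm i).mpr (Or.inl rfl))
      · left; rw [hx, e]; rfl
      · right; rw [hx, e]; rfl
    · rcases hz j with e | e | e
      · exact absurd e ((hm j).mpr (Or.inr rfl))
      · left; rw [hx, e]; rfl
      · right; rw [hx, e]; rfl
    · have : z k = 0 := by_contra fun h => ((hm k).mp h).elim hk1 hk2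
      rw [hx, this]; rfl
  · right
    have hge : 8 ≤ c.card := by
      rcases card_support_mem hd.hc with h | h | h | h | h
      · exact absurd (Finset.card_eq_zero.mp h) hc
      all_goals omega
    have hin : ∀ i ∈ c, 4 ≤ x i ^ 2 := fun i hi => by
      rw [hd.hx i]; simp only [indZ, hi, if_true]
      rcases lt_trichotomy (z i) 0 with h | h | h <;> nlinarith
    have h1 : 4 * (c.card : ℤ) ≤ ∑ i ∈ c, x i ^ 2 := by
      rw [mul_comm, ← nsmul_eq_mul]; exact Finset.card_nsmul_le_sum c _ 4 hin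
    have h2 : ∑ i ∈ c, x i ^ 2 + ∑ i ∈ cᶜ, x i ^ 2 = 32 := by rw [Finset.sum_add_sum_compl]; exact hn'
    have h3 : 0 ≤ ∑ i ∈ cᶜ, x i ^ 2 := Finset.sum_nonneg fun i _ => sq_nonneg _
    have hc8 : c.card = 8 := by omega
    have hout : ∀ i ∉ c, x i = 0 := fun i hi => by
      have h4 : ∑ i ∈ cᶜ, x i ^ 2 = 0 := by omega
      have := (Finset.sum_eq_zero_iff_of_nonneg fun i _ => sq_nonneg _).mp h4 i (Finset.mem_compl.mpr hi)
      exact pow_eq_zero_iff two_ne_zero |>.mp this
    have heq : ∀ i ∈ c, x i ^ 2 = 4 := by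
      intro i hi
      refine le_antisymm ?_ (hin i hi)
      by_contra hlt
      have hpad : ∑ j ∈ c, (4 : ℤ) < ∑ j ∈ c, x j ^ 2 := Finset.sum_lt_sum hin ⟨i, hi, not_le.mp hlt⟩
      rw [Finset.sum_const, nsmul_eq_mul, hc8] at hpad
      norm_num at hpad; omega
    refine ⟨⟨hd.hc, hc8⟩, fun h => ?_, fun i => ?_⟩
    · obtain ⟨i, hi⟩ := Finset.card_pos.mp (show 0 < c.card by omega)
      obtain ⟨t, ht⟩ := h i
      have := heq i hi
      rw [ht] at this
      have : (4 * t) ^ 2 = 16 * t ^ 2 := by ring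
      omega
    · by_cases hi : i ∈ c
      · rw [if_pos hi]
        have h := heq i hi
        rw [hd.hx i] at h ⊢
        simp only [indZ, hi, if_true, zero_add] at h ⊢
        have : z i = 0 ∨ z i = -1 := by
          have : -1 ≤ z i ∧ z i ≤ 0 := by constructor <;> nlinarith
          omega
        rcases this with e | e <;> simp [e]
      · rw [if_neg hi]; exact hout i hi

theorem vA_mem : vA ∈ leechLattice ∧ Cfsg.sqNorm vA = 32 :=
  ⟨mem_of_inL (by decide +kernel), by decide +kernel⟩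

theorem rel_four {x : GolayPt → ℤ} (hx : x ∈ leechLattice) {i j : GolayPt} (hij : i ≠ j)
    (hi : x i = 4 ∨ x i = -4) (hj : x j = 4 ∨ x j = -4) (h0 : ∀ k, k ≠ i → k ≠ j → x k = 0) : RelIn monoGroup x vA := by
  obtain ⟨c, hc, hci, hcj⟩ : ∃ c ∈ code, (i ∈ c ↔ x i = -4) ∧ (j ∈ c ↔ x j = -4) := by
    obtain ⟨c, hc, hsep⟩ := exists_code_sep hij
    rcases hi with hi | hi <;> rcases hj with hj | hj <;> rw [hi, hj]
    · exact ⟨∅, empty_mem_code, by simp, by simp⟩
    · by_cases h : j ∈ c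
      · exact ⟨c, hc, ⟨fun h' => absurd (iff_of_true h' h) hsep, by norm_num⟩, by simp [h]⟩
      · refine ⟨cᶜ, compl_mem_supports hc, ?_, by simp [h]⟩
        have : i ∈ c := by_contra fun h' => hsep (iff_of_false h' h)
        simp [this]
    · by_cases h : i ∈ c
      · exact ⟨c, hc, by simp [h], ⟨fun h' => absurd (iff_of_true h h') hsep, by norm_num⟩⟩
      · refine ⟨cᶜ, compl_mem_supports hc, by simp [h], ?_⟩
        have : j ∈ c := by_contra fun h' => hsep (iff_of_false h h')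
        simp [this]
    · exact ⟨univ, univ_mem_code, by simp, by simp⟩
  refine (mrel_flip hc hx).trans ?_
  obtain ⟨σ, hσ, hσi, hσj⟩ := two_points i j (ptAt 0) (ptAt 4) hij (by decide +kernel)
  convert mrel_perm hσ (flip_mem hc hx) using 1
  funext k
  have e0 : pidx (ptAt 0) = 0 := by decide +kernel
  have e4 : pidx (ptAt 4) = 4 := by decide +kernel
  simp only [vA, flipOn]
  obtain ⟨k', rfl⟩ : ∃ k', σ k' = k := ⟨σ.symm k, σ.apply_symm_apply k⟩
  rw [Equiv.symm_apply_apply]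
  rcases eq_or_ne k' i with rfl | hki
  · rw [hσi, e0, if_pos (Or.inl rfl)]
    rcases hi with e | e <;> simp [hci, e]
  rcases eq_or_ne k' j with rfl | hkj
  · rw [hσj, e4, if_pos (Or.inr rfl)]
    rcases hj with e | e <;> simp [hcj, e]
  have : ¬ (pidx (σ k') = 0 ∨ pidx (σ k') = 4) := by
    rintro (h | h)
    · exact hki (σ.injective (by rw [hσi]; exact pidx_injective (h.trans e0.symm)))
    · exact hkj (σ.injective (by rw [hσj]; exact pidx_injective (h.trans e4.symm)))
  rw [if_neg this]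
  simp [h0 k' hki hkj]

theorem rel_even {x : GolayPt → ℤ} {c : Finset GolayPt} {z : GolayPt → ℤ} (hd : IsDecomp x 0 c z)
    (hx : x ∈ leechLattice) (hc : c ∈ octads) (h : ∀ i, x i = if i ∈ c then (if z i = 0 then 2 else -2) else 0) :
    RelIn monoGroup x vB := by
  have hoct : pts 5279 ∈ octads :=
    ⟨(mem_supports_iff _).mpr (by rw [mk_pts (by norm_num)]; decide +kernel), by rw [← pc_eq_card]; decide +kernel⟩
  obtain ⟨σ, hσc⟩ := M24_octads_transitive hc hoct
  change (σ : Equiv.Perm GolayPt) • c = pts 5279 at hσc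
  obtain ⟨s, hs⟩ : ∃ s : Equiv.Perm GolayPt, s = σ := ⟨_, rfl⟩
  rw [← hs] at hσc
  have hsM : s ∈ M24 := hs ▸ σ.2
  have hmem : ∀ i, s i ∈ pts 5279 ↔ i ∈ c := fun i => by
    rw [← hσc, ← Equiv.Perm.smul_def, Finset.smul_mem_smul_finset_iff]
  set e : Finset GolayPt := (c.filter fun i => z i ≠ 0).image s with he
  have hev : Even e.card := by
    rw [he, Finset.card_image_of_injective _ s.injective]
    have h1 : ∀ i, z i ≠ 0 → i ∈ c → z i = -1 := fun i hz hi => by
      have e1 := h i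
      rw [hd.hx i, if_pos hi, if_neg hz] at e1
      simp only [indZ, hi, if_true] at e1; omega
    have h2 : ∀ i, i ∉ c → z i = 0 := fun i hi => by
      have e1 := h i
      rw [hd.hx i, if_neg hi] at e1
      simp only [indZ, hi, if_false] at e1; omega
    have h3 : ∑ i, z i = -((c.filter fun i => z i ≠ 0).card : ℤ) := by
      rw [← Finset.sum_subset (Finset.subset_univ (c.filter fun i => z i ≠ 0)) (fun i _ hi => by
        by_cases hic : i ∈ c
        · simpa [hic] using hi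
        · exact h2 i hic),
        Finset.sum_congr rfl fun i hi => h1 i (Finset.mem_filter.mp hi).2 (Finset.mem_filter.mp hi).1]
      simp
    have := hd.hz
    rw [h3] at this
    rw [Nat.even_iff]; omega
  obtain ⟨d, hd', hde⟩ := octad_trace (e := e) (fun p hp => by
    obtain ⟨i, hi, rfl⟩ := Finset.mem_image.mp hp
    exact (hmem i).mpr (Finset.mem_filter.mp hi).1) hev
  refine (mrel_perm hsM hx).trans ?_
  have hy : (fun i => x (s.symm i)) ∈ leechLattice := (mrel_perm hsM hx).mem_right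
  convert mrel_flip hd' hy using 1
  funext k
  obtain ⟨i, rfl⟩ : ∃ i, s i = k := ⟨s.symm k, s.apply_symm_apply k⟩
  have hb : (5279 : ℕ).testBit (pidx (s i)) = true ↔ i ∈ c := by rw [← mem_pts, hmem]
  simp only [vB, twoVec, flipOn, Equiv.symm_apply_apply, h i]
  by_cases hi : i ∈ c
  · rw [if_pos (hb.mpr hi), if_pos hi]
    have hd1 : s i ∈ d ↔ z i ≠ 0 := by
      constructor
      · intro h1
        have : s i ∈ e := hde ▸ Finset.mem_inter.mpr ⟨h1, (hmem i).mpr hi⟩
        obtain ⟨i', hi', hs'⟩ := Finset.mem_image.mp this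
        exact s.injective hs' ▸ (Finset.mem_filter.mp hi').2
      · intro h1
        exact (Finset.mem_inter.mp (hde.symm ▸ Finset.mem_image_of_mem s (Finset.mem_filter.mpr ⟨hi, h1⟩) :
          s i ∈ d ∩ pts 5279)).1
    by_cases hz : z i = 0
    · simp [hd1, hz]
    · simp [hd1, hz]
  · rw [if_neg (fun h1 => hi (hb.mp h1)), if_neg hi]; simp

theorem rel_odd {x : GolayPt → ℤ} {c : Finset GolayPt} {z : GolayPt → ℤ} (hd : IsDecomp x 1 c z)
    (hx : x ∈ leechLattice) (hn : Cfsg.sqNorm x = 32) : RelIn monoGroup x vC := by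
  refine (mrel_flip hd.hc hx).trans ?_
  have hy := flip_mem hd.hc hx
  set y := flipOn c x with hy'
  have hny : ∑ i, y i ^ 2 = 32 := by
    have := sqNorm_flipOn c x; rw [hn] at this; exact this
  have hmod : ∀ i, y i % 4 = 1 := fun i => by
    simp only [hy', flipOn, hd.hx i, indZ]
    split <;> omega
  have hge : ∀ i, 1 ≤ y i ^ 2 := fun i => by
    have h0 : y i ≠ 0 := fun e => by have := hmod i; omega
    nlinarith [Int.one_le_abs h0, sq_abs (y i)]
  obtain ⟨i, hi⟩ : ∃ i, y i ≠ 1 := by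
    by_contra hall
    push Not at hall
    simp only [hall, one_pow, Finset.sum_const, Finset.card_univ, Fintype.card_option, ZMod.card] at hny
    norm_num at hny
  have h9 : 9 ≤ y i ^ 2 := by
    have := hmod i
    rcases lt_or_ge (y i) 1 with h | h
    · nlinarith [show y i ≤ -3 by omega]
    · nlinarith [show 5 ≤ y i by omega]
  have hrest : ∀ j, j ≠ i → y j = 1 := by
    intro j hj
    by_contra hne
    have h9j : 9 ≤ y j ^ 2 := by
      have := hmod j
      rcases lt_or_ge (y j) 1 with h | h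
      · nlinarith [show y j ≤ -3 by omega]
      · nlinarith [show 5 ≤ y j by omega]
    have h1 : ∑ k, (y k ^ 2 - 1) = 8 := by
      rw [Finset.sum_sub_distrib, hny]; simp [Fintype.card_option, ZMod.card]
    have h2 : (y i ^ 2 - 1) + (y j ^ 2 - 1) ≤ ∑ k, (y k ^ 2 - 1) := by
      rw [← Finset.sum_pair hj.symm (f := fun k => y k ^ 2 - 1)]
      exact Finset.sum_le_sum_of_subset_of_nonneg (Finset.subset_univ _) fun k _ _ => by linarith [hge k]
    omega
  have hyi : y i = -3 := by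
    rw [← Finset.add_sum_erase _ _ (Finset.mem_univ i), Finset.sum_congr rfl (g := fun _ => (1 : ℤ))
      (fun j hj => by rw [hrest j (Finset.ne_of_mem_erase hj)]; rfl), Finset.sum_const,
      Finset.card_erase_of_mem (Finset.mem_univ i), card_pts] at hny
    norm_num at hny
    have h1 := hmod i
    have : -3 ≤ y i ∧ y i ≤ 3 := by constructor <;> nlinarith
    omega
  obtain ⟨σ, hσ, hσi⟩ := M24_pretransitive i none
  convert mrel_perm hσ hy using 1
  funext k
  obtain ⟨j, rfl⟩ : ∃ j, σ j = k := ⟨σ.symm k, σ.apply_symm_apply k⟩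
  simp only [Equiv.symm_apply_apply, vC]
  by_cases hj : j = i
  · rw [hj, hσi, if_pos rfl, hyi]
  · rw [if_neg (fun h => hj (σ.injective (h.trans hσi.symm))), hrest j hj]

theorem class32 {x : GolayPt → ℤ} (hx : x ∈ leechLattice) (hn : Cfsg.sqNorm x = 32) :
    ((∀ i, 4 ∣ x i) ∧ RelIn monoGroup x vA) ∨ ((∀ i, 2 ∣ x i) ∧ (¬ ∀ i, 4 ∣ x i) ∧ RelIn monoGroup x vB) ∨ ((¬ ∀ i, 2 ∣ x i) ∧ RelIn monoGroup x vC) := by
  obtain ⟨c, z, h | h⟩ := mem_lattice_normal.mp hx
  · rcases min_even h hn with ⟨h4, i, j, hij, hi, hj, h0⟩ | ⟨hc, h4, hval⟩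
    · exact Or.inl ⟨h4, rel_four hx hij hi hj h0⟩
    · refine Or.inr (Or.inl ⟨fun i => ?_, h4, rel_even h hx hc hval⟩)
      rw [hval i]; split_ifs <;> norm_num
  · refine Or.inr (Or.inr ⟨fun h2 => ?_, rel_odd h hx hn⟩)
    obtain ⟨t, ht⟩ := h2 none
    have := h.hx none
    simp only [indZ] at this
    split at this <;> omega

/-- An odd vector with an even image. -/
def vC' : GolayPt → ℤ := flipOn (pts 10558) vC

theorem witnesses : (∃ i, ¬ 4 ∣ xi vA i) ∧ (∀ i, 2 ∣ xi vA i) ∧ (∀ i, 2 ∣ xi vC' i) ∧ (inCode 10558 = true) ∧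
    inL vC = true ∧ Cfsg.sqNorm vC = 32 := by decide +kernel

theorem vB_rel_vA : Rel vB vA := by
  have h := rel_xi vA_mem.1
  rcases class32 h.mem_right (by rw [h.norm_eq]; exact vA_mem.2) with ⟨h4, -⟩ | ⟨-, -, hB⟩ | ⟨h2, -⟩
  · obtain ⟨⟨i, hi⟩, -⟩ := witnesses
    exact absurd (h4 i) hi
  · exact (h.trans hB.toRel).symm
  · exact absurd witnesses.2.1 h2

theorem vC_rel_vA : Rel vC vA := by
  obtain ⟨-, -, hev, hc, hm, hn⟩ := witnesses
  have hcode : pts 10558 ∈ code := (mem_supports_iff _).mpr (by rwa [mk_pts (by norm_num)])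
  have h : Rel vC (xi vC') := (rel_flip hcode (mem_of_inL hm)).trans (rel_xi (flip_mem hcode (mem_of_inL hm)))
  rcases class32 h.mem_right (by rw [h.norm_eq]; exact hn) with ⟨-, hA⟩ | ⟨-, -, hB⟩ | ⟨h2, -⟩
  · exact h.trans hA.toRel
  · exact (h.trans hB.toRel).trans vB_rel_vA
  · exact absurd hev h2

theorem rel_vA {x : GolayPt → ℤ} (hx : x ∈ leechLattice) (hn : Cfsg.sqNorm x = 32) : Rel x vA := by
  rcases class32 hx hn with ⟨-, h⟩ | ⟨-, -, h⟩ | ⟨-, h⟩
  exacts [h.toRel, h.toRel.trans vB_rel_vA, h.toRel.trans vC_rel_vA]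

theorem transitive32 (v w : leechLattice) (hv : Cfsg.sqNorm (v : GolayPt → ℤ) = 32)
    (hw : Cfsg.sqNorm (w : GolayPt → ℤ) = 32) : ∃ g : Co0, g • v = w := by
  obtain ⟨g, v', h1, h2⟩ := (rel_vA v.2 hv).trans (rel_vA w.2 hw).symm
  obtain rfl : v' = v := Subtype.ext h1
  exact ⟨g, Subtype.ext h2⟩

end Cfsg.Lib.Leech
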