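import Cfsg.Agent.Leech.Frames
import Cfsg.Agent.Leech.Monomial

/-!
Transitivity on the vectors of norm 64.
-/

namespace Cfsg.Lib.Leech

open Cfsg Cfsg.Lib.Golay Finset

theorem monoFun_e8 {σ : Equiv.Perm GolayPt} {c : Finset GolayPt} (hσ : σ ∈ M24) (hc : c ∈ code) (i : GolayPt) :
    mono hσ hc • e8 i = if σ i ∈ c then -e8 (σ i) else e8 (σ i) := by
  refine Subtype.ext (funext fun j => ?_)
  rw [mono_apply]
  obtain ⟨k, rfl⟩ : ∃ k, σ k = j := ⟨σ.symm j, σ.apply_symm_apply j⟩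
  simp only [signedPerm, e8, Equiv.symm_apply_apply]
  by_cases hk : k = i
  · subst hk; split <;> simp
  · have : σ k ≠ σ i := fun h => hk (σ.injective h)
    split <;> split <;> simp [Pi.single_apply, hk, this]

theorem exists_frame {x : GolayPt → ℤ} (hx : x ∈ leechLattice) (hn : Cfsg.sqNorm x = 64) :
    ∃ y : GolayPt → GolayPt → ℤ, (∀ k, y k ∈ leechLattice) ∧
      (∀ j k, dotInt (y j) (y k) = if j = k then 64 else 0) ∧ (∀ k, Cong leechLattice (y k) (y none)) ∧
      ∃ k, x = y k ∨ x = -y k := by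
  classical
  set C : Set (GolayPt → ℤ) := {y | (y ∈ leechLattice ∧ Cfsg.sqNorm y = 64) ∧ Cong leechLattice x y} with hC
  have h48 : C.ncard = 48 := leech_classes.2 x hx hn
  have hfin : C.Finite := Set.finite_of_ncard_pos (by rw [h48]; norm_num)
  set F := hfin.toFinset
  have hF : F.card = 48 := by rw [← Set.ncard_eq_toFinset_card C hfin, h48]
  have hneg : ∀ y ∈ F, -y ∈ F := by
    intro y hy
    rw [Set.Finite.mem_toFinset] at hy ⊢
    obtain ⟨⟨hy1, hy2⟩, z, hz, he⟩ := hy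
    refine ⟨⟨neg_mem hy1, by rw [← hy2]; simp [Cfsg.sqNorm]⟩, z + y, add_mem hz hy1, ?_⟩
    rw [sub_neg_eq_add, nsmul_add, ← he, two_nsmul]; abel
  have hne : ∀ y ∈ F, -y ≠ y := by
    intro y hy h
    rw [Set.Finite.mem_toFinset] at hy
    have h0 : y = 0 := funext fun i => by have := congrFun h i; simp only [Pi.neg_apply] at this; simp; omega
    have := hy.1.2
    simp [h0, Cfsg.sqNorm] at this
  obtain ⟨key, hkey⟩ := (inferInstance : Countable (GolayPt → ℤ)).exists_injective_nat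
  set H := F.filter fun y => key y < key (-y) with hH
  have hsplit : F = H ∪ H.image (fun y => -y) := by
    ext y
    simp only [hH, mem_union, mem_filter, mem_image]
    constructor
    · intro hy
      rcases lt_or_gt_of_ne (hkey.ne (hne y hy).symm) with h | h
      · exact Or.inl ⟨hy, h⟩
      · exact Or.inr ⟨-y, ⟨hneg y hy, by rwa [neg_neg]⟩, neg_neg y⟩
    · rintro (⟨h, -⟩ | ⟨z, ⟨hz, -⟩, rfl⟩)
      · exact h
      · exact hneg z hz
  have hdisj : Disjoint H (H.image fun y => -y) := by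
    refine disjoint_left.mpr fun y hy hy' => ?_
    obtain ⟨z, hz, rfl⟩ := mem_image.mp hy'
    have h1 := (mem_filter.mp hy).2
    rw [neg_neg] at h1
    exact lt_asymm h1 (mem_filter.mp hz).2
  have hHc : H.card = 24 := by
    have := congrArg Finset.card hsplit
    rw [card_union_of_disjoint hdisj, card_image_of_injective _ neg_injective, hF] at this
    omega
  obtain ⟨e⟩ : Nonempty (GolayPt ≃ H) :=
    Fintype.card_eq.mp (by rw [Fintype.card_coe, hHc, Fintype.card_option, ZMod.card])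
  have hmem : ∀ k, (e k : GolayPt → ℤ) ∈ F := fun k => (mem_filter.mp (e k).2).1
  have hmem' : ∀ k, ((e k : GolayPt → ℤ) ∈ leechLattice ∧ Cfsg.sqNorm (e k : GolayPt → ℤ) = 64) ∧
      Cong leechLattice x (e k) := fun k => (Set.Finite.mem_toFinset hfin).mp (hmem k)
  have hcc : ∀ j k, Cong leechLattice (e j : GolayPt → ℤ) (e k) := fun j k => by
    obtain ⟨z, hz, he⟩ := (hmem' j).2
    obtain ⟨w, hw, he'⟩ := (hmem' k).2
    exact ⟨w - z, sub_mem hw hz, by rw [nsmul_sub, ← he, ← he']; abel⟩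
  refine ⟨fun k => e k, fun k => (hmem' k).1.1, fun j k => ?_, fun k => hcc k none, ?_⟩
  · by_cases hjk : j = k
    · subst hjk; rw [if_pos rfl, ← sqNorm_eq_dot]; exact (hmem' j).1.2
    rw [if_neg hjk]
    have hne' : (e j : GolayPt → ℤ) ≠ e k := fun h => hjk (e.injective (Subtype.ext h))
    rcases s5592 _ _ (hmem' k).1.1 hne' (le_of_eq (hmem' j).1.2) (le_of_eq (hmem' k).1.2) (hcc j k) with h | ⟨-, -, h⟩
    · exfalso
      refine disjoint_left.mp hdisj (e j).2 (mem_image.mpr ⟨_, (e k).2, h.symm⟩)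
    · exact h
  · have hxF : x ∈ F := (Set.Finite.mem_toFinset hfin).mpr ⟨⟨hx, hn⟩, 0, zero_mem _, by simp⟩
    rw [hsplit] at hxF
    rcases mem_union.mp hxF with h | h
    · exact ⟨e.symm ⟨x, h⟩, Or.inl (by simp)⟩
    · obtain ⟨z, hz, hzx⟩ := mem_image.mp h
      exact ⟨e.symm ⟨z, hz⟩, Or.inr (by simp [hzx])⟩

theorem to_e8 (v : leechLattice) (hn : Cfsg.sqNorm (v : GolayPt → ℤ) = 64) (i : GolayPt) :
    ∃ g : Co0, g • v = e8 i := by
  obtain ⟨y, hy, horth, hcong, k, hk⟩ := exists_frame v.2 hn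
  obtain ⟨g, π, hg⟩ := frame_map y hy horth hcong
  obtain ⟨σ, hσ, hσi⟩ := M24_pretransitive (π k) i
  obtain ⟨m, hm⟩ : ∃ m : Co0, m • e8 (π k) = e8 i :=
    ⟨mono hσ empty_mem_code, by rw [monoFun_e8, if_neg (Finset.notMem_empty _), hσi]⟩
  have hcase : g • v = e8 (π k) ∨ g • v = -e8 (π k) := by
    rcases hk with h | h
    · rw [show v = ⟨y k, hy k⟩ from Subtype.ext h]; exact hg k
    · rw [show v = -(⟨y k, hy k⟩ : leechLattice) from Subtype.ext h, smul_neg']
      rcases hg k with h' | h' <;> rw [h']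
      · exact Or.inr rfl
      · exact Or.inl (neg_neg _)
  rcases hcase with h | h
  · exact ⟨m * g, by rw [mul_smul, h, hm]⟩
  · exact ⟨negOne * (m * g), by rw [mul_smul, mul_smul, h, smul_neg', hm, negOne_apply, neg_neg]⟩

theorem transitive64 (v w : leechLattice) (hv : Cfsg.sqNorm (v : GolayPt → ℤ) = 64)
    (hw : Cfsg.sqNorm (w : GolayPt → ℤ) = 64) : ∃ g : Co0, g • v = w := by
  obtain ⟨g, hg⟩ := to_e8 v hv none
  obtain ⟨h, hh⟩ := to_e8 w hw none
  exact ⟨h⁻¹ * g, by rw [mul_smul, hg, ← hh, inv_smul_smul]⟩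

end Cfsg.Lib.Leech
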