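import Cfsg.Agent.Leech.MonsterType
import Cfsg.Agent.Leech.Transitive64
import Cfsg.Agent.Leech.Transitive
import Cfsg.Agent.Components.Structure

/-!
Involutions of the extraspecial subgroup in a group of Monster type: the two orbits of the centralizer.
-/

namespace Cfsg.Lib.Leech

open Cfsg

variable {G : Type*} [Group G] [Finite G] {z : G} {Q : Subgroup (Subgroup.centralizer ({z} : Set G))} [Q.Normal]
  {e : (Subgroup.centralizer ({z} : Set G)) ⧸ Q ≃* Spor.Co1} {ψ : leechLattice → Q ⧸ Subgroup.center Q}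

/-- The central involution as an element of its centralizer. -/
abbrev zC (z : G) : Subgroup.centralizer ({z} : Set G) := ⟨z, Subgroup.mem_centralizer_singleton_iff.mpr rfl⟩

theorem zC_mem (hw : IsExtraspecialCentralizerSetting z Q 12) : zC z ∈ Q := by
  have hc : zC z ∈ Subgroup.center (Subgroup.centralizer ({z} : Set G)) :=
    Subgroup.mem_center_iff.mpr fun b => Subtype.ext (Subgroup.mem_centralizer_singleton_iff.mp b.2)
  rw [← hw.2.1]
  refine SetLike.le_def.mp le_sup_right (SetLike.le_def.mp (Cfsg.Lib.Components.le_fitting ?_) hc)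
  letI : CommGroup (Subgroup.center (Subgroup.centralizer ({z} : Set G))) :=
    { mul_comm := fun a b => Subtype.ext (Subgroup.mem_center_iff.1 b.2 a) }
  infer_instance

theorem centerQ_cases (hw : IsExtraspecialCentralizerSetting z Q 12) {a : Q} (ha : a ∈ Subgroup.center Q) :
    a = 1 ∨ a = ⟨zC z, zC_mem hw⟩ := by
  have hz1 : (⟨zC z, zC_mem hw⟩ : Q) ≠ 1 := fun h => by
    have h1 : z = 1 := congrArg (fun q : Q => ((q : Subgroup.centralizer ({z} : Set G)) : G)) h
    have := hw.1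
    rw [h1, orderOf_one] at this
    exact absurd this (by decide)
  have hzc : (⟨zC z, zC_mem hw⟩ : Q) ∈ Subgroup.center Q := Subgroup.mem_center_iff.mpr fun b =>
    Subtype.ext (Subtype.ext (Subgroup.mem_centralizer_singleton_iff.mp (b : Subgroup.centralizer ({z} : Set G)).2))
  by_contra hne
  rw [not_or] at hne
  have hsub : ({⟨1, one_mem _⟩, ⟨a, ha⟩, ⟨_, hzc⟩} : Set (Subgroup.center Q)).ncard = 3 :=
    Set.ncard_eq_three.mpr ⟨_, _, _, fun h => hne.1 (congrArg Subtype.val h).symm,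
      fun h => hz1 (congrArg Subtype.val h).symm, fun h => hne.2 (congrArg Subtype.val h), rfl⟩
  have := Set.ncard_le_ncard (Set.subset_univ ({⟨1, one_mem _⟩, ⟨a, ha⟩, ⟨_, hzc⟩} : Set (Subgroup.center Q)))
    (Set.toFinite _)
  rw [hsub, Set.ncard_univ, hw.2.2.1.2] at this
  omega

theorem coe_eq_z (hw : IsExtraspecialCentralizerSetting z Q 12) {a : Q}
    (h : ((a : Subgroup.centralizer ({z} : Set G)) : G) = z) : a = ⟨zC z, zC_mem hw⟩ :=
  Subtype.ext (Subtype.ext h)

/-- An involution of `Q` other than the central one lies over a vector of squared length 32 or 64. -/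
theorem involution_class (hw : IsExtraspecialCentralizerSetting z Q 12) (hψ : IsLeechModTwoIso Q e ψ)
    (a : Q) (h2 : a * a = 1) (h1 : a ∉ Subgroup.center Q) :
    ∃ v : leechLattice, ψ v = QuotientGroup.mk a ∧
      (Cfsg.sqNorm (v : GolayPt → ℤ) = 32 ∨ Cfsg.sqNorm (v : GolayPt → ℤ) = 64) := by
  obtain ⟨hadd, hsurj, hker, -⟩ := id hψ
  obtain ⟨x, hx⟩ := hsurj (QuotientGroup.mk a)
  obtain ⟨y, hy, hyn, w, hw', hxy⟩ := s1570 x x.2
  have hxy' : x = (⟨y, hy⟩ : leechLattice) + (⟨w, hw'⟩ + ⟨w, hw'⟩) := Subtype.ext (by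
    show (x : GolayPt → ℤ) = y + (w + w)
    rw [two_smul] at hxy
    rw [← hxy]; abel)
  have hψy : ψ ⟨y, hy⟩ = QuotientGroup.mk a := by
    rw [← hx, hxy', hadd, (hker _).mpr ⟨⟨w, hw'⟩, rfl⟩, mul_one]
  refine ⟨⟨y, hy⟩, hψy, ?_⟩
  have hy0 : y ≠ 0 := fun h0 => h1 (by
    rw [← QuotientGroup.eq_one_iff, ← hψy]
    exact (hker _).mpr ⟨0, Subtype.ext (by simpa using h0)⟩)
  have h32 := thirtytwo_le_sqNorm hy hy0
  have hform := (monster_form z Q e ψ hw hψ ⟨y, hy⟩ a hψy.symm).mp h2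
  obtain ⟨k, hk⟩ := sixteen_dvd_sqNorm hy
  simp only at hform
  rw [hk, show (16 * k : ℤ) / 16 = k by omega] at hform
  obtain ⟨j, hj⟩ := (ZMod.intCast_zmod_eq_zero_iff_dvd k 2).mp hform
  show Cfsg.sqNorm y = 32 ∨ Cfsg.sqNorm y = 64
  push_cast at hj
  omega

/-- Involutions of `Q` over vectors of the same squared length are conjugate in the centralizer. -/
theorem conj_of_norm (hw : IsExtraspecialCentralizerSetting z Q 12) (hψ : IsLeechModTwoIso Q e ψ)
    {a b : Q} (ha : a ∉ Subgroup.center Q) {v w : leechLattice} (hv : ψ v = QuotientGroup.mk a)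
    (hvw : ψ w = QuotientGroup.mk b) (hn : Cfsg.sqNorm (v : GolayPt → ℤ) = Cfsg.sqNorm (w : GolayPt → ℤ))
    (h : Cfsg.sqNorm (v : GolayPt → ℤ) = 32 ∨ Cfsg.sqNorm (v : GolayPt → ℤ) = 64) :
    ∃ x : Subgroup.centralizer ({z} : Set G),
      x * (a : Subgroup.centralizer ({z} : Set G)) * x⁻¹ = (b : Subgroup.centralizer ({z} : Set G)) := by
  obtain ⟨-, -, -, heq⟩ := id hψ
  obtain ⟨g, hg⟩ : ∃ g : Co0, g • v = w := by
    rcases h with h | h
    · exact transitive32 v w h (hn ▸ h)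
    · exact transitive64 v w h (hn ▸ h)
  obtain ⟨x, hx⟩ := QuotientGroup.mk_surjective (e.symm (QuotientGroup.mk g))
  have := heq x g (by rw [hx, MulEquiv.apply_symm_apply]) v a hv
  rw [hg, hvw] at this
  set b' : Q := ⟨x * a * x⁻¹, (inferInstance : Q.Normal).conj_mem _ a.2 x⟩ with hb'
  rcases centerQ_cases hw (QuotientGroup.eq.mp this) with h1 | h1
  · refine ⟨x, ?_⟩
    exact (congrArg Subtype.val (inv_mul_eq_one.mp h1)).symm
  · -- move `a` to the other element of its coset first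
    obtain ⟨q, hq⟩ : ∃ q : Q, q * a * q⁻¹ * a⁻¹ ≠ 1 := by
      by_contra! hall
      exact ha (Subgroup.mem_center_iff.mpr fun q => mul_inv_eq_iff_eq_mul.mp (mul_inv_eq_one.mp (hall q)))
    have hqc : q * a * q⁻¹ * a⁻¹ ∈ Subgroup.center Q := by
      rw [← QuotientGroup.eq_one_iff]
      obtain ⟨u, hu⟩ := hψ.2.1 (QuotientGroup.mk q)
      simp only [QuotientGroup.mk_mul, QuotientGroup.mk_inv, ← hu, ← hv]
      rw [mul_inv_eq_one, mul_inv_eq_iff_eq_mul, ← hψ.1, ← hψ.1, add_comm]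
    rcases centerQ_cases hw hqc with h2 | h2
    · exact absurd h2 hq
    refine ⟨x * q, ?_⟩
    have hb : b = ⟨zC z, zC_mem hw⟩⁻¹ * b' ∨ b = b' * ⟨zC z, zC_mem hw⟩⁻¹ :=
      Or.inr (by rw [← h1]; group)
    have hqa : (q : Subgroup.centralizer ({z} : Set G)) * a * (q : Subgroup.centralizer ({z} : Set G))⁻¹ =
        zC z * a := by
      have := congrArg Subtype.val h2
      simpa [mul_inv_eq_iff_eq_mul] using this
    have hzz : ∀ y : Subgroup.centralizer ({z} : Set G), y * zC z = zC z * y := fun y =>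
      Subtype.ext (Subgroup.mem_centralizer_singleton_iff.mp y.2)
    have hz2 : zC z * zC z = 1 := Subtype.ext (by
      have := pow_orderOf_eq_one z
      rw [hw.1, pow_two] at this
      exact this)
    calc x * q * (a : Subgroup.centralizer ({z} : Set G)) * (x * q)⁻¹
        = x * (q * a * (q : Subgroup.centralizer ({z} : Set G))⁻¹) * x⁻¹ := by group
      _ = x * (zC z * a) * x⁻¹ := by rw [hqa]
      _ = (zC z) * (x * a * x⁻¹) := by rw [← mul_assoc x, hzz x]; group
      _ = _ := by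
        rcases hb with rfl | rfl
        · simp [hb', inv_eq_of_mul_eq_one_left hz2, mul_assoc]
        · simp [hb', inv_eq_of_mul_eq_one_left hz2, hzz, mul_assoc]

/-- An involution of the group lying in `Q` other than the central one, with the norm of its class. -/
theorem class_of_mem (hw : IsExtraspecialCentralizerSetting z Q 12) (hψ : IsLeechModTwoIso Q e ψ) {s : G}
    (hsQ : ∃ hsc : s ∈ Subgroup.centralizer ({z} : Set G), (⟨s, hsc⟩ : Subgroup.centralizer ({z} : Set G)) ∈ Q)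
    (hs2 : orderOf s = 2) (hsz : s ≠ z) :
    ∃ a : Q, ((a : Subgroup.centralizer ({z} : Set G)) : G) = s ∧ a * a = 1 ∧ a ∉ Subgroup.center Q ∧
      ∃ v : leechLattice, ψ v = QuotientGroup.mk a ∧
        (Cfsg.sqNorm (v : GolayPt → ℤ) = 32 ∨ Cfsg.sqNorm (v : GolayPt → ℤ) = 64) := by
  obtain ⟨hsc, hsm⟩ := hsQ
  have h2 : (⟨⟨s, hsc⟩, hsm⟩ : Q) * ⟨⟨s, hsc⟩, hsm⟩ = 1 := Subtype.ext (Subtype.ext (by
    have := pow_orderOf_eq_one s
    rw [hs2, pow_two] at this
    exact this))
  have h1 : (⟨⟨s, hsc⟩, hsm⟩ : Q) ∉ Subgroup.center Q := by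
    intro hc
    rcases centerQ_cases hw hc with h | h
    · have h' : s = 1 := congrArg (fun q : Q => ((q : Subgroup.centralizer ({z} : Set G)) : G)) h
      rw [h', orderOf_one] at hs2
      exact absurd hs2 (by decide)
    · exact hsz (congrArg (fun q : Q => ((q : Subgroup.centralizer ({z} : Set G)) : G)) h)
  exact ⟨_, rfl, h2, h1, involution_class hw hψ _ h2 h1⟩

/-- Two involutions of `Q` whose classes have the same norm are conjugate in the centralizer. -/
theorem conj_of_class (hw : IsExtraspecialCentralizerSetting z Q 12) (hψ : IsLeechModTwoIso Q e ψ)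
    {s t : G} {a b : Q} (has : ((a : Subgroup.centralizer ({z} : Set G)) : G) = s)
    (hbt : ((b : Subgroup.centralizer ({z} : Set G)) : G) = t) (ha : a ∉ Subgroup.center Q) {v w : leechLattice}
    (hv : ψ v = QuotientGroup.mk a) (hvw : ψ w = QuotientGroup.mk b)
    (hn : Cfsg.sqNorm (v : GolayPt → ℤ) = Cfsg.sqNorm (w : GolayPt → ℤ))
    (h : Cfsg.sqNorm (v : GolayPt → ℤ) = 32 ∨ Cfsg.sqNorm (v : GolayPt → ℤ) = 64) :
    ∃ x ∈ Subgroup.centralizer ({z} : Set G), x * s * x⁻¹ = t := by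
  obtain ⟨x, hx⟩ := conj_of_norm hw hψ ha hv hvw hn h
  refine ⟨x, x.2, ?_⟩
  rw [← has, ← hbt, ← hx]
  rfl

end Cfsg.Lib.Leech
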