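import Cfsg.Agent.Leech.UnitarySixChecks
import Cfsg.Agent.Leech.PairSimple
import Cfsg.Agent.Leech.Mult.Elem
import Cfsg.Agent.FiPres.Uni
import Cfsg.Agent.Known.PSUThreeFiveExists

/-!
The stabiliser of two short vectors with the inner product minus two is the unitary group in dimension six over four
elements, by comparing actions on 693 points.
-/

set_option autoImplicit false
set_option maxHeartbeats 1000000
set_option maxRecDepth 100000
set_option linter.style.haveILetI false

namespace Cfsg.Lib.Leech.UnitarySix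

open Cfsg Cfsg.Lib.PermCert Cfsg.Lib.CosetCert Cfsg.Lib.Leech Cfsg.Lib.Leech.Stab Cfsg.Lib.Golay MulAction
open Cfsg.Lib.Leech.Mult (el el_smul)
open Cfsg.Lib.PrimeGraph (KQuad)

local instance finiteCo0Inst : Finite Co0 := finite_co0

theorem short_V : Short kV := ⟨mem_of_inL base_ok.1, base_ok.2.2.1.le.trans (by norm_num)⟩

theorem short_W : Short kW := ⟨mem_of_inL base_ok.2.1, base_ok.2.2.2.1.le.trans (by norm_num)⟩

/-- The first vector. -/
noncomputable def bv : leechLattice := ⟨dec kV, short_V.1⟩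

/-- The second vector. -/
noncomputable def bw : leechLattice := ⟨dec kW, short_W.1⟩

/-- The stabiliser of the two vectors. -/
noncomputable abbrev pairH : Subgroup Co0 := stabilizer Co0 bv ⊓ stabilizer Co0 bw

theorem pair16_count (v : leechLattice) (hv : Cfsg.sqNorm (v : GolayPt → ℤ) = 32) :
    {w : leechLattice | Cfsg.sqNorm (w : GolayPt → ℤ) = 32 ∧ dotInt (v : GolayPt → ℤ) w = -16}.ncard = 4600 := by
  rw [← Stab.count_P16, ← Stab.min_census v hv (-16), ← Set.ncard_image_of_injective _ Subtype.val_injective]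
  congr 1
  ext x
  exact ⟨fun ⟨w, hw, e⟩ => e ▸ ⟨w.2, hw⟩, fun ⟨h1, h2⟩ => ⟨⟨x, h1⟩, h2, rfl⟩⟩

theorem card_pairH : Nat.card pairH = 9196830720 := by
  have h := pair_card (v := bv) (w := bw) base_ok.2.2.2.1 base_ok.2.2.2.2 (pair16_count bv base_ok.2.2.1)
    fun x hx hd => sixteen_pairs bv bw x base_ok.2.2.1 base_ok.2.2.2.1 hx base_ok.2.2.2.2 hd
  rw [card_stabilizer32 (v := bv) base_ok.2.2.1] at h
  exact Nat.eq_of_mul_eq_mul_right (show 0 < 4600 by norm_num) (h.trans (by norm_num))

theorem skey_short (i : Fin 891) : Short (skey i.val) := by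
  have h := List.all_eq_true.1 keys_ok i.val (List.mem_range.2 i.isLt)
  simp only [Bool.and_eq_true, decide_eq_true_eq] at h
  exact ⟨mem_of_inL h.1.1, h.1.2.le.trans (by norm_num)⟩

/-- One of the 891 vectors. -/
noncomputable def svec (i : Fin 891) : leechLattice := ⟨dec (skey i.val), (skey_short i).1⟩

theorem mono_of_incr {n : ℕ} {f : ℕ → ℕ} (h : ∀ i < n, f i < f (i + 1)) :
    ∀ {a b : ℕ}, a < b → b ≤ n → f a < f b := by
  intro a b hab
  induction hab with
  | refl => exact fun hb => h a (by omega)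
  | step hle ih =>
    rename_i m
    intro hb
    exact lt_trans (ih (by omega)) (h m (by omega))

theorem svec_inj : Function.Injective svec := by
  intro i j h
  have hb : ∀ i : Fin 891, skey i.val < 2 ^ 120 := fun i => by
    have h := List.all_eq_true.1 keys_ok i.val (List.mem_range.2 i.isLt)
    simp only [Bool.and_eq_true] at h
    exact Nat.le_of_ble_eq_true h.2
  have e := key_ext (hb i) (hb j) (congrArg Subtype.val h)
  have hm : ∀ {a b : ℕ}, a < b → b ≤ 890 → skey a < skey b := mono_of_incr fun k hk =>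
    Nat.le_of_ble_eq_true (List.all_eq_true.1 keys_incr k (List.mem_range.2 hk))
  rcases lt_trichotomy i.val j.val with h1 | h1 | h1
  · exact absurd e (hm h1 (by omega)).ne
  · exact Fin.ext h1
  · exact absurd e (hm h1 (by omega)).ne'

theorem testBit_mask (l : List ℕ) (x : ℕ) : (mask l).testBit x = true ↔ x ∈ l := by
  induction l with
  | nil => simp [mask]
  | cons a l ih =>
    rw [mask, Nat.testBit_or, Bool.or_eq_true, Nat.testBit_two_pow, decide_eq_true_eq, ih, List.mem_cons]
    exact or_congr_left ⟨Eq.symm, Eq.symm⟩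

/-- One of the 693 subsets. -/
def TT (j : Fin 693) : Set leechLattice := svec '' {i | i.val ∈ quad j.val}

/-- The order of the subsets. -/
def ordP : Equiv.Perm (Fin 693) := perm 693 ordTab

theorem TT_inj : Function.Injective TT := by
  intro a b h
  have hmem : ∀ x : ℕ, x ∈ quad a.val ↔ x ∈ quad b.val := by
    have hq : ∀ c : Fin 693, ∀ x ∈ quad c.val, x < 891 := fun c x hx => of_decide_eq_true
      (List.all_eq_true.1 (List.all_eq_true.1 quads_bound c.val (List.mem_range.2 c.isLt)) x hx)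
    intro x
    constructor
    · intro hx
      obtain ⟨i, hi, e⟩ := (h ▸ (⟨⟨x, hq a x hx⟩, hx, rfl⟩ : svec ⟨x, hq a x hx⟩ ∈ TT a) : svec ⟨x, hq a x hx⟩ ∈ TT b)
      obtain rfl := svec_inj e
      exact hi
    · intro hx
      obtain ⟨i, hi, e⟩ := (h.symm ▸ (⟨⟨x, hq b x hx⟩, hx, rfl⟩ : svec ⟨x, hq b x hx⟩ ∈ TT b) : svec ⟨x, hq b x hx⟩ ∈ TT a)
      obtain rfl := svec_inj e
      exact hi
  have e : mask (quad a.val) = mask (quad b.val) := Nat.eq_of_testBit_eq fun x => by
    rw [Bool.eq_iff_iff, testBit_mask, testBit_mask, hmem]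
  have hm : ∀ {p q : ℕ}, p < q → q ≤ 692 → mask (quad (ap ordTab.1 p)) < mask (quad (ap ordTab.1 q)) :=
    mono_of_incr (f := fun p => mask (quad (ap ordTab.1 p))) fun k hk =>
      Nat.le_of_ble_eq_true (List.all_eq_true.1 quads_incr k (List.mem_range.2 hk))
  obtain ⟨p, rfl⟩ := ordP.surjective a
  obtain ⟨q, rfl⟩ := ordP.surjective b
  simp only [ordP, perm_apply tabs_valid.2.2.2.2] at e
  rcases lt_trichotomy p.val q.val with h1 | h1 | h1
  · exact absurd e (hm h1 (by omega)).ne
  · rw [Fin.ext h1]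
  · exact absurd e (hm h1 (by omega)).ne'

/-- A generator. -/
noncomputable def hgen (l : ℕ) : Co0 := el [gen l]

/-- Its action on the subsets. -/
def sP (l : ℕ) : Equiv.Perm (Fin 693) := perm 693 (sTabs.getD l (0, 0))

theorem sTab_valid {l : ℕ} (hl : l < 7) : valid 693 (sTabs.getD l (0, 0)) = true := by
  rw [List.getD_eq_getElem _ _ (tabs_valid.2.2.2.1.symm ▸ hl)]
  exact List.all_eq_true.1 tabs_valid.2.1 _ (List.getElem_mem _)

theorem vTab_valid {l : ℕ} (hl : l < 7) : valid 891 (vTabs.getD l (0, 0)) = true := by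
  rw [List.getD_eq_getElem _ _ (tabs_valid.2.2.1.symm ▸ hl)]
  exact List.all_eq_true.1 tabs_valid.1 _ (List.getElem_mem _)

theorem act_ok {l : ℕ} (hl : l < 7) : actOn l = true ∧ setOn l = true := by
  interval_cases l
  exacts [act_0, act_1, act_2, act_3, act_4, act_5, act_6]

theorem hgen_mem {l : ℕ} (hl : l < 7) : hgen l ∈ pairH := by
  have h := List.all_eq_true.1 gens_fix l (List.mem_range.2 hl)
  simp only [Bool.and_eq_true, beq_iff_eq] at h
  obtain ⟨⟨hok, hV⟩, hW⟩ := h
  have hw : [gen l].all (·.ok) = true := by simp [hok]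
  exact ⟨(el_smul hw short_V).2.trans (Subtype.ext (congrArg dec hV)),
    (el_smul hw short_W).2.trans (Subtype.ext (congrArg dec hW))⟩

theorem hgen_TT {l : ℕ} (hl : l < 7) (j : Fin 693) : (hgen l • ·) '' TT j = TT (sP l j) := by
  have hok : [gen l].all (·.ok) = true := by
    have h := List.all_eq_true.1 gens_fix l (List.mem_range.2 hl)
    simp only [Bool.and_eq_true] at h
    simp [h.1.1]
  have hv : ∀ i : Fin 891, hgen l • svec i = svec (perm 891 (vTabs.getD l (0, 0)) i) := fun i => by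
    obtain ⟨h1, e1⟩ := el_smul hok (skey_short i)
    refine e1.trans (Subtype.ext (congrArg dec ?_))
    rw [perm_apply (vTab_valid hl)]
    exact beq_iff_eq.1 (List.all_eq_true.1 (act_ok hl).1 i.val (List.mem_range.2 i.isLt))
  have hs := beq_iff_eq.1 (List.all_eq_true.1 (act_ok hl).2 j.val (List.mem_range.2 j.isLt))
  have hq : ∀ y, y ∈ quad (sP l j).val ↔ ∃ x ∈ quad j.val, ap (vTabs.getD l (0, 0)).1 x = y := fun y => by
    rw [sP, perm_apply (sTab_valid hl), ← testBit_mask, ← hs, testBit_mask, List.mem_map]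
  ext z
  constructor
  · rintro ⟨_, ⟨i, hi, rfl⟩, rfl⟩
    refine ⟨perm 891 (vTabs.getD l (0, 0)) i, (hq _).2 ⟨i.val, hi, ?_⟩, (hv i).symm⟩
    rw [perm_apply (vTab_valid hl)]
  · rintro ⟨k, hk, rfl⟩
    obtain ⟨x, hx, e⟩ := (hq _).1 hk
    have hx' : x < 891 := of_decide_eq_true
      (List.all_eq_true.1 (List.all_eq_true.1 quads_bound j.val (List.mem_range.2 j.isLt)) x hx)
    refine ⟨svec ⟨x, hx'⟩, ⟨_, hx, rfl⟩, (hv _).trans (congrArg svec (Fin.ext ?_))⟩
    rw [perm_apply (vTab_valid hl)]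
    exact e

/-- Elements of the stabiliser permuting the subsets. -/
noncomputable def restH : Subgroup Co0 where
  carrier := {g | g ∈ pairH ∧ ∃ q : Equiv.Perm (Fin 693), ∀ j, (g • ·) '' TT j = TT (q j)}
  one_mem' := ⟨one_mem _, 1, fun j => by simp⟩
  mul_mem' := by
    rintro g h ⟨hg, q, hq⟩ ⟨hh, r, hr⟩
    refine ⟨mul_mem hg hh, q * r, fun j => ?_⟩
    calc ((g * h) • ·) '' TT j = (g • ·) '' ((h • ·) '' TT j) := by simp only [Set.image_image, mul_smul]
      _ = _ := by rw [hr, hq]; rfl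
  inv_mem' := by
    rintro g ⟨hg, q, hq⟩
    refine ⟨inv_mem hg, q⁻¹, fun j => ?_⟩
    have h := hq (q⁻¹ j)
    rw [show q (q⁻¹ j) = j from q.apply_symm_apply j] at h
    conv_lhs => rw [← h]
    simp only [Set.image_image, inv_smul_smul, Set.image_id']

/-- The action on the subsets. -/
noncomputable def rho : restH →* Equiv.Perm (Fin 693) :=
  MonoidHom.mk' (fun g => g.2.2.choose) fun g h => Equiv.ext fun j => TT_inj (by
    rw [← (g * h).2.2.choose_spec j, Equiv.Perm.mul_apply, ← g.2.2.choose_spec, ← h.2.2.choose_spec, Set.image_image]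
    simp only [Subgroup.coe_mul, mul_smul])

theorem rho_gen {l : ℕ} (hl : l < 7) : sP l ∈ rho.range := by
  refine ⟨⟨hgen l, hgen_mem hl, sP l, hgen_TT hl⟩, Equiv.ext fun j => TT_inj ?_⟩
  exact ((⟨hgen l, hgen_mem hl, sP l, hgen_TT hl⟩ : restH).2.2.choose_spec j).symm.trans (hgen_TT hl j)

theorem sub_mem {l : ℕ} (hl : l < 10) : FiPres.subAct l ∈ rho.range := by
  have h : wordOn l = true := by
    rcases Nat.lt_or_ge l 5 with h | h
    · exact List.all_eq_true.1 words_low l (List.mem_range.2 h)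
    · have := List.all_eq_true.1 words_high (l - 5) (List.mem_range.2 (by omega))
      rwa [Nat.sub_add_cancel h] at this
  simp only [wordOn, Bool.and_eq_true, List.all_eq_true, decide_eq_true_eq, List.mem_range, beq_iff_eq] at h
  have hv := List.all_eq_true.1 FiPres.uni_valid l (List.mem_range.2 hl)
  have e : wperm 693 ((sWords.getD l []).map fun a => sTabs.getD a (0, 0)) = FiPres.subAct l :=
    Equiv.ext fun x => Fin.ext (by
      rw [wperm_apply (fun g hg => by
        obtain ⟨a, ha, rfl⟩ := List.mem_map.1 hg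
        exact sTab_valid (h.1 a ha)), FiPres.subAct, perm_apply hv]
      exact h.2 x.val x.isLt)
  rw [← e, wperm, List.map_map]
  refine Subgroup.list_prod_mem _ fun z hz => ?_
  obtain ⟨a, ha, rfl⟩ := List.mem_map.1 hz
  exact rho_gen (h.1 a ha)

open Cfsg.Lib.FiPres (toSub toPSU HFi imH10 lamH toSub_imH10 gen_imH10 toSub_eq_one) in
theorem unitary_equiv : Nonempty (toSub.range ≃* Cfsg.PSU 6 KQuad 2) ∧ toSub.range ≤ rho.range ∧
    Nat.card toSub.range = 9196830720 := by
  have hle : toSub.range ≤ rho.range := by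
    rw [MonoidHom.range_eq_map, ← gen_imH10, MonoidHom.map_closure, Subgroup.closure_le]
    rintro _ ⟨g, ⟨l, hl, rfl⟩, rfl⟩
    rw [toSub_imH10 hl]
    exact sub_mem (FiPres.lamH_lt l hl)
  obtain ⟨hsurj, -⟩ := FiPres.toPSU_facts
  have hker : toPSU.ker ≤ toSub.ker := fun g hg => toSub_eq_one hg
  set φ := toPSU.liftOfRightInverse _ (Function.rightInverse_surjInv hsurj) ⟨toSub, hker⟩
  have hφ : ∀ g, φ (toPSU g) = toSub g := fun g =>
    toPSU.liftOfRightInverse_comp_apply _ (Function.rightInverse_surjInv hsurj) ⟨toSub, hker⟩ g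
  have hrange : φ.range = toSub.range := by
    ext p
    constructor
    · rintro ⟨z, rfl⟩
      obtain ⟨g, rfl⟩ := hsurj z
      exact ⟨g, (hφ g).symm⟩
    · rintro ⟨g, rfl⟩
      exact ⟨toPSU g, hφ g⟩
  have hlow : 9196830720 ≤ Nat.card toSub.range := FiPres.chainU_ok.2.1 ▸
    chain_bound FiPres.subAct (MonoidHom.id _) FiPres.uniTabs (fun l hl => by
      have h10 : l < 10 := hl
      exact ⟨List.all_eq_true.1 FiPres.uni_valid l (List.mem_range.2 h10), by rw [MonoidHom.id_apply, FiPres.subAct]⟩)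
      FiPres.chainU toSub.range FiPres.chainU_ok.1 inferInstance (fun K hK w hw => ⟨wval imH10 w, by
        rw [map_wval]
        refine congrArg List.prod (List.map_congr_left fun l hl => toSub_imH10 ?_)
        exact List.contains_iff_mem.1
          (List.all_eq_true.1 (List.all_eq_true.1 (List.all_eq_true.1 FiPres.chainU_ok.2.2 K hK) w hw) l hl)⟩)
  have hup : Nat.card φ.range ≤ Nat.card (Cfsg.PSU 6 KQuad 2) :=
    Nat.card_le_card_of_surjective _ φ.rangeRestrict_surjective
  rw [hrange, FiPres.card_psu6] at hup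
  have hinj : Function.Injective φ := fun a b h =>
    ((Nat.bijective_iff_surjective_and_card φ.rangeRestrict).2
      ⟨φ.rangeRestrict_surjective, by rw [hrange, FiPres.card_psu6]; omega⟩).1 (Subtype.ext h)
  exact ⟨⟨((MonoidHom.ofInjective hinj).trans (MulEquiv.subgroupCongr hrange)).symm⟩, hle, by omega⟩

theorem pairH_equiv : Nonempty (pairH ≃* Cfsg.PSU 6 KQuad 2) := by
  obtain ⟨⟨e⟩, hle, hc⟩ := unitary_equiv
  have hsub : restH ≤ pairH := fun g hg => hg.1
  have h1 := Subgroup.card_le_of_le hle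
  have h2 : Nat.card rho.range ≤ Nat.card restH := Nat.card_le_card_of_surjective _ rho.rangeRestrict_surjective
  have h3 : Nat.card restH ≤ 9196830720 := card_pairH ▸ Subgroup.card_le_of_le hsub
  have hr : FiPres.toSub.range = rho.range := Subgroup.eq_of_le_of_card_ge hle (by omega)
  have hH : restH = pairH := Subgroup.eq_of_le_of_card_ge hsub (by rw [card_pairH]; omega)
  have hinj : Function.Injective rho := by
    have hb : Function.Bijective rho.rangeRestrict :=
      (Nat.bijective_iff_surjective_and_card _).2 ⟨rho.rangeRestrict_surjective, by omega⟩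
    exact fun a b h => hb.1 (Subtype.ext h)
  exact ⟨((MulEquiv.subgroupCongr hH.symm).trans (MonoidHom.ofInjective hinj)).trans
    ((MulEquiv.subgroupCongr hr.symm).trans e)⟩

/-- A field isomorphism transports the unitary group. -/
theorem psu_congr {F K : Type} [Field F] [Field K] (e : F ≃+* K) (n q : ℕ) :
    Nonempty (Cfsg.PSU n F q ≃* Cfsg.PSU n K q) := by
  have hmap : ∀ {F K : Type} [Field F] [Field K] (e : F ≃+* K) (a : Matrix.SpecialLinearGroup (Fin n) F),
      a ∈ Cfsg.SU n F q → Matrix.SpecialLinearGroup.map e.toRingHom a ∈ Cfsg.SU n K q := by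
    intro F K _ _ e a ha u v
    obtain ⟨u', rfl⟩ : ∃ u' : Fin n → F, (fun i => e (u' i)) = u := ⟨fun i => e.symm (u i), by simp⟩
    obtain ⟨v', rfl⟩ : ∃ v' : Fin n → F, (fun i => e (v' i)) = v := ⟨fun i => e.symm (v i), by simp⟩
    have h := congrArg e (ha u' v')
    have hform : ∀ x y : Fin n → F, e (Cfsg.hermForm n F q x y) =
        Cfsg.hermForm n K q (fun i => e (x i)) (fun i => e (y i)) := fun x y => by simp [Cfsg.hermForm]
    rw [hform, hform] at h
    have hmv : ∀ x : Fin n → F, (Cfsg.slToMat n K (Matrix.SpecialLinearGroup.map e.toRingHom a)).mulVec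
        (fun i => e (x i)) = fun i => e ((Cfsg.slToMat n F a).mulVec x i) := fun x =>
      funext fun i => (RingHom.map_mulVec e.toRingHom _ x i).symm
    rw [hmv, hmv]
    exact h
  have inv : ∀ {F K : Type} [Field F] [Field K] (e : F ≃+* K) (a : Matrix.SpecialLinearGroup (Fin n) F),
      Matrix.SpecialLinearGroup.map e.symm.toRingHom (Matrix.SpecialLinearGroup.map e.toRingHom a) = a :=
    fun e a => Subtype.ext (Matrix.ext fun i j => e.symm_apply_apply (a.1 i j))
  let E : Cfsg.SU n F q ≃* Cfsg.SU n K q :=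
    { toFun := fun a => ⟨_, hmap e a.1 a.2⟩
      invFun := fun a => ⟨_, hmap e.symm a.1 a.2⟩
      left_inv := fun a => Subtype.ext (inv e a.1)
      right_inv := fun a => Subtype.ext (inv e.symm a.1)
      map_mul' := fun a b => Subtype.ext (map_mul (Matrix.SpecialLinearGroup.map e.toRingHom) a.1 b.1) }
  exact ⟨Cfsg.Lib.Classical.centerQuotCongr E⟩

theorem main (v w : leechLattice) (hv : Cfsg.sqNorm (v : GolayPt → ℤ) = 32)
    (hw : Cfsg.sqNorm (w : GolayPt → ℤ) = 32) (hd : dotInt (v : GolayPt → ℤ) w = -16)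
    (F : Type) [Field F] [Fintype F] (hF : Fintype.card F = 4) :
    Nonempty (↥(stabilizer Co0 v ⊓ stabilizer Co0 w) ≃* Cfsg.PSU 6 F 2) := by
  obtain ⟨r, hr⟩ := transitive32 v bv hv base_ok.2.2.1
  obtain ⟨s, hs1, hs2⟩ := sixteen_pairs bv (r • w) bw base_ok.2.2.1 ((norm_smul' r w).trans hw) base_ok.2.2.2.1
    (by rw [← hr, dot_smul, hd]) base_ok.2.2.2.2
  obtain ⟨e⟩ := pairH_equiv
  obtain ⟨f⟩ := psu_congr (FiniteField.ringEquivOfCardEq (K := KQuad) (K' := F) (KQuad.card_eq.trans hF.symm)) 6 2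
  exact ⟨((pairConj (s * r) (by rw [mul_smul, hr, hs1]) (by rw [mul_smul, hs2])).trans e).trans f⟩

end Cfsg.Lib.Leech.UnitarySix
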