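import Cfsg.Agent.Leech.Co2Core
import Cfsg.Agent.LargeExtra.Coprime

/-!
The centralizer of an unfused involution of `Q` modulo that involution: the centralizer of the image of `z`.
-/

namespace Cfsg.Lib.Leech.Baby

open Cfsg Cfsg.Lib.Leech

variable {G : Type*} [Group G] {z : G} {Q : Subgroup (Subgroup.centralizer ({z} : Set G))}

/-- An element of `Q` as an element of the group. -/
abbrev tG (a : Q) : G := ((a : Subgroup.centralizer ({z} : Set G)) : G)

/-- Its centralizer. -/
abbrev tCent (a : Q) : Subgroup G := Subgroup.centralizer ({tG a} : Set G)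

/-- The subgroup generated by it, inside the centralizer. -/
abbrev tKer (a : Q) : Subgroup (tCent a) := (Subgroup.zpowers (tG a)).subgroupOf (tCent a)

/-- The elements of the centralizer commuting with `z`. -/
abbrev dGroup (a : Q) : Subgroup (tCent a) := (Subgroup.centralizer ({z} : Set G)).subgroupOf (tCent a)

/-- The elements of `Q` commuting with the involution. -/
abbrev aCent (a : Q) : Subgroup Q := Subgroup.centralizer ({a} : Set Q)

/-- `z` as an element of the centralizer. -/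
abbrev zT (a : Q) : tCent a := ⟨z, Subgroup.mem_centralizer_singleton_iff.mpr
  (Subgroup.mem_centralizer_singleton_iff.mp (a : Subgroup.centralizer ({z} : Set G)).2).symm⟩

/-- The elements of `dGroup` as elements of the centralizer of `z`. -/
def toC (a : Q) : dGroup a →* Subgroup.centralizer ({z} : Set G) :=
  MonoidHom.mk' (fun d => ⟨((d : tCent a) : G), d.2⟩) fun _ _ => rfl

/-- The automorphisms of the stabiliser as lattice automorphisms. -/
def toCo0 : Spor.Co2 →* Co0 := Subgroup.inclusion inf_le_left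

theorem toCo0_fix (g : Spor.Co2) : toCo0 g • bP = bP := by
  rw [← leechU_eq]; exact g.2.2

theorem toCo0_injective : Function.Injective toCo0 := Subgroup.inclusion_injective _

/-- An automorphism fixing the base vector, in the stabiliser. -/
def ofFix (g : Co0) (h : g • bP = bP) : Spor.Co2 := ⟨g.1, g.2, by
  show (g : Equiv.Perm leechLattice) • Spor.leechU = Spor.leechU
  rw [leechU_eq]; exact h⟩

theorem toCo0_ofFix (g : Co0) (h : g • bP = bP) : toCo0 (ofFix g h) = g := Subtype.ext rfl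

theorem toC_comm {a : Q} (d : dGroup a) :
    toC a d * (a : Subgroup.centralizer ({z} : Set G)) = (a : Subgroup.centralizer ({z} : Set G)) * toC a d :=
  Subtype.ext (Subgroup.mem_centralizer_singleton_iff.mp (d : tCent a).2)

theorem aCent_comm {a : Q} (q : aCent a) : (q : Q) * a = a * q := Subgroup.mem_centralizer_singleton_iff.mp q.2

/-- The elements of `Q` commuting with the involution, inside `dGroup`. -/
def toD (a : Q) : aCent a →* dGroup a :=
  MonoidHom.mk' (fun q => ⟨⟨tG (q : Q), Subgroup.mem_centralizer_singleton_iff.mpr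
    (congrArg (fun p : Q => tG p) (aCent_comm q))⟩, ((q : Q) : Subgroup.centralizer ({z} : Set G)).2⟩) fun _ _ => rfl

theorem toC_toD {a : Q} (q : aCent a) : toC a (toD a q) = ((q : Q) : Subgroup.centralizer ({z} : Set G)) := rfl

section quotient

variable (a : Q) [(tKer a).Normal]

/-- The image of `z`. -/
abbrev zbar : tCent a ⧸ tKer a := QuotientGroup.mk (zT a)

/-- Its centralizer. -/
abbrev hGroup : Subgroup (tCent a ⧸ tKer a) := Subgroup.centralizer ({zbar a} : Set (tCent a ⧸ tKer a))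

/-- The projection of the elements commuting with `z`. -/
def proj : dGroup a →* hGroup a :=
  MonoidHom.mk' (fun d => ⟨QuotientGroup.mk (d : tCent a), Subgroup.mem_centralizer_singleton_iff.mpr (by
    rw [← QuotientGroup.mk_mul, ← QuotientGroup.mk_mul]
    exact congrArg _ (Subtype.ext (Subgroup.mem_centralizer_singleton_iff.mp d.2)))⟩) fun _ _ => rfl

/-- The image of the elements of `Q` commuting with the involution. -/
def iota : aCent a →* hGroup a := (proj a).comp (toD a)

theorem proj_coe (d : dGroup a) : ((proj a d : hGroup a) : tCent a ⧸ tKer a) = QuotientGroup.mk (d : tCent a) := rfl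

end quotient

variable [Finite G] [Q.Normal] {e : (Subgroup.centralizer ({z} : Set G)) ⧸ Q ≃* Spor.Co1}
  {ψ : leechLattice → Q ⧸ Subgroup.center Q}
  (hw : IsExtraspecialCentralizerSetting z Q 12) (hψ : IsLeechModTwoIso Q e ψ) {a : Q} (ha2 : a * a = 1)
  (ha : a ∉ Subgroup.center Q) {k : Co0} (hv : ψ (k • bP) = QuotientGroup.mk a)

include hw in
theorem zQ_center : (⟨zC z, zC_mem hw⟩ : Q) ∈ Subgroup.center Q := Subgroup.mem_center_iff.mpr fun b =>
  Subtype.ext (Subtype.ext (Subgroup.mem_centralizer_singleton_iff.mp (b : Subgroup.centralizer ({z} : Set G)).2))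

include hw in
theorem zQ_sq : (⟨zC z, zC_mem hw⟩ : Q) * ⟨zC z, zC_mem hw⟩ = 1 := Subtype.ext (Subtype.ext (by
  have := pow_orderOf_eq_one z
  rw [hw.1, pow_two] at this
  exact this))

include hw hψ in
theorem conj_cases (p q : Q) : p * q * p⁻¹ = q ∨ p * q * p⁻¹ = ⟨zC z, zC_mem hw⟩ * q := by
  have hc : p * q * p⁻¹ * q⁻¹ ∈ Subgroup.center Q := by
    rw [← QuotientGroup.eq_one_iff]
    simp only [QuotientGroup.mk_mul, QuotientGroup.mk_inv]
    rw [mul_inv_eq_one, mul_inv_eq_iff_eq_mul, (psi_mul_comm hψ _ _).1]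
  rcases centerQ_cases hw hc with h | h
  · exact Or.inl (mul_inv_eq_one.mp h)
  · exact Or.inr (mul_inv_eq_iff_eq_mul.mp h)

include hw hψ in
theorem sq_cases (q : Q) : q * q = 1 ∨ q * q = ⟨zC z, zC_mem hw⟩ :=
  centerQ_cases hw (by rw [← QuotientGroup.eq_one_iff, QuotientGroup.mk_mul]; exact (psi_mul_comm hψ _ 1).2)

include hw hψ ha2 hv in
/-- An element commutes with the involution exactly when its class is orthogonal to the base vector. -/
theorem mem_aCent_iff {x : leechLattice} {q : Q} (hq : ψ (k • x) = QuotientGroup.mk q) :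
    q ∈ aCent a ↔ (16 : ℤ) ∣ dotInt (x : GolayPt → ℤ) bP := by
  have h1 := sq_iff hw hψ hq
  have h2 := sq_iff hw hψ (v := k • x + k • bP) (a := q * a) (by rw [hψ.1, hq, hv, QuotientGroup.mk_mul])
  rw [← smul_add', show Cfsg.sqNorm ((k • (x + bP) : leechLattice) : GolayPt → ℤ) =
    Cfsg.sqNorm ((x + bP : leechLattice) : GolayPt → ℤ) from k.2.2 _, AddSubgroup.coe_add, sqNorm_add, bP_norm] at h2
  rw [show Cfsg.sqNorm ((k • x : leechLattice) : GolayPt → ℤ) = Cfsg.sqNorm (x : GolayPt → ℤ) from k.2.2 _] at h1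
  have h8 := eight_dvd_dot x.2 bP.2
  rw [Subgroup.mem_centralizer_singleton_iff]
  have key : q * a * (q * a) = q * (a * q * a⁻¹) := by
    rw [inv_eq_of_mul_eq_one_right ha2]; group
  have hz1 : (⟨zC z, zC_mem hw⟩ : Q) ≠ 1 := fun h => by
    have h' : z = 1 := congrArg tG h
    have := hw.1
    rw [h', orderOf_one] at this
    exact absurd this (by decide)
  rcases conj_cases hw hψ a q with hc | hc
  · -- they commute
    rw [key, hc] at h2
    refine iff_of_true (mul_inv_eq_iff_eq_mul.mp hc).symm ?_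
    have := h1.symm.trans h2
    obtain ⟨j, hj⟩ := sixteen_dvd_sqNorm x.2
    omega
  · refine iff_of_false (fun he => hz1 ?_) fun hd => ?_
    · rw [← he] at hc
      simpa using hc
    · rw [key, hc, ← mul_assoc, Subgroup.mem_center_iff.mp (zQ_center hw) q, mul_assoc] at h2
      have h3 : (32 : ℤ) ∣ Cfsg.sqNorm (x : GolayPt → ℤ) + 2 * dotInt (x : GolayPt → ℤ) bP + 32 ↔
          (32 : ℤ) ∣ Cfsg.sqNorm (x : GolayPt → ℤ) := by omega
      rw [h3, ← h1] at h2
      rcases sq_cases hw hψ q with hs | hs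
      · have := h2.mpr hs
        rw [hs, mul_one] at this
        exact hz1 this
      · have := h2.mp (by rw [hs]; exact zQ_sq hw)
        exact hz1 (hs ▸ this)

include hw hψ ha in
theorem aCent_index : (aCent a).index = 2 := by
  obtain ⟨r0, hr0⟩ : ∃ r0 : Q, r0 * a ≠ a * r0 := by
    by_contra! hall
    exact ha (Subgroup.mem_center_iff.mpr hall)
  rw [Subgroup.index_eq_two_iff]
  refine ⟨r0, fun b => ?_⟩
  have hflip : ∀ r : Q, r ∉ aCent a → r * a * r⁻¹ = ⟨zC z, zC_mem hw⟩ * a := fun r hr =>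
    (conj_cases hw hψ r a).resolve_left fun h =>
      hr (Subgroup.mem_centralizer_singleton_iff.mpr (mul_inv_eq_iff_eq_mul.mp h))
  have hz := Subgroup.mem_center_iff.mp (zQ_center hw)
  have h0 : r0 ∉ aCent a := fun h => hr0 (Subgroup.mem_centralizer_singleton_iff.mp h)
  by_cases hb : b ∈ aCent a
  · exact Or.inr ⟨hb, fun h => h0 ((Subgroup.mul_mem_cancel_left _ hb).mp h)⟩
  · refine Or.inl ⟨Subgroup.mem_centralizer_singleton_iff.mpr (mul_inv_eq_iff_eq_mul.mp ?_), hb⟩
    calc b * r0 * a * (b * r0)⁻¹ = b * (r0 * a * r0⁻¹) * b⁻¹ := by group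
      _ = b * ⟨zC z, zC_mem hw⟩ * a * b⁻¹ := by rw [hflip r0 h0]; group
      _ = ⟨zC z, zC_mem hw⟩ * (b * a * b⁻¹) := by rw [hz b]; group
      _ = a := by rw [hflip b hb, ← mul_assoc, zQ_sq hw, one_mul]

section quotient

variable [(tKer a).Normal]

include ha2 in
theorem iota_eq_one {q : aCent a} : iota a q = 1 ↔ (q : Q) = 1 ∨ (q : Q) = a := by
  have ht : tG a * tG a = 1 := congrArg tG ha2
  constructor
  · intro h
    have h' : ((toD a q : dGroup a) : tCent a) ∈ tKer a := (QuotientGroup.eq_one_iff _).mp (congrArg Subtype.val h)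
    rcases (Cfsg.Lib.LargeExtra.mem_zpowers_two ht).mp h' with h1 | h1
    · exact Or.inl (Subtype.ext (Subtype.ext h1))
    · exact Or.inr (Subtype.ext (Subtype.ext h1))
  · intro h
    refine Subtype.ext ((QuotientGroup.eq_one_iff _).mpr ((Cfsg.Lib.LargeExtra.mem_zpowers_two ht).mpr ?_))
    rcases h with h | h
    · exact Or.inl (congrArg tG h)
    · exact Or.inr (congrArg tG h)

include hw hψ ha2 ha in
theorem card_range : Nat.card (iota a).range = 2 ^ 23 := by
  have hA := (aCent a).card_mul_index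
  rw [aCent_index hw hψ ha, hw.2.2.2.1] at hA
  have hk : Nat.card (iota a).ker = 2 := by
    have haA : a ∈ aCent a := Subgroup.mem_centralizer_singleton_iff.mpr rfl
    refine (Nat.card_eq_two_iff' (1 : (iota a).ker)).mpr ⟨⟨⟨a, haA⟩, (iota_eq_one ha2).mpr (Or.inr rfl)⟩, ?_, ?_⟩
    · intro h
      have : a = 1 := congrArg (fun q : (iota a).ker => ((q : aCent a) : Q)) h
      exact ha (this ▸ one_mem _)
    · intro q hq
      rcases (iota_eq_one ha2).mp q.2 with h | h
      · exact absurd (Subtype.ext (Subtype.ext h)) hq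
      · exact Subtype.ext (Subtype.ext h)
  have h2 := (iota a).ker.card_mul_index
  rw [Subgroup.index_ker, hk] at h2
  rw [show (2 : ℕ) ^ (2 * 12 + 1) = 2 ^ 23 * (2 * 2) by norm_num] at hA
  omega

include hw ha2 ha in
theorem zbar_ne_one : (zbar a) ≠ 1 := by
  intro h
  rcases (Cfsg.Lib.LargeExtra.mem_zpowers_two (congrArg tG ha2)).mp ((QuotientGroup.eq_one_iff _).mp h :
    zT a ∈ tKer a) with h1 | h1
  · have h1' : z = 1 := h1
    have := hw.1
    rw [h1', orderOf_one] at this
    exact absurd this (by decide)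
  · exact ha (coe_eq_z hw (a := a) h1.symm ▸ zQ_center hw)

include hw hψ ha2 ha in
theorem central_classes {q : aCent a} (h : ∀ r : aCent a, iota a q * iota a r = iota a r * iota a q) :
    (QuotientGroup.mk (q : Q) : Q ⧸ Subgroup.center Q) = 1 ∨
      (QuotientGroup.mk (q : Q) : Q ⧸ Subgroup.center Q) = QuotientGroup.mk a := by
  have hz := Subgroup.mem_center_iff.mp (zQ_center hw)
  have hcomm : ∀ r : Q, r ∈ aCent a → (q : Q) * r = r * q := by
    intro r hr
    have h1 : iota a ((q * ⟨r, hr⟩ * q⁻¹) * (⟨r, hr⟩ : aCent a)⁻¹) = 1 := by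
      rw [map_mul, map_mul, map_mul, h ⟨r, hr⟩, map_inv, map_inv]; group
    rcases conj_cases hw hψ (q : Q) r with hc | hc
    · exact mul_inv_eq_iff_eq_mul.mp hc
    exfalso
    rcases (iota_eq_one ha2).mp h1 with h2 | h2 <;>
      simp only [Subgroup.coe_mul, InvMemClass.coe_inv] at h2 <;> rw [hc, mul_inv_cancel_right] at h2
    · have := hw.1
      rw [show z = 1 from congrArg tG h2, orderOf_one] at this
      exact absurd this (by decide)
    · exact ha (h2 ▸ zQ_center hw)
  obtain ⟨r0, hr0⟩ : ∃ r0 : Q, r0 * a ≠ a * r0 := by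
    by_contra! hall
    exact ha (Subgroup.mem_center_iff.mpr hall)
  have h0 : r0 ∉ aCent a := fun h' => hr0 (Subgroup.mem_centralizer_singleton_iff.mp h')
  have hgen : ∀ p : Q, (∀ r ∈ aCent a, p * r = r * p) → p * r0 = r0 * p → p ∈ Subgroup.center Q := by
    intro p hp hp0
    refine Subgroup.mem_center_iff.mpr fun r => ?_
    by_cases hr : r ∈ aCent a
    · exact (hp r hr).symm
    have hrr : r0⁻¹ * r ∈ aCent a := (Subgroup.mul_mem_iff_of_index_two (aCent_index hw hψ ha)).mpr
      (iff_of_false (fun h' => h0 (by simpa using inv_mem h')) hr)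
    have hc : Commute p r := by
      rw [show r = r0 * (r0⁻¹ * r) by group]; exact Commute.mul_right hp0 (hp _ hrr)
    exact hc.eq.symm
  have hcl : ∀ p : Q, p ∈ Subgroup.center Q → (QuotientGroup.mk p : Q ⧸ Subgroup.center Q) = 1 := fun p hp =>
    (QuotientGroup.eq_one_iff p).mpr hp
  rcases conj_cases hw hψ (q : Q) r0 with hc | hc
  · exact Or.inl (hcl _ (hgen _ hcomm (mul_inv_eq_iff_eq_mul.mp hc)))
  · right
    have hca : a * r0 * a⁻¹ = ⟨zC z, zC_mem hw⟩ * r0 :=
      (conj_cases hw hψ a r0).resolve_left fun h' => hr0 (mul_inv_eq_iff_eq_mul.mp h').symm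
    have := hcl _ (hgen (a * q) (fun r hr => by
      have e2 := Subgroup.mem_centralizer_singleton_iff.mp hr
      exact (Commute.mul_left (e2 : Commute r a).symm (hcomm r hr : Commute (q : Q) r)).eq) (by
      refine mul_inv_eq_iff_eq_mul.mp ?_
      calc a * q * r0 * (a * q)⁻¹ = a * ((q : Q) * r0 * (q : Q)⁻¹) * a⁻¹ := by group
        _ = a * ⟨zC z, zC_mem hw⟩ * r0 * a⁻¹ := by rw [hc]; group
        _ = ⟨zC z, zC_mem hw⟩ * (a * r0 * a⁻¹) := by rw [hz a]; group
        _ = r0 := by rw [hca, ← mul_assoc, zQ_sq hw, one_mul]))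
    rw [QuotientGroup.mk_mul] at this
    rw [eq_inv_of_mul_eq_one_right this, inv_eq_of_mul_eq_one_right (psi_mul_comm hψ _ 1).2]

include hw hψ ha in
theorem isExtraspecial_range (ha2 : a * a = 1) (hv : ψ (k • bP) = QuotientGroup.mk a) :
    IsExtraspecial 2 (iota a).range := by
  have hzA : (⟨zC z, zC_mem hw⟩ : Q) ∈ aCent a :=
    Subgroup.mem_centralizer_singleton_iff.mpr (Subgroup.mem_center_iff.mp (zQ_center hw) a).symm
  set zH : hGroup a := iota a ⟨_, hzA⟩ with hzH
  have hzv : (zH : tCent a ⧸ tKer a) = zbar a := rfl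
  have h12 : ∀ q : Q, ∀ hq : q ∈ aCent a, q = 1 ∨ q = ⟨zC z, zC_mem hw⟩ →
      iota a ⟨q, hq⟩ = 1 ∨ iota a ⟨q, hq⟩ = zH := by
    rintro q hq (rfl | rfl)
    · exact Or.inl (map_one (iota a))
    · exact Or.inr rfl
  refine Cfsg.Lib.LargeExtra.isExtraspecial_of (z := zH) (IsPGroup.of_card (card_range hw hψ ha2 ha)) ⟨_, rfl⟩
    (fun h => zbar_ne_one hw ha2 ha (congrArg Subtype.val h)) ?_
    (fun b hb => Subtype.ext (Subgroup.mem_centralizer_singleton_iff.mp b.2)) ?_ ?_ ?_ ?_
  · rw [← map_mul, show (⟨_, hzA⟩ : aCent a) * ⟨_, hzA⟩ = 1 from Subtype.ext (zQ_sq hw), map_one]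
  · rintro _ ⟨p, rfl⟩ _ ⟨q, rfl⟩
    rw [← map_commutatorElement]
    refine h12 _ _ ?_
    simp only [Subgroup.coe_mul, InvMemClass.coe_inv]
    rcases conj_cases hw hψ (p : Q) q with h | h <;> rw [h]
    · exact Or.inl (mul_inv_cancel _)
    · exact Or.inr (mul_inv_cancel_right _ _)
  · rintro _ ⟨q, rfl⟩
    rw [← map_mul]
    exact h12 _ _ (sq_cases hw hψ q)
  · rintro _ ⟨q, rfl⟩ hall
    have hz := fun r : aCent a => (hall _ ⟨r, rfl⟩).symm.eq
    rcases central_classes hw hψ ha2 ha hz with h | h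
    · exact h12 _ q.2 (centerQ_cases hw ((QuotientGroup.eq_one_iff _).mp h))
    · have haA : a ∈ aCent a := Subgroup.mem_centralizer_singleton_iff.mpr rfl
      have e : iota a q = iota a (⟨a, haA⟩⁻¹ * q) := by
        rw [map_mul, map_inv, (iota_eq_one ha2 (q := ⟨a, haA⟩)).mpr (Or.inr rfl), inv_one, one_mul]
      rw [e]
      exact h12 _ _ (centerQ_cases hw (QuotientGroup.eq.mp h.symm))
  · obtain ⟨p, q, hp, hq, hpd, hqd, hpq⟩ := perp_odd
    obtain ⟨b, hb'⟩ := QuotientGroup.mk_surjective (ψ (k • p))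
    obtain ⟨c, hc'⟩ := QuotientGroup.mk_surjective (ψ (k • q))
    have hbA : b ∈ aCent a := (mem_aCent_iff hw hψ ha2 hv hb'.symm).mpr (by rw [dot_comm, hpd]; norm_num)
    have hcA : c ∈ aCent a := (mem_aCent_iff hw hψ ha2 hv hc'.symm).mpr (by rw [dot_comm, hqd]; norm_num)
    have hb2 : b * b = 1 := (sq_iff hw hψ hb'.symm).mpr (by
      rw [show Cfsg.sqNorm ((k • p : leechLattice) : GolayPt → ℤ) = 32 from (k.2.2 _).trans hp])
    have hc2 : c * c = 1 := (sq_iff hw hψ hc'.symm).mpr (by
      rw [show Cfsg.sqNorm ((k • q : leechLattice) : GolayPt → ℤ) = 32 from (k.2.2 _).trans hq])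
    have hbc : b * c ≠ c * b := fun h => by
      have := (commute_iff_dot hw hψ hb'.symm hc'.symm hb2 hc2).mp h
      rw [dot_smul, hpq] at this
      norm_num at this
    refine ⟨_, ⟨⟨b, hbA⟩, rfl⟩, _, ⟨⟨c, hcA⟩, rfl⟩, fun h => ?_⟩
    have h1 : iota a ((⟨b, hbA⟩ * ⟨c, hcA⟩ * (⟨b, hbA⟩ : aCent a)⁻¹) * (⟨c, hcA⟩ : aCent a)⁻¹) = 1 := by
      rw [map_mul, map_mul, map_mul, h.eq, map_inv, map_inv]; group
    have hbc' := (conj_cases hw hψ b c).resolve_left fun h' => hbc (mul_inv_eq_iff_eq_mul.mp h')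
    rcases (iota_eq_one ha2).mp h1 with h2 | h2 <;>
      simp only [Subgroup.coe_mul, InvMemClass.coe_inv] at h2 <;> rw [hbc', mul_inv_cancel_right] at h2
    · have := hw.1
      rw [show z = 1 from congrArg tG h2, orderOf_one] at this
      exact absurd this (by decide)
    · exact ha (h2 ▸ zQ_center hw)

end quotient

end Cfsg.Lib.Leech.Baby
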