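import Cfsg.Agent.Leech.BabyGroup
import Cfsg.Agent.OddLocal.FittingHall
import Cfsg.Agent.S1325

/-!
The centralizer of an unfused involution modulo it is of Baby Monster type.
-/

namespace Cfsg.Lib.Leech.Baby

open Cfsg Cfsg.Lib.Leech

variable {G : Type*} [Group G] [Finite G] {z : G} {Q : Subgroup (Subgroup.centralizer ({z} : Set G))} [Q.Normal]
  {e : (Subgroup.centralizer ({z} : Set G)) ⧸ Q ≃* Spor.Co1} {ψ : leechLattice → Q ⧸ Subgroup.center Q}
  (hw : IsExtraspecialCentralizerSetting z Q 12) (hψ : IsLeechModTwoIso Q e ψ) {a : Q} (ha2 : a * a = 1)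
  (ha : a ∉ Subgroup.center Q) {k : Co0} (hv : ψ (k • bP) = QuotientGroup.mk a)

include hψ in
theorem fix_of_lift {x : Subgroup.centralizer ({z} : Set G)} {g : Co0} (hg : Img e k g x)
    (hx : x * (a : Subgroup.centralizer ({z} : Set G)) = (a : Subgroup.centralizer ({z} : Set G)) * x)
    (hv : ψ (k • bP) = QuotientGroup.mk a) : g • bP = bP ∨ g • bP = -bP := by
  have h := img_class hψ hg hv
  rw [show (⟨x * a * x⁻¹, (inferInstance : Q.Normal).conj_mem _ a.2 x⟩ : Q) = a from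
    Subtype.ext (mul_inv_eq_iff_eq_mul.mpr hx), ← hv] at h
  obtain ⟨w, hw'⟩ := (psi_smul_eq_iff hψ k).mp h
  exact short_congr ((g.2.2 _).trans bP_norm) bP_norm hw'

include hψ hv in
theorem exists_fix (d : dGroup a) : ∃ g : Spor.Co2, Img e k (toCo0 g) (toC a d) := by
  obtain ⟨g, hg⟩ := img_exists (e := e) k (toC a d)
  rcases fix_of_lift hψ hg (toC_comm d) hv with h | h
  · exact ⟨ofFix g h, by rw [toCo0_ofFix]; exact hg⟩
  · refine ⟨ofFix (negOne * g) (by rw [mul_smul, h, negOne_apply, neg_neg]), ?_⟩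
    rw [toCo0_ofFix]
    have h1 : Img e k negOne (1 : Subgroup.centralizer ({z} : Set G)) := by
      unfold Img
      rw [QuotientGroup.mk_one, map_one]
      refine ((QuotientGroup.eq_one_iff _).mpr ?_).symm
      exact (inferInstance : (Subgroup.center Co0).Normal).conj_mem _
        (Subgroup.mem_center_iff.mpr fun h => (negOne_comm h).symm) k
    simpa using img_mul h1 hg

theorem img_unique {g g' : Spor.Co2} {x : Subgroup.centralizer ({z} : Set G)} (hg : Img e k (toCo0 g) x)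
    (hg' : Img e k (toCo0 g') x) : g = g' := by
  refine toCo0_injective (inv_mul_eq_one.mp (center_fix ((img_mem_iff (img_mul (img_inv hg) hg')).mp ?_) ?_))
  · rw [inv_mul_cancel]; exact one_mem _
  · rw [mul_smul, toCo0_fix, inv_smul_eq_iff, toCo0_fix]

section quotient

variable [(tKer a).Normal]

include hw hψ ha2 ha hv in
theorem comm_of_proj (x : tCent a) (h : (QuotientGroup.mk x : tCent a ⧸ tKer a) * zbar a = zbar a * QuotientGroup.mk x) :
    x ∈ dGroup a := by
  refine Subgroup.mem_centralizer_singleton_iff.mpr ?_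
  have hN : x * zT a * x⁻¹ * (zT a)⁻¹ ∈ tKer a := by
    rw [← QuotientGroup.eq_one_iff]
    simp only [QuotientGroup.mk_mul, QuotientGroup.mk_inv]
    rw [h]; group
  rcases (Cfsg.Lib.LargeExtra.mem_zpowers_two (congrArg tG ha2)).mp hN with h1 | h1
  · exact mul_inv_eq_iff_eq_mul.mp (mul_inv_eq_one.mp h1)
  exfalso
  have hag : tG (a * ⟨zC z, zC_mem hw⟩) = (x : G) * z * (x : G)⁻¹ := (mul_inv_eq_iff_eq_mul.mp h1).symm
  have hza : (QuotientGroup.mk (a * ⟨zC z, zC_mem hw⟩) : Q ⧸ Subgroup.center Q) = QuotientGroup.mk a := by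
    rw [QuotientGroup.mk_mul, (QuotientGroup.eq_one_iff _).mpr (zQ_center hw), mul_one]
  refine not_short hw hψ hag (fun hc => ha ?_) (hv.trans hza.symm)
  rw [← QuotientGroup.eq_one_iff, ← hza]
  exact (QuotientGroup.eq_one_iff _).mpr hc

include hw hψ ha2 ha hv in
theorem proj_surjective : Function.Surjective (proj a) := by
  rintro ⟨y, hy⟩
  obtain ⟨x, rfl⟩ := QuotientGroup.mk_surjective y
  exact ⟨⟨x, comm_of_proj hw hψ ha2 ha hv x (Subgroup.mem_centralizer_singleton_iff.mp hy)⟩, rfl⟩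

include hw hψ ha2 ha hv in
theorem exists_hom : ∃ f : hGroup a →* Spor.Co2, (∀ d, Img e k (toCo0 (f (proj a d))) (toC a d)) ∧
    Function.Surjective f ∧ f.ker = (iota a).range := by
  choose εf hεf using exists_fix hψ hv
  let ε : dGroup a →* Spor.Co2 := MonoidHom.mk' εf fun p q => img_unique (hεf (p * q))
    (by rw [map_mul, map_mul]; exact img_mul (hεf p) (hεf q))
  have hker : (proj a).ker ≤ ε.ker := by
    intro d hd
    refine img_unique (hεf d) ?_
    have hdN : (d : tCent a) ∈ tKer a := (QuotientGroup.eq_one_iff _).mp (congrArg Subtype.val hd)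
    have hdQ : toC a d ∈ Q := by
      rcases (Cfsg.Lib.LargeExtra.mem_zpowers_two (congrArg tG ha2)).mp hdN with h | h
      · rw [show toC a d = 1 from Subtype.ext h]; exact one_mem _
      · rw [show toC a d = (a : Subgroup.centralizer ({z} : Set G)) from Subtype.ext h]; exact a.2
    unfold Img
    rw [(QuotientGroup.eq_one_iff _).mpr hdQ, map_one, map_one, mul_one, mul_inv_cancel, QuotientGroup.mk_one]
  have hs := proj_surjective hw hψ ha2 ha hv
  set f := (proj a).liftOfSurjective hs ⟨ε, hker⟩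
  have hf : ∀ d, f (proj a d) = εf d := fun d => MonoidHom.liftOfRightInverse_comp_apply _ _ _ ⟨ε, hker⟩ d
  refine ⟨f, fun d => by rw [hf]; exact hεf d, fun g => ?_, ?_⟩
  · obtain ⟨x, hx, hxa⟩ := lift_stab hw hψ ha hv (g := toCo0 g) (by rw [toCo0_fix])
    let d : dGroup a := ⟨⟨(x : G), Subgroup.mem_centralizer_singleton_iff.mpr
      (congrArg Subtype.val (mul_inv_eq_iff_eq_mul.mp hxa))⟩, x.2⟩
    exact ⟨proj a d, by rw [hf]; exact img_unique (hεf d) hx⟩
  · ext h
    obtain ⟨d, rfl⟩ := hs h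
    rw [MonoidHom.mem_ker, hf]
    constructor
    · intro h1
      have := hεf d
      rw [h1, map_one] at this
      have hdQ : toC a d ∈ Q := (img_mem_iff this).mpr (one_mem _)
      refine ⟨⟨⟨toC a d, hdQ⟩, Subgroup.mem_centralizer_singleton_iff.mpr (Subtype.ext (toC_comm d))⟩, ?_⟩
      rfl
    · rintro ⟨q, hq⟩
      have hq' : ε (toD a q) = ε d := by
        have : (toD a q)⁻¹ * d ∈ (proj a).ker := by
          rw [MonoidHom.mem_ker, map_mul, map_inv, ← hq]; exact inv_mul_cancel _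
        have h2 := hker this
        rwa [MonoidHom.mem_ker, map_mul, map_inv, inv_mul_eq_one] at h2
      change ε d = 1
      rw [← hq']
      refine img_unique (hεf _) ?_
      unfold Img
      rw [toC_toD, (QuotientGroup.eq_one_iff _).mpr (q : Q).2, map_one, map_one, mul_one, mul_inv_cancel,
        QuotientGroup.mk_one]

include hw hψ ha2 ha hv in
/-- Nothing outside `Q̄` centralizes it. -/
theorem centralizer_range_le {f : hGroup a →* Spor.Co2} (hf : ∀ d, Img e k (toCo0 (f (proj a d))) (toC a d))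
    (hker : f.ker = (iota a).range) :
    Subgroup.centralizer ((iota a).range : Set (hGroup a)) ≤ (iota a).range := by
  intro h hh
  obtain ⟨d, rfl⟩ := proj_surjective hw hψ ha2 ha hv h
  rw [← hker, MonoidHom.mem_ker]
  refine toCo0_injective (co2_faithful (toCo0_fix _) fun x hx => ?_)
  obtain ⟨q, hq'⟩ := QuotientGroup.mk_surjective (ψ (k • x))
  have hqA : q ∈ aCent a := (mem_aCent_iff hw hψ ha2 hv hq'.symm).mpr hx
  set g := toCo0 (f (proj a d))
  have h1 := img_class hψ (hf d) hq'.symm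
  set q' : Q := ⟨toC a d * q * (toC a d)⁻¹, (inferInstance : Q.Normal).conj_mem _ q.2 _⟩ with hq'def
  have hgx : ((16 : ℤ) ∣ dotInt ((g • x : leechLattice) : GolayPt → ℤ) bP) := by
    have e := dot_smul g x bP
    rw [toCo0_fix] at e
    rwa [e]
  have hq'A : q' ∈ aCent a := (mem_aCent_iff hw hψ ha2 hv h1).mpr hgx
  have he : toD a ⟨q', hq'A⟩ = d * toD a ⟨q, hqA⟩ * d⁻¹ := Subtype.ext (Subtype.ext rfl)
  have hι : iota a ⟨q', hq'A⟩ = iota a ⟨q, hqA⟩ := by
    show proj a (toD a _) = proj a (toD a _)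
    rw [he, map_mul, map_mul, map_inv]
    exact mul_inv_eq_iff_eq_mul.mpr (hh _ ⟨⟨q, hqA⟩, rfl⟩).symm
  have h2 : iota a (⟨q, hqA⟩⁻¹ * ⟨q', hq'A⟩) = 1 := by rw [map_mul, map_inv, hι, inv_mul_cancel]
  have hbase : ψ (k • (g • x - x)) = 1 ∨ ψ (k • (g • x - x)) = QuotientGroup.mk a := by
    rw [sub_eq_add_neg, smul_add', smul_neg', hψ.1, psi_neg hψ, h1, ← hq', ← QuotientGroup.mk_mul]
    have h3 : (QuotientGroup.mk (q' * q) : Q ⧸ Subgroup.center Q) = QuotientGroup.mk (q⁻¹ * q') := by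
      rw [QuotientGroup.mk_mul, QuotientGroup.mk_mul, QuotientGroup.mk_inv,
        inv_eq_of_mul_eq_one_right (psi_mul_comm hψ (QuotientGroup.mk q : Q ⧸ Subgroup.center Q) 1).2,
        (psi_mul_comm hψ _ _).1]
    rw [h3]
    rcases (iota_eq_one ha2).mp h2 with h2 | h2 <;>
      simp only [Subgroup.coe_mul, InvMemClass.coe_inv] at h2 <;> rw [h2]
    · exact Or.inl (QuotientGroup.mk_one _)
    · exact Or.inr rfl
  rcases hbase with hb | hb
  · rw [← psi_zero hψ, show (0 : leechLattice) = k • 0 from ((toHom k).map_zero).symm, psi_smul_eq_iff hψ] at hb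
    obtain ⟨w, hw'⟩ := hb
    exact ⟨w, Or.inl (by rw [hw', zero_add])⟩
  · rw [← hv, psi_smul_eq_iff hψ] at hb
    obtain ⟨w, hw'⟩ := hb
    exact ⟨w, Or.inr hw'⟩

include hw hψ ha2 ha hv in
/-- `Q̄` is the generalized Fitting subgroup. -/
theorem genFitting_eq {f : hGroup a →* Spor.Co2} (hf : ∀ d, Img e k (toCo0 (f (proj a d))) (toC a d))
    (hs : Function.Surjective f) (hker : f.ker = (iota a).range) :
    generalizedFittingSubgroup (hGroup a) = (iota a).range := by
  haveI hnorm : (iota a).range.Normal := hker ▸ inferInstance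
  have hP : IsPGroup 2 (iota a).range := IsPGroup.of_card (card_range hw hψ ha2 ha)
  have hC := centralizer_range_le hw hψ ha2 ha hv hf hker
  haveI : Fact (Nat.Prime 2) := ⟨Nat.prime_two⟩
  refine le_antisymm (Cfsg.Agent.S1325.result _ (sSup_le fun L ⟨hLn, hLnil⟩ => ?_) hC)
    (le_sup_of_le_right (Cfsg.Lib.Components.le_fitting hP.isNilpotent))
  haveI := hLn
  haveI : Group.IsNilpotent L := hLnil
  -- the elements of odd order of `L` are trivial
  have hodd : ∀ n ∈ L, Odd (orderOf n) → n = 1 := by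
    intro n hn hno
    have hnY : n ∈ (iota a).range := by
      refine hC (Subgroup.mem_centralizer_iff.mpr fun q hq => ?_)
      set c := n * q * n⁻¹ * q⁻¹ with hc
      have hcL : c ∈ L := by
        rw [hc, show n * q * n⁻¹ * q⁻¹ = n * (q * n⁻¹ * q⁻¹) by group]
        exact mul_mem hn (hLn.conj_mem _ (inv_mem hn) q)
      have hcY : c ∈ (iota a).range := mul_mem (hnorm.conj_mem q hq n) (inv_mem hq)
      obtain ⟨i, hi⟩ := IsPGroup.iff_orderOf.mp hP ⟨c, hcY⟩
      rw [Subgroup.orderOf_mk] at hi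
      have hcn : Commute n c := congrArg Subtype.val (Cfsg.Lib.FittingHall.commute_coprime
        (x := (⟨n, hn⟩ : L)) (y := ⟨c, hcL⟩) (by
          rw [show orderOf (⟨n, hn⟩ : L) = orderOf n from Subgroup.orderOf_mk _ _,
            show orderOf (⟨c, hcL⟩ : L) = 2 ^ i from (Subgroup.orderOf_mk _ _).trans hi]
          exact Nat.Coprime.pow_right _ (Nat.coprime_two_right.mpr hno)))
      have hq' : n * q * n⁻¹ = c * q := by rw [hc]; group
      have hpow : ∀ m : ℕ, n ^ m * q * (n ^ m)⁻¹ = c ^ m * q := by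
        intro m
        induction m with
        | zero => simp
        | succ m ih =>
          calc n ^ (m + 1) * q * (n ^ (m + 1))⁻¹ = n * (n ^ m * q * (n ^ m)⁻¹) * n⁻¹ := by rw [pow_succ']; group
            _ = (n * c ^ m) * q * n⁻¹ := by rw [ih]; group
            _ = c ^ m * (n * q * n⁻¹) := by rw [(hcn.pow_right m).eq]; group
            _ = c ^ (m + 1) * q := by rw [hq', pow_succ]; group
      have h1 := hpow (orderOf n)
      rw [pow_orderOf_eq_one, one_mul, inv_one, mul_one] at h1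
      have hdvd : orderOf c ∣ orderOf n := orderOf_dvd_of_pow_eq_one (mul_eq_right.mp h1.symm)
      have hc1 : c = 1 := by
        rw [← orderOf_eq_one_iff]
        exact Nat.eq_one_of_dvd_coprimes (Nat.Coprime.pow_right i (Nat.coprime_two_right.mpr hno)) hdvd (hi ▸ dvd_rfl)
      exact (mul_inv_eq_iff_eq_mul.mp (mul_inv_eq_one.mp hc1)).symm
    obtain ⟨i, hi⟩ := IsPGroup.iff_orderOf.mp hP ⟨n, hnY⟩
    rw [Subgroup.orderOf_mk] at hi
    rw [← orderOf_eq_one_iff]
    rw [hi] at hno ⊢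
    rcases Nat.eq_zero_or_pos i with h0 | h0
    · rw [h0, pow_zero]
    · exact absurd hno (by simp [Nat.odd_pow_iff h0.ne'])
  have hL2 : IsPGroup 2 L := by
    rintro ⟨n, hn⟩
    obtain ⟨i, m, hm, he⟩ := Nat.exists_eq_pow_mul_and_not_dvd (orderOf_pos n).ne' 2 (by norm_num)
    refine ⟨i, Subtype.ext ?_⟩
    refine hodd _ (pow_mem hn _) ?_
    show Odd (orderOf (n ^ 2 ^ i))
    rw [orderOf_pow' _ (pow_ne_zero _ two_ne_zero), he, Nat.gcd_mul_right_left, Nat.mul_div_cancel_left _ (Nat.two_pow_pos i)]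
    exact Nat.odd_iff.mpr (Nat.two_dvd_ne_zero.mp hm)
  rw [← hker]
  intro n hn
  refine toCo0_injective ((co2_no_two (L.map (toCo0.comp f)) (hL2.map _) ?_ ?_ _ ⟨n, hn, rfl⟩).trans (map_one _).symm)
  · rintro _ ⟨m, -, rfl⟩
    exact toCo0_fix _
  · rintro h hh _ ⟨m, hm, rfl⟩
    obtain ⟨l, hl⟩ := hs (ofFix h hh)
    refine ⟨l * m * l⁻¹, hLn.conj_mem m hm l, ?_⟩
    rw [map_mul, map_mul, map_inv]
    show toCo0 (f l) * _ * (toCo0 (f l))⁻¹ = _
    rw [hl, toCo0_ofFix]

include hw hψ ha2 ha hv in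
theorem exists_perp_iso {f : hGroup a →* Spor.Co2} (hf : ∀ d, Img e k (toCo0 (f (proj a d))) (toC a d))
    (hs : Function.Surjective f) (hker : f.ker = (iota a).range) [(iota a).range.Normal] :
    ∃ (e' : hGroup a ⧸ (iota a).range ≃* Spor.Co2)
      (ψ' : leechPerpU → (iota a).range ⧸ Subgroup.center (iota a).range),
      IsLeechPerpModTwoIso (iota a).range e' ψ' := by
  set μ := QuotientGroup.mk' (Subgroup.center (iota a).range) with hμ
  have haA : a ∈ aCent a := Subgroup.mem_centralizer_singleton_iff.mpr rfl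
  have hzA : (⟨zC z, zC_mem hw⟩ : Q) ∈ aCent a :=
    Subgroup.mem_centralizer_singleton_iff.mpr (Subgroup.mem_center_iff.mp (zQ_center hw) a).symm
  have hperp : ∀ x : leechPerpU, (16 : ℤ) ∣ dotInt ((x : leechLattice) : GolayPt → ℤ) bP := fun x => by
    have h : (16 : ℤ) ∣ dotInt ((x : leechLattice) : GolayPt → ℤ) Spor.vecU := x.2
    rwa [show Spor.vecU = (bP : GolayPt → ℤ) from congrArg Subtype.val leechU_eq] at h
  have hex : ∀ x : leechPerpU, ∃ q : aCent a, ψ (k • (x : leechLattice)) = QuotientGroup.mk (q : Q) := fun x => by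
    obtain ⟨q, hq⟩ := QuotientGroup.mk_surjective (ψ (k • (x : leechLattice)))
    exact ⟨⟨q, (mem_aCent_iff hw hψ ha2 hv hq.symm).mpr (hperp x)⟩, hq.symm⟩
  choose qf hqf using hex
  -- the class of an element in the quotient of `Q̄`
  let ν : aCent a →* (iota a).range ⧸ Subgroup.center (iota a).range := μ.comp (iota a).rangeRestrict
  have hν : ∀ p : aCent a, ν p = 1 ↔ ((QuotientGroup.mk (p : Q) : Q ⧸ Subgroup.center Q) = 1 ∨
      (QuotientGroup.mk (p : Q) : Q ⧸ Subgroup.center Q) = QuotientGroup.mk a) := by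
    intro p
    show μ _ = 1 ↔ _
    rw [hμ, QuotientGroup.mk'_apply, QuotientGroup.eq_one_iff]
    constructor
    · intro h
      exact central_classes hw hψ ha2 ha fun r =>
        (congrArg Subtype.val (Subgroup.mem_center_iff.mp h ((iota a).rangeRestrict r))).symm
    · intro h
      refine Subgroup.mem_center_iff.mpr ?_
      rintro ⟨_, r, rfl⟩
      refine Subtype.ext ?_
      show iota a r * iota a p = iota a p * iota a r
      have hc : ∀ c : aCent a, (c : Q) ∈ Subgroup.center Q → iota a r * iota a c = iota a c * iota a r := fun c hc => by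
        rw [← map_mul, ← map_mul]
        exact congrArg _ (Subtype.ext (Subgroup.mem_center_iff.mp hc (r : Q)))
      rcases h with h | h
      · exact hc p ((QuotientGroup.eq_one_iff _).mp h)
      · have e : iota a p = iota a (⟨a, haA⟩⁻¹ * p) := by
          rw [map_mul, map_inv, (iota_eq_one ha2 (q := ⟨a, haA⟩)).mpr (Or.inr rfl), inv_one, one_mul]
        rw [e]
        exact hc _ (QuotientGroup.eq.mp h.symm)
  have hwd : ∀ (x : leechPerpU) (p : aCent a), ψ (k • (x : leechLattice)) = QuotientGroup.mk (p : Q) →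
      ν (qf x) = ν p := fun x p hp => by
    rw [← inv_mul_eq_one, ← map_inv, ← map_mul, hν]
    left
    simp only [Subgroup.coe_mul, InvMemClass.coe_inv, QuotientGroup.mk_mul, QuotientGroup.mk_inv]
    rw [← hqf, ← hp, inv_mul_cancel]
  refine ⟨(QuotientGroup.quotientMulEquivOfEq hker.symm).trans (QuotientGroup.quotientKerEquivOfSurjective f hs),
    fun x => ν (qf x), ?_, ?_, ?_, ?_⟩
  · intro x y
    show ν (qf (x + y)) = ν (qf x) * ν (qf y)
    rw [← map_mul]
    refine hwd _ _ ?_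
    rw [AddSubgroup.coe_add, smul_add', hψ.1, hqf, hqf, Subgroup.coe_mul, QuotientGroup.mk_mul]
  · intro y
    obtain ⟨⟨_, p, rfl⟩, rfl⟩ := QuotientGroup.mk_surjective y
    obtain ⟨x0, hx0⟩ := hψ.2.1 (QuotientGroup.mk (p : Q))
    have hp : ψ (k • (k⁻¹ • x0)) = QuotientGroup.mk (p : Q) := by rw [smul_inv_smul]; exact hx0
    have hd := (mem_aCent_iff hw hψ ha2 hv hp).mp p.2
    refine ⟨⟨k⁻¹ • x0, ?_⟩, hwd ⟨k⁻¹ • x0, _⟩ p hp⟩
    show (16 : ℤ) ∣ dotInt _ Spor.vecU
    rwa [show Spor.vecU = (bP : GolayPt → ℤ) from congrArg Subtype.val leechU_eq]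
  · intro x
    show ν (qf x) = 1 ↔ _
    rw [hν, ← hqf, ← hv, leechU_eq, ← psi_zero hψ, show (0 : leechLattice) = k • 0 from ((toHom k).map_zero).symm,
      psi_smul_eq_iff hψ, psi_smul_eq_iff hψ]
    simp only [zero_add, two_smul]
  · intro h g hg x y hxy q hq
    obtain ⟨d, rfl⟩ := proj_surjective hw hψ ha2 ha hv h
    have hfg : f (proj a d) = g := hg
    obtain ⟨_, p, rfl⟩ := q
    have hp : ν (qf x) = ν p := hq
    have h1 := img_class hψ (hf d) (hqf x)
    rw [hfg, show toCo0 g • (x : leechLattice) = (y : leechLattice) from hxy] at h1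
    set q' : Q := ⟨toC a d * ((qf x : Q) : Subgroup.centralizer ({z} : Set G)) * (toC a d)⁻¹,
      (inferInstance : Q.Normal).conj_mem _ (qf x : Q).2 _⟩
    have hq'A : q' ∈ aCent a := (mem_aCent_iff hw hψ ha2 hv h1).mpr (hperp y)
    show ν (qf y) = _
    rw [hwd y ⟨q', hq'A⟩ h1]
    -- conjugation respects the congruence
    refine QuotientGroup.eq.mpr (Subgroup.mem_center_iff.mpr fun r => ?_)
    have hc : (qf x : aCent a)⁻¹ * p ∈ ν.ker := by
      rw [MonoidHom.mem_ker, map_mul, map_inv, hp, inv_mul_cancel]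
    have hc' := Subgroup.mem_center_iff.mp ((QuotientGroup.eq_one_iff _).mp (MonoidHom.mem_ker.mp hc))
      ⟨(proj a d)⁻¹ * r * proj a d, by
        simpa using (inferInstance : (iota a).range.Normal).conj_mem _ r.2 (proj a d)⁻¹⟩
    have hc'' := congrArg (fun u : (iota a).range => proj a d * (u : hGroup a) * (proj a d)⁻¹) hc'
    have hι : iota a ⟨q', hq'A⟩ = proj a d * iota a (qf x) * (proj a d)⁻¹ := by
      show proj a (toD a _) = proj a d * proj a (toD a _) * _
      rw [← map_inv, ← map_mul, ← map_mul]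
      exact congrArg _ (Subtype.ext (Subtype.ext rfl))
    refine Subtype.ext ?_
    simp only [Subgroup.coe_mul, InvMemClass.coe_inv, map_mul, map_inv, MonoidHom.coe_rangeRestrict] at hc'' ⊢
    rw [hι]
    calc _ = proj a d * ((proj a d)⁻¹ * r * proj a d * ((iota a (qf x))⁻¹ * iota a p)) * (proj a d)⁻¹ := by group
      _ = proj a d * ((iota a (qf x))⁻¹ * iota a p * ((proj a d)⁻¹ * r * proj a d)) * (proj a d)⁻¹ := hc''
      _ = _ := by group

include hw hψ ha2 ha hv in
/-- An unfused involution lies in the conjugate of `Q` at some other fused involution; so `z̄` is fused. -/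
theorem exists_fused (hconj : ∀ s t : G,
      (∃ hs : s ∈ Subgroup.centralizer ({z} : Set G), (⟨s, hs⟩ : Subgroup.centralizer ({z} : Set G)) ∈ Q) →
      (∃ ht : t ∈ Subgroup.centralizer ({z} : Set G), (⟨t, ht⟩ : Subgroup.centralizer ({z} : Set G)) ∈ Q) →
      orderOf s = 2 → orderOf t = 2 → ¬ IsConj z s → ¬ IsConj z t →
      ∃ h ∈ Subgroup.centralizer ({z} : Set G), h * s * h⁻¹ = t)
    (htn : ¬ IsConj z (tG a)) :
    ∃ y : tCent a, (∃ q : aCent a, tG (q : Q) = (y : G) * z * (y : G)⁻¹) ∧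
      (QuotientGroup.mk (y * zT a * y⁻¹) : tCent a ⧸ tKer a) ≠ zbar a := by
  obtain ⟨g, hgQ, hgz⟩ := hw.2.2.2.2
  obtain ⟨b, k0, hbg, hb, hb8, -⟩ := fused_base hw hψ hgQ hgz rfl
  obtain ⟨hpL, q0, hq0, hq0c⟩ := (mem_classSub hψ).mp ((meet_eq_singular hw hψ hbg hb hb8).ge singular_pair)
  have hq2 := meet_involution hw hψ hbg hb hq0
  have hnorm : Cfsg.sqNorm ((k0 • (⟨pairVec pI pJ 1, hpL⟩ : leechLattice) : leechLattice) : GolayPt → ℤ) = 32 :=
    (k0.2.2 _).trans (pairVec_norm (by decide) (Or.inl rfl))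
  have hq1 : q0 ∉ Subgroup.center Q := by
    intro hc
    rw [(QuotientGroup.eq_one_iff _).mpr hc] at hq0c
    obtain ⟨w, hw'⟩ := (hψ.2.2.1 _).mp hq0c
    have h2 : Cfsg.sqNorm ((w + w : leechLattice) : GolayPt → ℤ) = 4 * Cfsg.sqNorm (w : GolayPt → ℤ) := by
      simp only [Cfsg.sqNorm, AddSubgroup.coe_add, Pi.add_apply, Finset.mul_sum]
      exact Finset.sum_congr rfl fun i _ => by ring
    rw [← hw', hnorm] at h2
    obtain ⟨j, hj⟩ := sixteen_dvd_sqNorm w.2
    omega
  have hord : ∀ p : Q, p * p = 1 → p ∉ Subgroup.center Q → orderOf (tG p) = 2 := fun p hp hp' =>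
    orderOf_eq_prime (by rw [pow_two]; exact congrArg tG hp)
      fun h => hp' (show p ∈ _ from (Subtype.ext (Subtype.ext h) : p = 1) ▸ one_mem _)
  have hqn : ¬ IsConj z (tG q0) := by
    intro h
    obtain ⟨l, hl⟩ := isConj_iff.mp h
    exact fused_norm hw hψ hl.symm hq1 hq0c hnorm
  obtain ⟨h, hh, hhq⟩ := hconj (tG q0) (tG a) ⟨_, q0.2⟩ ⟨_, a.2⟩ (hord _ hq2 hq1) (hord _ ha2 ha) hqn htn
  have hzh : h * z = z * h := Subgroup.mem_centralizer_singleton_iff.mp hh
  -- `a` lies in the conjugate at the new fused involution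
  obtain ⟨c0, hc0, hc0'⟩ := QC_mem.mp (show tG q0 ∈ QC Q g from hq0)
  have hc0G : (c0 : G) = g⁻¹ * tG q0 * g := hc0'
  have hs2 : orderOf (c0 : G) = 2 := by
    rw [hc0G, show g⁻¹ * tG q0 * g = MulAut.conj g⁻¹ (tG q0) by simp, MulEquiv.orderOf_eq]
    exact hord _ hq2 hq1
  have hsn : ¬ IsConj z (c0 : G) := fun hh' => by
    obtain ⟨l, hl⟩ := isConj_iff.mp hh'
    refine hqn (isConj_iff.mpr ⟨g * l, ?_⟩)
    rw [show g * l * z * (g * l)⁻¹ = g * (l * z * l⁻¹) * g⁻¹ by group, hl, hc0G]; group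
  obtain ⟨c, hc, hct⟩ := hconj (tG a) (c0 : G) ⟨_, a.2⟩ ⟨c0.2, hc0⟩ (hord _ ha2 ha) hs2 htn hsn
  have hzc : c * z = z * c := Subgroup.mem_centralizer_singleton_iff.mp hc
  have hy : h * g * c * tG a = tG a * (h * g * c) := by
    refine mul_inv_eq_iff_eq_mul.mp ?_
    calc h * g * c * tG a * (h * g * c)⁻¹ = h * g * (c * tG a * c⁻¹) * g⁻¹ * h⁻¹ := by group
      _ = h * tG q0 * h⁻¹ := by rw [hct, hc0G]; group
      _ = tG a := hhq
  have hyz : h * g * c * z * (h * g * c)⁻¹ = h * tG b * h⁻¹ := by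
    rw [show tG b = g * z * g⁻¹ from hbg]
    calc h * g * c * z * (h * g * c)⁻¹ = h * g * (c * z * c⁻¹) * g⁻¹ * h⁻¹ := by group
      _ = h * g * z * g⁻¹ * h⁻¹ := by rw [mul_inv_eq_iff_eq_mul.mpr hzc]
      _ = _ := by group
  let y : tCent a := ⟨h * g * c, Subgroup.mem_centralizer_singleton_iff.mpr hy⟩
  let w : Q := ⟨⟨h, hh⟩ * b * (⟨h, hh⟩ : Subgroup.centralizer ({z} : Set G))⁻¹,
    (inferInstance : Q.Normal).conj_mem _ b.2 _⟩
  have hwy : tG w = (y : G) * z * (y : G)⁻¹ := hyz.symm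
  have hwA : w ∈ aCent a := Subgroup.mem_centralizer_singleton_iff.mpr (Subtype.ext (Subtype.ext (by
    show tG w * tG a = tG a * tG w
    rw [hwy]
    exact Subgroup.mem_centralizer_singleton_iff.mp (y * zT a * y⁻¹).2)))
  refine ⟨y, ⟨⟨w, hwA⟩, hwy⟩, fun hN => ?_⟩
  have hN' : (y * zT a * y⁻¹)⁻¹ * zT a ∈ tKer a := QuotientGroup.eq.mp hN
  rcases (Cfsg.Lib.LargeExtra.mem_zpowers_two (congrArg tG ha2)).mp hN' with h1 | h1
  · have h2 : (y : G) * z * (y : G)⁻¹ = z := inv_mul_eq_one.mp h1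
    rw [← hwy] at h2
    have h3 : tG b = z := by
      have h2' : h * tG b * h⁻¹ = z := h2
      calc tG b = h⁻¹ * (h * tG b * h⁻¹) * h := by group
        _ = z := by rw [h2', mul_assoc, ← hzh]; group
    exact a_ne_z hw hb h3
  · -- the other coset mate would make `z` fused to `a z`
    have h2 : z = (y : G) * z * (y : G)⁻¹ * tG a := inv_mul_eq_iff_eq_mul.mp h1
    have hag : tG (a * ⟨zC z, zC_mem hw⟩) = (y : G) * z * (y : G)⁻¹ := by
      show tG a * z = _
      calc tG a * z = tG a * ((y : G) * z * (y : G)⁻¹ * tG a) := congrArg (tG a * ·) h2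
        _ = (y : G) * z * (y : G)⁻¹ := ?_
      rw [← hwy, ← mul_assoc]
      calc tG a * tG w * tG a = tG w * (tG a * tG a) := by
            rw [show tG a * tG w = tG w * tG a from (congrArg tG (aCent_comm ⟨w, hwA⟩)).symm, mul_assoc]
        _ = tG w := by rw [show tG a * tG a = 1 from congrArg tG ha2, mul_one]
    have hza : (QuotientGroup.mk (a * ⟨zC z, zC_mem hw⟩) : Q ⧸ Subgroup.center Q) = QuotientGroup.mk a := by
      rw [QuotientGroup.mk_mul, (QuotientGroup.eq_one_iff _).mpr (zQ_center hw), mul_one]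
    refine not_short hw hψ hag (fun hc => ha ?_) (hv.trans hza.symm)
    rw [← QuotientGroup.eq_one_iff, ← hza]
    exact (QuotientGroup.eq_one_iff _).mpr hc

include hw hψ ha2 ha hv in
theorem baby_type (hconj : ∀ s t : G,
      (∃ hs : s ∈ Subgroup.centralizer ({z} : Set G), (⟨s, hs⟩ : Subgroup.centralizer ({z} : Set G)) ∈ Q) →
      (∃ ht : t ∈ Subgroup.centralizer ({z} : Set G), (⟨t, ht⟩ : Subgroup.centralizer ({z} : Set G)) ∈ Q) →
      orderOf s = 2 → orderOf t = 2 → ¬ IsConj z s → ¬ IsConj z t →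
      ∃ h ∈ Subgroup.centralizer ({z} : Set G), h * s * h⁻¹ = t)
    (htn : ¬ IsConj z (tG a)) : IsOfBabyMonsterType (tCent a ⧸ tKer a) := by
  obtain ⟨f, hf, hs, hker⟩ := exists_hom hw hψ ha2 ha hv
  haveI : (iota a).range.Normal := hker ▸ inferInstance
  obtain ⟨e', ψ', hψ'⟩ := exists_perp_iso hw hψ ha2 ha hv hf hs hker
  refine ⟨zbar a, (iota a).range, inferInstance, ⟨?_, genFitting_eq hw hψ ha2 ha hv hf hs hker,
    isExtraspecial_range hw hψ ha ha2 hv, card_range hw hψ ha2 ha, ?_⟩, e', ψ', hψ'⟩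
  · refine orderOf_eq_prime ?_ (zbar_ne_one hw ha2 ha)
    rw [← QuotientGroup.mk_pow]
    refine (QuotientGroup.eq_one_iff _).mpr ?_
    rw [show zT a ^ 2 = 1 from Subtype.ext (show z ^ 2 = 1 from hw.1 ▸ pow_orderOf_eq_one z)]
    exact one_mem _
  · obtain ⟨y, ⟨q, hq⟩, hne⟩ := exists_fused hw hψ ha2 ha hv hconj htn
    have he : ((iota a q : hGroup a) : tCent a ⧸ tKer a) = QuotientGroup.mk y * zbar a * (QuotientGroup.mk y)⁻¹ :=
      congrArg QuotientGroup.mk (Subtype.ext hq : ((toD a q : dGroup a) : tCent a) = y * zT a * y⁻¹)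
    refine ⟨QuotientGroup.mk y, ⟨he ▸ (iota a q).2, ?_⟩, hne⟩
    rw [show (⟨_, he ▸ (iota a q).2⟩ : hGroup a) = iota a q from Subtype.ext he.symm]
    exact ⟨q, rfl⟩

end quotient

end Cfsg.Lib.Leech.Baby
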