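import Cfsg.Agent.Golay.Weights
import Cfsg.Prelude.Def_SporadicCombinatorics

/-!
The lattice of rank 24: coordinates, symmetries, norms.
-/

namespace Cfsg.Lib.Leech

open Cfsg Cfsg.Lib.Golay Finset

/-- The supports of the code. -/
abbrev code : Set (Finset GolayPt) := supports (golayCode : Set (GolayPt → ZMod 2))

/-- The indicator of a set of points, with integer values. -/
def indZ (c : Finset GolayPt) (i : GolayPt) : ℤ := if i ∈ c then 1 else 0

theorem empty_mem_code : (∅ : Finset GolayPt) ∈ code := ⟨0, Submodule.zero_mem _, by ext; simp [support₂]⟩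

theorem univ_mem_code : (Finset.univ : Finset GolayPt) ∈ code := by
  rw [show (Finset.univ : Finset GolayPt) = (∅ : Finset GolayPt)ᶜ by simp]
  exact compl_mem_supports empty_mem_code

theorem four_dvd_card {c : Finset GolayPt} (hc : c ∈ code) : 4 ∣ c.card := by
  rcases card_support_mem hc with h | h | h | h | h <;> rw [h] <;> norm_num

theorem card_symmDiff_add {c d : Finset GolayPt} : (symmDiff c d).card + 2 * (c ∩ d).card = c.card + d.card := by
  rw [symmDiff_def, Finset.sup_eq_union, card_union_of_disjoint disjoint_sdiff_sdiff]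
  have h1 := card_sdiff_add_card_inter c d
  have h2 := card_sdiff_add_card_inter d c
  rw [inter_comm d c] at h2
  omega

theorem even_card_inter {c d : Finset GolayPt} (hc : c ∈ code) (hd : d ∈ code) : Even (c ∩ d).card := by
  have h := card_symmDiff_add (c := c) (d := d)
  obtain ⟨a, ha⟩ := four_dvd_card hc
  obtain ⟨b, hb⟩ := four_dvd_card hd
  obtain ⟨e, he⟩ := four_dvd_card (symmDiff_mem_supports hc hd)
  rw [Nat.even_iff]
  omega

/-- The coordinates of a vector: a parity, a word and a multiple of four. -/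
structure IsDecomp (x : GolayPt → ℤ) (m : ℤ) (c : Finset GolayPt) (z : GolayPt → ℤ) : Prop where
  hc : c ∈ code
  hx : ∀ i, x i = m + 2 * indZ c i + 4 * z i
  hz : (∑ i, z i) % 2 = m % 2

theorem card_filter_indZ (c : Finset GolayPt) : ∑ i, indZ c i = c.card := by
  simp [indZ, Finset.sum_boole]

theorem IsDecomp.sum {x : GolayPt → ℤ} {m : ℤ} {c : Finset GolayPt} {z : GolayPt → ℤ} (h : IsDecomp x m c z) :
    ∑ i, x i = 24 * m + 2 * c.card + 4 * ∑ i, z i := by
  simp only [h.hx, sum_add_distrib, ← mul_sum, card_filter_indZ, sum_const, card_univ, Fintype.card_option,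
    ZMod.card, nsmul_eq_mul]
  norm_num

theorem leechSet_iff {x : GolayPt → ℤ} : x ∈ leechSet ↔ ∃ m c z, IsDecomp x m c z := by
  constructor
  · rintro ⟨m, hm, hsum, hk⟩
    set c := Finset.univ.filter fun i => x i ≡ m + 2 [ZMOD 4] with hc
    let z : GolayPt → ℤ := fun i => (x i - m - 2 * indZ c i) / 4
    have hx : ∀ i, x i = m + 2 * indZ c i + 4 * z i := by
      intro i
      have h2 : x i % 2 = m % 2 := hm i
      have hd : (4 : ℤ) ∣ x i - m - 2 * indZ c i := by
        by_cases hi : i ∈ c
        · have h4 : x i % 4 = (m + 2) % 4 := (mem_filter.mp hi).2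
          simp only [indZ, hi, if_true]
          omega
        · have h4 : ¬ x i % 4 = (m + 2) % 4 := fun h => hi (mem_filter.mpr ⟨mem_univ _, h⟩)
          simp only [indZ, hi, if_false]
          omega
      have := Int.ediv_mul_cancel hd
      show x i = m + 2 * indZ c i + 4 * ((x i - m - 2 * indZ c i) / 4)
      omega
    have hcc : c ∈ code := hk _
    have hsum' : ∑ i, x i = 24 * m + 2 * c.card + 4 * ∑ i, z i := by
      simp only [hx, sum_add_distrib, ← mul_sum, card_filter_indZ, sum_const, card_univ, Fintype.card_option,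
        ZMod.card, nsmul_eq_mul]
      norm_num
    refine ⟨m, c, z, hcc, hx, ?_⟩
    have h8 : (∑ i, x i) % 8 = (4 * m) % 8 := hsum
    obtain ⟨a, ha⟩ := four_dvd_card hcc
    rw [hsum', ha] at h8
    push_cast at h8
    omega
  · rintro ⟨m, c, z, h⟩
    refine ⟨m, fun i => ?_, ?_, fun k => ?_⟩
    · show x i % 2 = m % 2
      rw [h.hx i]; omega
    · show (∑ i, x i) % 8 = (4 * m) % 8
      obtain ⟨a, ha⟩ := four_dvd_card h.hc
      have := h.hz
      rw [h.sum, ha]
      push_cast
      omega
    · have key : ∀ i, x i ≡ k [ZMOD 4] ↔ (m + 2 * indZ c i) % 4 = k % 4 := by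
        intro i
        show x i % 4 = k % 4 ↔ _
        rw [h.hx i]; omega
      by_cases h0 : m % 4 = k % 4
      · rw [show (univ.filter fun i => x i ≡ k [ZMOD 4]) = cᶜ by
          ext i; simp only [mem_filter, mem_univ, true_and, key, mem_compl, indZ]
          split <;> simp_all <;> omega]
        exact compl_mem_supports h.hc
      by_cases h2 : (m + 2) % 4 = k % 4
      · rw [show (univ.filter fun i => x i ≡ k [ZMOD 4]) = c by
          ext i; simp only [mem_filter, mem_univ, true_and, key, indZ]
          split <;> simp_all <;> omega]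
        exact h.hc
      · rw [show (univ.filter fun i => x i ≡ k [ZMOD 4]) = ∅ by
          ext i; simp only [mem_filter, mem_univ, true_and, key, indZ, notMem_empty, iff_false]
          split <;> omega]
        exact empty_mem_code

theorem IsDecomp.add {x y : GolayPt → ℤ} {m n : ℤ} {c d : Finset GolayPt} {z w : GolayPt → ℤ}
    (h : IsDecomp x m c z) (h' : IsDecomp y n d w) :
    IsDecomp (x + y) (m + n) (symmDiff c d) (fun i => z i + w i + indZ (c ∩ d) i) := by
  refine ⟨symmDiff_mem_supports h.hc h'.hc, fun i => ?_, ?_⟩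
  · rw [Pi.add_apply, h.hx i, h'.hx i]
    simp only [indZ, mem_symmDiff, mem_inter]
    by_cases hc : i ∈ c <;> by_cases hd : i ∈ d <;> simp [hc, hd] <;> ring
  · obtain ⟨a, ha⟩ := even_card_inter h.hc h'.hc
    rw [sum_add_distrib, sum_add_distrib, card_filter_indZ, ha]
    have := h.hz
    have := h'.hz
    push_cast
    omega

theorem IsDecomp.neg {x : GolayPt → ℤ} {m : ℤ} {c : Finset GolayPt} {z : GolayPt → ℤ} (h : IsDecomp x m c z) :
    IsDecomp (-x) (-m) c (fun i => -z i - indZ c i) := by
  refine ⟨h.hc, fun i => ?_, ?_⟩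
  · rw [Pi.neg_apply, h.hx i]; ring
  · obtain ⟨a, ha⟩ := four_dvd_card h.hc
    have e : ∑ i, (-z i - indZ c i) = -(∑ i, z i) - c.card := by
      rw [sum_sub_distrib, sum_neg_distrib, card_filter_indZ]
    have := h.hz
    rw [e, ha]
    push_cast
    omega

theorem zero_mem_leechSet : (0 : GolayPt → ℤ) ∈ leechSet :=
  leechSet_iff.mpr ⟨0, ∅, 0, empty_mem_code, fun i => by simp [indZ], by simp⟩

/-- The defining set is a subgroup. -/
def leechSubgroup : AddSubgroup (GolayPt → ℤ) where
  carrier := leechSet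
  zero_mem' := zero_mem_leechSet
  add_mem' := fun {x y} hx hy => by
    obtain ⟨m, c, z, h⟩ := leechSet_iff.mp hx
    obtain ⟨n, d, w, h'⟩ := leechSet_iff.mp hy
    exact leechSet_iff.mpr ⟨_, _, _, h.add h'⟩
  neg_mem' := fun {x} hx => by
    obtain ⟨m, c, z, h⟩ := leechSet_iff.mp hx
    exact leechSet_iff.mpr ⟨_, _, _, h.neg⟩

theorem leechLattice_eq : leechLattice = leechSubgroup := AddSubgroup.closure_eq leechSubgroup

theorem mem_lattice {x : GolayPt → ℤ} : x ∈ leechLattice ↔ ∃ m c z, IsDecomp x m c z := by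
  rw [leechLattice_eq]
  exact leechSet_iff

/-- The parity can be taken to be zero or one. -/
theorem mem_lattice_normal {x : GolayPt → ℤ} :
    x ∈ leechLattice ↔ ∃ c z, IsDecomp x 0 c z ∨ IsDecomp x 1 c z := by
  refine ⟨fun h => ?_, fun ⟨c, z, h⟩ => mem_lattice.mpr (h.elim (fun h => ⟨_, _, _, h⟩) fun h => ⟨_, _, _, h⟩)⟩
  obtain ⟨m, c, z, h⟩ := mem_lattice.mp h
  have hu : ∀ i : GolayPt, indZ (univ : Finset GolayPt) i = 1 := fun i => by simp [indZ]
  -- shift the parity by twice a multiple of the all-one vector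
  have shift : ∀ m' : ℤ, (m - m') % 2 = 0 → ∃ c' z', IsDecomp x m' c' z' := by
    intro m' hm'
    obtain ⟨t, ht⟩ : ∃ t, m - m' = 2 * t := ⟨(m - m') / 2, by omega⟩
    rcases Int.emod_two_eq t with h0 | h0
    · refine ⟨c, fun i => z i + t / 2, h.hc, fun i => ?_, ?_⟩
      · rw [h.hx i]; omega
      · have := h.hz
        rw [sum_add_distrib, sum_const, card_univ, Fintype.card_option, ZMod.card, nsmul_eq_mul]
        push_cast
        omega
    · refine ⟨cᶜ, fun i => z i + t / 2 + indZ c i, compl_mem_supports h.hc, fun i => ?_, ?_⟩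
      · rw [h.hx i]
        simp only [indZ, mem_compl]
        split <;> omega
      · obtain ⟨a, ha⟩ := four_dvd_card h.hc
        have := h.hz
        rw [sum_add_distrib, sum_add_distrib, sum_const, card_univ, Fintype.card_option, ZMod.card, nsmul_eq_mul,
          card_filter_indZ, ha]
        push_cast
        omega
  rcases Int.emod_two_eq m with h0 | h0
  · obtain ⟨c', z', h'⟩ := shift 0 (by omega)
    exact ⟨c', z', Or.inl h'⟩
  · obtain ⟨c', z', h'⟩ := shift 1 (by omega)
    exact ⟨c', z', Or.inr h'⟩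

theorem s0390 : ∃ L : AddSubgroup (GolayPt → ℤ), (L : Set (GolayPt → ℤ)) = leechSet := ⟨leechSubgroup, rfl⟩

/-- Permuting coordinates by the group of the code. -/
theorem perm_mem {σ : Equiv.Perm GolayPt} (hσ : σ ∈ M24) {x : GolayPt → ℤ} (hx : x ∈ leechLattice) :
    (fun i => x (σ i)) ∈ leechLattice := by
  open scoped Pointwise in
  obtain ⟨m, c, z, h⟩ := mem_lattice.mp hx
  open scoped Pointwise in
  refine mem_lattice.mpr ⟨m, σ⁻¹ • c, fun i => z (σ i), ?_, fun i => ?_, ?_⟩
  · have hs : σ⁻¹ • code = code := by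
      have h1 : σ • code = code := hσ
      exact inv_smul_eq_iff.mpr h1.symm
    rw [← hs]
    exact Set.smul_mem_smul_set h.hc
  · show x (σ i) = _
    rw [h.hx (σ i)]
    simp only [indZ, Finset.mem_inv_smul_finset_iff, Equiv.Perm.smul_def]
  · rw [Equiv.sum_comp σ z]; exact h.hz

/-- Changing signs on a word of the code. -/
theorem sign_mem {d : Finset GolayPt} (hd : d ∈ code) {x : GolayPt → ℤ} (hx : x ∈ leechLattice) :
    (fun i => if i ∈ d then -x i else x i) ∈ leechLattice := by
  -- negation on the word adds a lattice vector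
  obtain ⟨m, c, z, h⟩ := mem_lattice.mp hx
  have key : ∀ i, (if i ∈ d then -x i else x i) = x i + (-2) * (indZ d i * x i) := fun i => by
    simp only [indZ]; split <;> ring
  obtain ⟨a, ha⟩ := four_dvd_card hd
  obtain ⟨b, hb⟩ := even_card_inter hd h.hc
  rcases Int.emod_two_eq m with h0 | h0
  · -- even parity: twice the restricted vector is a multiple of four
    refine mem_lattice.mpr ⟨m, c, fun i => z i - indZ d i * (m / 2) - indZ (d ∩ c) i - 2 * (indZ d i * z i), h.hc,
      fun i => ?_, ?_⟩
    · rw [key i, h.hx i]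
      simp only [indZ, mem_inter]
      by_cases h1 : i ∈ d <;> by_cases h2 : i ∈ c <;> simp [h1, h2] <;> omega
    · have := h.hz
      rw [sum_sub_distrib, sum_sub_distrib, sum_sub_distrib, ← sum_mul, ← mul_sum, card_filter_indZ,
        card_filter_indZ, ha, hb]
      push_cast
      rw [show (4 : ℤ) * a * (m / 2) = 2 * (2 * a * (m / 2)) by ring]
      omega
  · refine mem_lattice.mpr ⟨m, symmDiff c d,
      fun i => z i - indZ d i * ((m + 1) / 2) - 2 * (indZ d i * z i), symmDiff_mem_supports h.hc hd, fun i => ?_, ?_⟩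
    · rw [key i, h.hx i]
      simp only [indZ, mem_symmDiff]
      by_cases h1 : i ∈ d <;> by_cases h2 : i ∈ c <;> simp [h1, h2] <;> omega
    · have := h.hz
      rw [sum_sub_distrib, sum_sub_distrib, ← sum_mul, ← mul_sum, card_filter_indZ, ha]
      push_cast
      rw [show (4 : ℤ) * a * ((m + 1) / 2) = 2 * (2 * a * ((m + 1) / 2)) by ring]
      omega

/-- Sums of squares in the coordinates. -/
theorem IsDecomp.sqNorm {x : GolayPt → ℤ} {m : ℤ} {c : Finset GolayPt} {z : GolayPt → ℤ} (h : IsDecomp x m c z) :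
    Cfsg.sqNorm x = 24 * m * m + 4 * (m + 1) * c.card + 8 * m * (∑ i, z i) + 16 * (∑ i, (z i * z i + indZ c i * z i)) := by
  unfold Cfsg.sqNorm
  have e : ∀ i, x i ^ 2 = m * m + 4 * (m + 1) * indZ c i + 8 * m * z i + 16 * (z i * z i + indZ c i * z i) := by
    intro i
    rw [h.hx i]
    simp only [indZ]
    split <;> ring
  rw [sum_congr rfl fun i _ => e i]
  simp only [sum_add_distrib, ← mul_sum, card_filter_indZ, sum_const, card_univ, Fintype.card_option, ZMod.card,
    nsmul_eq_mul]
  ring

theorem sixteen_dvd_sqNorm {x : GolayPt → ℤ} (hx : x ∈ leechLattice) : (16 : ℤ) ∣ Cfsg.sqNorm x := by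
  obtain ⟨c, z, h⟩ := mem_lattice_normal.mp hx
  rcases h with h | h
  · obtain ⟨a, ha⟩ := four_dvd_card h.hc
    rw [h.sqNorm, ha]
    push_cast
    omega
  · obtain ⟨a, ha⟩ := four_dvd_card h.hc
    have := h.hz
    rw [h.sqNorm, ha]
    push_cast
    omega

theorem card_pts : (univ : Finset GolayPt).card = 24 := by rw [card_univ, Fintype.card_option, ZMod.card]

theorem thirtytwo_le_sqNorm {x : GolayPt → ℤ} (hx : x ∈ leechLattice) (h0 : x ≠ 0) : 32 ≤ Cfsg.sqNorm x := by
  have h16 := sixteen_dvd_sqNorm hx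
  obtain ⟨c, z, h⟩ := mem_lattice_normal.mp hx
  rcases h with h | h
  · by_cases hc : c = ∅
    · subst hc
      have hz4 : Cfsg.sqNorm x = 16 * ∑ i, z i * z i := by
        unfold Cfsg.sqNorm
        rw [mul_sum]
        exact sum_congr rfl fun i _ => by rw [h.hx i]; simp [indZ]; ring
      have hne : ∃ i, z i ≠ 0 := by
        by_contra hcon
        push Not at hcon
        exact h0 (funext fun i => by rw [h.hx i]; simp [indZ, hcon i])
      obtain ⟨i, hi⟩ := hne
      have hsq : ∀ j, 0 ≤ z j * z j := fun j => mul_self_nonneg _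
      have h1 : 1 ≤ z i * z i := by nlinarith [abs_mul_abs_self (z i), Int.one_le_abs hi]
      rw [hz4]
      have hpar : (∑ j, z j * z j) % 2 = 0 := by
        have e : (∑ j, z j * z j) % 2 = (∑ j, z j) % 2 := by
          rw [sum_int_mod, sum_int_mod univ 2 z]
          congr 1
          refine sum_congr rfl fun j _ => ?_
          rcases Int.emod_two_eq (z j) with e | e <;> simp [Int.mul_emod, e]
        rw [e, h.hz]; rfl
      have h2 : z i * z i ≤ ∑ j, z j * z j := single_le_sum (fun j _ => hsq j) (mem_univ i)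
      omega
    · have h8 : 8 ≤ c.card := by
        have : c.card ≠ 0 := fun e => hc (card_eq_zero.mp e)
        rcases card_support_mem h.hc with e | e | e | e | e <;> omega
      have hle : ∑ i, 4 * indZ c i ≤ Cfsg.sqNorm x := by
        unfold Cfsg.sqNorm
        refine sum_le_sum fun i _ => ?_
        rw [h.hx i]
        simp only [indZ]
        split
        · have : 2 * 1 + 4 * z i ≤ -2 ∨ 2 ≤ 2 * 1 + 4 * z i := by omega
          rcases this with e | e <;> nlinarith
        · simp [sq_nonneg]
      rw [← mul_sum, card_filter_indZ] at hle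
      omega
  · have hle : ∑ _i : GolayPt, (1 : ℤ) ≤ Cfsg.sqNorm x := by
      unfold Cfsg.sqNorm
      refine sum_le_sum fun i _ => ?_
      rw [h.hx i]
      have : 1 + 2 * indZ c i + 4 * z i ≤ -1 ∨ 1 ≤ 1 + 2 * indZ c i + 4 * z i := by
        simp only [indZ]; split <;> omega
      rcases this with e | e <;> nlinarith
    rw [sum_const, card_pts, nsmul_eq_mul] at hle
    push_cast at hle
    omega
where
  sum_int_mod (s : Finset GolayPt) (n : ℤ) (f : GolayPt → ℤ) : (∑ i ∈ s, f i) % n = (∑ i ∈ s, f i % n) % n :=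
    Finset.sum_int_mod s n f

end Cfsg.Lib.Leech
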