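import Mathlib

/-!
Congruence classes modulo twice a lattice without short vectors.
-/

namespace Cfsg.Lib.Leech

open Finset

variable {ι : Type*} [Fintype ι]

/-- A symmetric bi-additive form with a positive minimum on a sublattice of a free lattice. -/
structure MinForm (D : (ι → ℤ) → (ι → ℤ) → ℤ) (A : AddSubgroup (ι → ℤ)) (μ : ℤ) : Prop where
  add : ∀ x y z, D (x + y) z = D x z + D y z
  symm : ∀ x y, D x y = D y x
  pos : 0 < μ
  min : ∀ x ∈ A, x ≠ 0 → μ ≤ D x x

/-- Congruence modulo twice the sublattice. -/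
def Cong (A : AddSubgroup (ι → ℤ)) (x y : ι → ℤ) : Prop := ∃ z ∈ A, x - y = 2 • z

variable {D : (ι → ℤ) → (ι → ℤ) → ℤ} {A : AddSubgroup (ι → ℤ)} {μ : ℤ}

theorem MinForm.two_mul_left (h : MinForm D A μ) (x y : ι → ℤ) : D (2 • x) y = 2 * D x y := by
  rw [two_nsmul, h.add]; ring

theorem MinForm.zero_left (h : MinForm D A μ) (y : ι → ℤ) : D 0 y = 0 := by
  have := h.add 0 0 y
  rw [add_zero] at this
  omega

theorem MinForm.neg_left (h : MinForm D A μ) (x y : ι → ℤ) : D (-x) y = -D x y := by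
  have := h.add x (-x) y
  rw [add_neg_cancel, h.zero_left] at this
  omega

theorem MinForm.add_self (h : MinForm D A μ) (x y : ι → ℤ) : D (x + y) (x + y) = D x x + 2 * D x y + D y y := by
  rw [h.add, h.symm x (x + y), h.symm y (x + y), h.add, h.add, h.symm y x]; ring

/-- Two congruent vectors of small norm are opposite or orthogonal of the largest norm. -/
theorem MinForm.cong_dichotomy (h : MinForm D A μ) {x y : ι → ℤ} (hy : y ∈ A) (hxy : x ≠ y)
    (hxn : D x x ≤ 2 * μ) (hyn : D y y ≤ 2 * μ) (hc : Cong A x y) :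
    x = -y ∨ (D x x = 2 * μ ∧ D y y = 2 * μ ∧ D x y = 0) := by
  obtain ⟨z, hz, hxz⟩ := hc
  by_cases hopp : x = -y
  · exact Or.inl hopp
  have hz0 : z ≠ 0 := fun e => hxy (sub_eq_zero.mp (by rw [hxz, e, smul_zero]))
  have hw : x + y = 2 • (z + y) := by rw [smul_add, ← hxz, two_nsmul]; abel
  have hw0 : z + y ≠ 0 := fun e => hopp (add_eq_zero_iff_eq_neg.mp (by rw [hw, e, smul_zero]))
  have h1 : D (x - y) (x - y) = 4 * D z z := by
    rw [hxz, h.two_mul_left, h.symm z (2 • z), h.two_mul_left]; ring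
  have h2 : D (x + y) (x + y) = 4 * D (z + y) (z + y) := by
    rw [hw, h.two_mul_left, h.symm (z + y) (2 • (z + y)), h.two_mul_left]; ring
  rw [sub_eq_add_neg, h.add_self, h.symm x (-y), h.neg_left, h.neg_left, h.symm y (-y), h.neg_left,
    h.symm y x] at h1
  rw [h.add_self] at h2
  have hm1 := h.min z hz hz0
  have hm2 := h.min _ (A.add_mem hz hy) hw0
  exact Or.inr ⟨by omega, by omega, by omega⟩

/-- An orthogonal family of pairs has at most as many pairs as the rank. -/
theorem MinForm.card_le_frame [DecidableEq ι] (h : MinForm D A μ) {F : Finset (ι → ℤ)} (hA : ∀ x ∈ F, x ∈ A)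
    (h0 : ∀ x ∈ F, x ≠ 0) (horth : ∀ x ∈ F, ∀ y ∈ F, x ≠ y → x = -y ∨ D x y = 0) :
    F.card ≤ 2 * Fintype.card ι := by
  classical
  let P : (ι → ℤ) → Finset (ι → ℤ) := fun x => {x, -x}
  have hrep : ∀ p ∈ F.image P, ∃ x ∈ F, P x = p := fun p hp => mem_image.mp hp
  choose r hrF hrP using hrep
  have hne : ∀ p (hp : p ∈ F.image P), D (r p hp) (r p hp) ≠ 0 := fun p hp e => by
    have := h.min _ (hA _ (hrF p hp)) (h0 _ (hrF p hp))
    have := h.pos
    omega
  let v : ↥(F.image P) → ι → ℤ := fun p => r p.1 p.2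
  have horthv : ∀ p q, p ≠ q → D (v p) (v q) = 0 := by
    intro p q hpq
    by_cases he : v p = v q
    · exact absurd (Subtype.ext (by rw [← hrP p.1 p.2, ← hrP q.1 q.2]; exact congrArg P he)) hpq
    refine (horth _ (hrF p.1 p.2) _ (hrF q.1 q.2) he).resolve_left fun e => hpq (Subtype.ext ?_)
    rw [← hrP p.1 p.2, ← hrP q.1 q.2]
    show ({r p.1 p.2, -r p.1 p.2} : Finset (ι → ℤ)) = {r q.1 q.2, -r q.1 q.2}
    rw [show r p.1 p.2 = -r q.1 q.2 from e, neg_neg, pair_comm]
  have hli : LinearIndependent ℤ v := by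
    rw [linearIndependent_iff']
    intro s g hg p hp
    let L : (ι → ℤ) →ₗ[ℤ] ℤ := (AddMonoidHom.mk' (fun x => D x (v p)) fun x y => h.add x y _).toIntLinearMap
    have hL := congrArg L hg
    rw [map_sum, map_zero, sum_eq_single p] at hL
    · rw [map_smul, smul_eq_mul] at hL
      exact (mul_eq_zero.mp hL).resolve_right (hne p.1 p.2)
    · intro q _ hqp
      rw [map_smul]
      show g q • D (v q) (v p) = 0
      rw [horthv q p hqp, smul_zero]
    · exact fun hn => absurd hp hn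
  have hle : Fintype.card ↥(F.image P) ≤ Fintype.card ι := by
    have := hli.fintype_card_le_finrank
    rwa [Module.finrank_pi] at this
  rw [Fintype.card_coe] at hle
  refine le_trans (card_le_mul_card_image F 2 fun p hp => ?_) (Nat.mul_le_mul_left 2 hle)
  obtain ⟨x, hx, rfl⟩ := mem_image.mp hp
  refine le_trans (card_le_card (t := P x) fun y hy => ?_) card_le_two
  rw [← (mem_filter.mp hy).2]
  exact mem_insert_self _ _

/-- The classes of the short vectors fill the quotient when the counts add up. -/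
theorem MinForm.classes [DecidableEq ι] (h : MinForm D A μ) {R : Type*} [Fintype R] (r : (ι → ℤ) → R)
    (hr : ∀ x ∈ A, ∀ y ∈ A, r x = r y ↔ Cong A x y) {n₁ n₂ n₃ : ℤ} (hn12 : n₁ < n₂) (hn23 : n₂ < n₃)
    (hn3 : n₃ = 2 * μ) (hn1 : 0 < n₁)
    (hfin : ∀ n : ℤ, {x | x ∈ A ∧ D x x = n}.Finite)
    (hcount : 24 * (2 + {x | x ∈ A ∧ D x x = n₁}.ncard + {x | x ∈ A ∧ D x x = n₂}.ncard)
      + {x | x ∈ A ∧ D x x = n₃}.ncard = 48 * Fintype.card R)
    (hι : Fintype.card ι = 24) :
    (∀ x ∈ A, ∃ y ∈ A, D y y ≤ n₃ ∧ Cong A x y) ∧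
      ∀ x ∈ A, D x x = n₃ → {y | (y ∈ A ∧ D y y = n₃) ∧ Cong A x y}.ncard = 48 := by
  classical
  have hμ := h.pos
  set S : ℤ → Finset (ι → ℤ) := fun n => (hfin n).toFinset with hSdef
  have hS : ∀ n x, x ∈ S n ↔ x ∈ A ∧ D x x = n := fun n x => Set.Finite.mem_toFinset _
  have hncard : ∀ n, {x | x ∈ A ∧ D x x = n}.ncard = (S n).card := fun n => Set.ncard_eq_toFinset_card _ _
  have hne : ∀ n, 0 < n → ∀ x ∈ S n, x ≠ 0 := fun n hn x hx e => by
    have := ((hS n x).mp hx).2
    rw [e, h.zero_left] at this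
    omega
  -- fibres
  have hsmall : ∀ n, 0 < n → n < n₃ → ∀ a ∈ (S n).image r, ((S n).filter fun x => r x = a).card = 2 := by
    intro n hn hlt a ha
    obtain ⟨x, hx, rfl⟩ := mem_image.mp ha
    obtain ⟨hxA, hxn⟩ := (hS n x).mp hx
    have hnx : x ≠ -x := fun e => hne n hn x hx (funext fun i => by
      have := congrFun e i; simp only [Pi.neg_apply] at this; simp only [Pi.zero_apply]; omega)
    rw [show ((S n).filter fun y => r y = r x) = {x, -x} by
      ext y
      simp only [mem_filter, mem_insert, mem_singleton]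
      constructor
      · rintro ⟨hy, hyx⟩
        obtain ⟨hyA, hyn⟩ := (hS n y).mp hy
        by_cases he : y = x
        · exact Or.inl he
        rcases h.cong_dichotomy hxA he (by omega) (by omega) ((hr y hyA x hxA).mp hyx) with e | ⟨e, -⟩
        · exact Or.inr e
        · omega
      · rintro (rfl | rfl)
        · exact ⟨hx, rfl⟩
        · refine ⟨(hS n _).mpr ⟨A.neg_mem hxA, by rw [h.neg_left, h.symm x (-x), h.neg_left]; omega⟩, ?_⟩
          exact (hr _ (A.neg_mem hxA) x hxA).mpr ⟨-x, A.neg_mem hxA, by rw [two_nsmul]; abel⟩,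
      card_pair hnx]
  have hbig : ∀ a ∈ (S n₃).image r, ((S n₃).filter fun x => r x = a).card ≤ 48 := by
    intro a _
    have := h.card_le_frame (F := (S n₃).filter fun x => r x = a) (fun x hx => ((hS _ _).mp (mem_filter.mp hx).1).1)
      (fun x hx => hne n₃ (by omega) x (mem_filter.mp hx).1) fun x hx y hy hxy => by
        obtain ⟨hx, hxa⟩ := mem_filter.mp hx
        obtain ⟨hy, hya⟩ := mem_filter.mp hy
        obtain ⟨hxA, hxn⟩ := (hS _ _).mp hx
        obtain ⟨hyA, hyn⟩ := (hS _ _).mp hy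
        exact (h.cong_dichotomy hyA hxy (by omega) (by omega) ((hr x hxA y hyA).mp (hxa.trans hya.symm))).imp id
          fun e => e.2.2
    rwa [hι] at this
  have c1 : (S n₁).card = 2 * ((S n₁).image r).card := by
    rw [card_eq_sum_card_image r (S n₁), sum_congr rfl (hsmall n₁ hn1 (by omega)), sum_const, smul_eq_mul, mul_comm]
  have c2 : (S n₂).card = 2 * ((S n₂).image r).card := by
    rw [card_eq_sum_card_image r (S n₂), sum_congr rfl (hsmall n₂ (by omega) (by omega)), sum_const, smul_eq_mul,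
      mul_comm]
  -- the images are disjoint
  have hdis : ∀ n n', 0 ≤ n → n < n' → n' ≤ n₃ → Disjoint ((S n).image r) ((S n').image r) := by
    intro n n' hn hlt hle
    rw [disjoint_left]
    intro a ha ha'
    obtain ⟨x, hx, rfl⟩ := mem_image.mp ha
    obtain ⟨y, hy, hyx⟩ := mem_image.mp ha'
    obtain ⟨hxA, hxn⟩ := (hS _ _).mp hx
    obtain ⟨hyA, hyn⟩ := (hS _ _).mp hy
    have hxy : x ≠ y := fun e => by rw [e, hyn] at hxn; omega
    rcases h.cong_dichotomy hyA hxy (by omega) (by omega) ((hr x hxA y hyA).mp hyx.symm) with e | ⟨e, -⟩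
    · rw [e, h.neg_left, h.symm y (-y), h.neg_left] at hxn; omega
    · omega
  have hS0 : (S 0).image r = {r 0} := by
    refine eq_singleton_iff_unique_mem.mpr ⟨mem_image_of_mem r ((hS 0 0).mpr ⟨A.zero_mem, h.zero_left 0⟩), ?_⟩
    intro a ha
    obtain ⟨x, hx, rfl⟩ := mem_image.mp ha
    obtain ⟨hxA, hxn⟩ := (hS 0 x).mp hx
    by_cases e : x = 0
    · rw [e]
    · have := h.min x hxA e; omega
  set U := (S 0).image r ∪ (S n₁).image r ∪ (S n₂).image r ∪ (S n₃).image r with hU
  have hUcard : U.card = 1 + ((S n₁).image r).card + ((S n₂).image r).card + ((S n₃).image r).card := by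
    rw [hU, card_union_of_disjoint, card_union_of_disjoint, card_union_of_disjoint (hdis 0 n₁ le_rfl hn1 (by omega)),
      hS0, card_singleton]
    · exact disjoint_union_left.mpr ⟨hdis 0 n₂ le_rfl (by omega) (by omega), hdis n₁ n₂ (by omega) hn12 (by omega)⟩
    · exact disjoint_union_left.mpr ⟨disjoint_union_left.mpr ⟨hdis 0 n₃ le_rfl (by omega) le_rfl,
        hdis n₁ n₃ (by omega) (by omega) le_rfl⟩, hdis n₂ n₃ (by omega) hn23 le_rfl⟩
  have c3 : (S n₃).card ≤ 48 * ((S n₃).image r).card := card_le_mul_card_image _ 48 hbig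
  have hUle : U.card ≤ Fintype.card R := card_le_univ U
  rw [hncard, hncard, hncard] at hcount
  have heq3 : (S n₃).card = 48 * ((S n₃).image r).card := by omega
  have hUall : U = univ := eq_univ_of_card U (by omega)
  refine ⟨fun x hx => ?_, fun x hxA hxn => ?_⟩
  · have hmem : r x ∈ U := hUall ▸ mem_univ _
    simp only [hU, mem_union, mem_image, hS] at hmem
    rcases hmem with ((⟨y, ⟨hy, hyn⟩, e⟩ | ⟨y, ⟨hy, hyn⟩, e⟩) | ⟨y, ⟨hy, hyn⟩, e⟩) | ⟨y, ⟨hy, hyn⟩, e⟩ <;>
      exact ⟨y, hy, by omega, (hr x hx y hy).mp e.symm⟩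
  · have hx : x ∈ S n₃ := (hS _ _).mpr ⟨hxA, hxn⟩
    have hall : ∀ a ∈ (S n₃).image r, ((S n₃).filter fun y => r y = a).card = 48 := by
      have hsum : ∑ a ∈ (S n₃).image r, ((S n₃).filter fun y => r y = a).card = ∑ _a ∈ (S n₃).image r, 48 := by
        rw [← card_eq_sum_card_image r (S n₃), sum_const, smul_eq_mul, mul_comm, heq3]
      exact (sum_eq_sum_iff_of_le hbig).mp hsum
    rw [← hall (r x) (mem_image_of_mem r hx), ← Set.ncard_coe_finset]
    congr 1
    ext y
    simp only [Set.mem_setOf_eq, coe_filter, hS]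
    refine and_congr_right fun hy => ⟨fun hc => ((hr x hxA y hy.1).mpr hc).symm, fun e => (hr x hxA y hy.1).mp e.symm⟩

end Cfsg.Lib.Leech
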