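import Cfsg.Agent.Leech.Monomial

/-!
An automorphism of the lattice outside the monomial group, attached to six tetrads any two of which
form an octad: on each tetrad reflect in the all-ones vector, then negate one tetrad.
-/

namespace Cfsg.Lib.Leech

open Cfsg Cfsg.Lib.Golay Finset

/-- The index of the tetrad of a point, in a fixed sextet. -/
def tetIdx (p : GolayPt) : Fin 6 :=
  if (15 : ℕ).testBit (pidx p) then 0 else if (5264 : ℕ).testBit (pidx p) then 1
  else if (622848 : ℕ).testBit (pidx p) then 2 else if (3416064 : ℕ).testBit (pidx p) then 3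
  else if (4196928 : ℕ).testBit (pidx p) then 4 else 5

/-- The six tetrads. -/
def tetSet (k : Fin 6) : Finset GolayPt := Finset.univ.filter fun p => tetIdx p = k

theorem tetSet_card : ∀ k, (tetSet k).card = 4 := by decide +kernel

theorem tetUnion_code_mask : ∀ J : Finset (Fin 6), J.card % 2 = 0 →
    inCode (mk (Finset.univ.filter fun p => tetIdx p ∈ J)) = true := by decide +kernel

theorem tetUnion_mem {J : Finset (Fin 6)} (hJ : J.card % 2 = 0) :
    (Finset.univ.filter fun p => tetIdx p ∈ J) ∈ code :=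
  (mem_supports_iff _).mpr (tetUnion_code_mask J hJ)

/-- The sum of the coordinates on a tetrad. -/
def tsum6 (x : GolayPt → ℤ) (k : Fin 6) : ℤ := ∑ i ∈ tetSet k, x i

/-- The tetrad map. -/
def tetMap (x : GolayPt → ℤ) (i : GolayPt) : ℤ :=
  if tetIdx i = 0 then -(x i - tsum6 x (tetIdx i) / 2) else x i - tsum6 x (tetIdx i) / 2

theorem mem_tetSet {i : GolayPt} {k : Fin 6} : i ∈ tetSet k ↔ tetIdx i = k := by simp [tetSet]

theorem sum_tetSet (f : GolayPt → ℤ) : ∑ k, ∑ i ∈ tetSet k, f i = ∑ i, f i :=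
  Finset.sum_fiberwise Finset.univ tetIdx f

theorem IsDecomp.tsum {x : GolayPt → ℤ} {m : ℤ} {c : Finset GolayPt} {z : GolayPt → ℤ} (h : IsDecomp x m c z)
    (k : Fin 6) : tsum6 x k = 4 * m + 2 * tsum6 (indZ c) k + 4 * tsum6 z k := by
  simp only [tsum6, h.hx, sum_add_distrib, ← mul_sum, sum_const, tetSet_card, nsmul_eq_mul]
  norm_num

theorem tsum6_even {x : GolayPt → ℤ} (hx : x ∈ leechLattice) (k : Fin 6) : 2 ∣ tsum6 x k := by
  obtain ⟨m, c, z, h⟩ := mem_lattice.mp hx
  exact ⟨2 * m + tsum6 (indZ c) k + 2 * tsum6 z k, by rw [h.tsum k]; ring⟩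

theorem sum_tetMap_tetSet {x : GolayPt → ℤ} (hx : x ∈ leechLattice) (k : Fin 6) :
    tsum6 (tetMap x) k = if k = 0 then tsum6 x k else -tsum6 x k := by
  obtain ⟨a, ha⟩ := tsum6_even hx k
  by_cases hk : k = 0
  · rw [if_pos hk]
    have e : tsum6 (tetMap x) k = ∑ i ∈ tetSet k, (-(x i) + a) := by
      refine sum_congr rfl fun i hi => ?_
      rw [tetMap, mem_tetSet.mp hi, if_pos hk, ha, Int.mul_ediv_cancel_left _ (by norm_num : (2 : ℤ) ≠ 0)]
      ring
    rw [e, sum_add_distrib, sum_neg_distrib, sum_const, tetSet_card, nsmul_eq_mul, ha]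
    have : ∑ i ∈ tetSet k, x i = 2 * a := ha
    push_cast
    linarith
  · rw [if_neg hk]
    have e : tsum6 (tetMap x) k = ∑ i ∈ tetSet k, (x i - a) := by
      refine sum_congr rfl fun i hi => ?_
      rw [tetMap, mem_tetSet.mp hi, if_neg hk, ha, Int.mul_ediv_cancel_left _ (by norm_num : (2 : ℤ) ≠ 0)]
    rw [e, sum_sub_distrib, sum_const, tetSet_card, nsmul_eq_mul, ha]
    have : ∑ i ∈ tetSet k, x i = 2 * a := ha
    push_cast
    linarith

theorem tetMap_tetMap {x : GolayPt → ℤ} (hx : x ∈ leechLattice) : tetMap (tetMap x) = x := by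
  funext i
  obtain ⟨a, ha⟩ := tsum6_even hx (tetIdx i)
  rw [tetMap, sum_tetMap_tetSet hx (tetIdx i)]
  by_cases hk : tetIdx i = 0
  · rw [if_pos hk, if_pos hk, tetMap, if_pos hk]; omega
  · rw [if_neg hk, if_neg hk, tetMap, if_neg hk]; omega

theorem sqNorm_tetMap {x : GolayPt → ℤ} (hx : x ∈ leechLattice) : Cfsg.sqNorm (tetMap x) = Cfsg.sqNorm x := by
  unfold Cfsg.sqNorm
  rw [← sum_tetSet, ← sum_tetSet fun i => x i ^ 2]
  refine sum_congr rfl fun k _ => ?_
  obtain ⟨a, ha⟩ := tsum6_even hx k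
  have e : ∀ i ∈ tetSet k, tetMap x i ^ 2 = x i ^ 2 + (-(2 * a) * x i + a ^ 2) := by
    intro i hi
    rw [tetMap, mem_tetSet.mp hi, ha, Int.mul_ediv_cancel_left _ (by norm_num : (2 : ℤ) ≠ 0)]
    split <;> ring
  rw [sum_congr rfl e, sum_add_distrib, sum_add_distrib, ← mul_sum, sum_const, tetSet_card, nsmul_eq_mul]
  have : ∑ i ∈ tetSet k, x i = 2 * a := ha
  rw [this]
  ring

theorem tetMap_add {x y : GolayPt → ℤ} (hx : x ∈ leechLattice) (hy : y ∈ leechLattice) :
    tetMap (x + y) = tetMap x + tetMap y := by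
  funext i
  obtain ⟨a, ha⟩ := tsum6_even hx (tetIdx i)
  obtain ⟨b, hb⟩ := tsum6_even hy (tetIdx i)
  have e : tsum6 (x + y) (tetIdx i) = tsum6 x (tetIdx i) + tsum6 y (tetIdx i) := by
    simp [tsum6, sum_add_distrib]
  simp only [tetMap, Pi.add_apply, e]
  split <;> omega

theorem tsum6_indZ_parity {c : Finset GolayPt} (hc : c ∈ code) (k : Fin 6) :
    (tsum6 (indZ c) k - tsum6 (indZ c) 0) % 2 = 0 := by
  by_cases hk : k = 0
  · rw [hk]; simp
  have hU : (Finset.univ.filter fun p => tetIdx p ∈ ({0, k} : Finset (Fin 6))) ∈ code :=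
    tetUnion_mem (by rw [card_pair (fun h => hk h.symm)])
  obtain ⟨n, hn⟩ := even_card_inter hc hU
  have e : ∑ i ∈ (Finset.univ.filter fun p => tetIdx p ∈ ({0, k} : Finset (Fin 6))), indZ c i
      = tsum6 (indZ c) 0 + tsum6 (indZ c) k := by
    rw [tsum6, tsum6, ← sum_union (disjoint_left.mpr fun i h1 h2 =>
      hk ((mem_tetSet.mp h2).symm.trans (mem_tetSet.mp h1)))]
    refine sum_congr ?_ fun _ _ => rfl
    ext i; simp [mem_tetSet]
  have e2 : ∀ U : Finset GolayPt, ∑ i ∈ U, indZ c i = ((c ∩ U).card : ℤ) := by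
    intro U
    simp [indZ, sum_boole, filter_mem_eq_inter, inter_comm]
  rw [e2, hn] at e
  push_cast at e
  omega

theorem tetMap_mem {x : GolayPt → ℤ} (hx : x ∈ leechLattice) : tetMap x ∈ leechLattice := by
  obtain ⟨m, c, z, hd⟩ := mem_lattice.mp hx
  set K := tsum6 (indZ c) with hK
  set Z := tsum6 z with hZ
  set e := K 0 % 2 with he
  set h : Fin 6 → ℤ := fun k => (K k - e) / 2 with hh
  have hKk : ∀ k, K k = e + 2 * h k := fun k => by
    have := tsum6_indZ_parity hd.hc k
    simp only [hh, he, hK] at *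
    omega
  set g : Fin 6 → ℤ := fun k => h k + Z k + if k = 0 then 0 else m + e with hg
  set J := Finset.univ.filter fun k => g k % 2 = 1 with hJ
  have hZsum : ∑ k, Z k = ∑ i, z i := sum_tetSet z
  have hKsum : ∑ k, K k = c.card := (sum_tetSet (indZ c)).trans (card_filter_indZ c)
  obtain ⟨a, ha⟩ := four_dvd_card hd.hc
  have hJc : J.card % 2 = 0 := by
    have e1 : (J.card : ℤ) = ∑ k, g k % 2 := by
      rw [hJ, card_filter, Nat.cast_sum]
      refine sum_congr rfl fun k _ => ?_
      split <;> push_cast <;> omega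
    have := hd.hz
    have hk0 := hKk 0; have hk1 := hKk 1; have hk2 := hKk 2
    have hk3 := hKk 3; have hk4 := hKk 4; have hk5 := hKk 5
    rw [Fin.sum_univ_six] at e1 hZsum hKsum
    simp only [hg, show (1 : Fin 6) ≠ 0 by decide, show (2 : Fin 6) ≠ 0 by decide,
      show (3 : Fin 6) ≠ 0 by decide, show (4 : Fin 6) ≠ 0 by decide, show (5 : Fin 6) ≠ 0 by decide,
      if_false, if_true] at e1
    rw [ha] at hKsum
    push_cast at hKsum
    omega
  set c' := symmDiff c (Finset.univ.filter fun p => tetIdx p ∈ J) with hc'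
  have hc'c : c' ∈ code := symmDiff_mem_supports hd.hc (tetUnion_mem hJc)
  have hind : ∀ i, indZ c' i % 2 = (indZ c i + g (tetIdx i)) % 2 := fun i => by
    simp only [hc', indZ, mem_symmDiff, mem_filter, mem_univ, true_and, hJ]
    by_cases h1 : i ∈ c <;> by_cases h2 : g (tetIdx i) % 2 = 1 <;> simp [h1, h2] <;> omega
  have hS : ∀ k, tsum6 x k = 4 * m + 2 * K k + 4 * Z k := hd.tsum
  set w : GolayPt → ℤ := fun i => (tetMap x i - (m + e) - 2 * indZ c' i) / 4 with hw
  have hy : ∀ i, tetMap x i = (m + e) + 2 * indZ c' i + 4 * w i := by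
    intro i
    have h1 := hind i
    have h2 := hKk (tetIdx i)
    have h4 : 4 ∣ tetMap x i - (m + e) - 2 * indZ c' i := by
      have h3 := hd.hx i
      simp only [tetMap, hS, hg] at *
      by_cases hk : tetIdx i = 0
      · simp only [if_pos hk] at *; omega
      · simp only [if_neg hk] at *; omega
    have := Int.mul_ediv_cancel' h4
    simp only [hw]
    omega
  refine mem_lattice.mpr ⟨m + e, c', w, hc'c, hy, ?_⟩
  have s1 : ∑ i, tetMap x i = 24 * (m + e) + 2 * c'.card + 4 * ∑ i, w i := by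
    simp only [hy, sum_add_distrib, ← mul_sum, card_filter_indZ, sum_const, card_univ, Fintype.card_option,
      ZMod.card, nsmul_eq_mul]
    push_cast
    ring
  have s2 : ∑ k, tsum6 (tetMap x) k = ∑ i, tetMap x i := sum_tetSet _
  rw [Fin.sum_univ_six] at s2 hZsum hKsum
  simp only [sum_tetMap_tetSet hx, hS, show (1 : Fin 6) ≠ 0 by decide, show (2 : Fin 6) ≠ 0 by decide,
      show (3 : Fin 6) ≠ 0 by decide, show (4 : Fin 6) ≠ 0 by decide, show (5 : Fin 6) ≠ 0 by decide,
      if_false, if_true] at s2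
  obtain ⟨b, hb⟩ := four_dvd_card hc'c
  rw [ha] at hKsum
  rw [hb] at s1
  push_cast at hKsum s1
  have := hd.hz
  have := hKk 0
  omega

/-- The tetrad automorphism. -/
noncomputable def tetAut : Co0 :=
  ⟨Function.Involutive.toPerm (fun v : leechLattice => (⟨tetMap v, tetMap_mem v.2⟩ : leechLattice))
    (fun v => Subtype.ext (tetMap_tetMap v.2)),
    fun v w => Subtype.ext (tetMap_add v.2 w.2), fun v => sqNorm_tetMap v.2⟩

theorem tetAut_apply (v : leechLattice) : ((tetAut • v : leechLattice) : GolayPt → ℤ) = tetMap v := rfl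

end Cfsg.Lib.Leech
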