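import Cfsg.Agent.Leech.Transitive48

/-!
The action on the lattice modulo two is faithful modulo the centre, and irreducible.
-/

namespace Cfsg.Lib.Leech

open Cfsg Cfsg.Lib.Golay Finset

/-- Four times a signed pair of basis vectors. -/
def pairVec (i j : GolayPt) (s : ℤ) : GolayPt → ℤ :=
  fun k => 4 * ((if k = i then 1 else 0) + if k = j then s else 0)

theorem pairVec_mem {i j : GolayPt} {s : ℤ} (hs : s = 1 ∨ s = -1) : pairVec i j s ∈ leechLattice := by
  refine mem_lattice.mpr ⟨0, ∅, fun k => (if k = i then 1 else 0) + if k = j then s else 0, empty_mem_code,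
    fun k => by simp [pairVec, indZ], ?_⟩
  rw [sum_add_distrib, sum_ite_eq', sum_ite_eq', if_pos (mem_univ _), if_pos (mem_univ _)]
  rcases hs with rfl | rfl <;> rfl

theorem pairVec_norm {i j : GolayPt} (h : i ≠ j) {s : ℤ} (hs : s = 1 ∨ s = -1) :
    Cfsg.sqNorm (pairVec i j s) = 32 := by
  rw [Cfsg.sqNorm, sum_eq_add i j h (fun k _ hk => by simp [pairVec, hk.1, hk.2]) (by simp) (by simp)]
  rcases hs with rfl | rfl <;> simp [pairVec, h, h.symm]

theorem pm_of_cong (g : Co0)
    (hg : ∀ v : leechLattice, ∃ w : leechLattice,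
      ((g • v : leechLattice) : GolayPt → ℤ) - (v : GolayPt → ℤ) = 2 • (w : GolayPt → ℤ))
    (v : leechLattice) (hv : Cfsg.sqNorm (v : GolayPt → ℤ) = 32) : g • v = v ∨ g • v = -v := by
  obtain ⟨w, hw⟩ := hg v
  have hgv : Cfsg.sqNorm ((g • v : leechLattice) : GolayPt → ℤ) = 32 := (g.2.2 v).trans hv
  obtain ⟨-, h⟩ := s5551 ((g • v : leechLattice) : GolayPt → ℤ) v v.2 (by omega) (by omega) ⟨w, w.2, hw⟩
  rcases h (by omega) with e | e
  · exact Or.inl (Subtype.ext e.symm)
  · refine Or.inr (Subtype.ext ?_)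
    show _ = -(v : GolayPt → ℤ)
    rw [e, neg_neg]

theorem same_sign {g : Co0} {a b : leechLattice} {s t u : ℤ} (ha : g • a = s • a) (hb : g • b = t • b)
    (hab : g • (a + b) = u • (a + b)) (hind : ∃ k, (a : GolayPt → ℤ) k ≠ 0 ∧ (b : GolayPt → ℤ) k = 0)
    (hind' : ∃ k, (b : GolayPt → ℤ) k ≠ 0 ∧ (a : GolayPt → ℤ) k = 0) : s = t := by
  have h : s • a + t • b = u • (a + b) := by rw [← ha, ← hb, ← hab]; exact (g.2.1 a b).symm
  obtain ⟨k, hk, hk'⟩ := hind
  obtain ⟨l, hl, hl'⟩ := hind'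
  have h1 := congrFun (congrArg Subtype.val h) k
  have h2 := congrFun (congrArg Subtype.val h) l
  simp [hk', hl'] at h1 h2
  have e1 : s = u := by rcases h1 with e | e <;> [exact e; exact absurd e hk]
  have e2 : t = u := by rcases h2 with e | e <;> [exact e; exact absurd e hl]
  exact e1.trans e2.symm

theorem faithful_mod_two (g : Co0)
    (hg : ∀ v : leechLattice, ∃ w : leechLattice,
      ((g • v : leechLattice) : GolayPt → ℤ) - (v : GolayPt → ℤ) = 2 • (w : GolayPt → ℤ)) :
    g ∈ Subgroup.center Co0 := by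
  have hs : ∀ v : leechLattice, Cfsg.sqNorm (v : GolayPt → ℤ) = 32 → ∃ s : ℤ, (s = 1 ∨ s = -1) ∧ g • v = s • v :=
    fun v hv => by
      rcases pm_of_cong g hg v hv with h | h
      · exact ⟨1, Or.inl rfl, by rw [h, one_smul]⟩
      · exact ⟨-1, Or.inr rfl, by rw [h, neg_one_zsmul]⟩
  let P : GolayPt → GolayPt → leechLattice := fun i j => ⟨pairVec i j 1, pairVec_mem (Or.inl rfl)⟩
  let N : GolayPt → GolayPt → leechLattice := fun i j => ⟨pairVec i j (-1), pairVec_mem (Or.inr rfl)⟩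
  have hN : ∀ i j, i ≠ j → ∃ s : ℤ, (s = 1 ∨ s = -1) ∧ g • N i j = s • N i j :=
    fun i j h => hs _ (pairVec_norm h (Or.inr rfl))
  have hP : ∀ i j, i ≠ j → ∃ s : ℤ, (s = 1 ∨ s = -1) ∧ g • P i j = s • P i j :=
    fun i j h => hs _ (pairVec_norm h (Or.inl rfl))
  have addN : ∀ i j k, N i j + N j k = N i k := fun i j k => Subtype.ext (funext fun l => by
    simp only [N, AddSubgroup.coe_add, Pi.add_apply, pairVec]; split_ifs <;> ring)
  have addP : ∀ i j k, P i j + N k j = P i k := fun i j k => Subtype.ext (funext fun l => by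
    simp only [P, N, AddSubgroup.coe_add, Pi.add_apply, pairVec]; split_ifs <;> ring)
  choose sN hsN hgN using hN
  choose sP hsP hgP using hP
  have stepN : ∀ i j k (hij : i ≠ j) (hjk : j ≠ k), i ≠ k → sN i j hij = sN j k hjk := fun i j k hij hjk hik =>
    same_sign (hgN i j hij) (hgN j k hjk) (by rw [addN]; exact hgN i k hik)
      ⟨i, by simp [N, pairVec, hij], by simp [N, pairVec, hij, hik]⟩
      ⟨k, by simp [N, pairVec, hjk.symm], by simp [N, pairVec, hik.symm, hjk.symm]⟩
  have stepP : ∀ i j k (hij : i ≠ j) (hjk : k ≠ j), i ≠ k → sP i j hij = sN k j hjk := fun i j k hij hjk hik =>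
    same_sign (hgP i j hij) (hgN k j hjk) (by rw [addP]; exact hgP i k hik)
      ⟨i, by simp [P, pairVec, hij], by simp [N, pairVec, hij, hik]⟩
      ⟨k, by simp [N, pairVec, hjk], by simp [P, pairVec, hik.symm, hjk]⟩
  have hex : ∀ i j : GolayPt, ∃ k, k ≠ i ∧ k ≠ j := by
    intro i j
    obtain ⟨k, -, hk⟩ := exists_mem_notMem_of_card_lt_card (s := ({i, j} : Finset GolayPt)) (t := univ)
      (by rw [card_pts]; exact lt_of_le_of_lt card_le_two (by norm_num))
    simp only [mem_insert, mem_singleton, not_or] at hk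
    exact ⟨k, hk⟩
  -- all signs of differences agree
  have heq : ∀ i j k (hij : i ≠ j) (hik : i ≠ k), sN i j hij = sN i k hik := by
    intro i j k hij hik
    obtain ⟨l, hl1, hl2⟩ := hex i j
    by_cases hjk : j = k
    · subst hjk; rfl
    obtain ⟨m, hm, hm'⟩ : ∃ m, m ∉ ({i, j, k} : Finset GolayPt) ∧ True := by
      obtain ⟨m, -, hm⟩ := exists_mem_notMem_of_card_lt_card (s := ({i, j, k} : Finset GolayPt)) (t := univ)
        (by rw [card_pts]; exact lt_of_le_of_lt card_le_three (by norm_num))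
      exact ⟨m, hm, trivial⟩
    simp only [mem_insert, mem_singleton, not_or] at hm
    obtain ⟨hmi, hmj, hmk⟩ := hm
    -- both are adjacent to the difference entering the common start
    rw [← stepN m i j hmi hij hmj, ← stepN m i k hmi hik hmk]
  obtain ⟨o, ho⟩ : ∃ o : GolayPt, o ≠ none := ⟨some 0, by simp⟩
  set s := sN none o ho.symm
  have hall : ∀ i j (h : i ≠ j), sN i j h = s := by
    intro i j h
    by_cases hi : i = none
    · subst hi; exact heq _ _ _ h ho.symm
    by_cases hj : none = j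
    · subst hj
      obtain ⟨k, hk1, hk2⟩ := hex i none
      rw [stepN i none k h (Ne.symm hk2) (Ne.symm hk1)]
      exact heq _ _ _ _ _
    · rw [← stepN none i j (Ne.symm hi) h hj]
      exact heq _ _ _ _ _
  have hg8 : ∀ i, g • e8 i = s • e8 i := by
    intro i
    obtain ⟨j, hj, -⟩ := hex i i
    obtain ⟨k, hk1, hk2⟩ := hex i j
    have e : e8 i = P i j + N i j := Subtype.ext (funext fun l => by
      simp only [P, N, AddSubgroup.coe_add, Pi.add_apply, pairVec, e8, Pi.single_apply]; split_ifs <;> ring)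
    have h1 : sP i j hj.symm = s := by rw [stepP i j k hj.symm hk2 hk1.symm]; exact hall _ _ _
    rw [e, show g • (P i j + N i j) = g • P i j + g • N i j from g.2.1 _ _, hgP i j hj.symm, hgN i j hj.symm,
      h1, hall, smul_add]
  rcases hsN none o ho.symm with h | h
  · rw [show g = 1 from co0_ext fun v => by rw [eq_of_e8 hg8, show s = 1 from h, one_smul, one_smul]]
    exact one_mem _
  · rw [show g = negOne from co0_ext fun v => by rw [eq_of_e8 hg8, show s = -1 from h, negOne_apply, neg_one_zsmul]]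
    exact (Subgroup.mem_center_iff.mpr fun g => (negOne_comm g).symm)

theorem irreducible_mod_two (M : AddSubgroup (GolayPt → ℤ)) (h2 : ∀ v ∈ leechLattice, (2 : ℤ) • v ∈ M)
    (hM : M ≤ leechLattice)
    (hinv : ∀ g : Co0, ∀ v : leechLattice, (v : GolayPt → ℤ) ∈ M → ((g • v : leechLattice) : GolayPt → ℤ) ∈ M) :
    (∀ x ∈ M, ∃ w ∈ leechLattice, x = (2 : ℤ) • w) ∨ M = leechLattice := by
  classical
  by_cases h : ∀ x ∈ M, ∃ w ∈ leechLattice, x = (2 : ℤ) • w
  · exact Or.inl h
  refine Or.inr ?_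
  push Not at h
  obtain ⟨x, hx, hxn⟩ := h
  obtain ⟨y, hy, hyn, hxy⟩ := leech_classes.1 x (hM hx)
  obtain ⟨z, hz, he⟩ := cong_iff'.mp hxy
  have hyM : y ∈ M := by
    rw [show y = x - (2 : ℤ) • z by rw [← he]; abel]
    exact sub_mem hx (h2 z hz)
  have hy0 : y ≠ 0 := fun e => hxn z hz (by rw [← he, e, sub_zero])
  have h16 := sixteen_dvd_sqNorm hy
  have h32 := thirtytwo_le_sqNorm hy hy0
  have moveM : ∀ {n : ℤ}, Cfsg.sqNorm y = n →
      (∀ v w : leechLattice, Cfsg.sqNorm (v : GolayPt → ℤ) = n → Cfsg.sqNorm (w : GolayPt → ℤ) = n →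
        ∃ g : Co0, g • v = w) → ∀ a ∈ leechLattice, Cfsg.sqNorm a = n → a ∈ M := by
    intro n hn htr a ha han
    obtain ⟨g, hg⟩ := htr ⟨y, hy⟩ ⟨a, ha⟩ hn han
    have := hinv g ⟨y, hy⟩ hyM
    rwa [hg] at this
  obtain ⟨u, hu, hun, huM⟩ : ∃ u ∈ leechLattice, Cfsg.sqNorm u = 32 ∧ u ∈ M := by
    rcases (show Cfsg.sqNorm y = 32 ∨ Cfsg.sqNorm y = 48 ∨ Cfsg.sqNorm y = 64 by omega) with e | e | e
    · exact ⟨y, hy, e, hyM⟩
    · have hm := moveM e transitive48
      set a : GolayPt → ℤ := fun p => if p = some 0 then 5 else 1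
      have ha : inL a = true ∧ Cfsg.sqNorm a = 48 := by decide +kernel
      have hD : vD - a ∈ M := sub_mem (hm _ (mem_of_inL vD_ok.1) vD_ok.2.1) (hm _ (mem_of_inL ha.1) ha.2)
      exact ⟨vD - a, hM hD, by decide +kernel, hD⟩
    · have hm := moveM e transitive64
      let b : Finset GolayPt → GolayPt → ℤ := fun t p => if p ∈ t then 4 else 0
      have hb : inL (b {none, some 0, some 1, some 2}) = true ∧ inL (b {none, some 0, some 1, some 3}) = true ∧
          Cfsg.sqNorm (b {none, some 0, some 1, some 2}) = 64 ∧ Cfsg.sqNorm (b {none, some 0, some 1, some 3}) = 64 ∧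
          Cfsg.sqNorm (b {none, some 0, some 1, some 2} - b {none, some 0, some 1, some 3}) = 32 := by decide +kernel
      have hD := sub_mem (hm _ (mem_of_inL hb.1) hb.2.2.1) (hm _ (mem_of_inL hb.2.1) hb.2.2.2.1)
      exact ⟨_, hM hD, hb.2.2.2.2, hD⟩
  refine le_antisymm hM ?_
  rw [← s1567, AddSubgroup.closure_le]
  rintro a ⟨ha, han⟩
  obtain ⟨g, hg⟩ := transitive32 ⟨u, hu⟩ ⟨a, ha⟩ hun han
  have := hinv g ⟨u, hu⟩ huM
  rwa [hg] at this

end Cfsg.Lib.Leech
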