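import Cfsg.Agent.Leech.MonsterFrame
import Cfsg.Agent.Leech.Tetrad
import Cfsg.Agent.Golay.Modules

/-!
Sign changes conjugated by the tetrad automorphism, and what their normal closure reaches.
-/

namespace Cfsg.Lib.Leech

open Cfsg Cfsg.Lib.Golay Finset

/-- A sign change conjugated by the tetrad automorphism. -/
noncomputable def tetFlip {c : Finset GolayPt} (hc : c ∈ code) : Co0 :=
  tetAut * mono (one_mem M24) hc * tetAut⁻¹

theorem tetAut_inv : tetAut⁻¹ = tetAut :=
  inv_eq_of_mul_eq_one_right (co0_ext fun v => Subtype.ext (by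
    rw [mul_smul, one_smul, tetAut_apply, tetAut_apply, tetMap_tetMap v.2]))

theorem tsum6_e8 (i : GolayPt) (k : Fin 6) :
    tsum6 (e8 i : GolayPt → ℤ) k = if tetIdx i = k then 8 else 0 := by
  unfold tsum6
  simp only [e8, Pi.single_apply, Finset.sum_ite_eq', mem_tetSet]

/-- The sign of a coordinate. -/
def sgn (c : Finset GolayPt) (i : GolayPt) : ℤ := if i ∈ c then -1 else 1

theorem sgn_sum (c : Finset GolayPt) (t : Finset GolayPt) :
    ∑ i ∈ t, sgn c i = (t.card : ℤ) - 2 * ((c ∩ t).card : ℤ) := by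
  rw [show ∑ i ∈ t, sgn c i = ∑ i ∈ t, ((1 : ℤ) - 2 * if i ∈ c then 1 else 0) from
    sum_congr rfl fun i _ => by simp only [sgn]; split <;> rfl, sum_sub_distrib, sum_const, ← mul_sum, sum_boole,
    filter_mem_eq_inter, inter_comm]
  simp

theorem tetFlip_e8 {c : Finset GolayPt} (hc : c ∈ code) (i l : GolayPt) :
    ((tetFlip hc • e8 i : leechLattice) : GolayPt → ℤ) l = if tetIdx l = tetIdx i then
      sgn c l * ((if l = i then 8 else 0) - 4) - 4 * sgn c i + 2 * ((4 : ℤ) - 2 * ((c ∩ tetSet (tetIdx i)).card : ℤ))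
      else 0 := by
  rw [tetFlip, tetAut_inv, mul_smul, mul_smul, tetAut_apply]
  set s : ℤ := if tetIdx i = 0 then -1 else 1 with hs
  set y : GolayPt → ℤ := ((mono (one_mem M24) hc • tetAut • e8 i : leechLattice) : GolayPt → ℤ) with hy
  have hyv : ∀ m, y m = if tetIdx m = tetIdx i then s * (sgn c m * ((if m = i then 8 else 0) - 4)) else 0 := by
    intro m
    rw [hy, mono_apply]
    simp only [signedPerm, tetAut_apply, tetMap, tsum6_e8, show (1 : Equiv.Perm GolayPt).symm m = m from rfl]
    simp only [e8, Pi.single_apply, sgn]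
    by_cases hk : tetIdx m = tetIdx i
    · rw [hk, if_pos rfl, if_pos rfl]
      simp only [hs]
      split_ifs <;> norm_num
    · have hm : m ≠ i := fun h => hk (h ▸ rfl)
      simp only [hk, Ne.symm hk, hm, if_false]
      split_ifs <;> simp
  have hsum : tsum6 y (tetIdx i) =
      s * (8 * sgn c i - 4 * ((4 : ℤ) - 2 * ((c ∩ tetSet (tetIdx i)).card : ℤ))) := by
    have e : tsum6 y (tetIdx i) = ∑ m ∈ tetSet (tetIdx i),
        (s * ((if m = i then 8 * sgn c m else 0) - 4 * sgn c m)) := by
      refine sum_congr rfl fun m hm => ?_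
      rw [hyv m, if_pos (mem_tetSet.mp hm)]
      split <;> ring
    rw [e, ← mul_sum, sum_sub_distrib, ← mul_sum, sgn_sum, tetSet_card, Finset.sum_ite_eq',
      if_pos (mem_tetSet.mpr rfl)]
    norm_num
  by_cases hk : tetIdx l = tetIdx i
  · rw [if_pos hk, tetMap, hk, hsum, hyv l, if_pos hk]
    simp only [hs]
    by_cases h0 : tetIdx i = 0 <;> simp only [h0, if_true, if_false] <;> omega
  · rw [if_neg hk]
    have h0 : tsum6 y (tetIdx l) = 0 := sum_eq_zero fun m hm => by
      rw [hyv m, if_neg (by rw [mem_tetSet.mp hm]; exact hk)]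
    rw [tetMap, hyv l, if_neg hk, h0]
    simp

/-- A sign change meeting a tetrad in one or three points is not carried into the monomial group. -/
theorem tetFlip_outside {c : Finset GolayPt} (hc : c ∈ code) {k : Fin 6}
    (hk : (c ∩ tetSet k).card % 2 = 1) : tetFlip hc ∉ monoGroup := by
  intro h
  obtain ⟨i, hi⟩ : (c ∩ tetSet k).Nonempty := card_pos.mp (by omega)
  obtain ⟨hic, hit⟩ := mem_inter.mp hi
  obtain rfl := mem_tetSet.mp hit
  have hf : FixesFrame (tetFlip hc) := by
    rw [← SetLike.mem_coe, coe_monoGroup] at h; exact h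
  obtain ⟨j, hj⟩ := stdCross_eq_e8.mp (hf (e8 i) (e8_mem_stdCross i))
  have hle : (c ∩ tetSet (tetIdx i)).card ≤ 4 := (card_le_card inter_subset_right).trans (tetSet_card _).le
  obtain ⟨l, hl, hlj⟩ : ∃ l ∈ tetSet (tetIdx i), l ≠ j ∧ l ≠ i := by
    obtain ⟨l, hl⟩ := card_pos.mp (show 0 < (((tetSet (tetIdx i)).erase j).erase i).card by
      have h1 := pred_card_le_card_erase (s := tetSet (tetIdx i)) (a := j)
      have h2 := pred_card_le_card_erase (s := (tetSet (tetIdx i)).erase j) (a := i)
      have := tetSet_card (tetIdx i)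
      omega)
    obtain ⟨h1, h2⟩ := mem_erase.mp hl
    obtain ⟨h3, h4⟩ := mem_erase.mp h2
    exact ⟨l, h4, h3, h1⟩
  have hv := tetFlip_e8 hc i l
  rw [if_pos (mem_tetSet.mp hl), if_neg hlj.2] at hv
  have h0 : ((tetFlip hc • e8 i : leechLattice) : GolayPt → ℤ) l = 0 := by
    rcases hj with e | e <;> rw [e] <;> simp [e8, hlj.1]
  rw [h0] at hv
  simp only [sgn, if_pos hic] at hv
  by_cases hlc : l ∈ c <;> simp only [hlc, if_true, if_false] at hv <;> omega

/-- A sign change meeting a tetrad in two points exchanges their axes after conjugation. -/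
theorem tetFlip_swap {c : Finset GolayPt} (hc : c ∈ code) {i j : GolayPt} (hij : i ≠ j)
    (hic : i ∈ c) (hjc : j ∈ c) (hk : tetIdx j = tetIdx i) (h2 : (c ∩ tetSet (tetIdx i)).card = 2) :
    tetFlip hc • e8 i = e8 j := by
  refine Subtype.ext (funext fun l => ?_)
  rw [tetFlip_e8]
  simp only [e8, Pi.single_apply]
  by_cases hl : tetIdx l = tetIdx i
  · have hmem : ∀ m, m ∈ c → tetIdx m = tetIdx i → m = i ∨ m = j := by
      intro m hm hmk
      by_contra hne
      rw [not_or] at hne
      have hsub : ({i, j, m} : Finset GolayPt) ⊆ c ∩ tetSet (tetIdx i) := by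
        intro x hx
        simp only [mem_insert, mem_singleton] at hx
        rcases hx with rfl | rfl | rfl <;> simp [mem_tetSet, *]
      have := card_le_card hsub
      rw [card_insert_of_notMem (by simp [hij, Ne.symm hne.1]), card_pair (Ne.symm hne.2), h2] at this
      omega
    rw [if_pos hl, h2]
    by_cases hli : l = i
    · subst hli
      simp [sgn, hic, hij]
    by_cases hlj : l = j
    · subst hlj
      simp [sgn, hic, hjc, hli]
    have hlc : l ∉ c := fun h => by rcases hmem l h hl with e | e <;> contradiction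
    simp [sgn, hlc, hli, hlj, hic]
  · rw [if_neg hl, if_neg (fun h : l = j => hl (h ▸ hk))]

theorem odd_witness_ok : ∃ m ∈ octMasks, ((tetSet 0).filter fun p => m.testBit (pidx p)).card = 1 := by
  decide +kernel

theorem even_witness_ok : ∃ m ∈ octMasks, m.testBit (pidx pN) = true ∧
    ((tetSet (tetIdx pN)).filter fun p => m.testBit (pidx p)).card = 2 := by decide +kernel

theorem octMask_octad {m : ℕ} (hm : m ∈ octMasks) : pts m ∈ octads :=
  ⟨(mem_supports_iff _).mpr (by
    have := (mem_octMasks.mp hm).1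
    rwa [mk_pts (lt_of_inCode this)]), (mem_octMasks.mp hm).2⟩

theorem exists_odd_octad : ∃ c ∈ octads, (c ∩ tetSet 0).card % 2 = 1 := by
  obtain ⟨m, hm, h1⟩ := odd_witness_ok
  refine ⟨pts m, octMask_octad hm, ?_⟩
  rw [show pts m ∩ tetSet 0 = (tetSet 0).filter fun p => m.testBit (pidx p) by
    ext p; simp [mem_pts, and_comm], h1]

theorem exists_swap : ∃ (c : Finset GolayPt) (hc : c ∈ code) (j : GolayPt), j ≠ pN ∧ tetFlip hc • e8 pN = e8 j := by
  obtain ⟨m, hm, hN, h2⟩ := even_witness_ok
  have h2' : (pts m ∩ tetSet (tetIdx pN)).card = 2 := by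
    rw [show pts m ∩ tetSet (tetIdx pN) = (tetSet (tetIdx pN)).filter fun p => m.testBit (pidx p) by
      ext p; simp [mem_pts, and_comm], h2]
  obtain ⟨j, hj, hjN⟩ := exists_mem_ne (by omega : 1 < (pts m ∩ tetSet (tetIdx pN)).card) pN
  obtain ⟨hjc, hjt⟩ := mem_inter.mp hj
  exact ⟨pts m, (octMask_octad hm).1, j, hjN,
    tetFlip_swap (octMask_octad hm).1 hjN.symm (mem_pts.mpr hN) hjc (mem_tetSet.mp hjt) h2'⟩

end Cfsg.Lib.Leech
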