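import Cfsg.Agent.Leech.Irreducible

/-!
Orbits on pairs of short vectors, found by moving two orthogonal vectors of norm 32 into the
standard frame.
-/

namespace Cfsg.Lib.Leech

open Cfsg Cfsg.Lib.Golay Finset MulAction

/-- The first distinguished point. -/
abbrev pN : GolayPt := none
/-- The second distinguished point. -/
abbrev pO : GolayPt := some 0
/-- The third distinguished point. -/
abbrev pI : GolayPt := some 1
/-- The fourth distinguished point. -/
abbrev pJ : GolayPt := some 2

theorem dot_comm (x y : GolayPt → ℤ) : dotInt x y = dotInt y x := minForm.symm x y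

theorem dot_add_left (x y z : GolayPt → ℤ) : dotInt (x + y) z = dotInt x z + dotInt y z := minForm.add x y z

theorem dot_add_right (x y z : GolayPt → ℤ) : dotInt x (y + z) = dotInt x y + dotInt x z := by
  rw [dot_comm, dot_add_left, dot_comm y, dot_comm z]

theorem dot_sub_right (x y z : GolayPt → ℤ) : dotInt x (y - z) = dotInt x y - dotInt x z := by
  have h := dot_add_right x (y - z) z
  rw [sub_add_cancel] at h
  omega

theorem sqNorm_add (x y : GolayPt → ℤ) :
    Cfsg.sqNorm (x + y) = Cfsg.sqNorm x + 2 * dotInt x y + Cfsg.sqNorm y := by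
  simp only [sqNorm_eq_dot, minForm.add_self]

theorem sqNorm_sub (x y : GolayPt → ℤ) :
    Cfsg.sqNorm (x - y) = Cfsg.sqNorm x - 2 * dotInt x y + Cfsg.sqNorm y := by
  have h := sqNorm_add (x - y) y
  rw [sub_add_cancel] at h
  have : dotInt (x - y) y = dotInt x y - Cfsg.sqNorm y := by
    rw [dot_comm, dot_sub_right, dot_comm, sqNorm_eq_dot]
  omega

theorem smul_add' (g : Co0) (v w : leechLattice) : g • (v + w) = g • v + g • w := g.2.1 v w

theorem dot_smul (g : Co0) (v w : leechLattice) :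
    dotInt ((g • v : leechLattice) : GolayPt → ℤ) ((g • w : leechLattice) : GolayPt → ℤ)
      = dotInt (v : GolayPt → ℤ) w := by
  have h := g.2.2 (v + w)
  change Cfsg.sqNorm ((g • (v + w) : leechLattice) : GolayPt → ℤ) = _ at h
  rw [smul_add', AddSubgroup.coe_add, AddSubgroup.coe_add, sqNorm_add, sqNorm_add] at h
  have h1 := g.2.2 v
  have h2 := g.2.2 w
  change Cfsg.sqNorm ((g • v : leechLattice) : GolayPt → ℤ) = _ at h1
  change Cfsg.sqNorm ((g • w : leechLattice) : GolayPt → ℤ) = _ at h2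
  omega

theorem dot_pairVec (i j : GolayPt) (s : ℤ) (x : GolayPt → ℤ) : dotInt (pairVec i j s) x = 4 * (x i + s * x j) := by
  have e : ∀ k, pairVec i j s k * x k = 4 * ((if k = i then x k else 0) + if k = j then s * x k else 0) := fun k => by
    simp only [pairVec]; split_ifs <;> ring
  rw [dotInt, sum_congr rfl fun k _ => e k, ← mul_sum, sum_add_distrib, sum_ite_eq', sum_ite_eq',
    if_pos (mem_univ _), if_pos (mem_univ _)]

/-- The base vector with two coordinates four. -/
def bP : leechLattice := ⟨pairVec pN pO 1, pairVec_mem (Or.inl rfl)⟩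
/-- Its orthogonal partner. -/
def bQ : leechLattice := ⟨pairVec pN pO (-1), pairVec_mem (Or.inr rfl)⟩

theorem two_points_N (j : GolayPt) (hj : j ≠ pN) : ∃ σ ∈ M24, σ pN = pN ∧ σ j = pO :=
  two_points pN j pN pO hj.symm (by decide)

theorem traces3 : ((codeMasks.any fun m => !m.testBit (pidx pN) && m.testBit (pidx pO)) &&
    (codeMasks.any fun m => !m.testBit (pidx pN) && !m.testBit (pidx pO) && m.testBit (pidx pI))) = true := by
  decide +kernel

theorem word_pO : ∃ c ∈ code, pN ∉ c ∧ pO ∈ c := by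
  have h := (Bool.and_eq_true_iff.mp traces3).1
  simp only [List.any_eq_true, Bool.and_eq_true, Bool.not_eq_true'] at h
  obtain ⟨m, hm, h1, h2⟩ := h
  have hc := mem_codeMasks.mp hm
  refine ⟨pts m, (mem_supports_iff _).mpr (by rwa [mk_pts (lt_of_inCode hc)]), ?_, mem_pts.mpr h2⟩
  rw [mem_pts, h1]; simp

theorem word_pI : ∃ c ∈ code, pN ∉ c ∧ pO ∉ c ∧ pI ∈ c := by
  have h := (Bool.and_eq_true_iff.mp traces3).2
  simp only [List.any_eq_true, Bool.and_eq_true, Bool.not_eq_true'] at h
  obtain ⟨m, hm, ⟨h1, h2⟩, h3⟩ := h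
  have hc := mem_codeMasks.mp hm
  refine ⟨pts m, (mem_supports_iff _).mpr (by rwa [mk_pts (lt_of_inCode hc)]), ?_, ?_, mem_pts.mpr h3⟩
  · rw [mem_pts, h1]; simp
  · rw [mem_pts, h2]; simp

theorem four_coord {x : GolayPt → ℤ} (hx : x ∈ leechLattice) (hn : Cfsg.sqNorm x = 32) {i : GolayPt}
    (hi : x i = 4 ∨ x i = -4) : ∃ j, j ≠ i ∧ (x j = 4 ∨ x j = -4) ∧ ∀ k, k ≠ i → k ≠ j → x k = 0 := by
  obtain ⟨c, z, h | h⟩ := mem_lattice_normal.mp hx
  · rcases min_even h hn with ⟨-, p, q, hpq, hp, hq, h0⟩ | ⟨-, -, hval⟩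
    · by_cases h1 : i = p
      · subst h1; exact ⟨q, hpq.symm, hq, h0⟩
      by_cases h2 : i = q
      · subst h2; exact ⟨p, hpq, hp, fun k a b => h0 k b a⟩
      · rw [h0 i h1 h2] at hi; omega
    · exfalso
      have := hval i
      split_ifs at this <;> omega
  · exfalso
    have := h.hx i
    simp only [indZ] at this
    split at this <;> omega

/-- Two orthogonal vectors of norm 32 are carried to the base pair. -/
theorem to_pair (v a : leechLattice) (hv : Cfsg.sqNorm (v : GolayPt → ℤ) = 32)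
    (ha : Cfsg.sqNorm (a : GolayPt → ℤ) = 32) (hva : dotInt (v : GolayPt → ℤ) a = 0) :
    ∃ g : Co0, g • v = bP ∧ g • a = bQ := by
  obtain ⟨g, hg⟩ := to_e8 (v + a) (by rw [AddSubgroup.coe_add, sqNorm_add, hv, ha, hva]; norm_num) pN
  set x : GolayPt → ℤ := ((g • v : leechLattice) : GolayPt → ℤ) with hxdef
  have hxN : x pN = 4 := by
    have h := dot_smul g v (v + a)
    rw [hg, AddSubgroup.coe_add, dot_add_right, hva, ← sqNorm_eq_dot, hv] at h
    rw [← hxdef, dotInt, sum_eq_single pN (fun k _ hk => by simp [e8, hk]) (by simp)] at h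
    simp [e8] at h
    omega
  have hxn : Cfsg.sqNorm x = 32 := (g.2.2 v).trans hv
  obtain ⟨j, hjN, hj, h0⟩ := four_coord (g • v).2 hxn (Or.inl hxN)
  obtain ⟨σ, hσ, hσN, hσj⟩ := two_points_N j hjN
  have h1 : mono hσ empty_mem_code • g • v = (if x j = 4 then bP else bQ) := by
    refine Subtype.ext (funext fun k => ?_)
    obtain ⟨l, rfl⟩ : ∃ l, σ l = k := ⟨σ.symm k, σ.apply_symm_apply k⟩
    have eN : ∀ l, σ l = pN ↔ l = pN := fun l =>
      ⟨fun e => σ.injective (e.trans hσN.symm), fun e => e.symm ▸ hσN⟩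
    have eO : ∀ l, σ l = pO ↔ l = j := fun l => ⟨fun e => σ.injective (e.trans hσj.symm), fun e => e.symm ▸ hσj⟩
    simp only [mono_apply, signedPerm, notMem_empty, if_false, Equiv.symm_apply_apply, ← hxdef]
    rcases eq_or_ne l pN with rfl | hl
    · by_cases hc : x j = 4
      · rw [if_pos hc]; simp [bP, pairVec, eN, eO, hxN, hjN.symm]
      · rw [if_neg hc]; simp [bQ, pairVec, eN, eO, hxN, hjN.symm]
    rcases eq_or_ne l j with rfl | hl'
    · rcases hj with e | e <;> change x l = _ at e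
      · rw [if_pos e]; simp [bP, pairVec, eN, eO, e, hl]
      · rw [if_neg (by omega)]; simp [bQ, pairVec, eN, eO, e, hl]
    · have h0' : x l = 0 := h0 l hl hl'
      by_cases hc : x j = 4
      · rw [if_pos hc]; simp [bP, pairVec, eN, eO, h0', hl, hl']
      · rw [if_neg hc]; simp [bQ, pairVec, eN, eO, h0', hl, hl']
  have he : mono hσ empty_mem_code • e8 pN = e8 pN := by rw [monoFun_e8, if_neg (notMem_empty _), hσN]
  have hsum : bP + bQ = e8 pN := Subtype.ext (funext fun k => by
    simp only [bP, bQ, AddSubgroup.coe_add, Pi.add_apply, pairVec, e8, Pi.single_apply]; split_ifs <;> ring)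
  have hfin : ∀ h : Co0, h • e8 pN = e8 pN → h • g • v = bP → h • g • a = bQ := by
    intro h h8 hh
    have : h • g • v + h • g • a = e8 pN := by rw [← smul_add', ← smul_add', hg, h8]
    rw [hh, ← hsum] at this
    exact add_left_cancel this
  by_cases hc : x j = 4
  · rw [if_pos hc] at h1
    exact ⟨mono hσ empty_mem_code * g, by rw [mul_smul, h1], by rw [mul_smul]; exact hfin _ he h1⟩
  · rw [if_neg hc] at h1
    obtain ⟨d, hd, hdN, hdO⟩ := word_pO
    have hflip : mono (one_mem M24) hd • bQ = bP := by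
      refine Subtype.ext (funext fun k => ?_)
      simp only [mono_apply, signedPerm, bP, bQ, show (1 : Equiv.Perm GolayPt).symm k = k from rfl, pairVec]
      rcases eq_or_ne k pN with rfl | hk
      · simp [hdN]
      rcases eq_or_ne k pO with rfl | hk'
      · simp [hdO]
      · simp [hk, hk']
    have he' : (mono (one_mem M24) hd * mono hσ empty_mem_code) • e8 pN = e8 pN := by
      rw [mul_smul, he, monoFun_e8]; simp [hdN]
    have h2 : (mono (one_mem M24) hd * mono hσ empty_mem_code) • g • v = bP := by rw [mul_smul, h1, hflip]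
    exact ⟨mono (one_mem M24) hd * mono hσ empty_mem_code * g, by rw [mul_smul, h2],
      by rw [mul_smul]; exact hfin _ he' h2⟩

theorem orth_pairs (v w w' : leechLattice) (hv : Cfsg.sqNorm (v : GolayPt → ℤ) = 32)
    (hw : Cfsg.sqNorm (w : GolayPt → ℤ) = 32) (hw' : Cfsg.sqNorm (w' : GolayPt → ℤ) = 32)
    (hd : dotInt (v : GolayPt → ℤ) w = 0) (hd' : dotInt (v : GolayPt → ℤ) w' = 0) :
    ∃ g : Co0, g • v = v ∧ g • w = w' := by
  obtain ⟨g, hg1, hg2⟩ := to_pair v w hv hw hd
  obtain ⟨h, hh1, hh2⟩ := to_pair v w' hv hw' hd'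
  exact ⟨h⁻¹ * g, by rw [mul_smul, hg1, ← hh1, inv_smul_smul], by rw [mul_smul, hg2, ← hh2, inv_smul_smul]⟩

/-- A pair of vectors four outside the base pair, meeting given coordinates with negative signs. -/
theorem pair_outside {w : GolayPt → ℤ} {k l : GolayPt} (hk : k ≠ pN ∧ k ≠ pO) (hl : l ≠ pN ∧ l ≠ pO) (hkl : k ≠ l)
    (hwk : w k ≠ 0) (hwl : w l ≠ 0) (hs : |w k| + |w l| = 4) :
    ∃ a ∈ leechLattice, Cfsg.sqNorm a = 32 ∧ dotInt (pairVec pN pO 1) a = 0 ∧ dotInt w a = -16 := by
  have hz : ∀ i, i ≠ k → i ≠ l → i ∈ (univ : Finset GolayPt) → ∀ s t : ℤ, pairVec k l s i * t = 0 := by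
    intro i h1 h2 _ s t; simp [pairVec, h1, h2]
  set s : ℤ := if (0 < w k ↔ 0 < w l) then 1 else -1
  set e : ℤ := if 0 < w k then -1 else 1
  have hsv : s = 1 ∨ s = -1 := by simp only [s]; split <;> simp
  refine ⟨e • pairVec k l s, zsmul_mem (pairVec_mem hsv) e, ?_, ?_, ?_⟩
  · have : e = 1 ∨ e = -1 := by simp only [e]; split <;> simp
    rcases this with h | h <;> rw [h]
    · rw [one_zsmul]; exact pairVec_norm hkl hsv
    · rw [neg_one_zsmul, ← pairVec_norm hkl hsv]; simp [Cfsg.sqNorm]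
  · have h0 : dotInt (pairVec pN pO 1) (e • pairVec k l s) = 0 := by
      rw [dot_pairVec]
      simp [pairVec, hk.1.symm, hk.2.symm, hl.1.symm, hl.2.symm]
    exact h0
  · have h1 : dotInt w (e • pairVec k l s) = e * (4 * (w k + s * w l)) := by
      rw [← dot_pairVec k l s w, dotInt, dotInt, mul_sum]
      exact sum_congr rfl fun i _ => by rw [Pi.smul_apply, smul_eq_mul]; ring
    rw [h1]
    simp only [s, e]
    rcases lt_or_gt_of_ne hwk with a | a <;> rcases lt_or_gt_of_ne hwl with b | b <;>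
      simp [a, b, a.le, b.le, not_lt.mpr, abs_of_neg, abs_of_pos] at hs ⊢ <;> omega

theorem octad_off : inCode (mk (pts 5279)) = true := by decide +kernel

theorem exists_octad_off : ∃ m ∈ octMasks, ¬ m.testBit (pidx pN) ∧ ¬ m.testBit (pidx pO) := by decide +kernel

theorem exists_aux {w : GolayPt → ℤ} (hw : w ∈ leechLattice) (hn : Cfsg.sqNorm w = 32)
    (hd : dotInt (pairVec pN pO 1) w = -16 ∨ dotInt (pairVec pN pO 1) w = -8) :
    ∃ a ∈ leechLattice, Cfsg.sqNorm a = 32 ∧ dotInt (pairVec pN pO 1) a = 0 ∧ dotInt w a = -16 := by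
  classical
  rw [dot_pairVec, one_mul] at hd
  have hNO : (pN : GolayPt) ≠ pO := by decide
  -- a difference of the base points
  have hdiff : w pN - w pO = 4 ∨ w pN - w pO = -4 →
      ∃ a ∈ leechLattice, Cfsg.sqNorm a = 32 ∧ dotInt (pairVec pN pO 1) a = 0 ∧ dotInt w a = -16 := by
    intro h
    rcases h with h | h
    · refine ⟨-pairVec pN pO (-1), neg_mem (pairVec_mem (Or.inr rfl)), ?_, ?_, ?_⟩
      · rw [← pairVec_norm hNO (Or.inr rfl : (-1 : ℤ) = 1 ∨ (-1 : ℤ) = -1)]; simp [Cfsg.sqNorm]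
      · rw [dot_pairVec]; simp [pairVec, hNO, hNO.symm]
      · rw [dot_comm, minForm.neg_left, dot_pairVec]; omega
    · refine ⟨pairVec pN pO (-1), pairVec_mem (Or.inr rfl), pairVec_norm hNO (Or.inr rfl), ?_, ?_⟩
      · rw [dot_pairVec]; simp [pairVec, hNO, hNO.symm]
      · rw [dot_comm, dot_pairVec]; omega
  obtain ⟨c, z, h | h⟩ := mem_lattice_normal.mp hw
  · rcases min_even h hn with ⟨h4, p, q, hpq, hp, hq, h0⟩ | ⟨hc, -, hval⟩
    · have hb : ∀ k, w k = 0 ∨ w k = 4 ∨ w k = -4 := fun k => by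
        by_cases h1 : k = p
        · rw [h1]; omega
        by_cases h2 : k = q
        · rw [h2]; omega
        · exact Or.inl (h0 k h1 h2)
      refine hdiff ?_
      clear hdiff
      rcases hb pN with a | a | a <;> rcases hb pO with b | b | b <;> omega
    · obtain ⟨t, ht, htc⟩ : ∃ t : Finset GolayPt, t ⊆ c \ {pN, pO} ∧ t.card = 2 :=
        exists_subset_card_eq (by
          have := le_card_sdiff ({pN, pO} : Finset GolayPt) c
          have := card_le_two (a := (pN : GolayPt)) (b := pO)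
          have := hc.2
          omega)
      obtain ⟨k, l, hkl, rfl⟩ := card_eq_two.mp htc
      have hk := ht (mem_insert_self k _)
      have hl := ht (mem_insert_of_mem (mem_singleton_self l))
      simp only [mem_sdiff, mem_insert, mem_singleton, not_or] at hk hl
      have hvk := hval k; have hvl := hval l
      rw [if_pos hk.1] at hvk
      rw [if_pos hl.1] at hvl
      refine pair_outside hk.2 hl.2 hkl ?_ ?_ ?_
      · rw [hvk]; split <;> norm_num
      · rw [hvl]; split <;> norm_num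
      · rw [hvk, hvl]; split <;> split <;> norm_num
  · have hodd : ∀ i, w i % 2 = 1 := fun i => by rw [h.hx i]; omega
    have hsq : ∀ i, w i ^ 2 ≤ 9 ∧ (|w i| = 1 ∨ |w i| = 3) := by
      intro i
      have h1 : ∑ j ∈ univ.erase i, (1 : ℤ) ≤ ∑ j ∈ univ.erase i, w j ^ 2 := sum_le_sum fun j _ => by
        have := Int.one_le_abs (show w j ≠ 0 by have := hodd j; omega)
        nlinarith [sq_abs (w j)]
      rw [sum_const, card_erase_of_mem (mem_univ i), card_pts, nsmul_eq_mul, mul_one] at h1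
      have h2 := add_sum_erase univ (fun j => w j ^ 2) (mem_univ i)
      have hn' : ∑ j, w j ^ 2 = 32 := hn
      push_cast at h1
      have h3 : w i ^ 2 ≤ 9 := by omega
      refine ⟨h3, ?_⟩
      have : -3 ≤ w i ∧ w i ≤ 3 := by constructor <;> nlinarith
      have := hodd i
      have h5 : w i = -3 ∨ w i = -1 ∨ w i = 1 ∨ w i = 3 := by omega
      rcases h5 with e | e | e | e <;> rw [e] <;> norm_num
    obtain ⟨p, hp, hp1⟩ : ∃ p, |w p| = 3 ∧ ∀ k, k ≠ p → |w k| = 1 := by
      set T := univ.filter fun i => |w i| = 3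
      have e : ∀ i, w i ^ 2 = 1 + 8 * (if |w i| = 3 then 1 else 0) := fun i => by
        rcases (hsq i).2 with e | e <;> rw [← sq_abs, e] <;> norm_num
      have hn' : ∑ j, w j ^ 2 = 32 := hn
      simp only [e, sum_add_distrib, ← mul_sum, sum_boole, sum_const, card_pts, nsmul_eq_mul, mul_one] at hn'
      have hT : T.card = 1 := by
        have : (24 : ℤ) + 8 * (T.card : ℤ) = 32 := hn'
        omega
      obtain ⟨p, hp⟩ := card_eq_one.mp hT
      have hm : ∀ k, |w k| = 3 ↔ k = p := fun k => by simpa [T] using Finset.ext_iff.mp hp k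
      exact ⟨p, (hm p).mpr rfl, fun k hk => (hsq k).2.resolve_right fun h => hk ((hm k).mp h)⟩
    have hv3 : w p = 3 ∨ w p = -3 := (abs_eq (by norm_num : (0 : ℤ) ≤ 3)).mp hp
    have hv1 : ∀ k, k ≠ p → w k = 1 ∨ w k = -1 := fun k hk => (abs_eq zero_le_one).mp (hp1 k hk)
    rcases hd with hd | hd
    · -- the three is at a base point: use an octad away from both
      obtain ⟨m, hm, hmN, hmO⟩ := exists_octad_off
      have hoct : pts m ∈ octads :=
        mk_mem_octMasks.mp (by rw [mk_pts (lt_of_inCode (mem_octMasks.mp hm).1)]; exact hm)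
      have hN : pN ∉ pts m := fun e => hmN (mem_pts.mp e)
      have hO : pO ∉ pts m := fun e => hmO (mem_pts.mp e)
      have hpat : p = pN ∨ p = pO := by
        by_contra hne
        push Not at hne
        have := hv1 pN (Ne.symm hne.1)
        have := hv1 pO (Ne.symm hne.2)
        omega
      have hin : ∀ k ∈ pts m, w k = 1 ∨ w k = -1 := fun k hk => hv1 k fun e => by
        rcases hpat with e' | e'
        · exact hN (e' ▸ e ▸ hk)
        · exact hO (e' ▸ e ▸ hk)
      have hnd : ∀ k ∈ pts m, (w k = -1 ↔ k ∈ univ.filter fun i => w i % 4 = 3) := fun k hk => by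
        have := hin k hk
        simp only [mem_filter, mem_univ, true_and]; omega
      set P := (pts m).filter fun k => w k = 1
      have hP : Even P.card := by
        have h1 := even_card_inter hoct.1 (word_odd hw hodd)
        have h2 : P.card + (pts m ∩ univ.filter fun i => w i % 4 = 3).card = 8 := by
          rw [← hoct.2, ← card_filter_add_card_filter_not (fun k => w k = 1) (s := pts m)]
          refine congrArg (P.card + ·) (congrArg Finset.card ?_)
          ext k
          simp only [mem_inter, mem_filter]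
          constructor
          · rintro ⟨h3, h4⟩
            have := hin k h3
            exact ⟨h3, by have := h4.2; omega⟩
          · rintro ⟨h3, h4⟩
            have := hin k h3
            exact ⟨h3, mem_univ _, by omega⟩
        rw [Nat.even_iff] at h1 ⊢
        omega
      refine ⟨fun k => if k ∈ pts m then -2 * w k else 0, mem_lattice.mpr
        ⟨0, pts m, fun k => if k ∈ P then -1 else 0, hoct.1, fun k => ?_, ?_⟩, ?_, ?_, ?_⟩
      · simp only [indZ, P, mem_filter]
        by_cases hk : k ∈ pts m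
        · rcases hin k hk with e | e <;> simp [hk, e]
        · simp [hk]
      · rw [← sum_filter, filter_mem_eq_inter, univ_inter, sum_const, nsmul_eq_mul]
        obtain ⟨u, hu⟩ := hP
        rw [hu]; push_cast; omega
      · unfold Cfsg.sqNorm
        rw [sum_congr rfl fun k _ => show (if k ∈ pts m then -2 * w k else 0) ^ 2 = 4 * indZ (pts m) k by
          simp only [indZ]
          by_cases hk : k ∈ pts m
          · rcases hin k hk with e | e <;> simp [hk, e]
          · simp [hk], ← mul_sum, card_filter_indZ, hoct.2]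
        norm_num
      · rw [dot_pairVec]; simp [hN, hO]
      · rw [dotInt, sum_congr rfl fun k _ => show w k * (if k ∈ pts m then -2 * w k else 0) = -2 * indZ (pts m) k by
          simp only [indZ]
          by_cases hk : k ∈ pts m
          · rcases hin k hk with e | e <;> simp [hk, e]
          · simp [hk], ← mul_sum, card_filter_indZ, hoct.2]
        norm_num
    · by_cases hpN : p = pN
      · apply hdiff; subst hpN; have := hv1 pO hNO.symm; omega
      by_cases hpO : p = pO
      · apply hdiff; subst hpO; have := hv1 pN hNO; omega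
      obtain ⟨l, -, hl⟩ := exists_mem_notMem_of_card_lt_card (s := ({pN, pO, p} : Finset GolayPt)) (t := univ)
        (by rw [card_pts]; exact lt_of_le_of_lt card_le_three (by norm_num))
      simp only [mem_insert, mem_singleton, not_or] at hl
      exact pair_outside ⟨hpN, hpO⟩ ⟨hl.1, hl.2.1⟩ (Ne.symm hl.2.2)
        (by rcases hv3 with e | e <;> rw [e] <;> norm_num)
        (by rcases hv1 l hl.2.2 with e | e <;> rw [e] <;> norm_num)
        (by rw [hp, hp1 l hl.2.2]; norm_num)

/-- The base partner at inner product minus sixteen. -/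
def bR : leechLattice := ⟨-pairVec pN pI 1, neg_mem (pairVec_mem (Or.inl rfl))⟩

/-- The base partner at inner product minus eight. -/
def bS : GolayPt → ℤ := fun k => if k = pN then -3 else 1

theorem bS_ok : inL bS = true := by decide +kernel

theorem reduce (v w : leechLattice) (hv : Cfsg.sqNorm (v : GolayPt → ℤ) = 32)
    (hw : Cfsg.sqNorm (w : GolayPt → ℤ) = 32) {d : ℤ} (hd : d = -16 ∨ d = -8)
    (hvw : dotInt (v : GolayPt → ℤ) w = d) :
    ∃ g : Co0, g • v = bP ∧ ((g • w : leechLattice) : GolayPt → ℤ) pN = (d - 16) / 8 ∧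
      ((g • w : leechLattice) : GolayPt → ℤ) pO = (d + 16) / 8 := by
  have hP : Cfsg.sqNorm (bP : GolayPt → ℤ) = 32 := pairVec_norm (by decide) (Or.inl rfl)
  obtain ⟨g, hg⟩ := transitive32 v bP hv hP
  have h1 : dotInt (bP : GolayPt → ℤ) ((g • w : leechLattice) : GolayPt → ℤ) = d := by rw [← hg, dot_smul, hvw]
  obtain ⟨a, ha, han, hPa, hwa⟩ := exists_aux (g • w).2 ((g.2.2 w).trans hw) (by
    change dotInt (pairVec pN pO 1) _ = _ ∨ _ at *
    rcases hd with e | e <;> rw [e] at h1
    · exact Or.inl h1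
    · exact Or.inr h1)
  obtain ⟨h, hh1, hh2⟩ := to_pair bP ⟨a, ha⟩ hP han hPa
  refine ⟨h * g, by rw [mul_smul, hg, hh1], ?_⟩
  have e1 := dot_smul h bP (g • w)
  have e2 := dot_smul h (g • w) ⟨a, ha⟩
  rw [hh1, h1] at e1
  rw [hh2] at e2
  change _ = dotInt _ a at e2
  rw [hwa, dot_comm] at e2
  change dotInt (pairVec pN pO 1) _ = _ at e1
  change dotInt (pairVec pN pO (-1)) _ = _ at e2
  rw [dot_pairVec] at e1 e2
  rw [mul_smul]
  omega

theorem to_sixteen (v w : leechLattice) (hv : Cfsg.sqNorm (v : GolayPt → ℤ) = 32)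
    (hw : Cfsg.sqNorm (w : GolayPt → ℤ) = 32) (hvw : dotInt (v : GolayPt → ℤ) w = -16) :
    ∃ g : Co0, g • v = bP ∧ g • w = bR := by
  obtain ⟨g, hg, hN, hO⟩ := reduce v w hv hw (Or.inl rfl) hvw
  norm_num at hN hO
  set y : GolayPt → ℤ := ((g • w : leechLattice) : GolayPt → ℤ)
  obtain ⟨k, hkN, hk, h0⟩ := four_coord (g • w).2 ((g.2.2 w).trans hw) (Or.inr hN)
  have hkO : k ≠ pO := fun e => by rw [e] at hk; change y pO = 4 ∨ y pO = -4 at hk; omega
  obtain ⟨σ, hσ, e1, e2, e3⟩ := three_points pN pO k (by decide) hkN.symm hkO.symm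
  obtain ⟨c, hc, hcN, hcO, hcI, hkc⟩ : ∃ c ∈ code, pN ∉ c ∧ pO ∉ c ∧ (y k = 4 → pI ∈ c) ∧ (y k = -4 → pI ∉ c) := by
    rcases hk with h | h
    · obtain ⟨c, hc, a1, a2, a3⟩ := word_pI
      exact ⟨c, hc, a1, a2, fun _ => a3, fun h' => by change y k = 4 at h; omega⟩
    · exact ⟨∅, empty_mem_code, by simp, by simp, fun h' => by change y k = -4 at h; omega, fun _ => by simp⟩
  refine ⟨mono hσ hc * g, ?_, ?_⟩
  · rw [mul_smul, hg]
    refine Subtype.ext (funext fun i => ?_)
    obtain ⟨l, rfl⟩ : ∃ l, σ l = i := ⟨σ.symm i, σ.apply_symm_apply i⟩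
    simp only [mono_apply, signedPerm, Equiv.symm_apply_apply, bP, pairVec]
    rcases eq_or_ne l pN with rfl | h1
    · simp [e1, hcN]
    rcases eq_or_ne l pO with rfl | h2
    · simp [e2, hcO]
    · have f1 : σ l ≠ pN := fun e => h1 (σ.injective (e.trans e1.symm))
      have f2 : σ l ≠ pO := fun e => h2 (σ.injective (e.trans e2.symm))
      simp [h1, h2, f1, f2]
  · rw [mul_smul]
    refine Subtype.ext (funext fun i => ?_)
    obtain ⟨l, rfl⟩ : ∃ l, σ l = i := ⟨σ.symm i, σ.apply_symm_apply i⟩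
    simp only [mono_apply, signedPerm, Equiv.symm_apply_apply, bR, pairVec, Pi.neg_apply]
    show (if σ l ∈ c then -y l else y l) = _
    rcases eq_or_ne l pN with rfl | h1
    · simp [e1, hcN, hN]
    rcases eq_or_ne l k with rfl | h2
    · rcases hk with h | h <;> change y l = _ at h
      · simp [e3, hcI h, h]
      · simp [e3, hkc h, h]
    · have f1 : σ l ≠ pN := fun e => h1 (σ.injective (e.trans e1.symm))
      have f2 : σ l ≠ pI := fun e => h2 (σ.injective (e.trans e3.symm))
      have := h0 l h1 h2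
      change y l = 0 at this
      simp [this, f1, f2]

theorem to_eight (v w : leechLattice) (hv : Cfsg.sqNorm (v : GolayPt → ℤ) = 32)
    (hw : Cfsg.sqNorm (w : GolayPt → ℤ) = 32) (hvw : dotInt (v : GolayPt → ℤ) w = -8) :
    ∃ g : Co0, g • v = bP ∧ g • w = ⟨bS, mem_of_inL bS_ok⟩ := by
  classical
  obtain ⟨g, hg, hN, hO⟩ := reduce v w hv hw (Or.inr rfl) hvw
  norm_num at hN hO
  set y : GolayPt → ℤ := ((g • w : leechLattice) : GolayPt → ℤ)
  have hn : ∑ i, y i ^ 2 = 32 := (g.2.2 w).trans hw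
  have hodd : ∀ i, y i % 2 = 1 := by
    rcases parity_uniform (g • w).2 with h | h
    · have := h pN; change y pN % 2 = 0 at this; omega
    · exact h
  set d := univ.filter fun i => y i % 4 = 3
  have hd : d ∈ code := word_odd (g • w).2 hodd
  have hone : ∀ i, i ≠ pN → y i = 1 ∨ y i = -1 := by
    intro i hi
    have h1 : ∑ j ∈ (univ.erase pN).erase i, (1 : ℤ) ≤ ∑ j ∈ (univ.erase pN).erase i, y j ^ 2 :=
      sum_le_sum fun j _ => by
        have := Int.one_le_abs (show y j ≠ 0 by have := hodd j; omega)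
        nlinarith [sq_abs (y j)]
    rw [sum_const, card_erase_of_mem (mem_erase.mpr ⟨hi, mem_univ i⟩), card_erase_of_mem (mem_univ _), card_pts,
      nsmul_eq_mul, mul_one] at h1
    have h2 := add_sum_erase univ (fun j => y j ^ 2) (mem_univ pN)
    have h3 := add_sum_erase (univ.erase pN) (fun j => y j ^ 2) (mem_erase.mpr ⟨hi, mem_univ i⟩)
    push_cast at h1
    have h4 : y pN ^ 2 = 9 := by rw [hN]; norm_num
    have h5 : y i ^ 2 ≤ 1 := by omega
    have : -1 ≤ y i ∧ y i ≤ 1 := by constructor <;> nlinarith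
    have := hodd i
    omega
  refine ⟨mono (one_mem M24) hd * g, ?_, ?_⟩
  · rw [mul_smul, hg]
    refine Subtype.ext (funext fun i => ?_)
    simp only [mono_apply, signedPerm, show (1 : Equiv.Perm GolayPt).symm i = i from rfl, bP, pairVec]
    rcases eq_or_ne i pN with rfl | h1
    · simp [d, hN]
    rcases eq_or_ne i pO with rfl | h2
    · simp [d, hO]
    · simp [h1, h2]
  · rw [mul_smul]
    refine Subtype.ext (funext fun i => ?_)
    simp only [mono_apply, signedPerm, show (1 : Equiv.Perm GolayPt).symm i = i from rfl, bS]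
    show (if i ∈ d then -y i else y i) = _
    rcases eq_or_ne i pN with rfl | h1
    · simp [d, hN]
    · rcases hone i h1 with e | e <;> simp [d, e, h1]

theorem sixteen_pairs (v w w' : leechLattice) (hv : Cfsg.sqNorm (v : GolayPt → ℤ) = 32)
    (hw : Cfsg.sqNorm (w : GolayPt → ℤ) = 32) (hw' : Cfsg.sqNorm (w' : GolayPt → ℤ) = 32)
    (hd : dotInt (v : GolayPt → ℤ) w = -16) (hd' : dotInt (v : GolayPt → ℤ) w' = -16) :
    ∃ g : Co0, g • v = v ∧ g • w = w' := by
  obtain ⟨g, hg1, hg2⟩ := to_sixteen v w hv hw hd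
  obtain ⟨h, hh1, hh2⟩ := to_sixteen v w' hv hw' hd'
  exact ⟨h⁻¹ * g, by rw [mul_smul, hg1, ← hh1, inv_smul_smul], by rw [mul_smul, hg2, ← hh2, inv_smul_smul]⟩

theorem eight_pairs (v w w' : leechLattice) (hv : Cfsg.sqNorm (v : GolayPt → ℤ) = 32)
    (hw : Cfsg.sqNorm (w : GolayPt → ℤ) = 32) (hw' : Cfsg.sqNorm (w' : GolayPt → ℤ) = 32)
    (hd : dotInt (v : GolayPt → ℤ) w = -8) (hd' : dotInt (v : GolayPt → ℤ) w' = -8) :
    ∃ g : Co0, g • v = v ∧ g • w = w' := by
  obtain ⟨g, hg1, hg2⟩ := to_eight v w hv hw hd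
  obtain ⟨h, hh1, hh2⟩ := to_eight v w' hv hw' hd'
  exact ⟨h⁻¹ * g, by rw [mul_smul, hg1, ← hh1, inv_smul_smul], by rw [mul_smul, hg2, ← hh2, inv_smul_smul]⟩

theorem decompositions (u v v' : leechLattice) (hu : Cfsg.sqNorm (u : GolayPt → ℤ) = 48)
    (hv : Cfsg.sqNorm (v : GolayPt → ℤ) = 32 ∧ Cfsg.sqNorm ((u - v) : GolayPt → ℤ) = 32)
    (hv' : Cfsg.sqNorm (v' : GolayPt → ℤ) = 32 ∧ Cfsg.sqNorm ((u - v') : GolayPt → ℤ) = 32) :
    ∃ g : Co0, g • u = u ∧ g • v = v' := by
  have key : ∀ v : leechLattice, Cfsg.sqNorm (v : GolayPt → ℤ) = 32 →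
      Cfsg.sqNorm ((u : GolayPt → ℤ) - (v : GolayPt → ℤ)) = 32 →
      dotInt (v : GolayPt → ℤ) ((u - v : leechLattice) : GolayPt → ℤ) = -8 := fun v h1 h2 => by
    rw [sqNorm_sub, hu, h1] at h2
    rw [AddSubgroup.coe_sub, dot_sub_right, ← sqNorm_eq_dot, h1, dot_comm]
    omega
  obtain ⟨g, hg1, hg2⟩ := to_eight v (u - v) hv.1 (by simpa using hv.2) (key v hv.1 (by simpa using hv.2))
  obtain ⟨h, hh1, hh2⟩ := to_eight v' (u - v') hv'.1 (by simpa using hv'.2) (key v' hv'.1 (by simpa using hv'.2))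
  refine ⟨h⁻¹ * g, ?_, by rw [mul_smul, hg1, ← hh1, inv_smul_smul]⟩
  rw [mul_smul, inv_smul_eq_iff]
  calc g • u = g • (v + (u - v)) := by rw [add_sub_cancel]
    _ = h • (v' + (u - v')) := by rw [smul_add', smul_add', hg1, hg2, hh1, hh2]
    _ = h • u := by rw [add_sub_cancel]

end Cfsg.Lib.Leech
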