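import Cfsg.Agent.Leech.Pairs

/-!
Fixed points of elements of orders seven and eleven; functions constant on their cycles.
-/

namespace Cfsg.Lib.Leech

open Cfsg Cfsg.Lib.Golay Finset MulAction

theorem card_five_stab (e : Fin 5 ↪ GolayPt) : Nat.card (stabilizer M24 e) = 48 := by
  have htr : IsMultiplyPretransitive M24 GolayPt 5 := M24_five_transitive
  have horb : Nat.card (orbit M24 e) = 5100480 := by
    rw [Nat.card_congr (Equiv.setCongr (Set.eq_univ_of_forall fun f => exists_smul_eq M24 e f : orbit M24 e = Set.univ)),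
      Nat.card_congr (Equiv.Set.univ _), Nat.card_eq_fintype_card, Fintype.card_embedding_eq,
      Fintype.card_fin, Fintype.card_option, ZMod.card]
    decide
  have h := Nat.card_congr (orbitProdStabilizerEquivGroup M24 e)
  rw [Nat.card_prod, card_M24] at h
  erw [horb] at h
  omega

theorem fixed_le_four {σ : Equiv.Perm GolayPt} (hσ : σ ∈ M24) {p : ℕ} (hp : p.Prime) (hpo : orderOf σ = p)
    (hbig : 5 ≤ p) : (univ.filter fun i => σ i = i).card ≤ 4 := by
  by_contra hlt
  obtain ⟨s, hs, hs5⟩ := exists_subset_card_eq (show 5 ≤ (univ.filter fun i => σ i = i).card by omega)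
  set e : Fin 5 ↪ GolayPt :=
    (Fintype.equivFinOfCardEq (show Fintype.card ↥s = 5 by rw [Fintype.card_coe, hs5])).symm.toEmbedding.trans
      (Function.Embedding.subtype _)
  have he : (⟨σ, hσ⟩ : M24) ∈ stabilizer M24 e := by
    refine mem_stabilizer_iff.mpr (Function.Embedding.ext fun i => ?_)
    exact (mem_filter.mp (hs ((Fintype.equivFinOfCardEq (show Fintype.card ↥s = 5 by rw [Fintype.card_coe, hs5])).symm i).2)).2
  have hd := Subgroup.orderOf_dvd_natCard _ he
  rw [card_five_stab, ← orderOf_injective M24.subtype Subtype.val_injective] at hd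
  change orderOf σ ∣ 48 at hd
  rw [hpo] at hd
  have : p ≤ 48 := Nat.le_of_dvd (by norm_num) hd
  interval_cases p <;> first | omega | (norm_num at hp)

theorem invariant_mod {σ : Equiv.Perm GolayPt} {p : ℕ} [Fact p.Prime] (hpo : orderOf σ = p) (X : Finset GolayPt)
    (hX : ∀ i, σ i ∈ X ↔ i ∈ X) : X.card ≡ (X.filter fun i => σ i = i).card [MOD p] := by
  classical
  set τ : Equiv.Perm {i // i ∈ X} := σ.subtypePerm hX
  have hτ : τ ^ p ^ 1 = 1 := by
    rw [pow_one, show τ ^ p = _ from Equiv.Perm.subtypePerm_pow σ p hX]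
    exact Equiv.ext fun i => Subtype.ext (by simp [← hpo, pow_orderOf_eq_one])
  have h := Equiv.Perm.card_compl_support_modEq (n := 1) hτ
  rw [Fintype.card_coe] at h
  refine h.symm.trans (?_ : _ ≡ _ [MOD p])
  rw [← Finset.card_map (Function.Embedding.subtype _)]
  refine congrArg (· % p) (congrArg Finset.card (?_ : _ = _))
  ext i
  simp only [mem_map, mem_compl, Equiv.Perm.mem_support, not_not, Function.Embedding.subtype_apply, mem_filter]
  constructor
  · rintro ⟨⟨j, hj⟩, he, rfl⟩
    exact ⟨hj, congrArg Subtype.val he⟩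
  · rintro ⟨hi, he⟩
    exact ⟨⟨i, hi⟩, Subtype.ext he, rfl⟩

theorem const_off_two {π ρ : Equiv.Perm GolayPt} (hπ : π ∈ M24) (hρ : ρ ∈ M24) (hπo : orderOf π = 11)
    (hρo : orderOf ρ = 7) (hπn : π pN = pN) (b : GolayPt → ℤ)
    (hbπ : ∀ i, b (π i) = b i) (hbρ : ∀ i, b (ρ i) = b i) :
    ∃ k a, k ≠ pN ∧ ∀ i, i ≠ pN → i ≠ k → b i = a := by
  classical
  have h11 : Fact (Nat.Prime 11) := ⟨by norm_num⟩
  have h7 : Fact (Nat.Prime 7) := ⟨by norm_num⟩
  set P := univ.filter fun i => π i = i
  set R := univ.filter fun i => ρ i = i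
  have hP4 : P.card ≤ 4 := fixed_le_four hπ (by norm_num) hπo (by norm_num)
  have hR4 : R.card ≤ 4 := fixed_le_four hρ (by norm_num) hρo (by norm_num)
  have hPm := invariant_mod hπo univ fun i => by simp
  have hRm := invariant_mod hρo univ fun i => by simp
  rw [card_pts] at hPm hRm
  change 24 % 11 = P.card % 11 at hPm
  change 24 % 7 = R.card % 7 at hRm
  obtain ⟨k, hk⟩ := card_eq_one.mp (show (P.erase pN).card = 1 by
    rw [card_erase_of_mem (show pN ∈ P by simp [P, hπn])]; omega)
  have hkN : k ≠ pN := fun e => by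
    have := (Finset.ext_iff.mp hk k).mpr (mem_singleton_self k)
    simp [e] at this
  have hPe : ∀ i, π i = i ↔ i = pN ∨ i = k := fun i => by
    have := Finset.ext_iff.mp hk i
    simp only [P, mem_erase, mem_filter, mem_univ, true_and, mem_singleton] at this
    by_cases hi : i = pN
    · simp [hi, hπn]
    · simp only [hi, ne_eq, not_false_eq_true, true_and, false_or] at this ⊢; exact this
  obtain ⟨i₀, -, hi₀⟩ := exists_mem_notMem_of_card_lt_card (s := ({pN, k} : Finset GolayPt)) (t := univ)
    (by rw [card_pts]; exact lt_of_le_of_lt card_le_two (by norm_num))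
  simp only [mem_insert, mem_singleton, not_or] at hi₀
  refine ⟨k, b i₀, hkN, fun i hiN hik => ?_⟩
  by_contra hne
  set X := univ.filter fun j => b j = b i₀
  set D := X \ {pN, k}
  have h1 := invariant_mod hπo D fun j => by
    simp only [D, X, mem_sdiff, mem_filter, mem_univ, true_and, mem_insert, mem_singleton, hbπ]
    rw [← hPe, ← hPe, π.injective.eq_iff]
  have h1' : (D.filter fun j => π j = j).card = 0 := card_eq_zero.mpr (filter_eq_empty_iff.mpr fun j hj e => by
    simp only [D, mem_sdiff, mem_insert, mem_singleton] at hj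
    exact hj.2 ((hPe j).mp e))
  rw [h1', Nat.ModEq, Nat.zero_mod] at h1
  have hpos : 1 ≤ D.card := card_pos.mpr ⟨i₀, by simp [D, X, hi₀.1, hi₀.2]⟩
  have hlt : D.card ≤ 21 := by
    have : D ⊆ ((univ.erase pN).erase k).erase i := fun j hj => by
      simp only [D, X, mem_sdiff, mem_filter, mem_univ, true_and, mem_insert, mem_singleton, not_or] at hj
      simp only [mem_erase, mem_univ, and_true]
      exact ⟨fun e => hne (e ▸ hj.1), hj.2.2, hj.2.1⟩
    refine (card_le_card this).trans (le_of_eq ?_)
    rw [card_erase_of_mem (by simp [hiN, hik]), card_erase_of_mem (by simp [hkN]), card_erase_of_mem (mem_univ _),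
      card_pts]
  have h2 := invariant_mod hρo X fun j => by simp [X, hbρ]
  have h2' : (X.filter fun j => ρ j = j).card ≤ R.card := card_le_card fun j hj => by
    simp only [R, mem_filter, mem_univ, true_and] at hj ⊢; exact hj.2
  have h3 : D.card ≤ X.card ∧ X.card ≤ D.card + 2 := by
    refine ⟨card_le_card sdiff_subset, ?_⟩
    have := le_card_sdiff ({pN, k} : Finset GolayPt) X
    have := card_le_two (a := (pN : GolayPt)) (b := k)
    show X.card ≤ (X \ {pN, k}).card + 2
    omega
  rw [Nat.ModEq] at h2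
  clear_value D X P R
  omega

end Cfsg.Lib.Leech
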