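import Cfsg.Agent.Leech.Pairs
import Cfsg.Agent.Leech.M24Fixed
import Cfsg.Agent.Leech.Triples
import Cfsg.Agent.Leech.FrameStab
import Cfsg.Agent.Leech.Index
import Cfsg.Agent.Golay.CodeFacts

/-!
Subgroups of the lattice modulo two that are invariant under the stabiliser of a class.
-/

namespace Cfsg.Lib.Leech

open Cfsg Cfsg.Lib.Golay Finset

/-- The coordinates at which an integer vector is odd. -/
def oddSet (z : GolayPt → ℤ) : Finset GolayPt := univ.filter fun i => z i % 2 = 1

/-- Four times an integer vector. -/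
def four (z : GolayPt → ℤ) : GolayPt → ℤ := fun i => 4 * z i

theorem mem_oddSet {z : GolayPt → ℤ} {i : GolayPt} : i ∈ oddSet z ↔ z i % 2 = 1 := by
  simp [oddSet]

theorem four_add (a b : GolayPt → ℤ) : four (a + b) = four a + four b := by
  funext i; simp [four, mul_add]

theorem four_mem {z : GolayPt → ℤ} (hz : (∑ i, z i) % 2 = 0) : four z ∈ leechLattice :=
  mem_lattice.mpr ⟨0, ∅, z, empty_mem_code, fun i => by simp [four, indZ], hz⟩

theorem even_oddSet {z : GolayPt → ℤ} (hz : (∑ i, z i) % 2 = 0) : Even (oddSet z).card := by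
  have h : ∀ i, z i = indZ (oddSet z) i + 2 * (z i / 2) := fun i => by
    simp only [mem_oddSet, indZ]; split <;> omega
  rw [sum_congr rfl fun i _ => h i, sum_add_distrib, card_filter_indZ, ← mul_sum] at hz
  rw [Nat.even_iff]; omega

theorem ind_even {e : Finset GolayPt} (he : Even e.card) : (∑ i, indZ e i) % 2 = 0 := by
  rw [card_filter_indZ]; obtain ⟨k, hk⟩ := he; omega

theorem sum_ite (i : GolayPt) (a : ℤ) : ∑ k, (if k = i then a else 0) = a := by
  rw [sum_ite_eq', if_pos (mem_univ _)]

theorem four_diff_pN {z : GolayPt → ℤ} (hz : (∑ i, z i) % 2 = 0) :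
    ∃ w ∈ leechLattice, ∃ k : ℤ, four z = four (indZ (oddSet z)) + (2 : ℤ) • w + k • (e8 pN : GolayPt → ℤ) := by
  set w : GolayPt → ℤ := fun i => z i / 2
  refine ⟨four (fun i => w i - (∑ j, w j) * if i = pN then 1 else 0), four_mem (by
    rw [sum_sub_distrib, ← mul_sum, sum_ite]; omega), ∑ j, w j, funext fun i => ?_⟩
  simp only [four, w, Pi.add_apply, Pi.smul_apply, smul_eq_mul, indZ, oddSet, Finset.mem_filter, mem_univ, true_and, e8,
    Pi.single_apply]
  rcases eq_or_ne i pN with rfl | h
  · simp only [pN, if_true]; split_ifs <;> omega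
  · simp only [h, if_false]; split_ifs <;> omega

/-- Membership of a multiple of four depends only on the odd coordinates, given the frame class. -/
theorem four_iff {M : AddSubgroup (GolayPt → ℤ)} (h2 : ∀ v ∈ leechLattice, (2 : ℤ) • v ∈ M)
    (h8 : (e8 pN : GolayPt → ℤ) ∈ M) {z : GolayPt → ℤ} (hz : (∑ i, z i) % 2 = 0) :
    four z ∈ M ↔ four (indZ (oddSet z)) ∈ M := by
  obtain ⟨w, hw, k, he⟩ := four_diff_pN hz
  rw [he]
  exact ⟨fun h => (M.add_mem_cancel_right (h2 w hw)).mp ((M.add_mem_cancel_right (M.zsmul_mem h8 k)).mp h),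
    fun h => add_mem (add_mem h (h2 w hw)) (M.zsmul_mem h8 k)⟩

theorem four_code {c : Finset GolayPt} (hc : c ∈ code) :
    ∃ w ∈ leechLattice, four (indZ c) = (2 : ℤ) • w :=
  ⟨fun i => 2 * indZ c i, mem_lattice.mpr ⟨0, c, 0, hc, fun i => by simp, by simp⟩,
    funext fun i => by simp [four]; ring⟩

theorem oddSet_ind (e : Finset GolayPt) : oddSet (indZ e) = e := by
  ext i; simp only [mem_oddSet, indZ]; split <;> simp_all

theorem oddSet_add (a b : GolayPt → ℤ) : oddSet (a + b) = symmDiff (oddSet a) (oddSet b) := by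
  ext i; simp only [oddSet, Finset.mem_filter, mem_univ, true_and, mem_symmDiff, Pi.add_apply]; omega

theorem code_near (e : Finset GolayPt) : ∃ c ∈ code, (symmDiff e c).card ≤ 4 := by
  rcases coset_dichotomy golayCode_packing (ind e) with ⟨u, hu, h3⟩ | ⟨-, -, hcov⟩
  · have h := (hu.ge (Set.mem_singleton u))
    refine ⟨support₂ (u - ind e), support₂_mem_supports.mpr h.1, ?_⟩
    rw [support₂_sub, support₂_ind, symmDiff_comm e, symmDiff_symmDiff_cancel_right, ← hammingNorm_eq]
    exact h.2
  · obtain ⟨u, hu, h4, -⟩ := hcov pN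
    refine ⟨support₂ (u - ind e), support₂_mem_supports.mpr hu, ?_⟩
    rw [support₂_sub, support₂_ind, symmDiff_comm e, symmDiff_symmDiff_cancel_right, ← hammingNorm_eq]
    exact h4

theorem odd_meet_ok : (codeMasks.any fun m => pc (m &&& Golay.mk {pN}) % 2 == 1) = true ∧
    (codeMasks.any fun m => pc (m &&& Golay.mk {pN, pO}) % 2 == 1) = true ∧
    (codeMasks.any fun m => pc (m &&& Golay.mk {pN, pO, pI}) % 2 == 1) = true ∧
    (codeMasks.any fun m => pc (m &&& Golay.mk {pN, pO, pI, pJ}) % 2 == 1) = true := by decide +kernel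

theorem pts_and (m : ℕ) (s : Finset GolayPt) : (pts (m &&& mk s)) = pts m ∩ s := by
  ext p; simp [mem_pts, Nat.testBit_and]

theorem exists_of_any {f : ℕ → Bool} (h : codeMasks.any f = true) :
    ∃ m, pts m ∈ code ∧ m < 2 ^ 24 ∧ f m = true := by
  obtain ⟨m, hm, hf⟩ := List.any_eq_true.mp h
  have hc := mem_codeMasks.mp hm
  exact ⟨m, (mem_supports_iff _).mpr (by rwa [mk_pts (lt_of_inCode hc)]), lt_of_inCode hc, hf⟩

theorem mem_code_smul {σ : Equiv.Perm GolayPt} (hσ : σ ∈ M24) {c : Finset GolayPt} (hc : c ∈ code) :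
    (univ.filter fun i => σ i ∈ c) ∈ code := by
  have h := perm_mem hσ (mem_lattice.mpr ⟨0, c, 0, hc, fun i => rfl, by simp⟩ :
    (fun i => 0 + 2 * indZ c i + 4 * (0 : GolayPt → ℤ) i) ∈ leechLattice)
  convert word_even h (fun i => by simp only [indZ]; split <;> simp) using 1
  ext i
  rw [Finset.mem_filter, Finset.mem_filter]
  simp only [mem_univ, true_and, indZ, Pi.zero_apply]
  split <;> simp_all

theorem odd_meet {u : Finset GolayPt} (h0 : u.Nonempty) (h4 : u.card ≤ 4) :
    ∃ c ∈ code, (c ∩ u).card % 2 = 1 := by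
  classical
  -- move the set to standard position
  obtain ⟨σ, hσ, b, hb, hbu⟩ : ∃ σ ∈ M24, ∃ b : List GolayPt,
      (b = [pN] ∨ b = [pN, pO] ∨ b = [pN, pO, pI] ∨ b = [pN, pO, pI, pJ]) ∧ ∀ i, i ∈ u ↔ σ i ∈ b := by
    have hinj : ∀ (σ : Equiv.Perm GolayPt) (i j : GolayPt), σ i = σ j ↔ i = j := fun σ i j => σ.injective.eq_iff
    rcases (show u.card = 1 ∨ u.card = 2 ∨ u.card = 3 ∨ u.card = 4 by have := h0.card_pos; omega) with h | h | h | h
    · obtain ⟨a, rfl⟩ := card_eq_one.mp h
      obtain ⟨σ, hσ, e1⟩ := M24_pretransitive a pN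
      exact ⟨σ, hσ, _, Or.inl rfl, fun i => by simp [← e1, hinj]⟩
    · obtain ⟨a, c, hac, rfl⟩ := card_eq_two.mp h
      obtain ⟨σ, hσ, e1, e2⟩ := two_points a c pN pO hac (by decide)
      exact ⟨σ, hσ, _, Or.inr (Or.inl rfl), fun i => by simp [← e1, ← e2, hinj]⟩
    · obtain ⟨a, c, d, h1, h2, h3, rfl⟩ := card_eq_three.mp h
      obtain ⟨σ, hσ, e1, e2, e3⟩ := three_points a c d h1 h2 h3
      exact ⟨σ, hσ, _, Or.inr (Or.inr (Or.inl rfl)), fun i => by simp [← e1, ← e2, ← e3, hinj]⟩
    · obtain ⟨a, c, d, f, h1, h2, h3, h5, h6, h7, rfl⟩ := card_eq_four.mp h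
      obtain ⟨σ, hσ, e1, e2, e3, e5⟩ := four_points a c d f h1 h2 h3 h5 h6 h7
      exact ⟨σ, hσ, _, Or.inr (Or.inr (Or.inr rfl)), fun i => by simp [← e1, ← e2, ← e3, ← e5, hinj]⟩
  obtain ⟨m, hm, -, hodd⟩ : ∃ m, pts m ∈ code ∧ m < 2 ^ 24 ∧ (pts m ∩ b.toFinset).card % 2 = 1 := by
    obtain ⟨k1, k2, k3, k4⟩ := odd_meet_ok
    rcases hb with rfl | rfl | rfl | rfl
    · obtain ⟨m, a, b, c⟩ := exists_of_any k1
      exact ⟨m, a, b, by rw [pc_eq_card, pts_and] at c; simpa using c⟩
    · obtain ⟨m, a, b, c⟩ := exists_of_any k2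
      exact ⟨m, a, b, by rw [pc_eq_card, pts_and] at c; simpa using c⟩
    · obtain ⟨m, a, b, c⟩ := exists_of_any k3
      exact ⟨m, a, b, by rw [pc_eq_card, pts_and] at c; simpa using c⟩
    · obtain ⟨m, a, b, c⟩ := exists_of_any k4
      exact ⟨m, a, b, by rw [pc_eq_card, pts_and] at c; simpa using c⟩
  refine ⟨_, mem_code_smul hσ hm, ?_⟩
  rw [show ((univ.filter fun i => σ i ∈ pts m) ∩ u) = (pts m ∩ b.toFinset).map σ.symm.toEmbedding from ?_, card_map,
    hodd]
  ext i
  simp [hbu]

/-- The code is its own orthogonal. -/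
theorem code_self_dual {e : Finset GolayPt} (h : ∀ c ∈ code, Even (c ∩ e).card) : e ∈ code := by
  obtain ⟨c, hc, h4⟩ := code_near e
  rcases (symmDiff e c).eq_empty_or_nonempty with h0 | h0
  · rwa [symmDiff_eq_bot.mp h0]
  exfalso
  obtain ⟨d, hd, hodd⟩ := odd_meet h0 h4
  have he := h d hd
  have hdc := even_card_inter hd hc
  have hsplit : (d ∩ symmDiff e c).card + 2 * ((d ∩ e) ∩ (d ∩ c)).card = (d ∩ e).card + (d ∩ c).card := by
    rw [← card_symmDiff_add (c := d ∩ e) (d := d ∩ c)]
    congr 2
    ext i; simp only [mem_inter, mem_symmDiff]; tauto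
  rw [Nat.even_iff] at he hdc
  omega

theorem traces4 : (codeMasks.any fun m => m.testBit (pidx pN) && !m.testBit (pidx pO)) = true ∧
    (codeMasks.any fun m => !m.testBit (pidx pN) && m.testBit (pidx pO)) = true ∧
    (codeMasks.all fun d => d == 0 || d == 16777215 || (octMasks.any fun m => !m.testBit (pidx pN) && !m.testBit (pidx pO) &&
      (pc (m &&& d) == 2 || pc (m &&& d) == 4))) = true := by
  decide +kernel

/-- A word with some of the two base points adjoined is recognised by the words avoiding both. -/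
theorem perp_off {e : Finset GolayPt}
    (h : ∀ c ∈ code, pN ∉ c → pO ∉ c → Even (c ∩ e).card) :
    ∃ S : Finset GolayPt, S ⊆ {pN, pO} ∧ symmDiff e S ∈ code := by
  classical
  obtain ⟨k1, k2, -⟩ := traces4
  obtain ⟨mN, hmN, -, fN⟩ := exists_of_any k1
  obtain ⟨mO, hmO, -, fO⟩ := exists_of_any k2
  simp only [Bool.and_eq_true, Bool.not_eq_true'] at fN fO
  have a1 : pN ∈ pts mN := mem_pts.mpr fN.1
  have a2 : pO ∉ pts mN := by rw [mem_pts, fN.2]; simp
  have a3 : pN ∉ pts mO := by rw [mem_pts, fO.1]; simp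
  have a4 : pO ∈ pts mO := mem_pts.mpr fO.2
  have par : ∀ A B : Finset GolayPt, ((symmDiff A B).card) % 2 = (A.card + B.card) % 2 := fun A B => by
    rw [← card_symmDiff_add (c := A) (d := B)]; omega
  have dist : ∀ c A B : Finset GolayPt, c ∩ symmDiff A B = symmDiff (c ∩ A) (c ∩ B) := fun c A B => by
    ext i; by_cases a : i ∈ c <;> simp [mem_inter, mem_symmDiff, a]
  set S : Finset GolayPt := (if Even (pts mN ∩ e).card then ∅ else {pN}) ∪ (if Even (pts mO ∩ e).card then ∅ else {pO})
    with hS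
  have hSsub : S ⊆ {pN, pO} := by rw [hS]; split <;> split <;> simp
  refine ⟨S, hSsub, code_self_dual ?_⟩
  have hN : Even (pts mN ∩ symmDiff e S).card := by
    rw [Nat.even_iff, dist, par]
    have : (pts mN ∩ S).card = if Even (pts mN ∩ e).card then 0 else 1 := by
      rw [hS]; split <;> split <;> simp [inter_union_distrib_left, a1, a2]
    rw [this]; split <;> rename_i hh <;> rw [Nat.even_iff] at hh <;> omega
  have hO : Even (pts mO ∩ symmDiff e S).card := by
    rw [Nat.even_iff, dist, par]
    have : (pts mO ∩ S).card = if Even (pts mO ∩ e).card then 0 else 1 := by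
      rw [hS]; split <;> split <;> simp [inter_union_distrib_left, a3, a4]
    rw [this]; split <;> rename_i hh <;> rw [Nat.even_iff] at hh <;> omega
  intro c hc
  -- reduce to a word avoiding both base points
  set c1 := if pN ∈ c then symmDiff c (pts mN) else c with hc1
  set c2 := if pO ∈ c then symmDiff c1 (pts mO) else c1 with hc2
  have hc1' : c1 ∈ code := by rw [hc1]; split <;> [exact symmDiff_mem_supports hc hmN; exact hc]
  have hc2' : c2 ∈ code := by rw [hc2]; split <;> [exact symmDiff_mem_supports hc1' hmO; exact hc1']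
  have hN2 : pN ∉ c2 := by rw [hc2, hc1]; split <;> split <;> simp_all [mem_symmDiff]
  have hO2 : pO ∉ c2 := by rw [hc2, hc1]; split <;> split <;> simp_all [mem_symmDiff]
  have he2 : Even (c2 ∩ symmDiff e S).card := by
    have : c2 ∩ symmDiff e S = c2 ∩ e := by
      ext i
      simp only [mem_inter, mem_symmDiff]
      refine and_congr_right fun hi => ?_
      have : i ∉ S := fun hiS => by
        have := hSsub hiS
        simp only [mem_insert, mem_singleton] at this
        rcases this with rfl | rfl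
        · exact hN2 hi
        · exact hO2 hi
      simp [this]
    rw [this]; exact h c2 hc2' hN2 hO2
  have step : ∀ A B : Finset GolayPt, Even (B ∩ symmDiff e S).card →
      Even (symmDiff A B ∩ symmDiff e S).card → Even (A ∩ symmDiff e S).card := fun A B h1 h2 => by
    rw [inter_comm (symmDiff A B), dist, Nat.even_iff, par, inter_comm (symmDiff e S), inter_comm (symmDiff e S) B] at h2
    rw [Nat.even_iff] at h1 ⊢; omega
  have he1 : Even (c1 ∩ symmDiff e S).card := by
    rw [hc2] at he2; split at he2 <;> [exact step _ _ hO he2; exact he2]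
  rw [hc1] at he1; split at he1 <;> [exact step _ _ hN he1; exact he1]

/-- An octad off both base points meeting a proper word in two or four points. -/
theorem meet_witness {d : Finset GolayPt} (hd : d ∈ code) (h0 : d ≠ ∅) (h1 : d ≠ univ) :
    ∃ o ∈ code, o.card = 8 ∧ pN ∉ o ∧ pO ∉ o ∧ ((o ∩ d).card = 2 ∨ (o ∩ d).card = 4) := by
  have hm : Golay.mk d ∈ codeMasks := mem_codeMasks.mpr ((mem_supports_iff _).mp hd : inCode (Golay.mk d) = true)
  have h := List.all_eq_true.mp traces4.2.2 (Golay.mk d) hm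
  simp only [Bool.or_eq_true, beq_iff_eq] at h
  rcases h with (h | h) | h
  · exact absurd (by rw [← pts_mk d, h]; exact (by decide +kernel : pts 0 = ∅)) h0
  · exact absurd (by rw [← pts_mk d, h]; exact (by decide +kernel : pts 16777215 = univ)) h1
  · simp only [List.any_eq_true, Bool.and_eq_true, Bool.or_eq_true, Bool.not_eq_true', beq_iff_eq, pc_eq_card,
      pts_and] at h
    obtain ⟨m, hm, ⟨h2, h3⟩, h4⟩ := h
    refine ⟨pts m, (mem_supports_iff _).mpr (by
        have := (mem_octMasks.mp hm).1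
        rwa [mk_pts (lt_of_inCode this)]), (mem_octMasks.mp hm).2 ▸ (pc_eq_card m).symm ▸ rfl, ?_, ?_, h4⟩
    · rw [mem_pts, h2]; simp
    · rw [mem_pts, h3]; simp

theorem small_not_code {e : Finset GolayPt} (he : 0 < e.card) (he' : e.card ≤ 7) : e ∉ code := fun h => by
  have h8 := card_support_mem h
  omega

theorem two_ind_univ : ∃ w ∈ leechLattice,
    (fun _ => 2 : GolayPt → ℤ) = (e8 pN : GolayPt → ℤ) + (2 : ℤ) • w := by
  refine ⟨fun i => 1 - 4 * if i = pN then 1 else 0, ?_, funext fun i => ?_⟩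
  · refine mem_lattice.mpr ⟨1, ∅, fun i => -(if i = pN then 1 else 0), empty_mem_code, fun i => ?_, ?_⟩
    · simp [indZ]; ring
    · rw [sum_neg_distrib, sum_ite]; rfl
  · simp only [Pi.add_apply, Pi.smul_apply, smul_eq_mul, e8, Pi.single_apply]
    split <;> norm_num

/-- The difference of a vector and its image under sign changes. -/
theorem flip_sub {M : AddSubgroup (GolayPt → ℤ)} {x : GolayPt → ℤ} {c : Finset GolayPt} (hx : x ∈ M)
    (hfx : signedPerm 1 c x ∈ M) : (fun i => 2 * (indZ c i * x i)) ∈ M := by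
  convert sub_mem hx hfx using 1
  funext i
  simp only [Pi.sub_apply, signedPerm, indZ]
  rw [show (1 : Equiv.Perm GolayPt).symm i = i from rfl]
  split <;> ring

section pair

variable {M : AddSubgroup (GolayPt → ℤ)} (h2 : ∀ v ∈ leechLattice, (2 : ℤ) • v ∈ M) (hM : M ≤ leechLattice)
  (hinv : ∀ g : Co0, g • bP = bP → ∀ v : leechLattice,
    (v : GolayPt → ℤ) ∈ M → ((g • v : leechLattice) : GolayPt → ℤ) ∈ M)

include hM hinv in
theorem flip_inv {c : Finset GolayPt} (hc : c ∈ code) (hN : pN ∉ c) (hO : pO ∉ c) {x : GolayPt → ℤ} (hx : x ∈ M) :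
    signedPerm 1 c x ∈ M := by
  have hfix : mono (one_mem M24) hc • bP = bP := by
    refine Subtype.ext (funext fun k => ?_)
    simp only [mono_apply, signedPerm, bP, show (1 : Equiv.Perm GolayPt).symm k = k from rfl, pairVec]
    rcases eq_or_ne k pN with rfl | h
    · simp [hN]
    rcases eq_or_ne k pO with rfl | h'
    · simp [hO]
    · simp [h, h']
  have h := hinv _ hfix ⟨x, hM hx⟩ hx
  rwa [mono_apply] at h

include h2 hM hinv in
/-- A multiple of four outside the word classes forces the frame class. -/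
theorem frame_of_four {z : GolayPt → ℤ} (hz : four z ∈ M)
    {c : Finset GolayPt} (hc : c ∈ code) (hN : pN ∉ c) (hO : pO ∉ c) (hodd : (c ∩ oddSet z).card % 2 = 1) :
    (e8 pN : GolayPt → ℤ) ∈ M := by
  have hd := flip_sub hz (flip_inv hM hinv hc hN hO hz)
  set S := ∑ j, indZ c j * z j with hSdef
  have hS : S % 2 = 1 := by
    have e : ∀ j, indZ c j * z j = indZ (c ∩ oddSet z) j + 2 * (indZ c j * (z j / 2)) := fun j => by
      simp only [indZ, oddSet, mem_inter, Finset.mem_filter, mem_univ, true_and]; split <;> split <;> simp_all <;> omega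
    rw [hSdef, sum_congr rfl fun j _ => e j, sum_add_distrib, card_filter_indZ, ← mul_sum]; omega
  set w : GolayPt → ℤ := fun i => indZ c i * z i - if i = pN then S else 0
  have hw : four w ∈ leechLattice := four_mem (by rw [sum_sub_distrib, sum_ite, ← hSdef]; simp)
  have e : (fun i => 2 * (indZ c i * four z i)) = (2 : ℤ) • four w + S • (e8 pN : GolayPt → ℤ) := by
    funext i
    simp only [four, w, Pi.add_apply, Pi.smul_apply, smul_eq_mul, e8, Pi.single_apply]
    split <;> ring
  rw [e] at hd
  have hd' := (M.add_mem_cancel_left (h2 _ hw)).mp hd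
  obtain ⟨q, hq⟩ : ∃ q, S = 2 * q + 1 := ⟨S / 2, by omega⟩
  rw [hq, add_smul, mul_smul, one_smul] at hd'
  exact (M.add_mem_cancel_left (h2 _ (zsmul_mem (e8 pN).2 q))).mp hd'

include h2 hM hinv in
/-- A multiple of four with an odd set recognised off the word classes forces the frame class. -/
theorem frame_of_small {z : GolayPt → ℤ} (hz : four z ∈ M) (hN : pN ∉ oddSet z) (hO : pO ∉ oddSet z)
    (h0 : 0 < (oddSet z).card) (h4 : (oddSet z).card ≤ 4) : (e8 pN : GolayPt → ℤ) ∈ M := by
  classical
  by_cases h : ∀ c ∈ code, pN ∉ c → pO ∉ c → Even (c ∩ oddSet z).card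
  · exfalso
    obtain ⟨S, hS, hSc⟩ := perp_off h
    have hd : Disjoint (oddSet z) S := disjoint_right.mpr fun i hi hiz => by
      have := hS hi
      simp only [mem_insert, mem_singleton] at this
      rcases this with rfl | rfl <;> contradiction
    rw [hd.symmDiff_eq_sup, sup_eq_union] at hSc
    have h1 := card_le_card hS
    have := card_le_two (a := (pN : GolayPt)) (b := pO)
    exact small_not_code (by rw [card_union_of_disjoint hd]; omega) (by rw [card_union_of_disjoint hd]; omega) hSc
  · push Not at h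
    obtain ⟨c, hc, hcN, hcO, hodd⟩ := h
    exact frame_of_four h2 hM hinv hz hc hcN hcO (by rwa [Nat.not_even_iff] at hodd)

include h2 hM hinv in
theorem frame_of_class {x : GolayPt → ℤ} (hx : x ∈ M) (hbP : (bP : GolayPt → ℤ) ∈ M)
    (hne : ∀ w ∈ leechLattice, x ≠ (2 : ℤ) • w) (hne' : ∀ w ∈ leechLattice, x ≠ (bP : GolayPt → ℤ) + (2 : ℤ) • w) :
    (e8 pN : GolayPt → ℤ) ∈ M := by
  classical
  by_contra h8
  -- two sign changes bring a vector to the small case
  have even_case : ∀ {d : Finset GolayPt} {z : GolayPt → ℤ}, d ∈ code → d ≠ ∅ → d ≠ univ →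
      (fun i => 2 * indZ d i + 4 * z i) ∈ M → False := by
    intro d z hd hd0 hd1 hy
    obtain ⟨o, ho, -, hoN, hoO, hcard⟩ := meet_witness hd hd0 hd1
    have hdiff := flip_sub hy (flip_inv hM hinv ho hoN hoO hy)
    set u : GolayPt → ℤ := fun i => indZ o i * indZ d i + 2 * (indZ o i * z i)
    have e : (fun i => 2 * (indZ o i * (2 * indZ d i + 4 * z i))) = four u := by funext i; simp [four, u]; ring
    rw [e] at hdiff
    have hou : oddSet u = o ∩ d := by
      ext i
      simp only [mem_oddSet, u, indZ, mem_inter]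
      split <;> split <;> simp_all <;> omega
    refine h8 (frame_of_small h2 hM hinv hdiff ?_ ?_ (by rw [hou]; omega) (by rw [hou]; omega))
    · rw [hou]; simp [hoN]
    · rw [hou]; simp [hoO]
  have four_case : ∀ {z : GolayPt → ℤ}, four z ∈ M → (∑ i, z i) % 2 = 0 →
      ∃ w ∈ leechLattice, four z = (2 : ℤ) • w ∨ four z = (bP : GolayPt → ℤ) + (2 : ℤ) • w := by
    intro z hy hz
    have hperp : ∀ c ∈ code, pN ∉ c → pO ∉ c → Even (c ∩ oddSet z).card := fun c hc hcN hcO => by
      by_contra hodd
      exact h8 (frame_of_four h2 hM hinv hy hc hcN hcO (by rwa [Nat.not_even_iff] at hodd))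
    obtain ⟨S, hS, hSc⟩ := perp_off hperp
    have hSeven : Even S.card := by
      have h1 := card_symmDiff_add (c := oddSet z) (d := S)
      have h2 := even_oddSet hz
      have h3 : 4 ∣ _ := four_dvd_card hSc
      rw [Nat.even_iff] at h2 ⊢
      omega
    -- peel off the part at the base points
    have hS' : four (indZ S) = 0 ∨ four (indZ S) = (bP : GolayPt → ℤ) := by
      rcases S.eq_empty_or_nonempty with rfl | hne0
      · exact Or.inl (funext fun i => by simp [four, indZ])
      refine Or.inr ?_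
      obtain rfl : S = {pN, pO} := by
        refine eq_of_subset_of_card_le hS ?_
        have := card_le_two (a := (pN : GolayPt)) (b := pO)
        have := hne0.card_pos
        rw [Nat.even_iff] at hSeven
        omega
      funext i
      simp only [four, bP, pairVec, indZ, mem_insert, mem_singleton]
      rcases eq_or_ne i pN with rfl | h
      · simp
      · simp [h]
    have hz' : (∑ i, (z - indZ S) i) % 2 = 0 := by
      simp only [Pi.sub_apply, sum_sub_distrib, card_filter_indZ]
      rw [Nat.even_iff] at hSeven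
      omega
    have hodd : oddSet (z - indZ S) = symmDiff (oddSet z) S := by
      ext i
      simp only [mem_oddSet, mem_symmDiff, Pi.sub_apply, indZ]
      split <;> simp_all <;> omega
    obtain ⟨w0, hw0, k, he⟩ := four_diff_pN hz'
    rw [hodd] at he
    obtain ⟨v, hv, hve⟩ := four_code hSc
    have hsplit : four z = four (indZ S) + four (z - indZ S) := by
      rw [← four_add, add_sub_cancel]
    rw [he, hve] at hsplit
    obtain ⟨q, rfl | rfl⟩ : ∃ q, k = 2 * q ∨ k = 2 * q + 1 := ⟨k / 2, by omega⟩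
    · refine ⟨v + w0 + q • (e8 pN : GolayPt → ℤ), add_mem (add_mem hv hw0) (zsmul_mem (e8 pN).2 q), ?_⟩
      rcases hS' with h | h <;> rw [h] at hsplit
      · exact Or.inl (by rw [hsplit, zero_add, mul_smul, smul_add, smul_add])
      · exact Or.inr (by rw [hsplit, mul_smul, smul_add, smul_add])
    · exfalso
      rw [add_smul, mul_smul, one_smul] at hsplit
      have hM' : ∀ a ∈ M, a + ((2 : ℤ) • v + (2 : ℤ) • w0 + ((2 : ℤ) • q • (e8 pN : GolayPt → ℤ) + (e8 pN : GolayPt → ℤ))) ∈ M → False :=
        fun a ha h => h8 ((M.add_mem_cancel_left (h2 _ (zsmul_mem (e8 pN).2 q))).mp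
          ((M.add_mem_cancel_left (add_mem (h2 _ hv) (h2 _ hw0))).mp ((M.add_mem_cancel_left ha).mp h)))
      rcases hS' with h | h <;> rw [h] at hsplit
      · exact hM' 0 (zero_mem _) (hsplit ▸ hy)
      · exact hM' _ hbP (hsplit ▸ hy)
  obtain ⟨d, z, hd | hd⟩ := mem_lattice_normal.mp (hM hx)
  · have ex : x = fun i => 2 * indZ d i + 4 * z i := funext fun i => by rw [hd.hx i]; ring
    by_cases hd0 : d = ∅
    · subst hd0
      have ex' : x = four z := by rw [ex]; funext i; simp [four, indZ]
      obtain ⟨w, hw, h | h⟩ := four_case (ex' ▸ hx) hd.hz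
      · exact hne w hw (ex'.trans h)
      · exact hne' w hw (ex'.trans h)
    by_cases hd1 : d = univ
    · -- the all-two vector lies in the frame class
      subst hd1
      obtain ⟨w, hw, he⟩ := two_ind_univ
      set z' : GolayPt → ℤ := z + fun i => if i = pN then 2 else 0
      have hz' : (∑ i, z' i) % 2 = 0 := by
        simp only [z', Pi.add_apply, sum_add_distrib, sum_ite]
        have := hd.hz; omega
      have ex' : x - (2 : ℤ) • w = four z' := by
        rw [ex]; funext i
        have := congrFun he i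
        simp only [Pi.add_apply, Pi.smul_apply, smul_eq_mul, e8, Pi.single_apply] at this
        simp only [Pi.sub_apply, Pi.smul_apply, smul_eq_mul, four, z', Pi.add_apply, indZ, mem_univ, if_true]
        split_ifs at this ⊢ <;> omega
      obtain ⟨u, hu, h | h⟩ := four_case (ex' ▸ sub_mem hx (h2 w hw)) hz'
      · exact hne (u + w) (add_mem hu hw) (by rw [smul_add, ← h, ← ex']; abel)
      · exact hne' (u + w) (add_mem hu hw) (by rw [smul_add, ← add_assoc, ← h, ← ex']; abel)
    exact even_case hd.hc hd0 hd1 (ex ▸ hx)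
  · obtain ⟨m, hm, hmN, hmO⟩ := exists_octad_off
    have hc : pts m ∈ code := (mem_supports_iff _).mpr (by
      have := (mem_octMasks.mp hm).1
      rwa [mk_pts (lt_of_inCode this)])
    have hcN : pN ∉ pts m := fun e => hmN (mem_pts.mp e)
    have hcO : pO ∉ pts m := fun e => hmO (mem_pts.mp e)
    have hdiff := flip_sub hx (flip_inv hM hinv hc hcN hcO hx)
    refine even_case (z := fun i => indZ (pts m) i * indZ d i + 2 * (indZ (pts m) i * z i)) hc ?_ ?_ ?_
    · intro h
      have := (mem_octMasks.mp hm).2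
      simp [pc_eq_card, h] at this
    · exact fun h => hcN (h ▸ mem_univ _)
    · convert hdiff using 1
      funext i
      rw [hd.hx i]; ring

include h2 hM hinv in
/-- An invariant subgroup with a further class contains the short vectors orthogonal to the base vector. -/
theorem short_perp_mem {x : GolayPt → ℤ} (hx : x ∈ M) (hbP : (bP : GolayPt → ℤ) ∈ M)
    (hne : ∀ w ∈ leechLattice, x ≠ (2 : ℤ) • w) (hne' : ∀ w ∈ leechLattice, x ≠ (bP : GolayPt → ℤ) + (2 : ℤ) • w)
    (w : leechLattice) (hw : Cfsg.sqNorm (w : GolayPt → ℤ) = 32) (hd : dotInt (bP : GolayPt → ℤ) w = 0) :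
    (w : GolayPt → ℤ) ∈ M := by
  have hQ : (bQ : GolayPt → ℤ) ∈ M := by
    have e : (bQ : GolayPt → ℤ) = (e8 pN : GolayPt → ℤ) - (bP : GolayPt → ℤ) := funext fun k => by
      simp only [bP, bQ, Pi.sub_apply, pairVec, e8, Pi.single_apply]; split_ifs <;> ring
    rw [e]
    exact sub_mem (frame_of_class h2 hM hinv hx hbP hne hne') hbP
  obtain ⟨g, g1, g2⟩ := orth_pairs bP bQ w (pairVec_norm (by decide) (Or.inl rfl))
    (pairVec_norm (by decide) (Or.inr rfl)) hw (by
      show dotInt (pairVec pN pO 1) (pairVec pN pO (-1)) = 0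
      rw [dot_pairVec]; simp [pairVec]) hd
  have := hinv g g1 bQ hQ
  rwa [g2] at this

end pair

theorem perp_witness_ok : ∃ m ∈ octMasks, m.testBit (pidx pI) = true ∧ m.testBit (pidx pJ) = false ∧
    m.testBit (pidx pN) = false ∧ m.testBit (pidx pO) = false := by decide +kernel

/-- Two short vectors orthogonal to the base vector with an odd product. -/
theorem perp_odd : ∃ a b : leechLattice, Cfsg.sqNorm (a : GolayPt → ℤ) = 32 ∧ Cfsg.sqNorm (b : GolayPt → ℤ) = 32 ∧
    dotInt (bP : GolayPt → ℤ) a = 0 ∧ dotInt (bP : GolayPt → ℤ) b = 0 ∧ dotInt (a : GolayPt → ℤ) b = 8 := by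
  classical
  obtain ⟨m, hm, hI, hJ, hN, hO⟩ := perp_witness_ok
  have hc : pts m ∈ code := (mem_supports_iff _).mpr (by
    have := (mem_octMasks.mp hm).1
    rwa [mk_pts (lt_of_inCode this)])
  have hn : Cfsg.sqNorm (fun i => 2 * indZ (pts m) i) = 32 := by
    unfold Cfsg.sqNorm
    rw [sum_congr rfl fun i _ => show (2 * indZ (pts m) i) ^ 2 = 4 * indZ (pts m) i by
      simp only [indZ]; split <;> norm_num, ← mul_sum, card_filter_indZ, (mem_octMasks.mp hm).2]
    norm_num
  refine ⟨⟨_, mem_lattice.mpr ⟨0, pts m, 0, hc, fun i => by simp, by simp⟩⟩,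
    ⟨pairVec pI pJ 1, pairVec_mem (Or.inl rfl)⟩, hn, pairVec_norm (by decide) (Or.inl rfl), ?_, ?_, ?_⟩
  · show dotInt (pairVec pN pO 1) _ = 0
    rw [dot_pairVec]; simp +decide [indZ, mem_pts, hN, hO]
  · show dotInt (pairVec pN pO 1) (pairVec pI pJ 1) = 0
    rw [dot_pairVec]; simp +decide [pairVec]
  · show dotInt _ (pairVec pI pJ 1) = 8
    rw [dot_comm, dot_pairVec]; simp +decide [indZ, mem_pts, hI, hJ]

theorem link_witness_ok : ∃ m ∈ octMasks, m.testBit (pidx pI) = true ∧ m.testBit (pidx pJ) = false ∧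
    m.testBit (pidx pN) = true ∧ m.testBit (pidx pO) = true := by decide +kernel

theorem sign_of_dot {g : Co0} {a b : leechLattice} {s t : ℤ} (hs : s = 1 ∨ s = -1) (ht : t = 1 ∨ t = -1)
    (ha : g • a = s • a) (hb : g • b = t • b) (hd : dotInt (a : GolayPt → ℤ) b ≠ 0) : s = t := by
  have h := dot_smul g a b
  rw [ha, hb] at h
  have e : dotInt ((s • a : leechLattice) : GolayPt → ℤ) ((t • b : leechLattice) : GolayPt → ℤ)
      = (s * t) * dotInt (a : GolayPt → ℤ) b := by
    simp only [dotInt, AddSubgroup.coe_zsmul, Pi.smul_apply, smul_eq_mul, mul_sum]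
    exact sum_congr rfl fun i _ => by ring
  rw [e] at h
  rcases hs with rfl | rfl <;> rcases ht with rfl | rfl <;> simp at h ⊢ <;> omega

/-- An automorphism trivial modulo two on the short vectors orthogonal to a fixed class is central. -/
theorem perp_faithful (g : Co0) (hg : g • bP = bP ∨ g • bP = -bP)
    (hW : ∀ w : leechLattice, Cfsg.sqNorm (w : GolayPt → ℤ) = 32 → dotInt (bP : GolayPt → ℤ) w = 0 →
      ∃ z : leechLattice, g • w = w + (2 : ℤ) • z ∨ g • w = w + bP + (2 : ℤ) • z) :
    g ∈ Subgroup.center Co0 := by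
  classical
  have hbn : Cfsg.sqNorm (bP : GolayPt → ℤ) = 32 := pairVec_norm (by decide) (Or.inl rfl)
  have hs : ∀ w : leechLattice, Cfsg.sqNorm (w : GolayPt → ℤ) = 32 → dotInt (bP : GolayPt → ℤ) w = 0 →
      ∃ s : ℤ, (s = 1 ∨ s = -1) ∧ g • w = s • w := by
    intro w hw hd
    have hgw : Cfsg.sqNorm ((g • w : leechLattice) : GolayPt → ℤ) = 32 := (g.2.2 w).trans hw
    obtain ⟨z, hz | hz⟩ := hW w hw hd
    · obtain ⟨-, h⟩ := s5551 ((g • w : leechLattice) : GolayPt → ℤ) w w.2 (by omega) (by omega)
        ⟨z, z.2, by rw [hz]; simp [two_smul]⟩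
      rcases h (by omega) with e | e
      · exact ⟨1, Or.inl rfl, by rw [one_smul]; exact Subtype.ext e.symm⟩
      · exact ⟨-1, Or.inr rfl, Subtype.ext (by rw [AddSubgroup.coe_zsmul, neg_one_zsmul, e, neg_neg])⟩
    · exfalso
      have hn : Cfsg.sqNorm ((w + bP : leechLattice) : GolayPt → ℤ) = 64 := by
        rw [AddSubgroup.coe_add, sqNorm_add, hw, hbn, dot_comm, hd]; norm_num
      obtain ⟨h, -⟩ := s5551 ((g • w : leechLattice) : GolayPt → ℤ) ((w + bP : leechLattice) : GolayPt → ℤ)
        (w + bP).2 (by omega) (by omega) ⟨z, z.2, by rw [hz]; simp [two_smul]⟩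
      omega
  let P : GolayPt → GolayPt → ℤ → leechLattice := fun i j t =>
    if h : t = 1 ∨ t = -1 then ⟨pairVec i j t, pairVec_mem h⟩ else 0
  have hPv : ∀ i j t, (t = 1 ∨ t = -1) → (P i j t : GolayPt → ℤ) = pairVec i j t := fun i j t h => by simp [P, h]
  have hP : ∀ i j t, (t = 1 ∨ t = -1) → i ≠ j → (i ≠ pN ∧ i ≠ pO) → (j ≠ pN ∧ j ≠ pO) →
      ∃ s : ℤ, (s = 1 ∨ s = -1) ∧ g • P i j t = s • P i j t := fun i j t ht h hi hj =>
    hs _ (by rw [hPv i j t ht]; exact pairVec_norm h ht) (by
      rw [hPv i j t ht]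
      show dotInt (pairVec pN pO 1) _ = 0
      rw [dot_pairVec]; simp [pairVec, hi.1.symm, hi.2.symm, hj.1.symm, hj.2.symm])
  have hdotP : ∀ i j k t u, (t = 1 ∨ t = -1) → (u = 1 ∨ u = -1) → i ≠ j → i ≠ k → j ≠ k →
      dotInt (P i j t : GolayPt → ℤ) (P i k u : GolayPt → ℤ) ≠ 0 := by
    intro i j k t u ht hu h1 h2 h3
    rw [hPv i j t ht, hPv i k u hu, dot_pairVec]
    simp [pairVec, h1, h2, h1.symm, h3]
  have hPsymm : ∀ i j, P i j 1 = P j i 1 := fun i j => Subtype.ext (by
    rw [hPv _ _ _ (Or.inl rfl), hPv _ _ _ (Or.inl rfl)]; funext k; simp only [pairVec]; ring)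
  obtain ⟨s, hs1, hsu⟩ := hP pI pJ 1 (Or.inl rfl) (by decide) (by decide) (by decide)
  have hall : ∀ i j t, (t = 1 ∨ t = -1) → i ≠ j → (i ≠ pN ∧ i ≠ pO) → (j ≠ pN ∧ j ≠ pO) → g • P i j t = s • P i j t := by
    intro i j t ht h hi hj
    obtain ⟨r, hr, hgr⟩ := hP i j t ht h hi hj
    obtain ⟨k, -, hk⟩ := exists_mem_notMem_of_card_lt_card (s := ({i, j, pI, pJ, pN, pO} : Finset GolayPt)) (t := univ)
      (by rw [card_pts]; exact lt_of_le_of_lt card_le_six (by norm_num))
    simp only [mem_insert, mem_singleton, not_or] at hk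
    obtain ⟨hki, hkj, hkI, hkJ, hkN, hkO⟩ := hk
    obtain ⟨q, hq, hgq⟩ := hP i k 1 (Or.inl rfl) (Ne.symm hki) hi ⟨hkN, hkO⟩
    have e1 : r = q := sign_of_dot hr hq hgr hgq (hdotP i j k t 1 ht (Or.inl rfl) h (Ne.symm hki) (Ne.symm hkj))
    obtain ⟨q', hq', hgq'⟩ := hP pI k 1 (Or.inl rfl) (Ne.symm hkI) (by decide) ⟨hkN, hkO⟩
    have e2 : q = q' := by
      by_cases hiI : i = pI
      · subst hiI
        exact sign_of_dot hq hq' hgq hgq' (by
          rw [← sqNorm_eq_dot, hPv _ _ _ (Or.inl rfl), pairVec_norm (Ne.symm hki) (Or.inl rfl)]; norm_num)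
      · rw [hPsymm i k] at hgq; rw [hPsymm pI k] at hgq'
        exact sign_of_dot hq hq' hgq hgq' (hdotP k i pI 1 1 (Or.inl rfl) (Or.inl rfl) hki hkI hiI)
    have e3 : q' = s := sign_of_dot hq' hs1 hgq' hsu (hdotP pI k pJ 1 1 (Or.inl rfl) (Or.inl rfl) (Ne.symm hkI)
      (by decide) hkJ)
    rw [hgr, e1, e2, e3]
  have h8 : ∀ i, i ≠ pN → i ≠ pO → g • e8 i = s • e8 i := by
    intro i h1 h2
    obtain ⟨j, -, hj⟩ := exists_mem_notMem_of_card_lt_card (s := ({i, pN, pO} : Finset GolayPt)) (t := univ)
      (by rw [card_pts]; exact lt_of_le_of_lt card_le_three (by norm_num))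
    simp only [mem_insert, mem_singleton, not_or] at hj
    have e : e8 i = P i j 1 + P i j (-1) := Subtype.ext (funext fun l => by
      simp only [AddSubgroup.coe_add, Pi.add_apply, hPv i j 1 (Or.inl rfl), hPv i j (-1) (Or.inr rfl), pairVec, e8,
        Pi.single_apply]
      split_ifs <;> ring)
    rw [e, smul_add', hall i j 1 (Or.inl rfl) (Ne.symm hj.1) ⟨h1, h2⟩ hj.2,
      hall i j (-1) (Or.inr rfl) (Ne.symm hj.1) ⟨h1, h2⟩ hj.2, smul_add]
  -- the partner of the base vector
  obtain ⟨m, hm, hI, hJ, hmN, hmO⟩ := link_witness_ok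
  have hc : pts m ∈ code := (mem_supports_iff _).mpr (by
    have := (mem_octMasks.mp hm).1
    rwa [mk_pts (lt_of_inCode this)])
  set w : leechLattice := ⟨fun i => 2 * indZ (pts m) i + 4 * (-(if i = pO then 1 else 0) - if i = pI then 1 else 0),
    mem_lattice.mpr ⟨0, pts m, fun i => -(if i = pO then 1 else 0) - if i = pI then 1 else 0, hc, fun i => by simp,
      by rw [sum_sub_distrib, sum_neg_distrib, sum_ite, sum_ite]; rfl⟩⟩ with hwdef
  have hwn : Cfsg.sqNorm (w : GolayPt → ℤ) = 32 := by
    unfold Cfsg.sqNorm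
    rw [sum_congr rfl fun i _ => show (w : GolayPt → ℤ) i ^ 2 = 4 * indZ (pts m) i by
      simp only [hwdef, indZ]
      rcases eq_or_ne i pO with rfl | h1
      · simp +decide [mem_pts, hmO]
      rcases eq_or_ne i pI with rfl | h2
      · simp +decide [mem_pts, hI]
      · simp only [h1, h2, if_false]; split <;> norm_num,
      ← mul_sum, card_filter_indZ, (mem_octMasks.mp hm).2]
    norm_num
  obtain ⟨a, ha, hga⟩ := hs w hwn (by
    show dotInt (pairVec pN pO 1) _ = 0
    rw [dot_pairVec]; simp +decide [hwdef, indZ, mem_pts, hmN, hmO])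
  have has : a = s := sign_of_dot ha hs1 hga hsu (by
    rw [dot_comm, hPv _ _ _ (Or.inl rfl), dot_pairVec]; simp +decide [hwdef, indZ, mem_pts, hI, hJ])
  obtain ⟨b, hb, hgb⟩ := hs bQ (pairVec_norm (by decide) (Or.inr rfl)) (by
    show dotInt (pairVec pN pO 1) (pairVec pN pO (-1)) = 0
    rw [dot_pairVec]; simp +decide [pairVec])
  have hbs : b = s := has ▸ sign_of_dot hb ha hgb hga (by
    show dotInt (pairVec pN pO (-1)) _ ≠ 0
    rw [dot_pairVec]; simp +decide [hwdef, indZ, mem_pts, hmN, hmO])
  subst hbs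
  obtain ⟨t, ht, hgt⟩ : ∃ t : ℤ, (t = 1 ∨ t = -1) ∧ g • bP = t • bP := by
    rcases hg with h | h
    · exact ⟨1, Or.inl rfl, by rw [h, one_smul]⟩
    · exact ⟨-1, Or.inr rfl, by rw [h, neg_one_zsmul]⟩
  have eN : e8 pN = bP + bQ := Subtype.ext (funext fun k => by
    simp only [bP, bQ, AddSubgroup.coe_add, Pi.add_apply, pairVec, e8, Pi.single_apply]; split_ifs <;> ring)
  have eO : e8 pO = bP - bQ := Subtype.ext (funext fun k => by
    simp only [bP, bQ, AddSubgroup.coe_sub, Pi.sub_apply, pairVec, e8, Pi.single_apply]; split_ifs <;> ring)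
  by_cases htb : t = b
  · subst htb
    have hall8 : ∀ i, g • e8 i = t • e8 i := by
      intro i
      rcases eq_or_ne i pN with rfl | h1
      · rw [eN, smul_add', hgt, hgb, smul_add]
      rcases eq_or_ne i pO with rfl | h2
      · rw [eO, sub_eq_add_neg, smul_add', smul_neg', hgt, hgb, smul_add, smul_neg]
      · exact h8 i h1 h2
    rcases ht with rfl | rfl
    · rw [show g = 1 from co0_ext fun v => by rw [eq_of_e8 hall8, one_smul, one_smul]]
      exact one_mem _
    · rw [show g = negOne from co0_ext fun v => by rw [eq_of_e8 hall8, negOne_apply, neg_one_zsmul]]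
      exact Subgroup.mem_center_iff.mpr fun g => (negOne_comm g).symm
  · -- otherwise the two base coordinates are exchanged with a change of sign
    exfalso
    have htb' : t = -b := by omega
    have hN : g • e8 pN = -(b • e8 pO) := by
      rw [eN, eO, smul_add', hgt, hgb, htb', neg_zsmul, smul_sub]; abel
    have hO : g • e8 pO = -(b • e8 pN) := by
      rw [eN, eO, sub_eq_add_neg, smul_add', smul_neg', hgt, hgb, htb', neg_zsmul, smul_add]; abel
    set u : leechLattice := ⟨bS, mem_of_inL bS_ok⟩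
    have himg : ∀ i, 8 * ((g • u : leechLattice) : GolayPt → ℤ) i
        = 8 * b * (if i = pN then -bS pO else if i = pO then -bS pN else bS i) := by
      intro i
      have h := congrArg (fun v => g • v) (eight_smul u)
      simp only [smul_zsmul', smul_sum'] at h
      have h' := congrFun (congrArg Subtype.val h) i
      simp only [AddSubgroup.coe_zsmul, Pi.smul_apply, smul_eq_mul, AddSubmonoidClass.coe_finsetSum,
        Finset.sum_apply] at h'
      rw [h']
      rw [sum_eq_single (if i = pN then pO else if i = pO then pN else i)]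
      · rcases eq_or_ne i pN with rfl | h1
        · rw [if_pos rfl, hO]; simp +decide [e8, u]; ring
        rcases eq_or_ne i pO with rfl | h2
        · rw [if_neg (by decide), if_pos rfl, hN]; simp +decide [e8, u]; ring
        · rw [if_neg h1, if_neg h2, h8 i h1 h2]; simp [h1, h2, e8, u]; ring
      · intro k _ hk
        rcases eq_or_ne k pN with rfl | k1
        · have : i ≠ pO := by rintro rfl; simp at hk
          rw [hN]; simp [e8, this]
        rcases eq_or_ne k pO with rfl | k2
        · have : i ≠ pN := by rintro rfl; simp at hk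
          rw [hO]; simp [e8, this]
        · have : i ≠ k := by rintro rfl; simp [k1, k2] at hk
          rw [h8 k k1 k2]; simp [e8, this]
      · simp
    have hval : ∀ i, ((g • u : leechLattice) : GolayPt → ℤ) i =
        b * (if i = pN then -1 else if i = pO then 3 else 1) := fun i => by
      have := himg i
      rcases eq_or_ne i pN with rfl | h1
      · simp +decide [bS] at this ⊢; rcases hb with rfl | rfl <;> omega
      rcases eq_or_ne i pO with rfl | h2
      · simp +decide [bS] at this ⊢; rcases hb with rfl | rfl <;> omega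
      · simp [bS, h1, h2] at this ⊢; rcases hb with rfl | rfl <;> omega
    have hword := word_odd (g • u).2 fun i => by
      rw [hval i]; rcases hb with rfl | rfl <;> split_ifs <;> norm_num
    rcases hb with rfl | rfl
    · refine small_not_code (e := {pN, pO}) (by simp) (by simp) ?_
      convert hword using 1
      ext i
      rw [Finset.mem_filter, hval i]
      simp only [mem_insert, mem_singleton, mem_univ, true_and]
      split_ifs <;> simp_all
    · refine small_not_code (e := {pN, pO}) (by simp) (by simp) ?_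
      convert compl_mem_supports hword using 1
      ext i
      rw [mem_compl, Finset.mem_filter, hval i]
      simp only [mem_insert, mem_singleton, mem_univ, true_and]
      split_ifs <;> simp_all

section frame

variable {M : AddSubgroup (GolayPt → ℤ)} (h2 : ∀ v ∈ leechLattice, (2 : ℤ) • v ∈ M) (hM : M ≤ leechLattice)
  (hinv : ∀ g ∈ monoGroup, ∀ v : leechLattice,
    (v : GolayPt → ℤ) ∈ M → ((g • v : leechLattice) : GolayPt → ℤ) ∈ M)
  (h8 : (e8 pN : GolayPt → ℤ) ∈ M)

include hM hinv in
theorem mono_inv {σ : Equiv.Perm GolayPt} {c : Finset GolayPt} (hσ : σ ∈ M24) (hc : c ∈ code) {x : GolayPt → ℤ}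
    (hx : x ∈ M) : signedPerm σ c x ∈ M := by
  have h := hinv _ (mono_mem_monoGroup hσ hc) ⟨x, hM hx⟩ hx
  rwa [mono_apply] at h

include h2 h8 in
theorem four_symmDiff {a b : Finset GolayPt} (ha : Even a.card) (hb : Even b.card) (hA : four (indZ a) ∈ M)
    (hB : four (indZ b) ∈ M) : four (indZ (symmDiff a b)) ∈ M := by
  have h := add_mem hA hB
  rw [← four_add] at h
  have hs : (∑ i, (indZ a + indZ b) i) % 2 = 0 := by
    simp only [Pi.add_apply, sum_add_distrib]
    have := ind_even ha; have := ind_even hb; omega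
  rw [four_iff h2 h8 hs, oddSet_add, oddSet_ind, oddSet_ind] at h
  exact h

include h2 hM hinv h8 in
/-- A multiple of four outside the word classes gives all pairs. -/
theorem pairs_of_four {e : Finset GolayPt} (he : Even e.card) (hM4 : four (indZ e) ∈ M) (hec : e ∉ code)
    {i j : GolayPt} (hij : i ≠ j) : pairVec i j 1 ∈ M := by
  classical
  obtain ⟨c, hc, h4⟩ := code_near e
  have hce : Even c.card := by obtain ⟨k, hk⟩ := four_dvd_card hc; exact ⟨2 * k, by omega⟩
  obtain ⟨w, hw, hwe⟩ := four_code hc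
  set f := symmDiff e c
  have hfM : four (indZ f) ∈ M := four_symmDiff h2 h8 he hce hM4 (hwe ▸ h2 w hw)
  have hf : Even f.card := by
    have := card_symmDiff_add (c := e) (d := c)
    change f.card + _ = _ at this
    rw [Nat.even_iff] at he hce ⊢; omega
  have hf0 : 0 < f.card := card_pos.mpr (nonempty_iff_ne_empty.mpr fun h => hec (by rw [symmDiff_eq_bot.mp h]; exact hc))
  have moved : ∀ {σ : Equiv.Perm GolayPt}, σ ∈ M24 → ∀ {g : Finset GolayPt}, four (indZ g) ∈ M →
      four (indZ (g.map σ.toEmbedding)) ∈ M := by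
    intro σ hσ g hg
    convert mono_inv hM hinv hσ empty_mem_code hg using 1
    funext k
    simp [signedPerm, four, indZ, Finset.mem_map_equiv]
  obtain ⟨a, b, hab, h2m⟩ : ∃ a b, a ≠ b ∧ four (indZ {a, b}) ∈ M := by
    rcases (show f.card = 2 ∨ f.card = 4 by rw [Nat.even_iff] at hf; omega) with h | h
    · obtain ⟨a, b, hab, he'⟩ := card_eq_two.mp h
      exact ⟨a, b, hab, he' ▸ hfM⟩
    · obtain ⟨a, b, p, q, h1, h3, h5, h6, h7, h9, he'⟩ := card_eq_four.mp h
      obtain ⟨r, -, hr⟩ := exists_mem_notMem_of_card_lt_card (s := ({a, b, p, q} : Finset GolayPt)) (t := univ)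
        (by rw [card_pts]; exact lt_of_le_of_lt card_le_four (by norm_num))
      simp only [mem_insert, mem_singleton, not_or] at hr
      obtain ⟨hra, hrb, hrp, hrq⟩ := hr
      obtain ⟨σ, hσ, s1, s2, s3, s4⟩ := four_points a b p q h1 h3 h5 h6 h7 h9
      obtain ⟨τ, hτ, t1, t2, t3, t4⟩ := four_points a b p r h1 h3 (Ne.symm hra) h6 (Ne.symm hrb) (Ne.symm hrp)
      have hμ := moved (mul_mem (inv_mem hτ) hσ) hfM
      have hmap : f.map (τ⁻¹ * σ).toEmbedding = {a, b, p, r} := by
        rw [he']
        simp [Equiv.Perm.inv_def, s1, s2, s3, s4, show τ.symm pN = a by rw [← t1, Equiv.symm_apply_apply],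
          show τ.symm pO = b by rw [← t2, Equiv.symm_apply_apply], show τ.symm pI = p by rw [← t3, Equiv.symm_apply_apply],
          show τ.symm pJ = r by rw [← t4, Equiv.symm_apply_apply]]
      rw [hmap] at hμ
      have hd := four_symmDiff h2 h8 hf (show Even ({a, b, p, r} : Finset GolayPt).card by
        rw [← hmap, card_map]; exact hf) hfM hμ
      refine ⟨q, r, Ne.symm hrq, ?_⟩
      convert hd using 3
      rw [he']
      ext k
      simp only [mem_symmDiff, mem_insert, mem_singleton]
      grind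
  obtain ⟨σ, hσ, s1, s2⟩ := two_points a b i j hab hij
  have := moved hσ h2m
  rw [Finset.map_insert, Finset.map_singleton, Equiv.coe_toEmbedding, s1, s2] at this
  convert this using 1
  funext k
  simp only [four, indZ, pairVec, mem_insert, mem_singleton]
  rcases eq_or_ne k i with rfl | h
  · simp [hij]
  · simp [h]

include h2 hM hinv h8 in
theorem pairs_of_class {x : GolayPt → ℤ} (hx : x ∈ M) (heven : x pN % 2 = 0)
    (hne : ∀ w ∈ leechLattice, x ≠ (2 : ℤ) • w) (hne' : ∀ w ∈ leechLattice, x ≠ (e8 pN : GolayPt → ℤ) + (2 : ℤ) • w)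
    {i j : GolayPt} (hij : i ≠ j) : pairVec i j 1 ∈ M := by
  classical
  have four_case : ∀ {z : GolayPt → ℤ}, four z ∈ M → (∑ i, z i) % 2 = 0 →
      (∀ w ∈ leechLattice, four z ≠ (2 : ℤ) • w) →
      (∀ w ∈ leechLattice, four z ≠ (e8 pN : GolayPt → ℤ) + (2 : ℤ) • w) → pairVec i j 1 ∈ M := by
    intro z hy hz h1 h1'
    refine pairs_of_four h2 hM hinv h8 (even_oddSet hz) ((four_iff h2 h8 hz).mp hy) (fun hc => ?_) hij
    obtain ⟨v, hv, hve⟩ := four_code hc
    obtain ⟨w, hw, k, he⟩ := four_diff_pN hz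
    obtain ⟨q, rfl | rfl⟩ : ∃ q, k = 2 * q ∨ k = 2 * q + 1 := ⟨k / 2, by omega⟩
    · exact h1 (v + w + q • (e8 pN : GolayPt → ℤ)) (add_mem (add_mem hv hw) (zsmul_mem (e8 pN).2 q))
        (by rw [he, hve, mul_smul, smul_add, smul_add])
    · exact h1' (v + w + q • (e8 pN : GolayPt → ℤ)) (add_mem (add_mem hv hw) (zsmul_mem (e8 pN).2 q))
        (by rw [he, hve, add_smul, mul_smul, one_smul, smul_add, smul_add]; abel)
  obtain ⟨d, z, hd | hd⟩ := mem_lattice_normal.mp (hM hx)
  · have ex : x = fun i => 2 * indZ d i + 4 * z i := funext fun i => by rw [hd.hx i]; ring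
    by_cases hd0 : d = ∅
    · subst hd0
      have ex' : x = four z := by rw [ex]; funext k; simp [four, indZ]
      subst ex'
      exact four_case hx hd.hz hne hne'
    by_cases hd1 : d = univ
    · subst hd1
      obtain ⟨w, hw, he⟩ := two_ind_univ
      have ex' : x - (e8 pN : GolayPt → ℤ) - (2 : ℤ) • w = four z := by
        rw [sub_sub, ← he, ex]; funext k; simp [four, indZ]
      have hmem : four z ∈ M := ex' ▸ sub_mem (sub_mem hx h8) (h2 w hw)
      refine four_case hmem hd.hz (fun u hu h => hne' (u + w) (add_mem hu hw) ?_) fun u hu h => ?_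
      · rw [smul_add, ← h, ← ex']; abel
      · refine hne ((e8 pN : GolayPt → ℤ) + u + w) (add_mem (add_mem (e8 pN).2 hu) hw) ?_
        have h3 : x = four z + (e8 pN : GolayPt → ℤ) + (2 : ℤ) • w := by rw [← ex']; abel
        rw [h3, h, smul_add, smul_add, two_smul ℤ (e8 pN : GolayPt → ℤ)]; abel
    obtain ⟨o, ho, -, hoN, hoO, hcard⟩ := meet_witness hd.hc hd0 hd1
    have hdiff := flip_sub hx (mono_inv hM hinv (one_mem M24) ho hx)
    set u : GolayPt → ℤ := fun k => indZ o k * indZ d k + 2 * (indZ o k * z k) with hu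
    have e : (fun k => 2 * (indZ o k * x k)) = four u := by funext k; simp [four, u, ex]; ring
    rw [e] at hdiff
    have hou : oddSet u = o ∩ d := by
      ext k
      simp only [mem_oddSet, u, indZ, mem_inter]
      split <;> split <;> simp_all <;> omega
    have hus : (∑ k, u k) % 2 = 0 := by
      simp only [u, sum_add_distrib, ← mul_sum]
      have : ∑ k, indZ o k * indZ d k = ((o ∩ d).card : ℤ) := by
        rw [← card_filter_indZ]
        refine sum_congr rfl fun k _ => ?_
        simp only [indZ, mem_inter]; split <;> split <;> simp_all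
      omega
    exact pairs_of_four h2 hM hinv h8 (even_oddSet hus) ((four_iff h2 h8 hus).mp hdiff)
      (by rw [hou]; exact small_not_code (by omega) (by omega)) hij
  · exfalso
    rw [hd.hx pN] at heven
    omega

include h2 hM h8 in
/-- A totally singular subgroup with all pairs is the standard one. -/
theorem eq_singular (hpair : ∀ i j : GolayPt, i ≠ j → pairVec i j 1 ∈ M)
    (hiso : ∀ a ∈ M, ∀ b ∈ M, (16 : ℤ) ∣ dotInt a b) : M = singular := by
  classical
  refine le_antisymm (fun x hx => ?_) ?_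
  · have hmod : ∀ i, i ≠ pN → (x i + x pN) % 4 = 0 := fun i hi => by
      have := hiso _ (hpair i pN hi) _ hx
      rw [dot_pairVec] at this
      omega
    have hN : x pN % 2 = 0 := by
      have h1 := hmod pO (by decide)
      have h3 := hiso _ (hpair pO pI (by decide)) _ hx
      rw [dot_pairVec] at h3
      have h4 := hmod pI (by decide)
      omega
    obtain ⟨c, z, hd | hd⟩ := mem_lattice_normal.mp (hM hx)
    · refine ⟨x pN / 2, fun i => (x i - x pN) / 4, fun i => ?_, ?_⟩
      · rcases eq_or_ne i pN with rfl | hi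
        · simp only; omega
        · have := hmod i hi; simp only; omega
      · obtain ⟨a, ha⟩ := four_dvd_card hd.hc
        have he : ∀ i, 4 * ((x i - x pN) / 4) = x i - x pN := fun i => by
          rcases eq_or_ne i pN with rfl | hi
          · omega
          · have := hmod i hi; omega
        have hsum : ∑ i, x i = 2 * (c.card : ℤ) + 4 * ∑ i, z i := by
          rw [sum_congr rfl fun i _ => hd.hx i, sum_add_distrib, sum_add_distrib, ← mul_sum, ← mul_sum,
            card_filter_indZ]
          simp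
        have h4 : 4 * ∑ i, (x i - x pN) / 4 = ∑ i, x i - 24 * x pN := by
          rw [mul_sum, sum_congr rfl fun i _ => he i, sum_sub_distrib, sum_const, card_pts, nsmul_eq_mul]; rfl
        have := hd.hz
        simp only
        omega
    · exfalso
      rw [hd.hx pN] at hN
      omega
  · rintro x ⟨e, z, hx, hz⟩
    obtain ⟨w, hw, he⟩ := two_ind_univ
    have h1 : (fun _ => 2 : GolayPt → ℤ) ∈ M := he ▸ add_mem h8 (h2 w hw)
    have hind : ∀ n, ∀ s : Finset GolayPt, s.card = 2 * n → four (indZ s) ∈ M := by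
      intro n
      induction n with
      | zero =>
        intro s hs
        rw [card_eq_zero.mp hs, show four (indZ (∅ : Finset GolayPt)) = 0 from funext fun i => by simp [four, indZ]]
        exact zero_mem _
      | succ n ih =>
        intro s hs
        obtain ⟨a, ha⟩ : s.Nonempty := card_pos.mp (by omega)
        obtain ⟨b, hb⟩ : (s.erase a).Nonempty := card_pos.mp (by rw [card_erase_of_mem ha]; omega)
        have h := add_mem (hpair a b (Ne.symm (mem_erase.mp hb).1)) (ih ((s.erase a).erase b) (by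
          rw [card_erase_of_mem hb, card_erase_of_mem ha]; omega))
        convert h using 1
        funext k
        obtain ⟨hba, hbs⟩ := mem_erase.mp hb
        simp only [four, Pi.add_apply, pairVec, indZ, mem_erase]
        rcases eq_or_ne k a with rfl | ka
        · simp [ha, hba.symm]
        rcases eq_or_ne k b with rfl | kb
        · simp [hbs, ka]
        · by_cases hk : k ∈ s <;> simp [hk, ka, kb]
    have ex : x = e • (fun _ => 2 : GolayPt → ℤ) + four z := funext fun i => by
      rw [hx i]; simp [four]; ring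
    rw [ex]
    refine add_mem (zsmul_mem h1 e) ((four_iff h2 h8 hz).mpr ?_)
    obtain ⟨n, hn⟩ := even_oddSet hz
    exact hind n _ (by omega)

end frame

end Cfsg.Lib.Leech
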