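import Cfsg.Agent.Leech.Counts
import Cfsg.Agent.Leech.Classes
import Cfsg.Agent.Leech.Index

/-!
Classes of the lattice modulo twice itself; the vectors of least norm generate.
-/

namespace Cfsg.Lib.Leech

open Cfsg Cfsg.Lib.Golay Finset

theorem minForm : MinForm (fun x y : GolayPt → ℤ => dotInt x y) leechLattice 32 where
  add x y z := by simp only [dotInt, Pi.add_apply, add_mul, sum_add_distrib]
  symm x y := by simp only [dotInt, mul_comm]
  pos := by norm_num
  min x hx h0 := by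
    have := thirtytwo_le_sqNorm hx h0
    simpa [dotInt, Cfsg.sqNorm, pow_two] using this

theorem sqNorm_eq_dot (x : GolayPt → ℤ) : Cfsg.sqNorm x = dotInt x x := by
  simp [dotInt, Cfsg.sqNorm, pow_two]

theorem cong_iff {x y : GolayPt → ℤ} : Cong leechLattice x y ↔ ∃ z ∈ leechLattice, x - y = 2 • z := Iff.rfl

theorem cong_iff' {x y : GolayPt → ℤ} : Cong leechLattice x y ↔ ∃ z ∈ leechLattice, x - y = (2 : ℤ) • z := by
  simp only [Cong, two_smul, two_nsmul]

/-- Twice the lattice, inside the lattice. -/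
abbrev twice : AddSubgroup ↥leechLattice := (leechLattice.map double).addSubgroupOf leechLattice

theorem finite_quotient : Finite (↥leechLattice ⧸ twice) := by
  refine Nat.finite_of_card_ne_zero ?_
  rw [← AddSubgroup.index_eq_card, index_quotient]
  norm_num

theorem leech_classes :
    (∀ x ∈ leechLattice, ∃ y ∈ leechLattice, Cfsg.sqNorm y ≤ 64 ∧ Cong leechLattice x y) ∧
      ∀ x ∈ leechLattice, Cfsg.sqNorm x = 64 →
        {y | (y ∈ leechLattice ∧ Cfsg.sqNorm y = 64) ∧ Cong leechLattice x y}.ncard = 48 := by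
  classical
  have := finite_quotient
  have := Fintype.ofFinite (↥leechLattice ⧸ twice)
  let r : (GolayPt → ℤ) → ↥leechLattice ⧸ twice := fun x =>
    if hx : x ∈ leechLattice then ((⟨x, hx⟩ : ↥leechLattice) : ↥leechLattice ⧸ twice) else 0
  have hr : ∀ x ∈ leechLattice, ∀ y ∈ leechLattice, r x = r y ↔ Cong leechLattice x y := by
    intro x hx y hy
    simp only [r, dif_pos hx, dif_pos hy]
    rw [QuotientAddGroup.eq, AddSubgroup.mem_addSubgroupOf]
    show (-x + y) ∈ leechLattice.map double ↔ _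
    constructor
    · rintro ⟨z, hz, he⟩
      refine ⟨-z, neg_mem hz, ?_⟩
      rw [smul_neg, ← show double z = 2 • z from rfl, he]; abel
    · rintro ⟨z, hz, he⟩
      exact ⟨-z, neg_mem hz, by show 2 • (-z) = _; rw [smul_neg, ← he]; abel⟩
  have hR : Fintype.card (↥leechLattice ⧸ twice) = 16777216 := by
    rw [← Nat.card_eq_fintype_card, ← AddSubgroup.index_eq_card, index_quotient]; norm_num
  have h32 := ncard_32
  have h48 := ncard_48
  have h64 := ncard_64
  simp only [sqNorm_eq_dot] at h32 h48 h64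
  have hfin : ∀ n : ℤ, {x | x ∈ leechLattice ∧ dotInt x x = n}.Finite := fun n => by
    refine (Set.Finite.pi (t := fun _ : GolayPt => Set.Icc (-|n| - 1) (|n| + 1)) fun _ => Set.finite_Icc _ _).subset ?_
    rintro x ⟨-, hx⟩ i -
    have h2 : x i ^ 2 ≤ Cfsg.sqNorm x := single_le_sum (f := fun j => x j ^ 2) (fun j _ => sq_nonneg _) (mem_univ i)
    rw [sqNorm_eq_dot, hx] at h2
    have := le_abs_self n
    exact ⟨by nlinarith, by nlinarith⟩
  obtain ⟨h1, h2⟩ := minForm.classes r hr (n₁ := 32) (n₂ := 48) (n₃ := 64) (by norm_num) (by norm_num)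
    (by norm_num) (by norm_num) hfin (by rw [h32, h48, h64, hR]) (by rw [Fintype.card_option, ZMod.card])
  simp only [sqNorm_eq_dot]
  exact ⟨h1, h2⟩

theorem s1570 (x : GolayPt → ℤ) (hx : x ∈ leechLattice) :
    ∃ y ∈ leechLattice, Cfsg.sqNorm y ≤ 64 ∧ ∃ z ∈ leechLattice, x - y = 2 • z :=
  leech_classes.1 x hx

theorem s1569 (x : GolayPt → ℤ) (hx : x ∈ leechLattice) (hxn : Cfsg.sqNorm x = 64) : (cross x).ncard = 48 := by
  rw [← leech_classes.2 x hx hxn]
  congr 1
  ext y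
  simp only [cross, Set.mem_setOf_eq, hxn, Cong, and_assoc]

theorem s5592 (x y : GolayPt → ℤ) (hy : y ∈ leechLattice) (hxy : x ≠ y) (hxn : Cfsg.sqNorm x ≤ 64)
    (hyn : Cfsg.sqNorm y ≤ 64) (hc : Cong leechLattice x y) :
    x = -y ∨ (Cfsg.sqNorm x = 64 ∧ Cfsg.sqNorm y = 64 ∧ dotInt x y = 0) := by
  simp only [sqNorm_eq_dot] at *
  exact minForm.cong_dichotomy hy hxy hxn hyn hc

theorem s5551 (v w : GolayPt → ℤ) (hw : w ∈ leechLattice) (hvn : Cfsg.sqNorm v ≤ 64)
    (hwn : Cfsg.sqNorm w ≤ 64) (hc : Cong leechLattice v w) :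
    Cfsg.sqNorm v = Cfsg.sqNorm w ∧ (Cfsg.sqNorm v < 64 → w = v ∨ w = -v) := by
  by_cases h : v = w
  · exact ⟨by rw [h], fun _ => Or.inl h.symm⟩
  rcases s5592 v w hw h hvn hwn hc with e | ⟨e1, e2, -⟩
  · refine ⟨?_, fun _ => Or.inr (by rw [e, neg_neg])⟩
    rw [e]
    simp [Cfsg.sqNorm]
  · exact ⟨e1.trans e2.symm, fun hlt => absurd e1 hlt.ne⟩

/-- The certificate that octads generate the code. -/
theorem descend_ok : (codeMasks.all fun m => m == 0 || pc m == 8 || octMasks.any fun o => decide (pc (m ^^^ o) < pc m)) = true := by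
  decide +kernel

theorem code_induction {p : Finset GolayPt → Prop} (h0 : p ∅) (hstep : ∀ o ∈ octads, ∀ c, p c → p (symmDiff c o))
    {c : Finset GolayPt} (hc : c ∈ code) : p c := by
  induction hn : c.card using Nat.strong_induction_on generalizing c with
  | _ n ih =>
    subst hn
    have hm := mem_codeMasks.mpr ((mem_supports_iff c).mp hc)
    have := List.all_eq_true.mp descend_ok _ hm
    simp only [Bool.or_eq_true, beq_iff_eq, List.any_eq_true, decide_eq_true_eq] at this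
    rcases this with (e | e) | ⟨o, ho, hlt⟩
    swap
    · have hco : c ∈ octads := ⟨hc, by rwa [pc_eq_card, pts_mk] at e⟩
      have := hstep c hco ∅ h0
      rwa [show symmDiff (∅ : Finset GolayPt) c = c from bot_symmDiff c] at this
    · have : c = ∅ := by rw [← pts_mk c, e]; ext p; simp
      rw [this]; exact h0
    · have hoo : pts o ∈ octads :=
        mk_mem_octMasks.mp (by rwa [mk_pts (lt_of_inCode (mem_octMasks.mp ho).1)])
      have e : pts (mk c ^^^ o) = symmDiff c (pts o) := by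
        ext p
        have hp : (mk c).testBit (pidx p) = true ↔ p ∈ c := by rw [← mem_pts, pts_mk]
        rw [mem_pts, Nat.testBit_xor, mem_symmDiff, mem_pts]
        rcases Bool.eq_false_or_eq_true ((mk c).testBit (pidx p)) with h | h <;>
          rcases Bool.eq_false_or_eq_true (o.testBit (pidx p)) with h' | h' <;> simp [h, h', ← hp]
      rw [pc_eq_card, pc_eq_card, e, pts_mk] at hlt
      have := hstep _ hoo _ (ih _ hlt (symmDiff_mem_supports hc hoo.1) rfl)
      rwa [symmDiff_symmDiff_cancel_right] at this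

theorem s1567 : AddSubgroup.closure {x : GolayPt → ℤ | x ∈ leechLattice ∧ Cfsg.sqNorm x = 32} = leechLattice := by
  classical
  set M := AddSubgroup.closure {x : GolayPt → ℤ | x ∈ leechLattice ∧ Cfsg.sqNorm x = 32}
  refine le_antisymm ((AddSubgroup.closure_le _).mpr fun x hx => hx.1) ?_
  have gen : ∀ {x : GolayPt → ℤ} {m : ℤ} {c : Finset GolayPt} {z : GolayPt → ℤ}, IsDecomp x m c z →
      Cfsg.sqNorm x = 32 → x ∈ M := fun h hn => AddSubgroup.subset_closure ⟨mem_lattice.mpr ⟨_, _, _, h⟩, hn⟩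
  have hodd : (fun i => 1 - 4 * (if i = (none : GolayPt) then 1 else 0 : ℤ)) ∈ M := by
    refine gen (m := 1) (c := ∅) (z := fun i => -(if i = (none : GolayPt) then 1 else 0 : ℤ))
      ⟨empty_mem_code, fun i => by simp [indZ]; ring, by simp⟩ ?_
    unfold Cfsg.sqNorm
    rw [Fintype.sum_option]
    simp
  have hoct : ∀ o ∈ octads, (fun i => 2 * indZ o i) ∈ M := fun o ho => by
    refine gen (m := 0) (c := o) (z := 0) ⟨ho.1, fun i => by simp, by simp⟩ ?_
    unfold Cfsg.sqNorm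
    rw [sum_congr rfl fun i _ => show (2 * indZ o i) ^ 2 = 4 * indZ o i by simp only [indZ]; split <;> norm_num,
      ← mul_sum, card_filter_indZ, ho.2]
    norm_num
  -- the part divisible by four
  have hpair : ∀ a : ZMod 23, ∀ s : ℤ, s = 1 ∨ s = -1 →
      (fun i => 4 * (if i = (some a : GolayPt) then 1 else 0 : ℤ) + 4 * s * (if i = none then 1 else 0)) ∈ M := by
    intro a s hs
    refine gen (m := 0) (c := ∅) (z := fun i => (if i = (some a : GolayPt) then 1 else 0 : ℤ) + s * (if i = none then 1 else 0))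
      ⟨empty_mem_code, fun i => by simp only [indZ, Finset.notMem_empty, if_false]; ring, ?_⟩ ?_
    · rw [Fintype.sum_option]
      rcases hs with rfl | rfl <;> simp
    · unfold Cfsg.sqNorm
      rw [Fintype.sum_option]
      rcases hs with rfl | rfl <;> simp
  have hfour : ∀ z : GolayPt → ℤ, (∑ i, z i) % 2 = 0 → (fun i => 4 * z i) ∈ M := by
    intro z hz
    have e : (fun i => 4 * z i) = (∑ a : ZMod 23, z (some a) •
        (fun i : GolayPt => 4 * (if i = (some a : GolayPt) then 1 else 0 : ℤ) + 4 * (-1) * (if i = none then 1 else 0)))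
        + ((∑ i, z i) / 2) • (fun i : GolayPt => 8 * (if i = none then 1 else 0 : ℤ)) := by
      funext i
      simp only [Pi.add_apply, Finset.sum_apply, Pi.smul_apply, smul_eq_mul]
      cases i with
      | none =>
        simp only [reduceCtorEq, if_false, if_true, mul_zero, zero_add, mul_one, ← sum_mul]
        rw [Fintype.sum_option] at hz ⊢
        omega
      | some b => simp [Finset.sum_ite_eq', mul_comm]
    rw [e]
    refine add_mem (sum_mem fun a _ => zsmul_mem (hpair a (-1) (Or.inr rfl)) _) (zsmul_mem ?_ _)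
    have := sub_mem (hpair 0 1 (Or.inl rfl)) (hpair 0 (-1) (Or.inr rfl))
    convert this using 1
    funext i
    simp only [Pi.sub_apply]; ring
  have hcode : ∀ c ∈ code, ∃ y ∈ M, ∀ i, (4 : ℤ) ∣ y i - 2 * indZ c i := by
    intro c hc
    refine code_induction (p := fun c => ∃ y ∈ M, ∀ i, (4 : ℤ) ∣ y i - 2 * indZ c i) ⟨0, zero_mem _, fun i => by simp [indZ]⟩ ?_ hc
    rintro o ho c ⟨y, hy, hyc⟩
    refine ⟨y + fun i => 2 * indZ o i, add_mem hy (hoct o ho), fun i => ?_⟩
    have := hyc i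
    simp only [Pi.add_apply, indZ, mem_symmDiff] at this ⊢
    by_cases h1 : i ∈ c <;> by_cases h2 : i ∈ o <;> simp [h1, h2] at this ⊢ <;> omega
  have heven : ∀ x ∈ leechLattice, (∀ i, x i % 2 = 0) → x ∈ M := by
    intro x hx he
    obtain ⟨c, z, hd | hd⟩ := mem_lattice_normal.mp hx
    · obtain ⟨y, hy, hyc⟩ := hcode c hd.hc
      have hyL : y ∈ leechLattice := (AddSubgroup.closure_le _).mpr (fun x hx => hx.1) hy
      have h4 : ∀ i, (4 : ℤ) ∣ x i - y i := fun i => by
        have := hyc i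
        rw [hd.hx i]; omega
      have hdiff : x - y ∈ leechSet := by
        have h := sub_mem hx hyL
        rw [← SetLike.mem_coe, leechLattice_eq] at h; exact h
      obtain ⟨m, hm2, hsum, -⟩ := hdiff
      have hm : m % 2 = 0 := by
        have h : (x - y) none % 2 = m % 2 := hm2 none
        have := h4 none
        simp only [Pi.sub_apply] at h
        omega
      have hsum' : (∑ i, (x - y) i) % 8 = (4 * m) % 8 := hsum
      have e : x = y + fun i => 4 * ((x i - y i) / 4) := funext fun i => by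
        have := h4 i
        simp only [Pi.add_apply]; omega
      rw [e]
      refine add_mem hy (hfour _ ?_)
      have e4 : ∑ i, (x - y) i = 4 * ∑ i, (x i - y i) / 4 := by
        rw [mul_sum]
        exact sum_congr rfl fun i _ => by have := h4 i; simp only [Pi.sub_apply]; omega
      rw [e4] at hsum'
      omega
    · exfalso
      have := he none
      rw [hd.hx none] at this
      omega
  intro x hx
  rcases parity_uniform hx with h | h
  · exact heven x hx h
  · rw [← sub_add_cancel x (fun i => 1 - 4 * (if i = (none : GolayPt) then 1 else 0 : ℤ))]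
    refine add_mem (heven _ (sub_mem hx ((AddSubgroup.closure_le _).mpr (fun x hx => hx.1) hodd)) fun i => ?_) hodd
    have := h i
    simp only [Pi.sub_apply]; omega

/-- The abstract statement for a Gram matrix. -/
theorem gramForm (B : Matrix (Fin 24) (Fin 24) ℤ) (hsymm : B.IsSymm)
    (hpos : ∀ x : Fin 24 → ℤ, x ≠ 0 → 0 < x ⬝ᵥ (B.mulVec x)) (heven : ∀ x : Fin 24 → ℤ, (2 : ℤ) ∣ x ⬝ᵥ (B.mulVec x))
    (h2 : ∀ x : Fin 24 → ℤ, x ⬝ᵥ (B.mulVec x) ≠ 2) :
    MinForm (fun x y => x ⬝ᵥ (B.mulVec y)) (⊤ : AddSubgroup (Fin 24 → ℤ)) 4 where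
  add x y z := by rw [add_dotProduct]
  symm x y := by rw [Matrix.dotProduct_mulVec, ← Matrix.mulVec_transpose, hsymm.eq, dotProduct_comm]
  pos := by norm_num
  min x _ h0 := by
    have := hpos x h0
    have := heven x
    have := h2 x
    omega

theorem s1587 (B : Matrix (Fin 24) (Fin 24) ℤ) (hsymm : B.IsSymm)
    (hpos : ∀ x : Fin 24 → ℤ, x ≠ 0 → 0 < x ⬝ᵥ (B.mulVec x)) (heven : ∀ x : Fin 24 → ℤ, (2 : ℤ) ∣ x ⬝ᵥ (B.mulVec x))
    (h2 : ∀ x : Fin 24 → ℤ, x ⬝ᵥ (B.mulVec x) ≠ 2) (x y : Fin 24 → ℤ) (hx : x ⬝ᵥ (B.mulVec x) = 8)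
    (hy : y ⬝ᵥ (B.mulVec y) = 8) (hc : ∀ i, (2 : ℤ) ∣ (x - y) i) :
    y = x ∨ y = -x ∨ x ⬝ᵥ (B.mulVec y) = 0 := by
  by_cases h : x = y
  · exact Or.inl h.symm
  rcases (gramForm B hsymm hpos heven h2).cong_dichotomy (AddSubgroup.mem_top y) h (le_of_eq hx) (le_of_eq hy)
    ⟨fun i => (x - y) i / 2, AddSubgroup.mem_top _, funext fun i => by
      have := hc i; simp only [Pi.smul_apply, two_nsmul]; omega⟩ with e | ⟨-, -, e⟩
  · exact Or.inr (Or.inl (by rw [e, neg_neg]))
  · exact Or.inr (Or.inr e)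

theorem gram_finite (B : Matrix (Fin 24) (Fin 24) ℤ) (hsymm : B.IsSymm)
    (hpos : ∀ x : Fin 24 → ℤ, x ≠ 0 → 0 < x ⬝ᵥ (B.mulVec x)) (heven : ∀ x : Fin 24 → ℤ, (2 : ℤ) ∣ x ⬝ᵥ (B.mulVec x))
    (h2 : ∀ x : Fin 24 → ℤ, x ⬝ᵥ (B.mulVec x) ≠ 2) (n : ℤ) :
    {x : Fin 24 → ℤ | x ∈ (⊤ : AddSubgroup (Fin 24 → ℤ)) ∧ x ⬝ᵥ (B.mulVec x) = n}.Finite := by
  obtain ⟨k, hk, hk1⟩ : ∃ k : ℕ, n < (k : ℤ) * k ∧ 0 < k :=
    ⟨n.natAbs + 1, by push_cast; nlinarith [le_abs_self n, abs_nonneg n], Nat.succ_pos _⟩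
  have : NeZero k := ⟨by omega⟩
  refine Set.Finite.of_finite_image (f := fun x (i : Fin 24) => ((x i : ℤ) : ZMod k)) (Set.toFinite _) ?_
  rintro x ⟨-, hx⟩ y ⟨-, hy⟩ he
  by_contra hne
  have hm := gramForm B hsymm hpos heven h2
  have hdvd : ∀ i, (k : ℤ) ∣ x i - y i := fun i => by
    rw [← ZMod.intCast_zmod_eq_zero_iff_dvd, Int.cast_sub, sub_eq_zero]; exact congrFun he i
  choose z hz using hdvd
  have hxy : x - y = (k : ℤ) • z := funext fun i => by simp [hz i]
  have hz0 : z ≠ 0 := fun e => hne (sub_eq_zero.mp (by rw [hxy, e, smul_zero]))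
  have h1 := hm.min z trivial hz0
  have h3 : (x - y) ⬝ᵥ (B.mulVec (x - y)) = (k : ℤ) * k * (z ⬝ᵥ (B.mulVec z)) := by
    rw [hxy, Matrix.mulVec_smul, smul_dotProduct, dotProduct_smul, smul_eq_mul, smul_eq_mul, mul_assoc]
  have h4 : (x - y) ⬝ᵥ (B.mulVec (x - y)) + (x + y) ⬝ᵥ (B.mulVec (x + y)) = 4 * n := by
    simp only [Matrix.mulVec_add, Matrix.mulVec_sub, add_dotProduct, sub_dotProduct, dotProduct_add, dotProduct_sub]
    rw [hx, hy]; ring
  have h5 : 0 ≤ (x + y) ⬝ᵥ (B.mulVec (x + y)) := by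
    by_cases h0 : x + y = 0
    · rw [h0]; simp
    · exact (hpos _ h0).le
  nlinarith

theorem s1588 (B : Matrix (Fin 24) (Fin 24) ℤ) (hsymm : B.IsSymm)
    (hpos : ∀ x : Fin 24 → ℤ, x ≠ 0 → 0 < x ⬝ᵥ (B.mulVec x)) (heven : ∀ x : Fin 24 → ℤ, (2 : ℤ) ∣ x ⬝ᵥ (B.mulVec x))
    (h2 : ∀ x : Fin 24 → ℤ, x ⬝ᵥ (B.mulVec x) ≠ 2)
    (h4 : {x : Fin 24 → ℤ | x ⬝ᵥ (B.mulVec x) = 4}.ncard = 196560)
    (h6 : {x : Fin 24 → ℤ | x ⬝ᵥ (B.mulVec x) = 6}.ncard = 16773120)
    (h8 : {x : Fin 24 → ℤ | x ⬝ᵥ (B.mulVec x) = 8}.ncard = 398034000) (x : Fin 24 → ℤ) (hx : x ⬝ᵥ (B.mulVec x) = 8) :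
    {y : Fin 24 → ℤ | y ⬝ᵥ (B.mulVec y) = 8 ∧ ∀ i, (2 : ℤ) ∣ (x - y) i}.ncard = 48 := by
  have hr : ∀ x ∈ (⊤ : AddSubgroup (Fin 24 → ℤ)), ∀ y ∈ (⊤ : AddSubgroup (Fin 24 → ℤ)),
      (fun i => ((x i : ℤ) : ZMod 2)) = (fun i => ((y i : ℤ) : ZMod 2)) ↔ Cong ⊤ x y := by
    intro x _ y _
    constructor
    · intro h
      refine ⟨fun i => (x i - y i) / 2, trivial, funext fun i => ?_⟩
      have := congrFun h i
      rw [← sub_eq_zero, ← Int.cast_sub, ZMod.intCast_zmod_eq_zero_iff_dvd] at this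
      simp only [Pi.sub_apply, Pi.smul_apply, two_nsmul]
      push_cast at this
      omega
    · rintro ⟨z, -, hz⟩
      funext i
      rw [← sub_eq_zero, ← Int.cast_sub, show x i - y i = 2 * z i from
        (congrFun hz i).trans (by simp [two_mul, two_nsmul]), Int.cast_mul]
      exact mul_eq_zero_of_left rfl _
  obtain ⟨-, hc⟩ := (gramForm B hsymm hpos heven h2).classes (R := Fin 24 → ZMod 2) (fun x i => ((x i : ℤ) : ZMod 2)) hr
    (n₁ := 4) (n₂ := 6) (n₃ := 8) (by norm_num) (by norm_num) (by norm_num) (by norm_num)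
    (gram_finite B hsymm hpos heven h2)
    (by
      simp only [AddSubgroup.mem_top, true_and]
      rw [h4, h6, h8, Fintype.card_fun, ZMod.card, Fintype.card_fin]
      norm_num)
    (Fintype.card_fin 24)
  rw [← hc x trivial hx]
  congr 1
  ext y
  simp only [Set.mem_setOf_eq, AddSubgroup.mem_top, true_and, Cong]
  refine and_congr_right fun _ => ⟨fun h => ⟨fun i => (x - y) i / 2, funext fun i => ?_⟩, ?_⟩
  · have := h i
    simp only [Pi.smul_apply, two_nsmul]; omega
  · rintro ⟨z, hz⟩ i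
    exact ⟨z i, by rw [hz]; simp [two_mul, two_nsmul]⟩

end Cfsg.Lib.Leech
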