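import Cfsg.Agent.Leech.Monomial
import Cfsg.Agent.Leech.ModTwo

/-!
An automorphism of the lattice outside the monomial group, built from a sextet.
-/

namespace Cfsg.Lib.Leech

open Cfsg Cfsg.Lib.Golay Finset

/-- The tetrad of each of the 24 points, by index. -/
def tetList : List (Fin 6) := [0, 0, 0, 0, 1, 5, 4, 1, 2, 4, 1, 4, 1, 3, 5, 2, 2, 5, 3, 2, 3, 3, 4, 5]

/-- The tetrad of a point. -/
def tet (p : GolayPt) : Fin 6 := tetList.getD (pidx p) 0

/-- The sign on a tetrad. -/
def sgT (k : Fin 6) : ℤ := if k = 0 then -1 else 1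

/-- The sum over a tetrad. -/
def tsum' (x : GolayPt → ℤ) (k : Fin 6) : ℤ := ∑ p ∈ univ.filter (fun p => tet p = k), x p

/-- Half the sum over a tetrad is subtracted, then one tetrad is negated. -/
def xi (x : GolayPt → ℤ) : GolayPt → ℤ := fun p => sgT (tet p) * (x p - tsum' x (tet p) / 2)

/-- The tetrad sums are even. -/
def EvenSums (x : GolayPt → ℤ) : Prop := ∀ k, 2 ∣ tsum' x k

theorem card_tet : ∀ k, (univ.filter (fun p => tet p = k)).card = 4 := by decide +kernel

theorem tsum'_add (x y : GolayPt → ℤ) (k : Fin 6) : tsum' (x + y) k = tsum' x k + tsum' y k := by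
  simp [tsum', Finset.sum_add_distrib]

theorem tsum'_neg (x : GolayPt → ℤ) (k : Fin 6) : tsum' (-x) k = -tsum' x k := by
  simp [tsum', Finset.sum_neg_distrib]

theorem xi_add {x y : GolayPt → ℤ} (hx : EvenSums x) : xi (x + y) = xi x + xi y := by
  funext p
  simp only [xi, Pi.add_apply, tsum'_add, Int.add_ediv_of_dvd_left (hx (tet p))]
  ring

theorem evenSums_of_mem {x : GolayPt → ℤ} (hx : x ∈ leechLattice) : EvenSums x := by
  intro k
  rcases parity_uniform hx with h | h
  · exact Finset.dvd_sum fun p _ => Int.dvd_of_emod_eq_zero (h p)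
  · have e : tsum' x k = ∑ p ∈ univ.filter (fun p => tet p = k), (x p - 1) + 4 := by
      rw [Finset.sum_sub_distrib, Finset.sum_const, card_tet]; simp [tsum']
    rw [e]
    exact dvd_add (Finset.dvd_sum fun p _ => by have := h p; omega) (by norm_num)

theorem tsum'_xi {x : GolayPt → ℤ} (hx : EvenSums x) (k : Fin 6) : tsum' (xi x) k = -sgT k * tsum' x k := by
  obtain ⟨h, hh⟩ := hx k
  calc tsum' (xi x) k = ∑ p ∈ univ.filter (fun p => tet p = k), sgT k * (x p - tsum' x k / 2) :=
        Finset.sum_congr rfl fun p hp => by rw [xi, (Finset.mem_filter.mp hp).2]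
    _ = sgT k * (tsum' x k - 4 * (tsum' x k / 2)) := by
        rw [← Finset.mul_sum, Finset.sum_sub_distrib, Finset.sum_const, card_tet]; simp [tsum']
    _ = -sgT k * tsum' x k := by rw [hh, Int.mul_ediv_cancel_left _ two_ne_zero]; ring

theorem xi_xi {x : GolayPt → ℤ} (hx : EvenSums x) : xi (xi x) = x := by
  funext p
  show sgT (tet p) * (xi x p - tsum' (xi x) (tet p) / 2) = x p
  obtain ⟨h, hh⟩ := hx (tet p)
  rw [tsum'_xi hx, hh, show -sgT (tet p) * (2 * h) = 2 * (-sgT (tet p) * h) by ring,
    Int.mul_ediv_cancel_left _ two_ne_zero, xi, hh, Int.mul_ediv_cancel_left _ two_ne_zero]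
  rcases eq_or_ne (tet p) 0 with e | e <;> simp [sgT, e]

theorem sqNorm_xi {x : GolayPt → ℤ} (hx : EvenSums x) : Cfsg.sqNorm (xi x) = Cfsg.sqNorm x := by
  rw [Cfsg.sqNorm, Cfsg.sqNorm, ← Finset.sum_fiberwise univ tet, ← Finset.sum_fiberwise univ tet]
  refine Finset.sum_congr rfl fun k _ => ?_
  obtain ⟨h, hh⟩ := hx k
  have hsq : sgT k ^ 2 = 1 := by unfold sgT; split <;> norm_num
  calc ∑ p ∈ univ.filter (fun p => tet p = k), xi x p ^ 2
      = ∑ p ∈ univ.filter (fun p => tet p = k), (x p ^ 2 - 2 * h * x p + h ^ 2) := by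
        refine Finset.sum_congr rfl fun p hp => ?_
        rw [xi, (Finset.mem_filter.mp hp).2, hh, Int.mul_ediv_cancel_left _ two_ne_zero, mul_pow, hsq]; ring
    _ = (∑ p ∈ univ.filter (fun p => tet p = k), x p ^ 2) - 2 * h * tsum' x k + 4 * h ^ 2 := by
        rw [Finset.sum_add_distrib, Finset.sum_sub_distrib, ← Finset.mul_sum, Finset.sum_const, card_tet]
        simp [tsum']
    _ = _ := by rw [hh]; ring

/-- The mask of the coordinates congruent to the parity plus two. -/
def twoMask (x : GolayPt → ℤ) (m : ℤ) : Finset GolayPt := univ.filter fun p => (x p - m) % 4 = 2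

/-- A computable membership test for lists of coordinates. -/
def inL (x : GolayPt → ℤ) : Bool :=
  let m := x none % 2
  decide (∀ p, x p % 2 = m) && inCode (mk (twoMask x m)) &&
    decide ((∑ p, (x p - m - 2 * indZ (twoMask x m) p) / 4) % 2 = m % 2)

theorem mem_of_inL {x : GolayPt → ℤ} (h : inL x = true) : x ∈ leechLattice := by
  simp only [inL, Bool.and_eq_true, decide_eq_true_eq] at h
  obtain ⟨⟨hp, hc⟩, hs⟩ := h
  set m := x none % 2
  refine mem_lattice.mpr ⟨m, twoMask x m, fun p => (x p - m - 2 * indZ (twoMask x m) p) / 4,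
    (mem_supports_iff _).mpr hc, fun p => ?_, hs⟩
  have := hp p
  by_cases hm : (x p - m) % 4 = 2
  · simp only [indZ, twoMask, Finset.mem_filter, Finset.mem_univ, true_and, hm, if_true]; omega
  · simp only [indZ, twoMask, Finset.mem_filter, Finset.mem_univ, true_and, hm, if_false]; omega

/-- The vectors whose image is in the lattice. -/
def good : AddSubgroup (GolayPt → ℤ) where
  carrier := {x | EvenSums x ∧ xi x ∈ leechLattice}
  zero_mem' := ⟨fun k => by simp [tsum'], by
    rw [show xi (0 : GolayPt → ℤ) = 0 from funext fun p => by simp [xi, tsum']]; exact zero_mem _⟩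
  add_mem' {x y} hx hy := ⟨fun k => by rw [tsum'_add]; exact dvd_add (hx.1 k) (hy.1 k), by
    rw [xi_add hx.1]; exact add_mem hx.2 hy.2⟩
  neg_mem' {x} hx := ⟨fun k => by rw [tsum'_neg]; exact (hx.1 k).neg_right, by
    have e : xi (-x) = -xi x := funext fun p => by
      simp only [xi, Pi.neg_apply, tsum'_neg, Int.neg_ediv_of_dvd (hx.1 (tet p))]; ring
    rw [e]; exact neg_mem hx.2⟩

/-- The vector of parity one. -/
def oneVec : GolayPt → ℤ := fun p => if p = none then 5 else 1

/-- Twice a mask. -/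
def twoVec (m : ℕ) : GolayPt → ℤ := fun p => if m.testBit (pidx p) then 2 else 0

/-- Four times a difference of basis vectors. -/
def fourDiff (q : GolayPt) : GolayPt → ℤ := fun p => 4 * ((if p = q then 1 else 0) - if p = none then 1 else 0)

/-- Eight times a basis vector. -/
def eightNone : GolayPt → ℤ := fun p => if p = none then 8 else 0

theorem gens_ok : (inL (xi oneVec) && inL (xi eightNone) && decide (∀ k, 2 ∣ tsum' oneVec k) &&
    decide (∀ k, 2 ∣ tsum' eightNone k) && decide (∀ q, inL (xi (fourDiff q)) = true ∧ ∀ k, 2 ∣ tsum' (fourDiff q) k)) = true := by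
  decide +kernel

theorem octs_ok : (octMasks.all fun m => inL (xi (twoVec m)) && decide (∀ k, 2 ∣ tsum' (twoVec m) k)) = true := by
  decide +kernel

theorem four_mem_good (z : GolayPt → ℤ) (hz : (∑ p, z p) % 2 = 0) : (fun p => 4 * z p) ∈ good := by
  obtain ⟨t, ht⟩ : ∃ t, ∑ p, z p = 2 * t := ⟨(∑ p, z p) / 2, by omega⟩
  have e : (fun p => 4 * z p) = (∑ q, z q • fourDiff q) + t • eightNone := by
    funext p
    simp only [Pi.add_apply, Finset.sum_apply, Pi.smul_apply, smul_eq_mul, fourDiff, eightNone, mul_sub, mul_ite, mul_one,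
      mul_zero, Finset.sum_sub_distrib, Finset.sum_ite_eq, Finset.mem_univ, if_true]
    split_ifs with h
    · have : ∑ q, z q * 4 = 2 * t * 4 := by rw [← Finset.sum_mul, ht]
      rw [this]; ring
    · simp; ring
  have h := gens_ok
  simp only [Bool.and_eq_true, decide_eq_true_eq] at h
  rw [e]
  exact add_mem (sum_mem fun q _ => good.zsmul_mem (show fourDiff q ∈ good from ⟨(h.2 q).2, mem_of_inL (h.2 q).1⟩) _)
    (good.zsmul_mem (show eightNone ∈ good from ⟨h.1.2, mem_of_inL h.1.1.1.2⟩) _)

theorem two_mem_good {c : Finset GolayPt} (hc : c ∈ code) : (fun p => 2 * indZ c p) ∈ good := by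
  refine (code_induction (p := fun d => d ∈ code ∧ (fun p => 2 * indZ d p) ∈ good)
    ⟨empty_mem_code, by rw [show (fun p => 2 * indZ (∅ : Finset GolayPt) p) = 0 from funext fun p => by simp [indZ]]; exact zero_mem _⟩
    ?_ hc).2
  rintro o ho d ⟨hd, hdg⟩
  refine ⟨symmDiff_mem_supports hd ho.1, ?_⟩
  have hog : (fun p => 2 * indZ o p) ∈ good := by
    have := List.all_eq_true.mp octs_ok _ (mk_mem_octMasks.mpr ho)
    simp only [Bool.and_eq_true, decide_eq_true_eq] at this
    have e : twoVec (mk o) = fun p => 2 * indZ o p := funext fun p => by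
      have hp : (mk o).testBit (pidx p) = true ↔ p ∈ o := by rw [← mem_pts, pts_mk]
      by_cases h : p ∈ o <;> simp [twoVec, indZ, h, hp]
    rw [← e]
    exact ⟨this.2, mem_of_inL this.1⟩
  have h4 := four_mem_good (fun p => indZ (d ∩ o) p) (by
    rw [card_filter_indZ]; obtain ⟨u, hu⟩ := even_card_inter hd ho.1; omega)
  have e : (fun p => 2 * indZ (symmDiff d o) p) =
      (fun p => 2 * indZ d p) + (fun p => 2 * indZ o p) - fun p => 4 * indZ (d ∩ o) p := by
    funext p
    simp only [Pi.add_apply, Pi.sub_apply, indZ, Finset.mem_symmDiff, Finset.mem_inter]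
    by_cases h1 : p ∈ d <;> by_cases h2 : p ∈ o <;> simp [h1, h2]
  rw [e]
  exact sub_mem (add_mem hdg hog) h4

theorem xi_mem {x : GolayPt → ℤ} (hx : x ∈ leechLattice) : xi x ∈ leechLattice := by
  obtain ⟨m, c, z, h⟩ := mem_lattice.mp hx
  have e : x = m • oneVec + (fun p => 2 * indZ c p) + fun p => 4 * (z p - if p = none then m else 0) := by
    funext p
    rw [h.hx p]
    simp only [Pi.add_apply, Pi.smul_apply, smul_eq_mul, oneVec]
    split <;> ring
  have hg := gens_ok
  simp only [Bool.and_eq_true, decide_eq_true_eq] at hg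
  have : x ∈ good := by
    rw [e]
    refine add_mem (add_mem (good.zsmul_mem ⟨hg.1.1.2, mem_of_inL hg.1.1.1.1⟩ _) (two_mem_good h.hc)) (four_mem_good _ ?_)
    rw [Finset.sum_sub_distrib, Finset.sum_ite_eq', if_pos (Finset.mem_univ _)]
    have := h.hz
    omega
  exact this.2

/-- The extra automorphism on the lattice. -/
def xiEquiv : Equiv.Perm leechLattice where
  toFun v := ⟨xi v, xi_mem v.2⟩
  invFun v := ⟨xi v, xi_mem v.2⟩
  left_inv v := Subtype.ext (xi_xi (evenSums_of_mem v.2))
  right_inv v := Subtype.ext (xi_xi (evenSums_of_mem v.2))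

/-- The extra automorphism. -/
def extra : Co0 :=
  ⟨xiEquiv, fun v w => Subtype.ext (xi_add (evenSums_of_mem v.2)), fun v => sqNorm_xi (evenSums_of_mem v.2)⟩

theorem extra_apply (v : leechLattice) : ((extra • v : leechLattice) : GolayPt → ℤ) = xi v := rfl

end Cfsg.Lib.Leech
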