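import Cfsg.Agent.Leech.FrameLattice

/-!
A lattice in frame coordinates containing all even multiples of four, with 196560 vectors of norm 32.
-/

namespace Cfsg.Lib.Leech

open Cfsg Cfsg.Lib.Golay Finset

theorem signed_pairs {α : Type*} [Fintype α] [DecidableEq α] : ∃ T : Finset ((_ : Finset α) × Finset α),
    (∀ q : (_ : Finset α) × Finset α, q.1.card = 2 → q.2 ⊆ q.1 → q ∈ T) ∧ T.card = (Fintype.card α).choose 2 * 4 := by
  refine ⟨((univ : Finset α).powersetCard 2).sigma fun s => s.powerset, fun q h1 h2 =>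
    mem_sigma.mpr ⟨mem_powersetCard.mpr ⟨subset_univ _, h1⟩, mem_powerset.mpr h2⟩, ?_⟩
  rw [card_sigma, sum_congr rfl fun s hs => by rw [card_powerset, (mem_powersetCard.mp hs).2], sum_const,
    card_powersetCard, card_univ, smul_eq_mul]
  norm_num

theorem card_weight_eight {S : Set (Finset GolayPt)} (hS : IsEvenFamily S) (F : Finset (Finset GolayPt))
    (hF : ∀ c ∈ F, c ∈ S ∧ c.card = 8) : F.card ≤ 759 := by
  classical
  have hdisj : ∀ c ∈ F, ∀ d ∈ F, c ≠ d → Disjoint (c.powersetCard 5) (d.powersetCard 5) := by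
    intro c hc d hd hne
    refine disjoint_left.mpr fun t ht ht' => ?_
    obtain ⟨h1, h2⟩ := mem_powersetCard.mp ht
    obtain ⟨h3, -⟩ := mem_powersetCard.mp ht'
    have h5 : 5 ≤ (c ∩ d).card := h2 ▸ card_le_card (subset_inter h1 h3)
    have h := card_symmDiff_add (c := c) (d := d)
    rw [(hF c hc).2, (hF d hd).2] at h
    have := hS.min _ (hS.symm _ (hF c hc).1 _ (hF d hd).1) fun e => hne (symmDiff_eq_bot.mp e)
    omega
  have h1 : (F.biUnion fun c => c.powersetCard 5).card = F.card * 56 := by
    rw [card_biUnion hdisj, sum_congr rfl fun c hc => by rw [card_powersetCard, (hF c hc).2], sum_const, smul_eq_mul]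
    rfl
  have h2 : (F.biUnion fun c => c.powersetCard 5).card ≤ ((univ : Finset GolayPt).powersetCard 5).card :=
    card_le_card (biUnion_subset.mpr fun c _ => powersetCard_mono (subset_univ c))
  rw [h1, card_powersetCard, card_pts, show Nat.choose 24 5 = 759 * 56 by decide] at h2
  omega

variable {A : AddSubgroup (GolayPt → ℤ)} (hA : FrameBase A)
  (hfour : ∀ u : GolayPt → ℤ, (∑ i, u i) % 2 = 0 → (fun i => 4 * u i) ∈ A)

include hA hfour

theorem four_only {u : GolayPt → ℤ} (hu : (fun i => 4 * u i) ∈ A) : (∑ i, u i) % 2 = 0 := by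
  classical
  rcases Int.emod_two_eq (∑ i, u i) with h | h
  · exact h
  exfalso
  have h2 := sub_mem hu (hfour (fun i => u i - if i = (none : GolayPt) then 1 else 0) (by
    rw [sum_sub_distrib, sum_ite_eq', if_pos (mem_univ _)]; omega))
  set e : GolayPt → ℤ := fun i => if i = (none : GolayPt) then 4 else 0
  have he : e ∈ A := by
    convert h2 using 1
    funext i; simp only [e, Pi.sub_apply]; split <;> ring
  have hn : Cfsg.sqNorm e = 16 := by rw [Cfsg.sqNorm, Fintype.sum_option]; simp [e]
  have := hA.min e he fun h0 => by have := congrFun h0 none; simp [e] at this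
  omega

theorem words_min : ∀ c ∈ supports (wordsAt A 2 : Set (GolayPt → ZMod 2)), c ≠ ∅ → 8 ≤ c.card := by
  classical
  rintro _ ⟨w, ⟨u, hu, rfl⟩, rfl⟩ hne
  obtain ⟨j, hj⟩ := nonempty_iff_ne_empty.mpr hne
  set c := support₂ (redMod 2 u)
  have hc : ∀ i, i ∈ c ↔ u i % 2 = 1 := fun i => by
    simp only [c, support₂, mem_filter, mem_univ, true_and]
    rw [redMod_apply, Ne, ZMod.intCast_zmod_eq_zero_iff_dvd]
    omega
  set t : GolayPt → ℤ := fun i => (u i - indZ c i) / 2
  have ht : ∀ i, u i = indZ c i + 2 * t i := fun i => by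
    have := hc i
    simp only [t, indZ]; split <;> rename_i h <;> simp [h] at this <;> omega
  obtain ⟨v, hv, hvv⟩ : ∃ v ∈ A, ∀ i, v i ^ 2 = 4 * indZ c i := by
    rcases Int.emod_two_eq (∑ i, t i) with h | h
    · refine ⟨fun i => 2 * indZ c i, ?_, fun i => by simp only [indZ]; split <;> norm_num⟩
      convert sub_mem (show scale (2 : ℕ) u ∈ A from hu) (hfour t h) using 1
      funext i
      simp only [scale_apply, Pi.sub_apply, ht i]; push_cast; ring
    · refine ⟨fun i => 2 * indZ c i - if i = j then 4 else 0, ?_, fun i => ?_⟩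
      · convert sub_mem (show scale (2 : ℕ) u ∈ A from hu) (hfour (fun i => t i + if i = j then 1 else 0) (by
          rw [sum_add_distrib, sum_ite_eq' univ j, if_pos (mem_univ j)]; omega)) using 1
        funext i
        simp only [scale_apply, Pi.sub_apply, ht i]; push_cast
        split <;> ring
      · simp only [indZ]
        by_cases hi : i ∈ c
        · rw [if_pos hi]; split <;> norm_num
        · rw [if_neg hi, if_neg (fun e : i = j => hi (e ▸ hj))]; norm_num
  have hn : Cfsg.sqNorm v = 4 * c.card := by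
    unfold Cfsg.sqNorm
    rw [sum_congr rfl fun i _ => hvv i, ← mul_sum, card_filter_indZ]
  have h32 := hA.min v hv fun e => by
    have := hvv j
    rw [e] at this
    simp [indZ, hj] at this
  omega

theorem words_family : IsEvenFamily (supports (wordsAt A 2 : Set (GolayPt → ZMod 2))) := by
  classical
  have two : ∀ a : ZMod 2, a = 0 ∨ a = 1 := by decide
  refine ⟨⟨0, zero_mem _, by ext i; simp [support₂]⟩, ?_, words_min hA hfour, ?_⟩
  · rintro _ ⟨v, hv, rfl⟩ _ ⟨w, hw, rfl⟩
    refine ⟨v + w, add_mem hv hw, ?_⟩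
    ext i
    simp only [support₂, mem_symmDiff, mem_filter, mem_univ, true_and, Pi.add_apply]
    rcases two (v i) with h | h <;> rcases two (w i) with h' | h' <;> simp [h, h', show (1 + 1 : ZMod 2) = 0 from rfl]
  · rintro _ ⟨v, hv, rfl⟩ _ ⟨w, hw, rfl⟩
    have h := hA.words_orth v hv w hw
    rw [even_iff_two_dvd, ← ZMod.natCast_eq_zero_iff_even.trans even_iff_two_dvd, ← h, card_eq_sum_ones, Nat.cast_sum,
      ← sum_subset (subset_univ (support₂ v ∩ support₂ w)) (fun i _ hi => by
        simp only [support₂, mem_inter, mem_filter, mem_univ, true_and] at hi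
        rcases two (v i) with h | h <;> rcases two (w i) with h' | h' <;> simp [h, h'] at hi ⊢)]
    refine sum_congr rfl fun i hi => ?_
    simp only [support₂, mem_inter, mem_filter, mem_univ, true_and] at hi
    rcases two (v i) with h | h <;> rcases two (w i) with h' | h' <;> simp [h, h'] at hi ⊢

omit hfour in
theorem coord_le {x : GolayPt → ℤ} (hn : Cfsg.sqNorm x = 32) (i : GolayPt) : -5 ≤ x i ∧ x i ≤ 5 := by
  have h : x i ^ 2 ≤ Cfsg.sqNorm x := single_le_sum (f := fun j => x j ^ 2) (fun j _ => sq_nonneg _) (mem_univ i)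
  constructor <;> nlinarith

theorem odd_bound (S : Finset (GolayPt → ℤ)) (hS : ∀ x ∈ S, x ∈ A ∧ Cfsg.sqNorm x = 32 ∧ x none % 2 = 1) :
    S.card ≤ 24 * Nat.card ↥(wordsAt A 2) := by
  classical
  rcases S.eq_empty_or_nonempty with rfl | ⟨y, hy⟩
  · simp
  have hodd : ∀ x ∈ S, ∀ i, x i % 2 = 1 := fun x hx i => by
    have := hA.parity x (hS x hx).1 i; have := (hS x hx).2.2; omega
  have habs : ∀ x ∈ S, ∃ p, (x p = 3 ∨ x p = -3) ∧ ∀ k, k ≠ p → x k = 1 ∨ x k = -1 := by
    intro x hx
    have hn : ∑ i, x i ^ 2 = 32 := (hS x hx).2.1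
    have hsq : ∀ i, x i = 1 ∨ x i = -1 ∨ x i = 3 ∨ x i = -3 := fun i => by
      have := coord_le hA (hS x hx).2.1 i
      have := hodd x hx i
      have h25 : ¬ (x i = 5 ∨ x i = -5) := fun h => by
        have h1 : ∑ j ∈ univ.erase i, (1 : ℤ) ≤ ∑ j ∈ univ.erase i, x j ^ 2 := sum_le_sum fun j _ => by
          have := Int.one_le_abs (show x j ≠ 0 by have := hodd x hx j; omega)
          nlinarith [sq_abs (x j)]
        rw [sum_const, card_erase_of_mem (mem_univ i), card_pts, nsmul_eq_mul, mul_one] at h1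
        have h2 := add_sum_erase univ (fun j => x j ^ 2) (mem_univ i)
        push_cast at h1
        rcases h with e | e <;> rw [e] at h2 <;> omega
      omega
    set T := univ.filter fun i => x i = 3 ∨ x i = -3
    have e : ∀ i, x i ^ 2 = 1 + 8 * (if x i = 3 ∨ x i = -3 then 1 else 0) := fun i => by
      rcases hsq i with e | e | e | e <;> rw [e] <;> norm_num
    simp only [e, sum_add_distrib, ← mul_sum, sum_boole, sum_const, card_pts, nsmul_eq_mul, mul_one] at hn
    have hT : T.card = 1 := by
      have : (24 : ℤ) + 8 * (T.card : ℤ) = 32 := hn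
      omega
    obtain ⟨p, hp⟩ := card_eq_one.mp hT
    have hm : ∀ k, (x k = 3 ∨ x k = -3) ↔ k = p := fun k => by simpa [T] using Finset.ext_iff.mp hp k
    refine ⟨p, (hm p).mpr rfl, fun k hk => ?_⟩
    have := hsq k
    have : ¬ (x k = 3 ∨ x k = -3) := fun h => hk ((hm k).mp h)
    omega
  choose p hp hp1 using habs
  let f : {x // x ∈ S} → GolayPt × ↥(wordsAt A 2) := fun x => (p x.1 x.2,
    ⟨redMod 2 (fun i => (x.1 i - y i) / 2), fun i => (x.1 i - y i) / 2, by
      show (fun i => ((2 : ℕ) : ℤ) * ((x.1 i - y i) / 2)) ∈ A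
      convert sub_mem (hS x.1 x.2).1 (hS y hy).1 using 1
      funext i
      have := hodd x.1 x.2 i; have := hodd y hy i
      simp only [Pi.sub_apply]; push_cast; omega, rfl⟩)
  have hinj : Function.Injective f := by
    rintro ⟨x, hx⟩ ⟨z, hz⟩ h
    simp only [f, Prod.mk.injEq, Subtype.mk.injEq] at h
    refine Subtype.ext (funext fun i => ?_)
    obtain ⟨e1, e2⟩ := h
    have e3 : (x i - z i) % 4 = 0 := by
      have := congrFun (congrArg Subtype.val e2) i
      simp only at this
      rw [redMod_apply, redMod_apply, ZMod.intCast_eq_intCast_iff'] at this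
      have := hodd x hx i; have := hodd z hz i; have := hodd y hy i
      push_cast at *
      omega
    show x i = z i
    by_cases hi : i = p x hx
    · subst hi
      have := hp x hx
      have h4 := hp z hz
      rw [← e1] at h4
      omega
    · have := hp1 x hx i hi
      have := hp1 z hz i (e1 ▸ hi)
      omega
  have h := Nat.card_le_card_of_injective f hinj
  rw [Nat.card_prod, Nat.card_eq_fintype_card (α := {x // x ∈ S}), Fintype.card_coe,
    Nat.card_eq_fintype_card (α := GolayPt), Fintype.card_option, ZMod.card] at h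
  exact h

theorem even_bound (S : Finset (GolayPt → ℤ)) (hS : ∀ x ∈ S, x ∈ A ∧ Cfsg.sqNorm x = 32 ∧ x none % 2 = 0) :
    S.card ≤ 98256 := by
  classical
  set f : (GolayPt → ℤ) → Finset GolayPt := fun x => univ.filter fun i => x i % 4 = 2
  have hev : ∀ x ∈ S, ∀ i, x i % 2 = 0 := fun x hx i => by
    have := hA.parity x (hS x hx).1 i; have := (hS x hx).2.2; omega
  set W := supports (wordsAt A 2 : Set (GolayPt → ZMod 2))
  have hW : ∀ x ∈ S, f x ∈ W := fun x hx => by
    refine ⟨redMod 2 (fun i => x i / 2), ⟨fun i => x i / 2, ?_, rfl⟩, ?_⟩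
    · show (fun i => ((2 : ℕ) : ℤ) * (x i / 2)) ∈ A
      convert (hS x hx).1 using 1
      funext i; have := hev x hx i; push_cast; omega
    · ext i
      simp only [support₂, f, mem_filter, mem_univ, true_and]
      rw [redMod_apply, Ne, ZMod.intCast_zmod_eq_zero_iff_dvd]
      have := hev x hx i
      push_cast; omega
  have hsize : ∀ x ∈ S, f x ≠ ∅ → (f x).card = 8 ∧ ∀ i, if i ∈ f x then x i = 2 ∨ x i = -2 else x i = 0 := by
    intro x hx hne
    have hn : ∑ i, x i ^ 2 = 32 := (hS x hx).2.1
    have h8 := words_min hA hfour _ (hW x hx) hne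
    have hin : ∀ i ∈ f x, 4 ≤ x i ^ 2 := fun i hi => by
      have h2 := (mem_filter.mp hi).2
      have : x i ≤ -2 ∨ 2 ≤ x i := by omega
      rcases this with h | h <;> nlinarith
    have h1 : 4 * ((f x).card : ℤ) ≤ ∑ i ∈ f x, x i ^ 2 := by
      rw [mul_comm, ← nsmul_eq_mul]; exact card_nsmul_le_sum _ _ 4 hin
    have h2 : ∑ i ∈ f x, x i ^ 2 + ∑ i ∈ (f x)ᶜ, x i ^ 2 = 32 := by rw [sum_add_sum_compl]; exact hn
    have h3 : 0 ≤ ∑ i ∈ (f x)ᶜ, x i ^ 2 := sum_nonneg fun i _ => sq_nonneg _
    refine ⟨by omega, fun i => ?_⟩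
    by_cases hi : i ∈ f x
    · rw [if_pos hi]
      have hle : x i ^ 2 ≤ 4 := by
        by_contra hlt
        have : ∑ j ∈ f x, (4 : ℤ) < ∑ j ∈ f x, x j ^ 2 := sum_lt_sum hin ⟨i, hi, by omega⟩
        rw [sum_const, nsmul_eq_mul] at this
        omega
      have hb : -2 ≤ x i ∧ x i ≤ 2 := by constructor <;> nlinarith
      have := (mem_filter.mp hi).2
      omega
    · rw [if_neg hi]
      have h4 : ∑ j ∈ (f x)ᶜ, x j ^ 2 = 0 := by omega
      exact pow_eq_zero_iff two_ne_zero |>.mp
        ((sum_eq_zero_iff_of_nonneg fun j _ => sq_nonneg _).mp h4 i (mem_compl.mpr hi))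
  -- vectors divisible by four
  have h0 : (S.filter fun x => f x = ∅).card ≤ 1104 := by
    obtain ⟨T, hTmem, hT⟩ := signed_pairs (α := GolayPt)
    rw [Fintype.card_option, ZMod.card, show Nat.choose (23 + 1) 2 * 4 = 1104 by decide] at hT
    rw [← hT]
    have hval : ∀ x ∈ S.filter (fun x => f x = ∅), (∀ i, x i = 0 ∨ x i = 4 ∨ x i = -4) ∧
        (univ.filter fun i => x i ≠ 0).card = 2 := by
      intro x hx
      obtain ⟨hxS, hfx⟩ := mem_filter.mp hx
      have h4 : ∀ i, x i % 4 = 0 := fun i => by
        have : i ∉ f x := by rw [hfx]; simp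
        simp only [f, mem_filter, mem_univ, true_and] at this
        have := hev x hxS i; omega
      have hb : ∀ i, x i = 0 ∨ x i = 4 ∨ x i = -4 := fun i => by
        have := coord_le hA (hS x hxS).2.1 i
        have := h4 i
        omega
      refine ⟨hb, ?_⟩
      have hn : ∑ i, x i ^ 2 = 32 := (hS x hxS).2.1
      have e : ∀ i, x i ^ 2 = 16 * (if x i ≠ 0 then 1 else 0) := fun i => by
        rcases hb i with e | e | e <;> rw [e] <;> norm_num
      simp only [e, ← mul_sum, sum_boole] at hn
      have : (16 : ℤ) * ((univ.filter fun i => x i ≠ 0).card : ℤ) = 32 := hn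
      omega
    refine card_le_card_of_injOn (fun x => ⟨univ.filter fun i => x i ≠ 0, univ.filter fun i => x i < 0⟩) ?_ ?_
    · intro x hx
      obtain ⟨hb, hc⟩ := hval x hx
      exact hTmem _ hc fun i hi => by
        simp only [mem_filter, mem_univ, true_and] at hi ⊢; omega
    · intro x hx z hz h
      simp only [Sigma.mk.injEq, heq_eq_eq] at h
      funext i
      have h1 := Finset.ext_iff.mp h.1 i
      have h2 := Finset.ext_iff.mp h.2 i
      simp only [mem_filter, mem_univ, true_and] at h1 h2
      have := (hval x hx).1 i; have := (hval z hz).1 i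
      omega
  -- vectors on words of weight eight
  set F := (S.filter fun x => f x ≠ ∅).image f
  have hF : F.card ≤ 759 := card_weight_eight (words_family hA hfour) F fun c hc => by
    obtain ⟨x, hx, rfl⟩ := mem_image.mp hc
    obtain ⟨hxS, hne⟩ := mem_filter.mp hx
    exact ⟨hW x hxS, (hsize x hxS hne).1⟩
  have h1 : (S.filter fun x => f x ≠ ∅).card ≤ 759 * 128 := by
    refine le_trans (card_le_mul_card_image _ 128 fun c hc => ?_) (by rw [mul_comm]; exact Nat.mul_le_mul_right _ hF)
    obtain ⟨x₀, hx₀, rfl⟩ := mem_image.mp hc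
    obtain ⟨hxS₀, hne₀⟩ := mem_filter.mp hx₀
    obtain ⟨j, hj⟩ := nonempty_iff_ne_empty.mpr hne₀
    have hcard : ((f x₀).erase j).powerset.card = 128 := by
      rw [card_powerset, card_erase_of_mem hj, (hsize x₀ hxS₀ hne₀).1]; rfl
    rw [← hcard]
    refine card_le_card_of_injOn (fun x => ((f x₀).erase j).filter fun i => x i < 0) ?_ ?_
    · intro x _; simp only [mem_coe, mem_powerset]; exact filter_subset _ _
    · intro x hx z hz h
      simp only [coe_filter, mem_filter, Set.mem_setOf_eq] at hx hz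
      obtain ⟨⟨hxS, hxne⟩, hxc⟩ := hx
      obtain ⟨⟨hzS, hzne⟩, hzc⟩ := hz
      have vx := (hsize x hxS hxne).2
      have vz := (hsize z hzS hzne).2
      rw [hxc] at vx; rw [hzc] at vz
      have hoff : ∀ i, i ≠ j → x i = z i := fun i hij => by
        have h2 := Finset.ext_iff.mp h i
        simp only [mem_filter, mem_erase, hij, ne_eq, not_false_eq_true, true_and] at h2
        have a := vx i; have b := vz i
        by_cases hi : i ∈ f x₀
        · rw [if_pos hi] at a b; simp only [hi, true_and] at h2; omega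
        · rw [if_neg hi] at a b; omega
      funext i
      by_cases hij : i = j
      swap
      · exact hoff i hij
      subst hij
      by_contra hne
      have a := vx i; have b := vz i
      rw [if_pos hj] at a b
      have hmem := sub_mem (hS x hxS).1 (hS z hzS).1
      have hn : Cfsg.sqNorm (x - z) = 16 := by
        unfold Cfsg.sqNorm
        rw [sum_eq_single i (fun k _ hk => by rw [Pi.sub_apply, hoff k hk]; ring) (by simp), Pi.sub_apply]
        rcases a with e | e <;> rcases b with e' | e' <;> rw [e, e'] at hne ⊢ <;> first | exact absurd rfl hne | norm_num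
      have := hA.min _ hmem fun e => hne (by have := congrFun e i; simp only [Pi.sub_apply, Pi.zero_apply] at this; omega)
      omega
  rw [← card_filter_add_card_filter_not (fun x => f x = ∅)]
  simp only [ne_eq] at h1
  omega

theorem frame_data {S : Finset (GolayPt → ℤ)} (hS : ∀ x ∈ S, x ∈ A ∧ Cfsg.sqNorm x = 32) (hc : S.card = 196560) :
    FrameData A := by
  classical
  have h1 := even_bound hA hfour (S.filter fun x => x none % 2 = 0) fun x hx =>
    ⟨(hS x (mem_filter.mp hx).1).1, (hS x (mem_filter.mp hx).1).2, (mem_filter.mp hx).2⟩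
  have h2 := odd_bound hA hfour (S.filter fun x => ¬ x none % 2 = 0) fun x hx =>
    ⟨(hS x (mem_filter.mp hx).1).1, (hS x (mem_filter.mp hx).1).2, by have := (mem_filter.mp hx).2; omega⟩
  have h3 := card_filter_add_card_filter_not (fun x : GolayPt → ℤ => x none % 2 = 0) (s := S)
  have hw := card_words _ hA.words_orth
  have hodd : ∃ y ∈ A, y none % 2 = 1 := by
    obtain ⟨y, hy⟩ : (S.filter fun x => ¬ x none % 2 = 0).Nonempty := card_pos.mp (by omega)
    exact ⟨y, (hS y (mem_filter.mp hy).1).1, by have := (mem_filter.mp hy).2; omega⟩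
  refine ⟨hA, hodd, by omega, le_antisymm (hA.card_words4' hodd) ?_⟩
  let K : AddSubgroup (GolayPt → ZMod 2) := (∑ i, Pi.evalAddMonoidHom (fun _ : GolayPt => ZMod 2) i).ker
  have hK : ∀ w, w ∈ K ↔ ∑ i, w i = 0 := fun w => by simp [K]
  have hsub : K ≤ wordsAt A 4 := by
    intro w hw
    refine ⟨fun i => ((w i).val : ℤ), ?_, funext fun i => ?_⟩
    · refine hfour (fun i => ((w i).val : ℤ)) ?_
      have h : ((∑ i, ((w i).val : ℤ) : ℤ) : ZMod 2) = 0 := by rw [← (hK w).mp hw]; simp [ZMod.natCast_zmod_val]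
      rw [ZMod.intCast_zmod_eq_zero_iff_dvd] at h
      push_cast at h
      omega
    · rw [redMod_apply]; simp [ZMod.natCast_zmod_val]
  refine le_trans ?_ (AddSubgroup.card_le_of_le hsub)
  have hinj : Function.Injective fun w : ZMod 23 → ZMod 2 =>
      (⟨fun i => i.elim (∑ a, w a) w, (hK _).mpr (by
        rw [Fintype.sum_option]; exact CharTwo.add_self_eq_zero _)⟩ : K) :=
    fun v w h => funext fun a => congrFun (congrArg Subtype.val h) (some a)
  refine le_trans (le_of_eq ?_) (Nat.card_le_card_of_injective _ hinj)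
  rw [Nat.card_eq_fintype_card, Fintype.card_fun, ZMod.card, ZMod.card]

end Cfsg.Lib.Leech
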