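import Cfsg.Agent.Leech.Monomial
import Cfsg.Agent.Golay.Unique
import Mathlib.LinearAlgebra.Dual.Lemmas
import Mathlib.LinearAlgebra.FreeModule.Finite.CardQuotient

/-!
A lattice in coordinates of an orthogonal frame, with the invariants of the rank 24 lattice, is its
image under a signed permutation.
-/

namespace Cfsg.Lib.Leech

open Cfsg Cfsg.Lib.Golay Finset
open scoped Pointwise

/-- The local invariants of the lattice in coordinates of a frame. -/
structure FrameBase (A : AddSubgroup (GolayPt → ℤ)) : Prop where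
  eight : ∀ x, (∀ i, (8 : ℤ) ∣ x i) → x ∈ A
  parity : ∀ x ∈ A, ∀ i, x i % 2 = x none % 2
  dot : ∀ x ∈ A, ∀ y ∈ A, (8 : ℤ) ∣ dotInt x y
  norm : ∀ x ∈ A, (16 : ℤ) ∣ Cfsg.sqNorm x
  min : ∀ x ∈ A, x ≠ 0 → 32 ≤ Cfsg.sqNorm x

/-- The invariants of the lattice in coordinates of a frame. -/
structure FrameForm (A : AddSubgroup (GolayPt → ℤ)) : Prop extends FrameBase A where
  index : A.index = 2 ^ 36

/-- Multiplication of all coordinates by an integer. -/
def scale (m : ℤ) : (GolayPt → ℤ) →+ (GolayPt → ℤ) :=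
  AddMonoidHom.mk' (fun u i => m * u i) fun u v => funext fun i => mul_add _ _ _

theorem scale_apply (m : ℤ) (u : GolayPt → ℤ) (i : GolayPt) : scale m u i = m * u i := rfl

theorem redMod_apply (n : ℕ) (u : GolayPt → ℤ) (i : GolayPt) : redMod n u i = (u i : ZMod n) := rfl

/-- The words of the coordinates divided by an integer. -/
def wordsAt (A : AddSubgroup (GolayPt → ℤ)) (m : ℕ) : AddSubgroup (GolayPt → ZMod 2) :=
  (A.comap (scale m)).map (redMod 2)

theorem mem_wordsAt {A : AddSubgroup (GolayPt → ℤ)} {m : ℕ} {w : GolayPt → ZMod 2} :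
    w ∈ wordsAt A m ↔ ∃ u : GolayPt → ℤ, (fun i => (m : ℤ) * u i) ∈ A ∧ redMod 2 u = w := Iff.rfl

/-- The local invariants together with the sizes of the layers. -/
structure FrameData (A : AddSubgroup (GolayPt → ℤ)) : Prop extends FrameBase A where
  odd : ∃ y ∈ A, y none % 2 = 1
  wordsCard : Nat.card ↥(wordsAt A 2) = 2 ^ 12
  pairsCard : Nat.card ↥(wordsAt A 4) = 2 ^ 23


theorem wordsAt_mono_card (A : AddSubgroup (GolayPt → ℤ)) (m : ℕ) [NeZero m] :
    Nat.card ↥(A.map (redMod (2 * m))) ≤ Nat.card ↥(A.map (redMod m)) * Nat.card ↥(wordsAt A m) := by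
  classical
  let h : ↥(A.map (redMod (2 * m))) →+ (GolayPt → ZMod m) :=
    (Pi.addMonoidHom fun i => (ZMod.castHom (dvd_mul_left m 2) (ZMod m)).toAddMonoidHom.comp
      (Pi.evalAddMonoidHom _ i)).comp (A.map (redMod (2 * m))).subtype
  have hh : ∀ x (hx : x ∈ A), h ⟨redMod (2 * m) x, AddSubgroup.mem_map_of_mem _ hx⟩ = redMod m x :=
    fun x hx => funext fun i => map_intCast (ZMod.castHom (dvd_mul_left m 2) (ZMod m)) _
  have h1 : Nat.card h.range ≤ Nat.card ↥(A.map (redMod m)) := by
    refine AddSubgroup.card_le_of_le ?_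
    rintro _ ⟨⟨_, x, hx, rfl⟩, rfl⟩
    exact ⟨x, hx, (hh x hx).symm⟩
  have h2 : Nat.card h.ker ≤ Nat.card ↥(wordsAt A m) := by
    let g : ↥(wordsAt A m) → (GolayPt → ZMod (2 * m)) := fun w i => (m : ZMod (2 * m)) * ((w.1 i).val : ℕ)
    calc Nat.card h.ker = Set.ncard (Subtype.val '' (h.ker : Set ↥(A.map (redMod (2 * m))))) := by
          rw [Set.ncard_image_of_injective _ Subtype.val_injective]; exact (Nat.card_coe_set_eq _)
      _ ≤ Set.ncard (Set.range g) := by
          refine Set.ncard_le_ncard ?_ (Set.finite_range g)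
          rintro _ ⟨⟨_, x, hx, rfl⟩, hk, rfl⟩
          have h0 : redMod m x = 0 := (hh x hx).symm.trans hk
          choose u hu using redMod_eq_zero.mp h0
          refine ⟨⟨redMod 2 u, u, ?_, rfl⟩, funext fun i => ?_⟩
          · show (fun i => (m : ℤ) * u i) ∈ A
            rw [show (fun i => (m : ℤ) * u i) = x from funext fun i => (hu i).symm]
            exact hx
          · show (m : ZMod (2 * m)) * (((u i : ZMod 2)).val : ℕ) = ((x i : ℤ) : ZMod (2 * m))
            rw [hu i]
            have e : (((u i : ZMod 2)).val : ℤ) = u i % 2 := ZMod.val_intCast _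
            rw [← Int.cast_natCast m, ← Int.cast_natCast ((u i : ZMod 2)).val, ← Int.cast_mul,
              ← sub_eq_zero, ← Int.cast_sub, ZMod.intCast_zmod_eq_zero_iff_dvd, ← mul_sub, e, mul_comm 2 m]
            push_cast
            exact mul_dvd_mul_left _ ⟨-(u i / 2), by omega⟩
      _ ≤ Nat.card ↥(wordsAt A m) := by rw [← Nat.card_coe_set_eq]; exact Finite.card_range_le g
  rw [AddSubgroup.card_eq_card_quotient_mul_card_addSubgroup h.ker,
    Nat.card_congr (QuotientAddGroup.quotientKerEquivRange h).toEquiv]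
  exact Nat.mul_le_mul h1 h2

theorem card_words (C : AddSubgroup (GolayPt → ZMod 2)) (hC : ∀ v ∈ C, ∀ w ∈ C, ∑ i, v i * w i = 0) :
    Nat.card C ≤ 2 ^ 12 := by
  classical
  let W : Submodule (ZMod 2) (GolayPt → ZMod 2) := AddSubgroup.toZModSubmodule 2 C
  have hcard : Nat.card C = 2 ^ Module.finrank (ZMod 2) W := by
    have h := Module.natCard_eq_pow_finrank (K := ZMod 2) (V := W)
    rw [Nat.card_zmod] at h
    exact h
  let E := dotProductEquiv (ZMod 2) GolayPt
  have hle : W.map (E : (GolayPt → ZMod 2) →ₗ[ZMod 2] Module.Dual (ZMod 2) (GolayPt → ZMod 2)) ≤ W.dualAnnihilator := by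
    rintro _ ⟨v, hv, rfl⟩
    rw [Submodule.mem_dualAnnihilator]
    intro w hw
    simpa [E, dotProductEquiv, dotProduct] using hC v hv w hw
  have h1 := Submodule.finrank_mono hle
  rw [LinearEquiv.finrank_map_eq] at h1
  have h2 := Subspace.finrank_add_finrank_dualAnnihilator_eq W
  rw [Module.finrank_fintype_fun_eq_card, Fintype.card_option, ZMod.card] at h2
  rw [hcard]
  exact Nat.pow_le_pow_right (by norm_num) (by omega)

theorem card_oddSets_le : (univ.filter fun s : Finset GolayPt => s.card % 2 = 1).card ≤ 2 ^ 23 := by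
  have h := Finset.card_le_card_of_injOn (t := (univ : Finset (Finset (ZMod 23))))
    (fun s : Finset GolayPt => s.eraseNone) (s := univ.filter fun s : Finset GolayPt => s.card % 2 = 1)
    (fun s _ => Finset.mem_univ _) ?_
  · rwa [Finset.card_univ, Fintype.card_finset, ZMod.card] at h
  intro s hs t ht hst
  simp only [Finset.coe_filter, Finset.mem_univ, true_and, Set.mem_setOf_eq] at hs ht
  have hsome : ∀ a, some a ∈ s ↔ some a ∈ t := fun a => by simpa using Finset.ext_iff.mp hst a
  ext i
  cases i with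
  | some a => exact hsome a
  | none =>
    by_contra hne
    have he : s.erase none = t.erase none := by
      ext i; cases i <;> simp [hsome]
    have hc := congrArg Finset.card he
    by_cases h1 : (none : GolayPt) ∈ s <;> by_cases h2 : (none : GolayPt) ∈ t
    · exact hne (iff_of_true h1 h2)
    · rw [Finset.card_erase_of_mem h1, Finset.erase_eq_of_notMem h2] at hc
      have := Finset.card_pos.mpr ⟨_, h1⟩; omega
    · rw [Finset.card_erase_of_mem h2, Finset.erase_eq_of_notMem h1] at hc
      have := Finset.card_pos.mpr ⟨_, h2⟩; omega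
    · exact hne (iff_of_false h1 h2)

theorem rows_ok : ∀ r ∈ rows, r < 2 ^ 24 ∧ inCode r = true := by decide +kernel

namespace FrameBase

variable {A : AddSubgroup (GolayPt → ℤ)} (hA : FrameBase A)

include hA

theorem words_orth : ∀ v ∈ wordsAt A 2, ∀ w ∈ wordsAt A 2, ∑ i, v i * w i = 0 := by
  rintro _ ⟨u, hu, rfl⟩ _ ⟨u', hu', rfl⟩
  have h := hA.dot _ hu _ hu'
  have e : dotInt (scale (2 : ℕ) u) (scale (2 : ℕ) u') = 4 * ∑ i, u i * u' i := by
    rw [dotInt, mul_sum]
    exact sum_congr rfl fun i _ => by simp [scale]; ring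
  rw [e] at h
  have : ((∑ i, u i * u' i : ℤ) : ZMod 2) = 0 :=
    (ZMod.intCast_zmod_eq_zero_iff_dvd _ 2).mpr (by push_cast; omega)
  simpa [redMod, Int.cast_sum] using this

theorem four_even' (hodd : ∃ y ∈ A, y none % 2 = 1) {u : GolayPt → ℤ} (hu : (fun i => 4 * u i) ∈ A) : (∑ i, u i) % 2 = 0 := by
  obtain ⟨y, hy, hy1⟩ := hodd
  have h := hA.dot _ hu _ hy
  have e : dotInt (fun i => 4 * u i) y = 4 * ∑ i, u i * y i := by
    rw [dotInt, mul_sum]; exact sum_congr rfl fun i _ => by ring
  rw [e] at h
  have e2 : (∑ i, u i * y i) % 2 = (∑ i, u i) % 2 := by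
    rw [Finset.sum_int_mod univ 2 (fun i => u i * y i), Finset.sum_int_mod univ 2 u]
    congr 1
    refine sum_congr rfl fun i _ => ?_
    have hyi := hA.parity y hy i
    rw [Int.mul_emod, show y i % 2 = 1 by omega]; simp
  omega

theorem card_words4' (hodd : ∃ y ∈ A, y none % 2 = 1) : Nat.card ↥(wordsAt A 4) ≤ 2 ^ 23 := by
  have hsub : ∀ w ∈ wordsAt A 4, ∑ i, w i = 0 := by
    rintro _ ⟨u, hu, rfl⟩
    have h := hA.four_even' hodd (u := u) (by exact hu)
    have : ((∑ i, u i : ℤ) : ZMod 2) = 0 := (ZMod.intCast_zmod_eq_zero_iff_dvd _ 2).mpr (by push_cast; omega)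
    simpa [redMod, Int.cast_sum] using this
  have hinj : Function.Injective fun (w : ↥(wordsAt A 4)) (a : ZMod 23) => w.1 (some a) := by
    intro v w hvw
    refine Subtype.ext (funext fun i => ?_)
    cases i with
    | some a => exact congrFun hvw a
    | none =>
      have h1 := hsub _ v.2
      have h2 := hsub _ w.2
      rw [Fintype.sum_option] at h1 h2
      rw [eq_neg_of_add_eq_zero_left h1, eq_neg_of_add_eq_zero_left h2]
      exact congrArg Neg.neg (sum_congr rfl fun a _ => congrFun hvw a)
  refine (Nat.card_le_card_of_injective _ hinj).trans (le_of_eq ?_)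
  rw [Nat.card_eq_fintype_card, Fintype.card_fun, ZMod.card, ZMod.card]

end FrameBase

namespace FrameForm

variable {A : AddSubgroup (GolayPt → ℤ)} (hA : FrameForm A)

include hA

theorem card_mod8 : Nat.card ↥(A.map (redMod 8)) = 2 ^ 36 := by
  have h1 : (A.map (redMod 8)).index = A.index := AddSubgroup.index_map_eq A (redMod_surjective 8) fun x hx =>
    hA.eight x fun i => by exact_mod_cast redMod_eq_zero.mp (AddMonoidHom.mem_ker.mp hx) i
  have h2 := AddSubgroup.card_mul_index (A.map (redMod 8))
  rw [h1, hA.index, Nat.card_fun, Nat.card_zmod, Nat.card_eq_fintype_card (α := GolayPt), Fintype.card_option, ZMod.card] at h2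
  have h3 : (8 : ℕ) ^ (23 + 1) = 2 ^ 36 * 2 ^ 36 := by norm_num
  exact Nat.eq_of_mul_eq_mul_right (Nat.two_pow_pos _) (h2.trans h3)

theorem card_mod2 : Nat.card ↥(A.map (redMod 2)) ≤ 2 ∧
    ((∀ x ∈ A, x none % 2 = 0) → Nat.card ↥(A.map (redMod 2)) ≤ 1) := by
  have hsub : ∀ w ∈ A.map (redMod 2), w = 0 ∨ w = 1 := by
    rintro _ ⟨x, hx, rfl⟩
    rcases Int.emod_two_eq (x none) with h | h
    · exact Or.inl (redMod_eq_zero.mpr fun i => by have := hA.parity x hx i; omega)
    · refine Or.inr (funext fun i => ?_)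
      show ((x i : ℤ) : ZMod 2) = ((1 : ℤ) : ZMod 2)
      rw [ZMod.intCast_eq_intCast_iff']
      have := hA.parity x hx i
      omega
  refine ⟨?_, fun he => ?_⟩
  · rw [← SetLike.coe_sort_coe, Nat.card_coe_set_eq]
    exact le_trans (Set.ncard_le_ncard (fun w hw => hsub w hw) (Set.toFinite ({0, 1} : Set (GolayPt → ZMod 2))))
      (le_trans (Set.ncard_insert_le _ _) (Nat.add_le_add_right (le_of_eq (Set.ncard_singleton _)) _))
  · have : A.map (redMod 2) = ⊥ := by
      refine (AddSubgroup.eq_bot_iff_forall _).mpr ?_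
      rintro _ ⟨x, hx, rfl⟩
      exact redMod_eq_zero.mpr fun i => by have := hA.parity x hx i; have := he x hx; omega
    rw [this]; simp

theorem chain : 2 ^ 36 ≤ Nat.card ↥(A.map (redMod 2)) * Nat.card ↥(wordsAt A 2) * Nat.card ↥(wordsAt A 4) := by
  rw [← hA.card_mod8]
  exact (wordsAt_mono_card A 4).trans (Nat.mul_le_mul_right _ (wordsAt_mono_card A 2))

theorem exists_odd : ∃ y ∈ A, y none % 2 = 1 := by
  by_contra hcon
  push Not at hcon
  have h1 := hA.card_mod2.2 fun x hx => by have := hcon x hx; omega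
  have h2 := card_words _ hA.toFrameBase.words_orth
  have h4 : Nat.card ↥(wordsAt A 4) < 2 ^ 24 := by
    refine lt_of_le_of_ne ?_ fun h => ?_
    · refine le_trans (Nat.card_le_card_of_injective _ Subtype.val_injective) (le_of_eq ?_)
      rw [Nat.card_eq_fintype_card, Fintype.card_fun, ZMod.card, Fintype.card_option, ZMod.card]
    · have htop : wordsAt A 4 = ⊤ := by
        refine AddSubgroup.eq_top_of_card_eq _ ?_
        rw [h, Nat.card_eq_fintype_card, Fintype.card_fun, ZMod.card, Fintype.card_option, ZMod.card]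
      have hmem : (Pi.single none 1 : GolayPt → ZMod 2) ∈ wordsAt A 4 := htop ▸ AddSubgroup.mem_top _
      obtain ⟨u, hu, he⟩ := hmem
      set v : GolayPt → ℤ := fun i => if i = none then 4 else 0
      have hv : v ∈ A := by
        have hd : ∀ i, (8 : ℤ) ∣ scale (4 : ℕ) u i - v i := fun i => by
          have h' : ((u i : ℤ) : ZMod 2) = (((if i = none then 1 else 0 : ℤ)) : ZMod 2) := by
            rw [show ((u i : ℤ) : ZMod 2) = (Pi.single none 1 : GolayPt → ZMod 2) i from congrFun he i]
            cases i <;> simp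
          rw [ZMod.intCast_eq_intCast_iff'] at h'
          simp only [scale_apply, v]
          split at h' <;> split <;> first | omega | simp_all
        have := sub_mem (show scale (4 : ℕ) u ∈ A from hu) (hA.eight (fun i => scale (4 : ℕ) u i - v i) hd)
        convert this using 1
        funext i; simp
      have hn : Cfsg.sqNorm v = 16 := by rw [Cfsg.sqNorm, Fintype.sum_option]; simp [v]
      have := hA.min v hv fun e => by have := congrFun e none; simp [v] at this
      omega
  have := hA.chain
  nlinarith [Nat.mul_le_mul h1 h2]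

theorem card_eqs : Nat.card ↥(wordsAt A 2) = 2 ^ 12 ∧ Nat.card ↥(wordsAt A 4) = 2 ^ 23 := by
  have h1 := hA.card_mod2.1
  have h2 := card_words _ hA.toFrameBase.words_orth
  have h3 := hA.card_words4' hA.exists_odd
  have h := hA.chain
  constructor
  · refine le_antisymm h2 ?_
    nlinarith [Nat.mul_le_mul h1 (le_refl (Nat.card ↥(wordsAt A 2)))]
  · refine le_antisymm h3 ?_
    nlinarith [Nat.mul_le_mul h1 h2]

theorem toData : FrameData A :=
  ⟨hA.toFrameBase, hA.exists_odd, hA.card_eqs.1, hA.card_eqs.2⟩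

end FrameForm

namespace FrameData

variable {A : AddSubgroup (GolayPt → ℤ)} (hA : FrameData A)

include hA

theorem four_even {u : GolayPt → ℤ} (hu : (fun i => 4 * u i) ∈ A) : (∑ i, u i) % 2 = 0 :=
  hA.four_even' hA.odd hu

theorem four_mem {u : GolayPt → ℤ} (hu : (∑ i, u i) % 2 = 0) : (fun i => 4 * u i) ∈ A := by
  let K : AddSubgroup (GolayPt → ZMod 2) := (∑ i, Pi.evalAddMonoidHom (fun _ : GolayPt => ZMod 2) i).ker
  have hK : ∀ w, w ∈ K ↔ ∑ i, w i = 0 := fun w => by simp [K]
  have hle : wordsAt A 4 ≤ K := by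
    rintro _ ⟨v, hv, rfl⟩
    rw [hK]
    have h := hA.four_even (u := v) (by exact hv)
    have : ((∑ i, v i : ℤ) : ZMod 2) = 0 := (ZMod.intCast_zmod_eq_zero_iff_dvd _ 2).mpr (by push_cast; omega)
    simpa [redMod, Int.cast_sum] using this
  have hKc : Nat.card K ≤ 2 ^ 23 := by
    have hinj : Function.Injective fun (w : K) (a : ZMod 23) => w.1 (some a) := by
      intro v w hvw
      refine Subtype.ext (funext fun i => ?_)
      cases i with
      | some a => exact congrFun hvw a
      | none =>
        have h1 := (hK _).mp v.2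
        have h2 := (hK _).mp w.2
        rw [Fintype.sum_option] at h1 h2
        rw [eq_neg_of_add_eq_zero_left h1, eq_neg_of_add_eq_zero_left h2]
        exact congrArg Neg.neg (sum_congr rfl fun a _ => congrFun hvw a)
    refine (Nat.card_le_card_of_injective _ hinj).trans (le_of_eq ?_)
    rw [Nat.card_eq_fintype_card, Fintype.card_fun, ZMod.card, ZMod.card]
  have heq : wordsAt A 4 = K := AddSubgroup.eq_of_le_of_card_ge hle (hA.pairsCard.symm ▸ hKc)
  have hw : redMod 2 u ∈ K := (hK _).mpr (by
    have : ((∑ i, u i : ℤ) : ZMod 2) = 0 := (ZMod.intCast_zmod_eq_zero_iff_dvd _ 2).mpr (by push_cast; omega)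
    simpa [redMod, Int.cast_sum] using this)
  rw [← heq] at hw
  obtain ⟨v, hv, he⟩ := hw
  have hd : ∀ i, (8 : ℤ) ∣ scale (4 : ℕ) v i - 4 * u i := fun i => by
    have := redMod_eq_iff.mp he i
    simp only [scale_apply]
    push_cast at *
    omega
  have := sub_mem (show scale (4 : ℕ) v ∈ A from hv) (hA.eight (fun i => scale (4 : ℕ) v i - 4 * u i) hd)
  convert this using 1
  funext i; simp

/-- The family of supports. -/
theorem isGolay : IsGolayFamily (supports (wordsAt A 2 : Set (GolayPt → ZMod 2))) := by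
  classical
  set S := supports (wordsAt A 2 : Set (GolayPt → ZMod 2))
  have two : ∀ a : ZMod 2, a = 0 ∨ a = 1 := by decide
  have hsupp : ∀ (u : GolayPt → ℤ) i, i ∈ support₂ (redMod 2 u) ↔ u i % 2 = 1 := fun u i => by
    simp only [support₂, mem_filter, mem_univ, true_and]
    rw [redMod_apply, Ne, ZMod.intCast_zmod_eq_zero_iff_dvd]
    omega
  have hsymm : ∀ s ∈ S, ∀ t ∈ S, symmDiff s t ∈ S := by
    rintro _ ⟨v, hv, rfl⟩ _ ⟨w, hw, rfl⟩
    refine ⟨v + w, add_mem hv hw, ?_⟩
    ext i
    simp only [support₂, mem_symmDiff, mem_filter, mem_univ, true_and, Pi.add_apply]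
    rcases two (v i) with h | h <;> rcases two (w i) with h' | h' <;> simp [h, h', show (1 + 1 : ZMod 2) = 0 from rfl]
  have heven : ∀ s ∈ S, ∀ t ∈ S, Even (s ∩ t).card := by
    rintro _ ⟨v, hv, rfl⟩ _ ⟨w, hw, rfl⟩
    have h := hA.toFrameBase.words_orth v hv w hw
    rw [even_iff_two_dvd, ← ZMod.natCast_eq_zero_iff_even.trans even_iff_two_dvd, ← h, card_eq_sum_ones, Nat.cast_sum,
      ← sum_subset (subset_univ (support₂ v ∩ support₂ w)) (fun i _ hi => by
        simp only [support₂, mem_inter, mem_filter, mem_univ, true_and] at hi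
        rcases two (v i) with h | h <;> rcases two (w i) with h' | h' <;> simp [h, h'] at hi ⊢)]
    refine sum_congr rfl fun i hi => ?_
    simp only [support₂, mem_inter, mem_filter, mem_univ, true_and] at hi
    rcases two (v i) with h | h <;> rcases two (w i) with h' | h' <;> simp [h, h'] at hi ⊢
  have hmin : ∀ s ∈ S, s ≠ ∅ → 8 ≤ s.card := by
    rintro _ ⟨w, ⟨u, hu, rfl⟩, rfl⟩ hne
    obtain ⟨j, hj⟩ := nonempty_iff_ne_empty.mpr hne
    set c := support₂ (redMod 2 u)
    let u' : GolayPt → ℤ := fun i => if i ∈ c then 1 else 0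
    have h2 : ∀ i, (u i - u' i) % 2 = 0 := fun i => by
      simp only [u']
      by_cases hi : i ∈ c
      · rw [if_pos hi]; have := (hsupp u i).mp hi; omega
      · rw [if_neg hi]; have := mt (hsupp u i).mpr hi; omega
    -- a representative with coordinates zero or plus minus two
    obtain ⟨v, hv, hvv⟩ : ∃ v ∈ A, ∀ i, if i ∈ c then v i ^ 2 = 4 else v i = 0 := by
      set t : GolayPt → ℤ := fun i => (u i - u' i) / 2
      rcases Int.emod_two_eq (∑ i, t i) with h | h
      · refine ⟨fun i => 2 * u' i, ?_, fun i => by simp only [u']; split <;> simp⟩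
        convert sub_mem (show scale (2 : ℕ) u ∈ A from hu) (hA.four_mem h) using 1
        funext i
        have := h2 i
        simp only [scale_apply, Pi.sub_apply, t]
        push_cast; omega
      · refine ⟨fun i => 2 * u' i - if i = j then 4 else 0, ?_, fun i => ?_⟩
        · convert sub_mem (show scale (2 : ℕ) u ∈ A from hu) (hA.four_mem (u := fun i => t i + if i = j then 1 else 0) (by
            rw [sum_add_distrib, sum_ite_eq' univ j, if_pos (mem_univ j)]; omega)) using 1
          funext i
          have := h2 i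
          simp only [scale_apply, Pi.sub_apply, t]
          push_cast
          split <;> omega
        · simp only [u']
          by_cases hi : i ∈ c
          · rw [if_pos hi, if_pos hi]; split <;> norm_num
          · rw [if_neg hi, if_neg hi, if_neg (fun e : i = j => hi (e ▸ hj))]; norm_num
    have hn : Cfsg.sqNorm v = 4 * c.card := by
      have : ∀ i, v i ^ 2 = 4 * indZ c i := fun i => by
        have := hvv i
        simp only [indZ]
        split at this
        · simp_all
        · simp_all
      unfold Cfsg.sqNorm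
      rw [sum_congr rfl fun i _ => this i, ← mul_sum, card_filter_indZ]
    have h32 := hA.min v hv fun e => by
      have := hvv j
      rw [if_pos hj, e] at this
      simp at this
    omega
  have hcardS : S.ncard = 2 ^ 12 := by
    have hinj : Function.Injective (support₂ : (GolayPt → ZMod 2) → Finset GolayPt) := fun v w h => funext fun i => by
      have h' := Finset.ext_iff.mp h i
      simp only [support₂, mem_filter, mem_univ, true_and] at h'
      rcases two (v i) with a | a <;> rcases two (w i) with b | b <;> simp [a, b] at h' ⊢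
    show (support₂ '' _).ncard = _
    rw [Set.ncard_image_of_injective _ hinj, ← Nat.card_coe_set_eq]
    exact hA.wordsCard
  refine ⟨⟨⟨0, zero_mem _, by ext i; simp [support₂]⟩, hsymm, hmin, heven⟩, fun F hF => ?_⟩
  -- every set of odd size is congruent to a point or a triple
  set T := (powersetCard 1 (univ : Finset GolayPt)) ∪ powersetCard 3 univ
  have hT : T.card = 2048 := by
    rw [card_union_of_disjoint (disjoint_left.mpr fun s h h' => by
      rw [mem_powersetCard] at h h'; omega), card_powersetCard, card_powersetCard, card_pts]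
    decide
  have hTm : ∀ w ∈ T, w.card = 1 ∨ w.card = 3 := fun w hw => by
    simp only [T, mem_union, mem_powersetCard, subset_univ, true_and] at hw; exact hw
  set O := univ.filter fun s : Finset GolayPt => s.card % 2 = 1
  set P := (Set.toFinite S).toFinset ×ˢ T
  have hPc : P.card = 2 ^ 23 := by
    rw [card_product, hT, ← Set.ncard_eq_toFinset_card S, hcardS]
    norm_num
  have himg : P.image (fun p => symmDiff p.1 p.2) = O := by
    refine eq_of_subset_of_card_le (fun d hd => ?_) ?_
    · obtain ⟨⟨s, w⟩, hp, rfl⟩ := mem_image.mp hd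
      obtain ⟨hs, hw⟩ := mem_product.mp hp
      rw [Set.Finite.mem_toFinset] at hs
      have he := heven s hs s hs
      rw [inter_self, Nat.even_iff] at he
      have := card_symmDiff_add (c := s) (d := w)
      simp only [O, mem_filter, mem_univ, true_and]
      rcases hTm w hw with h | h <;> omega
    · rw [card_image_of_injOn, hPc]
      · exact card_oddSets_le
      rintro ⟨s, w⟩ hp ⟨s', w'⟩ hp' he
      simp only [P, coe_product, Set.mem_prod, Set.Finite.coe_toFinset, mem_coe] at hp hp'
      simp only at he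
      have hss : symmDiff s s' = symmDiff w w' := by
        have e1 : symmDiff (symmDiff s w) (symmDiff s' w') = (⊥ : Finset GolayPt) := by rw [he, symmDiff_self]
        rw [symmDiff_symmDiff_symmDiff_comm] at e1
        exact symmDiff_eq_bot.mp e1
      have hle := card_symmDiff_add (c := w) (d := w')
      have : symmDiff s s' = ∅ := by
        by_contra hne
        have := hmin _ (hsymm _ hp.1 _ hp'.1) hne
        rw [hss] at this
        rcases hTm w hp.2 with h | h <;> rcases hTm w' hp'.2 with h' | h' <;> omega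
      have e1 : s = s' := symmDiff_eq_bot.mp (by rw [this]; rfl)
      have e2 : w = w' := symmDiff_eq_bot.mp (by rw [← hss, this]; rfl)
      rw [e1, e2]
  obtain ⟨⟨s, w⟩, hp, hsw⟩ := mem_image.mp (himg.symm ▸ (show F ∈ O by simp [O, hF]) : F ∈ _)
  obtain ⟨hs, hw⟩ := mem_product.mp hp
  rw [Set.Finite.mem_toFinset] at hs
  simp only at hsw
  have hse : s = symmDiff F w := by rw [← hsw, symmDiff_symmDiff_cancel_right]
  have hc := card_symmDiff_add (c := F) (d := w)
  rw [← hse] at hc
  have h8 : 8 ≤ s.card := hmin s hs fun h => by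
    rw [h, card_empty] at hc
    have := card_le_card (inter_subset_left (s₁ := F) (s₂ := w))
    have := card_le_card (inter_subset_right (s₁ := F) (s₂ := w))
    rcases hTm w hw with e | e <;> omega
  refine ⟨s, hs, fun i hi => ?_, by rcases hTm w hw with e | e <;> omega⟩
  have h0 : (F ∩ w).card = 0 := by rcases hTm w hw with e | e <;> omega
  have : i ∉ w := fun hiw => by
    rw [card_eq_zero] at h0
    exact (Finset.eq_empty_iff_forall_notMem.mp h0 i) (mem_inter.mpr ⟨hi, hiw⟩)
  rw [hse, mem_symmDiff]; exact Or.inl ⟨hi, this⟩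

theorem exists_signs : ∃ D : Finset GolayPt, ∀ u : GolayPt → ℤ, (fun i => 2 * u i) ∈ A →
    (∑ i, if i ∈ D then -u i else u i) % 4 = 0 := by
  classical
  have heven : ∀ u : GolayPt → ℤ, (fun i => 2 * u i) ∈ A → (∑ i, u i) % 2 = 0 := fun u hu => by
    have h := hA.norm _ hu
    rw [show Cfsg.sqNorm (fun i => 2 * u i) = 4 * ∑ i, u i ^ 2 by
      unfold Cfsg.sqNorm; rw [mul_sum]; exact sum_congr rfl fun i _ => by ring] at h
    have e : (∑ i, u i ^ 2) % 2 = (∑ i, u i) % 2 := by
      rw [Finset.sum_int_mod univ 2 (fun i => u i ^ 2), Finset.sum_int_mod univ 2 u]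
      congr 1
      refine sum_congr rfl fun i _ => ?_
      rcases Int.emod_two_eq (u i) with h | h <;> simp [pow_two, Int.mul_emod, h]
    omega
  set q : (GolayPt → ℤ) → ZMod 2 := fun u => (((∑ i, u i) / 2 : ℤ) : ZMod 2)
  have hq : ∀ u v : GolayPt → ℤ, (fun i => 2 * u i) ∈ A → (fun i => 2 * v i) ∈ A → redMod 2 u = redMod 2 v → q u = q v := by
    intro u v hu hv he
    choose t ht using redMod_eq_iff.mp he
    push_cast at ht
    have h4 := hA.four_even (u := t) (by
      convert sub_mem hu hv using 1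
      funext i; have := ht i; simp only [Pi.sub_apply]; omega)
    have e : ∑ i, u i = ∑ i, v i + 2 * ∑ i, t i := by
      rw [mul_sum, ← sum_add_distrib]; exact sum_congr rfl fun i _ => by have := ht i; omega
    show (((∑ i, u i) / 2 : ℤ) : ZMod 2) = (((∑ i, v i) / 2 : ℤ) : ZMod 2)
    rw [ZMod.intCast_eq_intCast_iff']
    have := heven v hv
    omega
  have hrep : ∀ w : wordsAt A 2, ∃ u : GolayPt → ℤ, (fun i => 2 * u i) ∈ A ∧ redMod 2 u = w.1 := fun w => by
    obtain ⟨u, hu, he⟩ := w.2
    exact ⟨u, hu, he⟩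
  choose r hr1 hr2 using hrep
  let f : wordsAt A 2 →+ ZMod 2 := AddMonoidHom.mk' (fun w => q (r w)) fun v w => by
    have hmem : (fun i => 2 * (r v + r w) i) ∈ A := by
      convert add_mem (hr1 v) (hr1 w) using 1
      funext i; simp [mul_add]
    rw [hq (r (v + w)) (r v + r w) (hr1 _) hmem (by rw [map_add, hr2, hr2, hr2]; rfl)]
    show (((∑ i, (r v + r w) i) / 2 : ℤ) : ZMod 2) = _
    simp only [Pi.add_apply, sum_add_distrib]
    rw [Int.add_ediv_of_dvd_left (Int.dvd_of_emod_eq_zero (heven _ (hr1 v))), Int.cast_add]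
  let W : Submodule (ZMod 2) (GolayPt → ZMod 2) := AddSubgroup.toZModSubmodule 2 (wordsAt A 2)
  let fW : W →+ ZMod 2 := f
  obtain ⟨l, hl⟩ := LinearMap.exists_extend (fW.toZModLinearMap 2)
  refine ⟨univ.filter fun i => l (Pi.single i 1) = 1, fun u hu => ?_⟩
  have hw : redMod 2 u ∈ wordsAt A 2 := ⟨u, hu, rfl⟩
  have h1 : l (redMod 2 u) = q u := by
    have := congrArg (fun g : W →ₗ[ZMod 2] ZMod 2 => g ⟨redMod 2 u, hw⟩) hl
    refine this.trans ?_
    exact hq _ u (hr1 ⟨redMod 2 u, hw⟩) hu (hr2 ⟨redMod 2 u, hw⟩)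
  have h2 : l (redMod 2 u) = ((∑ i ∈ univ.filter (fun i => l (Pi.single i 1) = 1), u i : ℤ) : ZMod 2) := by
    rw [Int.cast_sum, sum_filter]
    conv_lhs => rw [pi_eq_sum_univ' (redMod 2 u), map_sum]
    refine sum_congr rfl fun i _ => ?_
    rw [map_smul]
    rcases (by decide : ∀ a : ZMod 2, a = 0 ∨ a = 1) (l (Pi.single i 1)) with h | h <;> simp [h, redMod]
  have h3 := (h1.symm.trans h2)
  simp only [q, ZMod.intCast_eq_intCast_iff'] at h3
  have e : ∑ i, (if i ∈ univ.filter (fun i => l (Pi.single i 1) = 1) then -u i else u i)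
      = ∑ i, u i - 2 * ∑ i ∈ univ.filter (fun i => l (Pi.single i 1) = 1), u i := by
    rw [mul_sum, sum_filter, ← sum_sub_distrib]
    exact sum_congr rfl fun i _ => by simp only [mem_filter, mem_univ, true_and]; split <;> ring
  rw [e]
  have := heven u hu
  omega

theorem normalise : ∃ (σ : Equiv.Perm GolayPt) (D : Finset GolayPt),
    ∀ x ∈ A, signedPerm σ D x ∈ leechLattice := by
  classical
  obtain ⟨σ, hσ⟩ := golay_unique hA.isGolay
  obtain ⟨D, hD⟩ := hA.exists_signs
  refine ⟨σ, σ • D, ?_⟩
  have hmemD : ∀ i, i ∈ σ • D ↔ σ.symm i ∈ D := fun i => by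
    rw [← Finset.inv_smul_mem_iff]; rfl
  set y := fun x : GolayPt → ℤ => signedPerm σ (σ • D) x
  have hy : ∀ x i, y x i = if σ.symm i ∈ D then -x (σ.symm i) else x (σ.symm i) := fun x i => by
    simp only [y, signedPerm, hmemD]
  have hcode : ∀ u : GolayPt → ℤ, (fun i => 2 * u i) ∈ A →
      (univ.filter fun i => u (σ.symm i) % 2 = 1) ∈ code := by
    intro u hu
    show _ ∈ supports (golayCode : Set (GolayPt → ZMod 2))
    rw [← hσ]
    refine ⟨support₂ (redMod 2 u), ⟨_, ⟨u, hu, rfl⟩, rfl⟩, ?_⟩
    ext i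
    rw [← Finset.inv_smul_mem_iff]
    simp only [support₂, mem_filter, mem_univ, true_and]
    rw [redMod_apply, Ne, ZMod.intCast_zmod_eq_zero_iff_dvd, Equiv.Perm.smul_def, Equiv.Perm.inv_def]
    omega
  intro x hx
  rcases Int.emod_two_eq (x none) with h | h
  · obtain ⟨u, rfl⟩ : ∃ u : GolayPt → ℤ, (fun i => 2 * u i) = x :=
      ⟨fun i => x i / 2, funext fun i => by have := hA.parity x hx i; show 2 * (x i / 2) = x i; omega⟩
    set c := univ.filter fun i => u (σ.symm i) % 2 = 1 with hc
    set v : GolayPt → ℤ := fun i => if σ.symm i ∈ D then -u (σ.symm i) else u (σ.symm i) with hv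
    have hyv : ∀ i, y (fun i => 2 * u i) i = 2 * v i := fun i => by rw [hy]; simp only [v]; split <;> ring
    have hpar : ∀ i, (v i - indZ c i) % 2 = 0 := fun i => by
      simp only [v, indZ, hc, mem_filter, mem_univ, true_and]; split <;> split <;> omega
    refine mem_lattice.mpr ⟨0, c, fun i => (v i - indZ c i) / 2, hcode u hx, fun i => ?_, ?_⟩
    · show y _ i = _
      rw [hyv]; have := hpar i; omega
    · have e : 2 * ∑ i, (v i - indZ c i) / 2 = ∑ i, v i - c.card := by
        rw [mul_sum, ← card_filter_indZ c, ← sum_sub_distrib]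
        exact sum_congr rfl fun i _ => by have := hpar i; omega
      have e2 : ∑ i, v i = ∑ i, if i ∈ D then -u i else u i :=
        Equiv.sum_comp σ.symm (fun i => if i ∈ D then -u i else u i)
      have := hD u hx
      obtain ⟨a, ha⟩ := four_dvd_card (hcode u hx)
      rw [ha] at e; push_cast at e
      omega
  · have hodd : ∀ i, y x i % 2 = 1 := fun i => by
      have := hA.parity x hx (σ.symm i)
      rw [hy]; split <;> omega
    set d := univ.filter fun i => y x i % 4 = 3 with hd
    set w : GolayPt → ℤ := fun i => (y x i - 1 - 2 * indZ d i) / 4 with hw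
    have hxw : ∀ i, y x i = 1 + 2 * indZ d i + 4 * w i := fun i => by
      have := hodd i
      simp only [w, indZ, hd, mem_filter, mem_univ, true_and]; split <;> omega
    -- the word is orthogonal to the code
    have horth : ∀ s ∈ code, Even (s ∩ d).card := by
      intro s hs
      rw [show code = supports (golayCode : Set (GolayPt → ZMod 2)) from rfl, ← hσ] at hs
      obtain ⟨_, ⟨_, ⟨u, hu, rfl⟩, rfl⟩, rfl⟩ := hs
      have hu' : (fun i => 2 * u i) ∈ A := hu
      set c := σ • support₂ (redMod 2 u) with hcdef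
      have hc : ∀ i, i ∈ c ↔ u (σ.symm i) % 2 = 1 := fun i => by
        simp only [c, ← Finset.inv_smul_mem_iff, support₂, mem_filter, mem_univ, true_and]
        rw [redMod_apply, Ne, ZMod.intCast_zmod_eq_zero_iff_dvd, Equiv.Perm.smul_def, Equiv.Perm.inv_def]
        omega
      set v : GolayPt → ℤ := fun i => if σ.symm i ∈ D then -u (σ.symm i) else u (σ.symm i) with hv
      have hdot : dotInt (fun i => 2 * u i) x = 2 * ∑ i, v i * (1 + 2 * indZ d i + 4 * w i) := by
        rw [dotInt, ← Equiv.sum_comp σ.symm, mul_sum]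
        refine sum_congr rfl fun i _ => ?_
        rw [← hxw i, hy x i]
        simp only [v]; split <;> ring
      have h8 := hA.dot _ hu' _ hx
      rw [hdot] at h8
      have e : ∑ i, v i * (1 + 2 * indZ d i + 4 * w i) = ∑ i, v i + 2 * ∑ i, v i * indZ d i + 4 * ∑ i, v i * w i := by
        rw [mul_sum, mul_sum, ← sum_add_distrib, ← sum_add_distrib]; exact sum_congr rfl fun i _ => by ring
      have e2 : (∑ i, v i * indZ d i) % 2 = ((c ∩ d).card : ℤ) % 2 := by
        rw [← card_filter_indZ (c ∩ d), Finset.sum_int_mod univ 2 (fun i => v i * indZ d i),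
          Finset.sum_int_mod univ 2 (indZ (c ∩ d))]
        congr 1
        refine sum_congr rfl fun i _ => ?_
        have := hc i
        simp only [v, indZ, mem_inter]
        by_cases h1 : i ∈ c <;> by_cases h2 : i ∈ d <;> simp [h1, h2] at this ⊢ <;> split <;> omega
      have e3 : ∑ i, v i = ∑ i, if i ∈ D then -u i else u i :=
        Equiv.sum_comp σ.symm (fun i => if i ∈ D then -u i else u i)
      have := hD u hu'
      rw [e] at h8
      rw [Nat.even_iff]
      show (c ∩ d).card % 2 = 0
      omega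
    have hdc : d ∈ code := mem_supports_of_orth fun r hr => horth _ ((mem_supports_iff _).mpr (by
      rw [mk_pts (rows_ok r hr).1]; exact (rows_ok r hr).2))
    refine mem_lattice.mpr ⟨1, d, w, hdc, hxw, ?_⟩
    have h16 := hA.norm x hx
    rw [← sqNorm_signedPerm σ (σ • D) x] at h16
    rw [show Cfsg.sqNorm (signedPerm σ (σ • D) x) = 24 + 8 * d.card + 8 * ∑ i, w i
        + 16 * ∑ i, (w i * w i + indZ d i * w i) by
      unfold Cfsg.sqNorm
      rw [mul_sum, mul_sum, ← card_filter_indZ d, mul_sum,
        show (24 : ℤ) = ∑ _i : GolayPt, 1 by rw [sum_const, card_pts]; rfl, ← sum_add_distrib, ← sum_add_distrib,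
        ← sum_add_distrib]
      refine sum_congr rfl fun i _ => ?_
      rw [show signedPerm σ (σ • D) x i = _ from hxw i]
      simp only [indZ]; split <;> ring] at h16
    obtain ⟨a, ha⟩ := four_dvd_card hdc
    rw [ha] at h16
    push_cast at h16
    omega

end FrameData

end Cfsg.Lib.Leech
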