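import Cfsg.Agent.Leech.FrameLattice
import Cfsg.Agent.Leech.ModTwo
import Mathlib.LinearAlgebra.Matrix.NonsingularInverse

/-!
Every orthogonal frame of vectors of norm 64 is carried to the standard one; transitivity on the
vectors of norm 64.
-/

namespace Cfsg.Lib.Leech

open Cfsg Cfsg.Lib.Golay Finset Matrix
open scoped Pointwise

theorem eight_dvd_dot {x y : GolayPt → ℤ} (hx : x ∈ leechLattice) (hy : y ∈ leechLattice) : (8 : ℤ) ∣ dotInt x y := by
  have h1 := sixteen_dvd_sqNorm (add_mem hx hy)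
  have h2 := sixteen_dvd_sqNorm hx
  have h3 := sixteen_dvd_sqNorm hy
  have e : Cfsg.sqNorm (x + y) = Cfsg.sqNorm x + 2 * dotInt x y + Cfsg.sqNorm y := by
    simp only [sqNorm_eq_dot, minForm.add_self]
  omega

theorem index_range_det (M : Matrix GolayPt GolayPt ℤ) (hM : M.det ≠ 0) :
    M.mulVecLin.toAddMonoidHom.range.index = M.det.natAbs := by
  have hinj : Function.Injective M.mulVecLin := by
    intro a b h
    by_contra hne
    refine hM (Matrix.exists_mulVec_eq_zero_iff.mp ⟨a - b, sub_ne_zero.mpr hne, ?_⟩)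
    have := congrArg (fun v => v - M.mulVecLin b) h
    simpa [Matrix.mulVec_sub] using this
  have h := Submodule.natAbs_det_equiv (LinearMap.range M.mulVecLin) (LinearEquiv.ofInjective _ hinj)
  have e : (LinearMap.range M.mulVecLin).subtype ∘ₗ
      AddMonoidHom.toIntLinearMap (LinearEquiv.ofInjective _ hinj :
        (GolayPt → ℤ) →+ LinearMap.range M.mulVecLin) = M.mulVecLin := LinearMap.ext fun v => rfl
  rw [e, ← Matrix.toLin'_apply', LinearMap.det_toLin'] at h
  rw [h]
  rfl

theorem index_map_det (M : Matrix GolayPt GolayPt ℤ) (hM : M.det ≠ 0) (A : AddSubgroup (GolayPt → ℤ)) :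
    (A.map M.mulVecLin.toAddMonoidHom).index = A.index * M.det.natAbs := by
  rw [AddSubgroup.index_map, index_range_det M hM]
  congr 2
  refine sup_eq_left.mpr fun v hv => ?_
  have h0 : M *ᵥ v = 0 := hv
  have : v = 0 := by_contra fun hne => hM (Matrix.exists_mulVec_eq_zero_iff.mp ⟨v, hne, h0⟩)
  rw [this]; exact zero_mem _

theorem flip_injective (σ : Equiv.Perm GolayPt) (D : Finset GolayPt) {a b : GolayPt → ℤ}
    (h : signedPerm σ D a = signedPerm σ D b) : a = b := funext fun i => by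
  have := congrFun h (σ i)
  simp only [signedPerm, Equiv.symm_apply_apply] at this
  split at this
  · exact neg_injective this
  · exact this

theorem index_signedPerm (σ : Equiv.Perm GolayPt) (D : Finset GolayPt)
    (f : (GolayPt → ℤ) →+ (GolayPt → ℤ)) (hf : ∀ x, f x = signedPerm σ D x) (A : AddSubgroup (GolayPt → ℤ)) :
    (A.map f).index = A.index := by
  refine AddSubgroup.index_map_eq A (fun y => ?_) (fun v hv => ?_)
  · refine ⟨fun i => if σ i ∈ D then -y (σ i) else y (σ i), funext fun i => ?_⟩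
    rw [hf]; simp only [signedPerm, Equiv.apply_symm_apply]
    split <;> simp
  · have h0 : f v = f 0 := by rw [map_zero]; exact hv
    rw [hf, hf] at h0
    rw [flip_injective σ D h0]; exact zero_mem _

/-- An orthogonal frame of norm 64 is mapped to the coordinate frame. -/
theorem frame_map (y : GolayPt → GolayPt → ℤ) (hy : ∀ k, y k ∈ leechLattice)
    (horth : ∀ j k, dotInt (y j) (y k) = if j = k then 64 else 0)
    (hcong : ∀ k, Cong leechLattice (y k) (y none)) :
    ∃ (g : Co0) (π : Equiv.Perm GolayPt), ∀ k,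
      g • (⟨y k, hy k⟩ : leechLattice) = e8 (π k) ∨ g • (⟨y k, hy k⟩ : leechLattice) = -e8 (π k) := by
  classical
  set Y : Matrix GolayPt GolayPt ℤ := Matrix.of y with hYdef
  have hYY : Y * Yᵀ = (64 : ℤ) • (1 : Matrix GolayPt GolayPt ℤ) := by
    ext j k
    rw [Matrix.mul_apply, Matrix.smul_apply, Matrix.one_apply, smul_eq_mul, mul_ite, mul_one, mul_zero, ← horth j k]
    rfl
  have hcard : Fintype.card GolayPt = 24 := by rw [Fintype.card_option, ZMod.card]
  have hdet2 : Y.det * Y.det = 64 ^ 24 := by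
    have := congrArg Matrix.det hYY
    rwa [det_mul, det_transpose, det_smul, det_one, mul_one, hcard] at this
  have hne : Y.det ≠ 0 := fun h => by rw [h] at hdet2; norm_num at hdet2
  have hnat : Y.det.natAbs = 2 ^ 72 := by
    have h : Y.det.natAbs * Y.det.natAbs = 2 ^ 72 * 2 ^ 72 := by
      rw [← Int.natAbs_mul, hdet2]; norm_num
    exact Nat.mul_self_inj.mp h
  have hYtY : Yᵀ * Y = (64 : ℤ) • (1 : Matrix GolayPt GolayPt ℤ) := by
    have h : Y.det • (Yᵀ * Y) = Y.det • ((64 : ℤ) • (1 : Matrix GolayPt GolayPt ℤ)) := by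
      calc Y.det • (Yᵀ * Y) = (Y.adjugate * Y) * (Yᵀ * Y) := by rw [adjugate_mul, Matrix.smul_mul, Matrix.one_mul]
        _ = Y.adjugate * ((Y * Yᵀ) * Y) := by simp only [Matrix.mul_assoc]
        _ = Y.det • ((64 : ℤ) • (1 : Matrix GolayPt GolayPt ℤ)) := by
            rw [hYY, Matrix.smul_mul, Matrix.one_mul, Matrix.mul_smul, adjugate_mul, smul_comm]
    ext j k
    have := congrFun (congrFun h j) k
    simp only [Matrix.smul_apply, smul_eq_mul] at this ⊢
    exact mul_left_cancel₀ hne this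
  -- the coordinates in the frame
  set L := Y.mulVecLin.toAddMonoidHom with hL
  have hLi : ∀ v i, L v i = dotInt (y i) v := fun v i => rfl
  have h8 : ∀ v ∈ leechLattice, ∀ i, L v i = 8 * (L v i / 8) := fun v hv i => by
    obtain ⟨t, ht⟩ := hLi v i ▸ eight_dvd_dot (hy i) hv
    omega
  let φ : leechLattice →+ (GolayPt → ℤ) := AddMonoidHom.mk' (fun v i => L v i / 8) fun v w => funext fun i => by
    show L ((v : GolayPt → ℤ) + w) i / 8 = L v i / 8 + L w i / 8
    rw [map_add, Pi.add_apply, Int.add_ediv_of_dvd_left ⟨_, h8 _ v.2 i⟩]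
  have hφ : ∀ (v : leechLattice) i, 8 * φ v i = L v i := fun v i => (h8 _ v.2 i).symm
  have hdotφ : ∀ v w : leechLattice, dotInt (φ v) (φ w) = dotInt (v : GolayPt → ℤ) w := by
    intro v w
    have h1 : 64 * dotInt (φ v) (φ w) = dotInt (L v) (L w) := by
      rw [dotInt, dotInt, mul_sum]
      exact sum_congr rfl fun i _ => by rw [← hφ, ← hφ]; ring
    have h2 : dotInt (L v) (L w) = 64 * dotInt (v : GolayPt → ℤ) w := by
      show (Y *ᵥ (v : GolayPt → ℤ)) ⬝ᵥ (Y *ᵥ (w : GolayPt → ℤ)) = 64 * ((v : GolayPt → ℤ) ⬝ᵥ (w : GolayPt → ℤ))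
      rw [Matrix.dotProduct_mulVec, ← Matrix.mulVec_transpose, Matrix.mulVec_mulVec, hYtY, Matrix.smul_mulVec,
        Matrix.one_mulVec, smul_dotProduct, smul_eq_mul]
    omega
  have hnormφ : ∀ v : leechLattice, Cfsg.sqNorm (φ v) = Cfsg.sqNorm (v : GolayPt → ℤ) := fun v => by
    rw [sqNorm_eq_dot, sqNorm_eq_dot, hdotφ]
  have hphiy : ∀ k i, φ ⟨y k, hy k⟩ i = if i = k then 8 else 0 := fun k i => by
    show L (y k) i / 8 = _
    rw [hLi, horth]; split <;> norm_num
  set A := φ.range with hA'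
  have hF : FrameForm A := by
    refine ⟨⟨fun x hx => ?_, ?_, ?_, ?_, ?_⟩, ?_⟩
    · refine ⟨∑ k, (x k / 8) • (⟨y k, hy k⟩ : leechLattice), funext fun i => ?_⟩
      rw [map_sum, Finset.sum_apply, Finset.sum_eq_single i (fun k _ hk => by
        rw [map_zsmul, Pi.smul_apply, hphiy, if_neg hk.symm, smul_zero]) (by simp)]
      rw [map_zsmul, Pi.smul_apply, hphiy, if_pos rfl, smul_eq_mul]
      have := hx i; omega
    · rintro _ ⟨v, rfl⟩ i
      have h16 : (16 : ℤ) ∣ L v i - L v none := by
        obtain ⟨z, hz, he⟩ := hcong i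
        obtain ⟨t, ht⟩ := eight_dvd_dot hz v.2
        refine ⟨t, ?_⟩
        rw [hLi, hLi, show (16 : ℤ) * t = 2 * dotInt z v by rw [ht]; ring]
        simp only [dotInt, ← sum_sub_distrib, mul_sum]
        refine sum_congr rfl fun j _ => ?_
        have hj : y i j - y none j = 2 * z j := by
          have := congrFun he j
          simpa [two_nsmul, two_mul] using this
        rw [← sub_mul, hj, mul_assoc]
      obtain ⟨t, ht⟩ := h16
      have := hφ v i; have := hφ v none
      omega
    · rintro _ ⟨v, rfl⟩ _ ⟨w, rfl⟩; rw [hdotφ]; exact eight_dvd_dot v.2 w.2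
    · rintro _ ⟨v, rfl⟩; rw [hnormφ]; exact sixteen_dvd_sqNorm v.2
    · rintro _ ⟨v, rfl⟩ h0
      rw [hnormφ]
      exact thirtytwo_le_sqNorm v.2 fun e => h0 (by rw [show v = 0 from Subtype.ext e, map_zero])
    · set S : Matrix GolayPt GolayPt ℤ := (8 : ℤ) • 1
      have hS : S.det.natAbs = 2 ^ 72 := by rw [det_smul, det_one, mul_one, hcard]; norm_num
      have hS0 : S.det ≠ 0 := fun h => by rw [h] at hS; norm_num at hS
      have hAmap : A.map S.mulVecLin.toAddMonoidHom = leechLattice.map L := by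
        have e : ∀ v : leechLattice, S *ᵥ φ v = L v := fun v => funext fun i => by
          rw [Matrix.smul_mulVec, Matrix.one_mulVec, Pi.smul_apply, smul_eq_mul, hφ]
        ext z
        constructor
        · rintro ⟨_, ⟨v, rfl⟩, rfl⟩; exact ⟨v, v.2, (e v).symm⟩
        · rintro ⟨v, hv, rfl⟩; exact ⟨φ ⟨v, hv⟩, ⟨_, rfl⟩, e ⟨v, hv⟩⟩
      have h := index_map_det S hS0 A
      rw [hAmap, index_map_det Y hne, index_leech, hnat, hS] at h
      exact (Nat.eq_of_mul_eq_mul_right (Nat.two_pow_pos _) h).symm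
  obtain ⟨σ, D, hσD⟩ := hF.toData.normalise
  let ψ : (GolayPt → ℤ) →+ (GolayPt → ℤ) := AddMonoidHom.mk' (signedPerm σ D) fun a b => funext fun i => by
    simp only [signedPerm, Pi.add_apply]; split <;> ring
  have heq : A.map ψ = leechLattice := by
    have hle : A.map ψ ≤ leechLattice := by rintro _ ⟨x, hx, rfl⟩; exact hσD x hx
    refine le_antisymm hle (AddSubgroup.relIndex_eq_one.mp ?_)
    have h := AddSubgroup.relIndex_mul_index hle
    rw [index_signedPerm σ D ψ (fun _ => rfl) A, hF.index, index_leech] at h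
    exact Nat.eq_of_mul_eq_mul_right (Nat.two_pow_pos 36) (h.trans (one_mul _).symm)
  have hin : ∀ v : leechLattice, ψ (φ v) ∈ leechLattice := fun v => hσD _ ⟨v, rfl⟩
  let gf : leechLattice → leechLattice := fun v => ⟨ψ (φ v), hin v⟩
  have hgb : Function.Bijective gf := by
    constructor
    · intro v w h
      have h1 : φ v = φ w := flip_injective σ D (congrArg Subtype.val h)
      have h2 : Cfsg.sqNorm (φ (v - w)) = 0 := by rw [map_sub, h1, sub_self]; simp [Cfsg.sqNorm]
      rw [hnormφ] at h2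
      by_contra hne'
      have := thirtytwo_le_sqNorm (v - w).2 fun e => hne' (sub_eq_zero.mp (Subtype.ext e))
      omega
    · intro z
      obtain ⟨_, ⟨v, rfl⟩, hv⟩ : (z : GolayPt → ℤ) ∈ A.map ψ := heq.symm ▸ z.2
      exact ⟨v, Subtype.ext hv⟩
  refine ⟨⟨Equiv.ofBijective gf hgb, fun v w => Subtype.ext ?_, fun v => ?_⟩, σ, fun k => ?_⟩
  · show ψ (φ (v + w)) = ψ (φ v) + ψ (φ w)
    rw [map_add, map_add]
  · show Cfsg.sqNorm (signedPerm σ D (φ v)) = _
    rw [sqNorm_signedPerm, hnormφ]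
  · have e : (gf ⟨y k, hy k⟩ : GolayPt → ℤ) = Pi.single (σ k) (if σ k ∈ D then -8 else 8) := by
      funext i
      show signedPerm σ D (φ ⟨y k, hy k⟩) i = _
      simp only [signedPerm, hphiy, Pi.single_apply, Equiv.symm_apply_eq]
      by_cases hi : i = σ k
      · subst hi; split <;> simp
      · simp [hi]
    by_cases hk : σ k ∈ D
    · refine Or.inr (Subtype.ext (e.trans ?_))
      rw [if_pos hk, AddSubgroup.coe_neg]
      show _ = -(Pi.single (σ k) 8 : GolayPt → ℤ)
      rw [Pi.single_neg]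
    · refine Or.inl (Subtype.ext (e.trans ?_))
      rw [if_neg hk]; rfl

end Cfsg.Lib.Leech
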