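import Cfsg.Agent.Leech.Triples
import Cfsg.Agent.Leech.FrameStab

/-!
An involution of the Higman–Sims stabiliser without fixed points on the 100 vectors.
-/

set_option maxRecDepth 100000

namespace Cfsg.Lib.Leech.HSInvolution

open Cfsg Cfsg.Lib.Golay Finset MulAction

/-- A vector with twelve twos on the standard dodecad. -/
def hsV : GolayPt → ℤ := fun i => if (340831 : ℕ).testBit (pidx i) then 2 else 0

/-- Its partner. -/
def hsW : GolayPt → ℤ := fun i =>
  if (340831 : ℕ).testBit (pidx i) then (if pidx i = 0 ∨ pidx i = 1 then 2 else -2) else 0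

/-- The complement of the dodecad. -/
def hsC : Finset GolayPt := pts (16777215 - 340831)

theorem data_ok : inL hsV = true ∧ inL hsW = true ∧ Cfsg.sqNorm hsV = 48 ∧ Cfsg.sqNorm hsW = 48 ∧
    dotInt hsV hsW = -32 ∧ inCode (mk hsC) = true ∧ (∀ i, i ∈ hsC → hsV i = 0 ∧ hsW i = 0) ∧
    (∀ i, i ∉ hsC → hsV i = 2) ∧ (codeMasks.all fun m => m &&& 340831 != m || m == 0 || m == 340831) = true := by
  decide +kernel

theorem hsC_mem : hsC ∈ code := (mem_supports_iff _).mpr data_ok.2.2.2.2.2.1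

theorem s1642 (v w : leechLattice) (hv : Cfsg.sqNorm (v : GolayPt → ℤ) = 48)
    (hw : Cfsg.sqNorm (w : GolayPt → ℤ) = 48) (hvw : dotInt (v : GolayPt → ℤ) w = -32) :
    ∃ g : Co0, g • v = v ∧ g • w = w ∧ orderOf g = 2 ∧
      ∀ x ∈ {x : leechLattice | Cfsg.sqNorm (x : GolayPt → ℤ) = 32 ∧ dotInt (v : GolayPt → ℤ) x = 24 ∧
        dotInt (w : GolayPt → ℤ) x = -24}, g • x ≠ x := by
  classical
  obtain ⟨hV, hW, hnV, hnW, hVW, -, hzero, htwo, hsub⟩ := data_ok
  set V : leechLattice := ⟨hsV, mem_of_inL hV⟩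
  set W : leechLattice := ⟨hsW, mem_of_inL hW⟩
  obtain ⟨x₀, h1, h2, h3⟩ := third_point v w hv hw hvw
  obtain ⟨x₁, h1', h2', h3'⟩ := third_point V W hnV hnW hVW
  obtain ⟨h, hgv, hgw, -⟩ := triangle_transitive v w x₀ V W x₁ hv hw hvw h1 h2 h3 hnV hnW hVW h1' h2' h3'
  set k : Co0 := mono (one_mem M24) hsC_mem with hk
  have hkap : ∀ (y : leechLattice) (i : GolayPt), ((k • y : leechLattice) : GolayPt → ℤ) i
      = if i ∈ hsC then -(y : GolayPt → ℤ) i else (y : GolayPt → ℤ) i := fun y i => flip_base hsC_mem i y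
  have hfix : ∀ y : leechLattice, (∀ i ∈ hsC, (y : GolayPt → ℤ) i = 0) → k • y = y := fun y hy =>
    Subtype.ext (funext fun i => by rw [hkap]; split_ifs with hi <;> [rw [hy i hi]; rfl]; norm_num)
  have hkk : k * k = 1 := co0_ext fun y => Subtype.ext (funext fun i => by
    rw [mul_smul, hkap, hkap, one_smul]; split_ifs <;> simp)
  have hk1 : k ≠ 1 := fun e => by
    have hC : hsC.Nonempty := ⟨ptAt 5, by decide +kernel⟩
    obtain ⟨i, hi⟩ := hC
    have := hkap (e8 i) i
    rw [e, one_smul, if_pos hi] at this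
    have h8 : (e8 i : GolayPt → ℤ) i = 8 := by simp [e8]
    omega
  refine ⟨h⁻¹ * k * h, ?_, ?_, ?_, ?_⟩
  · rw [mul_smul, mul_smul, hgv, hfix V fun i hi => (hzero i hi).1, inv_smul_eq_iff, hgv]
  · rw [mul_smul, mul_smul, hgw, hfix W fun i hi => (hzero i hi).2, inv_smul_eq_iff, hgw]
  · refine orderOf_eq_prime ?_ fun e => hk1 ?_
    · rw [pow_two, show h⁻¹ * k * h * (h⁻¹ * k * h) = h⁻¹ * (k * k) * h by group, hkk]; group
    · calc k = h * (h⁻¹ * k * h) * h⁻¹ := by group
        _ = 1 := by rw [e]; group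
  rintro x ⟨hx, hxv, -⟩ hfx
  set y : leechLattice := h • x with hy
  have hky : k • y = y := by
    rw [mul_smul, mul_smul, inv_smul_eq_iff] at hfx
    exact hfx
  have hyn : Cfsg.sqNorm (y : GolayPt → ℤ) = 32 := (h.2.2 x).trans hx
  have hyd : dotInt hsV (y : GolayPt → ℤ) = 24 := by
    have := dot_smul h v x
    rw [hgv, hxv] at this
    exact this
  have hy0 : ∀ i ∈ hsC, (y : GolayPt → ℤ) i = 0 := fun i hi => by
    have := hkap y i
    rw [hky, if_pos hi] at this
    omega
  have hCne : hsC.Nonempty := ⟨ptAt 5, by decide +kernel⟩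
  have heven : ∀ i, (y : GolayPt → ℤ) i % 2 = 0 := by
    rcases parity_uniform y.2 with e | e
    · exact e
    · obtain ⟨i, hi⟩ := hCne
      have := e i
      rw [hy0 i hi] at this
      omega
  set c := univ.filter fun i => (y : GolayPt → ℤ) i % 4 = 2
  have hc : inCode (mk c) = true := (mem_supports_iff _).mp (word_even y.2 heven)
  have hn' : ∑ i, (y : GolayPt → ℤ) i ^ 2 = 32 := hyn
  have hcle : mk c &&& 340831 = mk c := Nat.eq_of_testBit_eq fun j => by
    rw [Nat.testBit_and]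
    cases hj : (mk c).testBit j
    · rfl
    · obtain ⟨p, hp, rfl⟩ := (testBit_mk_iff c j).mp hj
      have hpC : p ∉ hsC := fun hpC => by
        have h2 := (mem_filter.mp hp).2
        rw [hy0 p hpC] at h2
        omega
      have := htwo p hpC
      simp only [hsV] at this
      split at this
      · assumption
      · omega
  have hc0 : c = ∅ := by
    simp only [List.all_eq_true, Bool.or_eq_true, bne_iff_ne, ne_eq, beq_iff_eq] at hsub
    rcases hsub (mk c) (mem_codeMasks.mpr hc) with (e | e) | e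
    · exact absurd hcle e
    · rw [← pts_mk c, e]; ext p; simp
    · exfalso
      have hcard : c.card = 12 := by
        rw [← pts_mk c, e, ← pc_eq_card]; decide +kernel
      have h4 : ∑ i ∈ c, (4 : ℤ) ≤ ∑ i, (y : GolayPt → ℤ) i ^ 2 :=
        (sum_le_sum fun i hi => by
          have h2 := (mem_filter.mp hi).2
          have : (y : GolayPt → ℤ) i ≤ -2 ∨ 2 ≤ (y : GolayPt → ℤ) i := by omega
          rcases this with h | h <;> nlinarith).trans
          (sum_le_sum_of_subset_of_nonneg (subset_univ c) fun i _ _ => sq_nonneg _)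
      rw [hn', sum_const, hcard] at h4
      norm_num at h4
  have h4 : ∀ i, (4 : ℤ) ∣ (y : GolayPt → ℤ) i := fun i => by
    have : ¬ (y : GolayPt → ℤ) i % 4 = 2 := fun h2 => by
      have : i ∈ c := mem_filter.mpr ⟨mem_univ _, h2⟩
      simp [hc0] at this
    have := heven i
    omega
  choose u hu using h4
  have e1 : 16 * ∑ i, u i ^ 2 = 32 := by
    rw [← hn', mul_sum]; exact sum_congr rfl fun i _ => by rw [hu i]; ring
  have e2 : dotInt hsV (y : GolayPt → ℤ) ≤ 8 * ∑ i, u i ^ 2 := by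
    rw [mul_sum]
    refine sum_le_sum fun i _ => ?_
    have hsq : u i ≤ u i ^ 2 ∧ 0 ≤ u i ^ 2 := ⟨Int.le_self_sq _, sq_nonneg _⟩
    rw [hu i, hsV]
    show (if (340831 : ℕ).testBit (pidx i) then (2 : ℤ) else 0) * (4 * u i) ≤ _
    split_ifs <;> linarith
  omega

end Cfsg.Lib.Leech.HSInvolution
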