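import Cfsg.Agent.Leech.Tetrad
import Cfsg.Agent.Leech.ModTwo
import Cfsg.Agent.Golay.Action

/-!
A quadratic form on the lattice modulo two invariant under the monomial maps and the tetrad map is a
multiple of the norm form.
-/

namespace Cfsg.Lib.Leech

open Cfsg Cfsg.Lib.Golay Finset
open scoped Pointwise

/-- A quadratic form modulo two on the lattice invariant under the monomial and tetrad maps. -/
structure InvQuad (F : (GolayPt → ℤ) → ZMod 2) : Prop where
  coset : ∀ x ∈ leechLattice, ∀ y ∈ leechLattice, F (x + (y + y)) = F x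
  quad : ∀ x ∈ leechLattice, ∀ y ∈ leechLattice, ∀ w ∈ leechLattice,
    F (x + y + w) + F x + F y + F w = F (x + y) + F (x + w) + F (y + w)
  monoInv : ∀ σ ∈ M24, ∀ c ∈ code, ∀ x ∈ leechLattice, F (signedPerm σ c x) = F x
  tetInv : ∀ x ∈ leechLattice, F (tetMap x) = F x

/-- The polar form. -/
def pol2 (F : (GolayPt → ℤ) → ZMod 2) (x y : GolayPt → ℤ) : ZMod 2 := F (x + y) + F x + F y

theorem pol2_comm (F : (GolayPt → ℤ) → ZMod 2) (x y : GolayPt → ℤ) : pol2 F x y = pol2 F y x := by
  simp only [pol2, add_comm x y]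
  ring

theorem z2_split (a b c : ZMod 2) (h : a = b) : a + c = b + c := by rw [h]

theorem z2_add_self (a : ZMod 2) : a + a = 0 := CharTwo.add_self_eq_zero a

theorem F_add_eq (F : (GolayPt → ℤ) → ZMod 2) (x y : GolayPt → ℤ) : F (x + y) = F x + F y + pol2 F x y :=
  (by decide : ∀ a b c : ZMod 2, a = b + c + (a + b + c)) _ _ _

variable {F : (GolayPt → ℤ) → ZMod 2}

theorem InvQuad.map_zero (hF : InvQuad F) : F 0 = 0 := by
  have h := hF.quad 0 (zero_mem _) 0 (zero_mem _) 0 (zero_mem _)
  simp only [add_zero] at h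
  exact (by decide : ∀ a : ZMod 2, a + a + a + a = a + a + a → a = 0) _ h

theorem InvQuad.pol_add (hF : InvQuad F) {x y w : GolayPt → ℤ} (hx : x ∈ leechLattice) (hy : y ∈ leechLattice)
    (hw : w ∈ leechLattice) : pol2 F (x + y) w = pol2 F x w + pol2 F y w := by
  have h := hF.quad x hx y hy w hw
  simp only [pol2]
  exact (by decide : ∀ a b c d e f g : ZMod 2, a + b + c + d = e + f + g →
    a + e + d = (f + b + d) + (g + c + d)) _ _ _ _ _ _ _ h

theorem InvQuad.pol_add' (hF : InvQuad F) {x y w : GolayPt → ℤ} (hx : x ∈ leechLattice) (hy : y ∈ leechLattice)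
    (hw : w ∈ leechLattice) : pol2 F w (x + y) = pol2 F w x + pol2 F w y := by
  rw [pol2_comm, hF.pol_add hx hy hw, pol2_comm F x, pol2_comm F y]

theorem InvQuad.map_double (hF : InvQuad F) {y : GolayPt → ℤ} (hy : y ∈ leechLattice) : F (y + y) = 0 := by
  have h := hF.coset 0 (zero_mem _) y hy
  rw [zero_add, hF.map_zero] at h
  exact h

theorem InvQuad.pol_double (hF : InvQuad F) {x y : GolayPt → ℤ} (hx : x ∈ leechLattice) (hy : y ∈ leechLattice) :
    pol2 F x (y + y) = 0 := by
  simp only [pol2, hF.coset x hx y hy, hF.map_double hy, add_zero, z2_add_self]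

theorem InvQuad.pol_self (hF : InvQuad F) {x : GolayPt → ℤ} (hx : x ∈ leechLattice) : pol2 F x x = 0 := by
  simp only [pol2, hF.map_double hx, zero_add, z2_add_self]

theorem InvQuad.pol_zero (hF : InvQuad F) (x : GolayPt → ℤ) : pol2 F x 0 = 0 := by
  simp only [pol2, add_zero, hF.map_zero, z2_add_self]

theorem InvQuad.map_neg' (hF : InvQuad F) {x : GolayPt → ℤ} (hx : x ∈ leechLattice) : F (-x) = F x := by
  have h := hF.coset x hx (-x) (neg_mem hx)
  rw [← h]
  congr 1
  abel

theorem InvQuad.pol_neg (hF : InvQuad F) {x y : GolayPt → ℤ} (hx : x ∈ leechLattice) (hy : y ∈ leechLattice) :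
    pol2 F y (-x) = pol2 F y x := by
  have e := hF.pol_add' hx (neg_mem hx) hy
  rw [add_neg_cancel, hF.pol_zero y] at e
  exact (by decide : ∀ a b : ZMod 2, 0 = a + b → b = a) _ _ e

/-- The vectors orthogonal to a given one. -/
def InvQuad.orth (hF : InvQuad F) {y : GolayPt → ℤ} (hy : y ∈ leechLattice) : AddSubgroup (GolayPt → ℤ) where
  carrier := {x | x ∈ leechLattice ∧ pol2 F y x = 0}
  zero_mem' := ⟨zero_mem _, hF.pol_zero y⟩
  add_mem' := fun {a b} ha hb => ⟨add_mem ha.1 hb.1, by rw [hF.pol_add' ha.1 hb.1 hy, ha.2, hb.2, add_zero]⟩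
  neg_mem' := fun {a} ha => ⟨neg_mem ha.1, by
    have h := hF.pol_add' ha.1 (neg_mem ha.1) hy
    rw [add_neg_cancel, hF.pol_zero y, ha.2, zero_add] at h
    exact h.symm⟩

theorem InvQuad.pol_zero_closure (hF : InvQuad F) {s : Set (GolayPt → ℤ)} (hs : ∀ a ∈ s, a ∈ leechLattice)
    {y : GolayPt → ℤ} (hy : y ∈ leechLattice) (h : ∀ a ∈ s, pol2 F y a = 0)
    {x : GolayPt → ℤ} (hx : x ∈ AddSubgroup.closure s) : pol2 F y x = 0 :=
  ((AddSubgroup.closure_le (hF.orth hy)).mpr (fun a ha => ⟨hs a ha, h a ha⟩) hx).2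

theorem InvQuad.zero_closure (hF : InvQuad F) {s : Set (GolayPt → ℤ)} (hs : ∀ a ∈ s, a ∈ leechLattice)
    (h0 : ∀ a ∈ s, F a = 0) (h : ∀ a ∈ s, ∀ b ∈ s, pol2 F a b = 0)
    {x : GolayPt → ℤ} (hx : x ∈ AddSubgroup.closure s) : F x = 0 := by
  have hL : AddSubgroup.closure s ≤ leechLattice := (AddSubgroup.closure_le _).mpr hs
  have hp : ∀ a ∈ AddSubgroup.closure s, ∀ b ∈ AddSubgroup.closure s, pol2 F a b = 0 := fun a ha b hb =>
    hF.pol_zero_closure hs (hL ha) (fun b' hb' => by
      rw [pol2_comm]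
      exact hF.pol_zero_closure hs (hs b' hb') (fun a' ha' => by rw [pol2_comm]; exact h a' ha' b' hb') ha) hb
  induction hx using AddSubgroup.closure_induction with
  | mem a ha => exact h0 a ha
  | zero => exact hF.map_zero
  | add a b ha hb iha ihb => rw [F_add_eq F, iha, ihb, hp a ha b hb]; simp
  | neg a ha iha => rw [hF.map_neg' (hL ha), iha]

/-- Four times the sum of two unit vectors. -/
def vPair (i j : GolayPt) : GolayPt → ℤ := fun k => 4 * ((if k = i then 1 else 0) + if k = j then 1 else 0)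

/-- Eight times a unit vector. -/
def vEight (i : GolayPt) : GolayPt → ℤ := fun k => if k = i then 8 else 0

/-- Twice the indicator of a word. -/
def vWord (c : Finset GolayPt) : GolayPt → ℤ := fun k => 2 * indZ c k

/-- The odd vector. -/
def vOdd : GolayPt → ℤ := fun k => 1 - 4 * if k = (none : GolayPt) then 1 else 0

theorem four_mul_mem {z : GolayPt → ℤ} (h : (∑ i, z i) % 2 = 0) : (fun k => 4 * z k) ∈ leechLattice :=
  mem_lattice.mpr ⟨0, ∅, z, empty_mem_code, fun i => by simp [indZ], by simpa using h⟩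

theorem vPair_mem (i j : GolayPt) : vPair i j ∈ leechLattice :=
  four_mul_mem (z := fun k => (if k = i then 1 else 0) + if k = j then 1 else 0) (by simp [sum_add_distrib])

theorem vEight_mem (i : GolayPt) : vEight i ∈ leechLattice :=
  mem_of_eight_dvd fun k => by simp only [vEight]; split <;> simp

theorem vWord_mem {c : Finset GolayPt} (hc : c ∈ code) : vWord c ∈ leechLattice :=
  mem_lattice.mpr ⟨0, c, 0, hc, fun i => by simp [vWord], by simp⟩

theorem vOdd_mem : vOdd ∈ leechLattice :=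
  mem_lattice.mpr ⟨1, ∅, fun i => -(if i = (none : GolayPt) then 1 else 0 : ℤ), empty_mem_code,
    fun i => by simp [vOdd, indZ]; ring, by simp⟩

theorem vPair_comm (i j : GolayPt) : vPair i j = vPair j i := funext fun k => by simp only [vPair]; ring

theorem signedPerm_vPair (σ : Equiv.Perm GolayPt) (i j : GolayPt) :
    signedPerm σ ∅ (vPair i j) = vPair (σ i) (σ j) := by
  funext k
  simp only [signedPerm, notMem_empty, if_false, vPair, Equiv.symm_apply_eq]

theorem signedPerm_vWord (σ : Equiv.Perm GolayPt) (c : Finset GolayPt) :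
    signedPerm σ ∅ (vWord c) = vWord (σ • c) := by
  funext k
  have : k ∈ σ • c ↔ σ.symm k ∈ c := by
    rw [Finset.mem_smul_finset]
    exact ⟨fun ⟨p, hp, he⟩ => by rw [← he]; simpa using hp, fun h => ⟨_, h, σ.apply_symm_apply k⟩⟩
  simp only [signedPerm, notMem_empty, if_false, vWord, indZ, this]

theorem signedPerm_vOdd {σ : Equiv.Perm GolayPt} (h : σ none = none) : signedPerm σ ∅ vOdd = vOdd := by
  funext k
  have : σ.symm k = none ↔ k = none := by rw [Equiv.symm_apply_eq, h]
  simp only [signedPerm, notMem_empty, if_false, vOdd, this]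

theorem exists_perm_tuple {n : ℕ} (hn : n ≤ 5) (f g : Fin n → GolayPt) (hf : Function.Injective f)
    (hg : Function.Injective g) : ∃ σ ∈ M24, ∀ i, σ (f i) = g i := by
  have h5 := M24_five_transitive
  have hk : MulAction.IsMultiplyPretransitive M24 GolayPt n :=
    MulAction.isMultiplyPretransitive_of_le (n := 5) hn (by simp)
  obtain ⟨σ, hσ⟩ := hk.exists_smul_eq (⟨f, hf⟩ : Fin n ↪ GolayPt) ⟨g, hg⟩
  exact ⟨σ, σ.2, fun i => DFunLike.congr_fun hσ i⟩

theorem inj2 {a b : GolayPt} (h : a ≠ b) : Function.Injective ![a, b] := by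
  intro i j e; fin_cases i <;> fin_cases j <;> simp_all

theorem inj3 {a b c : GolayPt} (h1 : a ≠ b) (h2 : a ≠ c) (h3 : b ≠ c) : Function.Injective ![a, b, c] := by
  intro i j e; fin_cases i <;> fin_cases j <;> simp_all

theorem inj4 {a b c d : GolayPt} (h1 : a ≠ b) (h2 : a ≠ c) (h3 : a ≠ d) (h4 : b ≠ c) (h5 : b ≠ d) (h6 : c ≠ d) :
    Function.Injective ![a, b, c, d] := by
  intro i j e; fin_cases i <;> fin_cases j <;> simp_all

theorem exists_ne2 (a b : GolayPt) : ∃ c : GolayPt, c ≠ a ∧ c ≠ b := by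
  by_contra! h
  have : (Finset.univ : Finset GolayPt) ⊆ {a, b} := fun c _ => by
    rcases eq_or_ne c a with e | e
    · simp [e]
    · simp [h c e]
  have := (card_le_card this).trans card_le_two
  simp at this

theorem exists_mem_ne2 {s : Finset GolayPt} (hs : 3 ≤ s.card) (a b : GolayPt) : ∃ c ∈ s, c ≠ a ∧ c ≠ b := by
  by_contra! h
  have : s ⊆ {a, b} := fun c hc => by
    rcases eq_or_ne c a with e | e
    · simp [e]
    · simp [h c hc e]
  have := (card_le_card this).trans card_le_two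
  omega

theorem InvQuad.pol_signedPerm (hF : InvQuad F) {σ : Equiv.Perm GolayPt} (hσ : σ ∈ M24) {c : Finset GolayPt}
    (hc : c ∈ code) {x y : GolayPt → ℤ} (hx : x ∈ leechLattice) (hy : y ∈ leechLattice) :
    pol2 F (signedPerm σ c x) (signedPerm σ c y) = pol2 F x y := by
  have e : signedPerm σ c x + signedPerm σ c y = signedPerm σ c (x + y) := by
    funext i; simp only [signedPerm, Pi.add_apply]; split <;> ring
  simp only [pol2, e, hF.monoInv σ hσ c hc _ hx, hF.monoInv σ hσ c hc _ hy,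
    hF.monoInv σ hσ c hc _ (add_mem hx hy)]

theorem InvQuad.pol_tet (hF : InvQuad F) {x y : GolayPt → ℤ} (hx : x ∈ leechLattice) (hy : y ∈ leechLattice) :
    pol2 F (tetMap x) (tetMap y) = pol2 F x y := by
  simp only [pol2, ← tetMap_add hx hy, hF.tetInv _ hx, hF.tetInv _ hy, hF.tetInv _ (add_mem hx hy)]

/-- A fixed octad, as a list of its eight points. -/
def octPts : Fin 8 → GolayPt := ![none, some 5, some 14, some 17, some 0, some 1, some 2, some 3]

/-- The fixed octad. -/
def octFix : Finset GolayPt := Finset.univ.image octPts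

theorem octFix_facts : inCode (Cfsg.Lib.Golay.mk octFix) = true ∧ octFix.card = 8 ∧ Function.Injective octPts ∧
    (some 4 : GolayPt) ∉ octFix ∧
    (∀ k, vWord octFix k + vWord octFix k = vPair (octPts 0) (octPts 1) k + vPair (octPts 2) (octPts 3) k
      + vPair (octPts 4) (octPts 5) k + vPair (octPts 6) (octPts 7) k) := by decide +kernel

theorem oct5_inj : Function.Injective ![octPts 0, octPts 1, octPts 2, octPts 3, octPts 4] := by decide +kernel

theorem oct5_mem : ∀ k : Fin 5, ![octPts 0, octPts 1, octPts 2, octPts 3, octPts 4] k ∈ octFix := by decide +kernel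

theorem octFix_mem : octFix ∈ octads :=
  ⟨(mem_supports_iff _).mpr octFix_facts.1, octFix_facts.2.1⟩

theorem octFix_word : (codeMasks.any fun m => m &&& Cfsg.Lib.Golay.mk octFix == Cfsg.Lib.Golay.mk {none, some 5}) = true := by decide +kernel

/-- The span of the pairs. -/
def dPart : AddSubgroup (GolayPt → ℤ) := AddSubgroup.closure {x | ∃ i j, i ≠ j ∧ x = vPair i j}

theorem dPart_le : dPart ≤ leechLattice :=
  (AddSubgroup.closure_le _).mpr fun x ⟨i, j, _, hx⟩ => hx ▸ vPair_mem i j

theorem vPair_mem_dPart {i j : GolayPt} (h : i ≠ j) : vPair i j ∈ dPart :=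
  AddSubgroup.subset_closure ⟨i, j, h, rfl⟩

theorem vEight_eq (i j k : GolayPt) : vEight i = vPair i j + vPair i k - vPair j k := by
  funext p
  simp only [vEight, vPair, Pi.add_apply, Pi.sub_apply]
  split <;> split <;> split <;> ring

theorem vEight_mem_dPart (i : GolayPt) : vEight i ∈ dPart := by
  obtain ⟨j, hj, -⟩ := exists_ne2 i i
  obtain ⟨k, hk, hkj⟩ := exists_ne2 i j
  rw [vEight_eq i j k]
  exact sub_mem (add_mem (vPair_mem_dPart hj.symm) (vPair_mem_dPart hk.symm)) (vPair_mem_dPart hkj.symm)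

theorem four_mul_mem_dPart {z : GolayPt → ℤ} (hz : (∑ i, z i) % 2 = 0) : (fun k => 4 * z k) ∈ dPart := by
  classical
  have e : (fun k => 4 * z k) = (∑ a : ZMod 23, z (some a) • (vPair (some a) none - vEight none))
      + ((∑ i, z i) / 2) • vEight none := by
    funext i
    simp only [Pi.add_apply, Finset.sum_apply, Pi.smul_apply, smul_eq_mul, Pi.sub_apply, vPair, vEight]
    cases i with
    | none =>
      simp only [reduceCtorEq, if_false, if_true, zero_add, mul_one, ← sum_mul]
      rw [Fintype.sum_option] at hz ⊢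
      omega
    | some b => simp [Finset.sum_ite_eq', mul_comm]
  rw [e]
  exact add_mem (sum_mem fun a _ => zsmul_mem (sub_mem (vPair_mem_dPart (by simp)) (vEight_mem_dPart _)) _)
    (zsmul_mem (vEight_mem_dPart _) _)

theorem even_decomp {x : GolayPt → ℤ} (hx : x ∈ leechLattice) (he : x none % 2 = 0) :
    ∃ c z, IsDecomp x 0 c z := by
  obtain ⟨c, z, h | h⟩ := mem_lattice_normal.mp hx
  · exact ⟨c, z, h⟩
  · have := h.hx none
    omega

theorem mem_dPart_of_four {x : GolayPt → ℤ} (hx : x ∈ leechLattice) (h4 : ∀ i, (4 : ℤ) ∣ x i) : x ∈ dPart := by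
  have := h4 none
  obtain ⟨c, z, h⟩ := even_decomp hx (by omega)
  have e : x = fun k => 4 * z k := funext fun k => by
    have h1 := h.hx k
    have h2 := h4 k
    simp only [indZ] at h1
    split at h1 <;> omega
  rw [e]
  exact four_mul_mem_dPart (by have := h.hz; omega)

/-- The even vectors. -/
def ePart : AddSubgroup (GolayPt → ℤ) :=
  AddSubgroup.closure ({x | ∃ i j, i ≠ j ∧ x = vPair i j} ∪ {x | ∃ o ∈ octads, x = vWord o})

theorem dPart_le_ePart : dPart ≤ ePart := AddSubgroup.closure_mono Set.subset_union_left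

theorem even_sum_ind {c : Finset GolayPt} (h : Even c.card) : (∑ i, indZ c i) % 2 = 0 := by
  obtain ⟨n, hn⟩ := h
  rw [card_filter_indZ, hn]
  push_cast
  omega

theorem vWord_symmDiff (c o : Finset GolayPt) :
    vWord (symmDiff c o) = vWord c + vWord o - fun k => 4 * indZ (c ∩ o) k := by
  funext k
  simp only [vWord, indZ, mem_symmDiff, mem_inter, Pi.add_apply, Pi.sub_apply]
  by_cases h1 : k ∈ c <;> by_cases h2 : k ∈ o <;> simp [h1, h2]

theorem inter_mem_dPart {c o : Finset GolayPt} (hc : c ∈ code) (ho : o ∈ code) :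
    (fun k => 4 * indZ (c ∩ o) k) ∈ dPart :=
  four_mul_mem_dPart (even_sum_ind (even_card_inter hc ho))

theorem vWord_mem_ePart {c : Finset GolayPt} (hc : c ∈ code) : vWord c ∈ ePart := by
  have h : c ∈ code ∧ vWord c ∈ ePart := by
    refine code_induction (p := fun c => c ∈ code ∧ vWord c ∈ ePart) ⟨empty_mem_code, ?_⟩ ?_ hc
    · rw [show vWord ∅ = 0 from funext fun k => by simp [vWord, indZ]]
      exact zero_mem _
    · rintro o ho c ⟨hcc, hcE⟩
      refine ⟨symmDiff_mem_supports hcc ho.1, ?_⟩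
      rw [vWord_symmDiff]
      exact sub_mem (add_mem hcE (AddSubgroup.subset_closure (Or.inr ⟨o, ho, rfl⟩)))
        (dPart_le_ePart (inter_mem_dPart hcc ho.1))
  exact h.2

theorem mem_ePart {x : GolayPt → ℤ} (hx : x ∈ leechLattice) (he : x none % 2 = 0) : x ∈ ePart := by
  obtain ⟨c, z, h⟩ := even_decomp hx he
  have e : x = vWord c + fun k => 4 * z k := funext fun k => by
    rw [h.hx k]; simp [vWord]
  rw [e]
  exact add_mem (vWord_mem_ePart h.hc) (dPart_le_ePart (four_mul_mem_dPart (by have := h.hz; omega)))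

/-- The images of pairs under the tetrad map stay in the pair span. -/
theorem tetMap_vEight_mem (i : GolayPt) : tetMap (vEight i) ∈ dPart := by
  refine mem_dPart_of_four (tetMap_mem (vEight_mem i)) fun k => ?_
  have h : tsum6 (vEight i) (tetIdx k) = if i ∈ tetSet (tetIdx k) then 8 else 0 := by
    simp [tsum6, vEight, Finset.sum_ite_eq']
  simp only [tetMap, h, vEight]
  split <;> split <;> split <;> norm_num

/-- An octad meeting every tetrad in an odd number of points. -/
def octOddMask : ℕ := (octMasks.find? fun m => pc (m &&& 15) % 2 == 1).getD 0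

theorem octOdd_facts : inCode octOddMask = true ∧ pc octOddMask = 8 ∧
    ∀ k, tetMap (vWord (pts octOddMask)) k % 2 = 1 := by decide +kernel

theorem tetPairs_facts :
    (∀ a b : Fin 6, a ≠ b → (tetSet a ∪ tetSet b).card = 8) := by decide +kernel

theorem tetPair_mem {a b : Fin 6} (h : a ≠ b) : tetSet a ∪ tetSet b ∈ octads := by
  refine ⟨?_, tetPairs_facts a b h⟩
  have := tetUnion_mem (J := {a, b}) (by rw [card_pair h])
  convert this using 1
  ext p; simp [mem_tetSet]

theorem tetPair_identity : ∀ k, vWord (tetSet 0 ∪ tetSet 1) k + vWord (tetSet 0 ∪ tetSet 2) k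
    = vWord (tetSet 1 ∪ tetSet 2) k + 4 * indZ (tetSet 0) k := by decide +kernel

namespace InvQuad

variable (hF : InvQuad F)
include hF

theorem pairs_orth_disjoint {a b c d : GolayPt} (h1 : a ≠ b) (h2 : a ≠ c) (h3 : a ≠ d) (h4 : b ≠ c)
    (h5 : b ≠ d) (h6 : c ≠ d) : pol2 F (vPair a b) (vPair c d) = 0 := by
  set p := octPts with hp
  obtain ⟨-, -, hinj, -, hsum⟩ := octFix_facts
  have key : ∀ {a' b' c' d' : GolayPt}, a' ≠ b' → a' ≠ c' → a' ≠ d' → b' ≠ c' → b' ≠ d' → c' ≠ d' →
      pol2 F (vPair a' b') (vPair c' d') = pol2 F (vPair a b) (vPair c d) := by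
    intro a' b' c' d' g1 g2 g3 g4 g5 g6
    obtain ⟨σ, hσ, hm⟩ := exists_perm_tuple (by norm_num : 4 ≤ 5) ![a, b, c, d] ![a', b', c', d']
      (inj4 h1 h2 h3 h4 h5 h6) (inj4 g1 g2 g3 g4 g5 g6)
    have e0 := hm 0; have e1 := hm 1; have e2 := hm 2; have e3 := hm 3
    simp at e0 e1 e2 e3
    rw [← hF.pol_signedPerm hσ empty_mem_code (vPair_mem a b) (vPair_mem c d), signedPerm_vPair,
      signedPerm_vPair, e0, e1, e2, e3]
  have hne : ∀ {i j : Fin 8}, i ≠ j → p i ≠ p j := fun h e => h (hinj e)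
  have hz : pol2 F (vPair (p 0) (p 1)) (vPair (p 0) (p 1) + vPair (p 2) (p 3) + vPair (p 4) (p 5)
      + vPair (p 6) (p 7)) = 0 := by
    rw [show vPair (p 0) (p 1) + vPair (p 2) (p 3) + vPair (p 4) (p 5) + vPair (p 6) (p 7)
      = vWord octFix + vWord octFix from (funext hsum).symm]
    exact hF.pol_double (vPair_mem _ _) (vWord_mem octFix_mem.1)
  rw [hF.pol_add' (add_mem (add_mem (vPair_mem _ _) (vPair_mem _ _)) (vPair_mem _ _)) (vPair_mem _ _) (vPair_mem _ _),
    hF.pol_add' (add_mem (vPair_mem _ _) (vPair_mem _ _)) (vPair_mem _ _) (vPair_mem _ _),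
    hF.pol_add' (vPair_mem _ _) (vPair_mem _ _) (vPair_mem _ _), hF.pol_self (vPair_mem _ _),
    key (hne (by decide)) (hne (by decide)) (hne (by decide)) (hne (by decide)) (hne (by decide)) (hne (by decide)),
    key (hne (by decide)) (hne (by decide)) (hne (by decide)) (hne (by decide)) (hne (by decide)) (hne (by decide)),
    key (hne (by decide)) (hne (by decide)) (hne (by decide)) (hne (by decide)) (hne (by decide)) (hne (by decide))]
    at hz
  exact (by decide : ∀ x : ZMod 2, 0 + x + x + x = 0 → x = 0) _ hz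

theorem pairs_orth_meet {a b c : GolayPt} (h1 : a ≠ b) (h2 : a ≠ c) (h3 : b ≠ c) :
    pol2 F (vPair a b) (vPair a c) = 0 := by
  set p := octPts with hp
  obtain ⟨-, -, hinj, hout, hsum⟩ := octFix_facts
  have hne : ∀ {i j : Fin 8}, i ≠ j → p i ≠ p j := fun h e => h (hinj e)
  have hy : ∀ i : Fin 8, p i ≠ some 4 := fun i e => hout (e ▸ mem_image_of_mem _ (mem_univ i))
  have key : pol2 F (vPair (p 0) (some 4)) (vPair (p 0) (p 1)) = pol2 F (vPair a b) (vPair a c) := by
    obtain ⟨σ, hσ, hm⟩ := exists_perm_tuple (by norm_num : 3 ≤ 5) ![a, b, c] ![p 0, some 4, p 1]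
      (inj3 h1 h2 h3) (inj3 (hy 0) (hne (by decide)) (hy 1).symm)
    have e0 := hm 0; have e1 := hm 1; have e2 := hm 2
    simp at e0 e1 e2
    rw [← hF.pol_signedPerm hσ empty_mem_code (vPair_mem a b) (vPair_mem a c), signedPerm_vPair,
      signedPerm_vPair, e0, e1, e2]
  have hz : pol2 F (vPair (p 0) (some 4)) (vPair (p 0) (p 1) + vPair (p 2) (p 3) + vPair (p 4) (p 5)
      + vPair (p 6) (p 7)) = 0 := by
    rw [show vPair (p 0) (p 1) + vPair (p 2) (p 3) + vPair (p 4) (p 5) + vPair (p 6) (p 7)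
      = vWord octFix + vWord octFix from (funext hsum).symm]
    exact hF.pol_double (vPair_mem _ _) (vWord_mem octFix_mem.1)
  rw [hF.pol_add' (add_mem (add_mem (vPair_mem _ _) (vPair_mem _ _)) (vPair_mem _ _)) (vPair_mem _ _) (vPair_mem _ _),
    hF.pol_add' (add_mem (vPair_mem _ _) (vPair_mem _ _)) (vPair_mem _ _) (vPair_mem _ _),
    hF.pol_add' (vPair_mem _ _) (vPair_mem _ _) (vPair_mem _ _), key,
    hF.pairs_orth_disjoint (hy 0) (hne (by decide)) (hne (by decide)) (hy 2).symm (hy 3).symm (hne (by decide)),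
    hF.pairs_orth_disjoint (hy 0) (hne (by decide)) (hne (by decide)) (hy 4).symm (hy 5).symm (hne (by decide)),
    hF.pairs_orth_disjoint (hy 0) (hne (by decide)) (hne (by decide)) (hy 6).symm (hy 7).symm (hne (by decide))]
    at hz
  simpa using hz

theorem pairs_orth {a b c d : GolayPt} (h : a ≠ b) (h' : c ≠ d) : pol2 F (vPair a b) (vPair c d) = 0 := by
  by_cases hac : a = c
  · subst hac
    by_cases hbd : b = d
    · subst hbd; exact hF.pol_self (vPair_mem _ _)
    · exact hF.pairs_orth_meet h h' hbd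
  by_cases had : a = d
  · subst had
    rw [vPair_comm c a]
    by_cases hbc : b = c
    · subst hbc; exact hF.pol_self (vPair_mem _ _)
    · exact hF.pairs_orth_meet h h'.symm hbc
  by_cases hbc : b = c
  · subst hbc
    rw [vPair_comm a b]
    exact hF.pairs_orth_meet h.symm h' had
  by_cases hbd : b = d
  · subst hbd
    rw [vPair_comm a b, vPair_comm c b]
    exact hF.pairs_orth_meet h.symm h'.symm hac
  exact hF.pairs_orth_disjoint h hac had hbc hbd h'

theorem dPart_orth {x y : GolayPt → ℤ} (hx : x ∈ dPart) (hy : y ∈ dPart) : pol2 F x y = 0 := by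
  refine hF.pol_zero_closure (s := {x | ∃ i j, i ≠ j ∧ x = vPair i j}) (fun a ⟨i, j, _, e⟩ => e ▸ vPair_mem i j) (dPart_le hx) ?_ hy
  rintro b ⟨i, j, hij, rfl⟩
  rw [pol2_comm]
  refine hF.pol_zero_closure (s := {x | ∃ i j, i ≠ j ∧ x = vPair i j}) (fun a ⟨i, j, _, e⟩ => e ▸ vPair_mem i j) (vPair_mem i j) ?_ hx
  rintro a ⟨k, l, hkl, rfl⟩
  exact hF.pairs_orth hij hkl

theorem vPair_zero {a b : GolayPt} (h : a ≠ b) : F (vPair a b) = 0 := by
  have key : ∀ {a' b' : GolayPt}, a' ≠ b' → F (vPair a' b') = F (vPair a b) := by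
    intro a' b' g
    obtain ⟨σ, hσ, hm⟩ := exists_perm_tuple (by norm_num : 2 ≤ 5) ![a, b] ![a', b'] (inj2 h) (inj2 g)
    have e0 := hm 0; have e1 := hm 1
    simp at e0 e1
    rw [← hF.monoInv σ hσ ∅ empty_mem_code _ (vPair_mem a b), signedPerm_vPair, e0, e1]
  have h8 : F (vEight b) = F (vPair a b) := by
    obtain ⟨k, hka, hkb⟩ := exists_ne2 a b
    have d1 := vPair_mem_dPart h.symm
    have d2 := vPair_mem_dPart hkb.symm
    have d3 := vPair_mem_dPart hka.symm
    rw [vEight_eq b a k, sub_eq_add_neg, F_add_eq F, F_add_eq F, hF.map_neg' (vPair_mem _ _), key h.symm, key hkb.symm,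
      key hka.symm, hF.dPart_orth d1 d2, hF.dPart_orth (add_mem d1 d2) (neg_mem d3)]
    exact (by decide : ∀ x : ZMod 2, x + x + 0 + x + 0 = x) _
  obtain ⟨c, hc, hs⟩ := exists_code_sep h
  have flip : ∀ a b : GolayPt, a ≠ b → a ∉ c → b ∈ c → F (vEight b) = 0 := by
    intro a b hab ha hb
    have hi := hF.monoInv 1 (one_mem _) c hc _ (vPair_mem a b)
    have e : signedPerm 1 c (vPair a b) = vPair a b + -vEight b := by
      funext k
      have h1 : (1 : Equiv.Perm GolayPt).symm k = k := rfl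
      simp only [signedPerm, h1, vPair, vEight, Pi.add_apply, Pi.neg_apply]
      rcases eq_or_ne k b with rfl | hkb
      · simp [hb, hab.symm]
      · rcases eq_or_ne k a with rfl | hka
        · simp [ha, hab]
        · simp [hka, hkb]
    rw [e, F_add_eq F, hF.map_neg' (vEight_mem b),
      hF.dPart_orth (vPair_mem_dPart hab) (neg_mem (vEight_mem_dPart b))] at hi
    exact (by decide : ∀ x y : ZMod 2, x + y + 0 = x → y = 0) _ _ hi
  by_cases ha : a ∈ c
  · have hb : b ∉ c := fun hb => hs (iff_of_true ha hb)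
    have h0 := flip b a h.symm hb ha
    obtain ⟨k, hka, hkb⟩ := exists_ne2 a b
    have d1 := vPair_mem_dPart h
    have d2 := vPair_mem_dPart hka.symm
    have d3 := vPair_mem_dPart hkb.symm
    rw [vEight_eq a b k, sub_eq_add_neg, F_add_eq F, F_add_eq F, hF.map_neg' (vPair_mem _ _), key hka.symm, key hkb.symm,
      hF.dPart_orth d1 d2, hF.dPart_orth (add_mem d1 d2) (neg_mem d3)] at h0
    exact (by decide : ∀ x : ZMod 2, x + x + 0 + x + 0 = 0 → x = 0) _ h0
  · have hb : b ∈ c := by_contra fun hb => hs (iff_of_false ha hb)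
    rw [← h8]
    exact flip a b h ha hb

theorem dPart_zero {x : GolayPt → ℤ} (hx : x ∈ dPart) : F x = 0 := by
  refine hF.zero_closure (s := {x | ∃ i j, i ≠ j ∧ x = vPair i j}) (fun a ⟨i, j, _, e⟩ => e ▸ vPair_mem i j) ?_ ?_ hx
  · rintro a ⟨i, j, hij, rfl⟩; exact hF.vPair_zero hij
  · rintro a ⟨i, j, hij, rfl⟩ b ⟨k, l, hkl, rfl⟩; exact hF.pairs_orth hij hkl

theorem pol_vWord_dPart {x : GolayPt → ℤ} {o : Finset GolayPt} (ho : o ∈ code) (hx : x ∈ dPart)
    (h : ∀ i j, i ≠ j → pol2 F (vWord o) (vPair i j) = 0) : pol2 F (vWord o) x = 0 :=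
  hF.pol_zero_closure (s := {x | ∃ i j, i ≠ j ∧ x = vPair i j}) (fun a ⟨i, j, _, e⟩ => e ▸ vPair_mem i j) (vWord_mem ho)
    (fun a ⟨i, j, hij, e⟩ => e ▸ h i j hij) hx

theorem oct_inside {o : Finset GolayPt} (ho : o ∈ octads) {i j : GolayPt} (hi : i ∈ o) (hj : j ∈ o) (hij : i ≠ j) :
    pol2 F (vWord o) (vPair i j) = 0 := by
  -- the fixed octad first
  have base : pol2 F (vWord octFix) (vPair none (some 5)) = 0 := by
    obtain ⟨m, hm, hm'⟩ := List.any_eq_true.mp octFix_word
    simp only [beq_iff_eq] at hm'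
    have hc : pts m ∈ code := (mem_supports_iff _).mpr (by
      rw [mk_pts (lt_of_inCode (mem_codeMasks.mp hm))]; exact mem_codeMasks.mp hm)
    have hmem : ∀ k, (k ∈ pts m ∧ k ∈ octFix) ↔ (k = none ∨ k = some 5) := fun k => by
      have h1 : (m &&& Cfsg.Lib.Golay.mk octFix).testBit (pidx k) = (Cfsg.Lib.Golay.mk ({none, some 5} : Finset GolayPt)).testBit (pidx k) := by
        rw [hm']
      rw [Nat.testBit_and] at h1
      have h2 := testBit_mk ({none, some 5} : Finset GolayPt) k
      rw [← h1, Bool.and_eq_true, testBit_mk, ← mem_pts] at h2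
      simpa using h2
    have e : signedPerm 1 (pts m) (vWord octFix) = vWord octFix + -vPair none (some 5) := by
      funext k
      have h1 : (1 : Equiv.Perm GolayPt).symm k = k := rfl
      have h2 := hmem k
      simp only [signedPerm, h1, vWord, indZ, vPair, Pi.add_apply, Pi.neg_apply]
      by_cases a : k = none ∨ k = some 5
      · obtain ⟨b1, b2⟩ := h2.mpr a
        rcases a with rfl | rfl <;> simp [b1, b2]
      · obtain ⟨a3, a4⟩ := not_or.mp a
        by_cases a2 : k ∈ octFix
        · have a1 : k ∉ pts m := fun a1 => a (h2.mp ⟨a1, a2⟩)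
          simp [a1, a2, a3, a4]
        · simp [a2, a3, a4]
    have hinv := hF.monoInv 1 (one_mem _) (pts m) hc _ (vWord_mem octFix_mem.1)
    rw [e, F_add_eq F, hF.map_neg' (vPair_mem _ _), hF.vPair_zero (by simp)] at hinv
    rw [hF.pol_neg (vPair_mem _ _) (vWord_mem octFix_mem.1)] at hinv
    exact (by decide : ∀ x y : ZMod 2, x + 0 + y = x → y = 0) _ _ hinv
  -- five points determine the octad
  classical
  have hsub : ({i, j} : Finset GolayPt) ⊆ o := by simp [insert_subset_iff, hi, hj]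
  obtain ⟨t, ht1, ht2, ht3⟩ := exists_subsuperset_card_eq hsub (show ({i, j} : Finset GolayPt).card ≤ 5 by
    rw [card_pair hij]; norm_num) (by rw [ho.2]; norm_num)
  have hcard : (t \ {i, j}).card = 3 := by rw [card_sdiff_of_subset ht1, card_pair hij, ht3]
  obtain ⟨a, b, c, hab, hac, hbc, habc⟩ := card_eq_three.mp hcard
  have hmem : ∀ p ∈ ({a, b, c} : Finset GolayPt), p ∈ o ∧ p ≠ i ∧ p ≠ j := by
    intro p hp
    rw [← habc, mem_sdiff] at hp
    exact ⟨ht2 hp.1, fun e => hp.2 (by simp [e]), fun e => hp.2 (by simp [e])⟩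
  obtain ⟨haO, hai, haj⟩ := hmem a (by simp)
  obtain ⟨hbO, hbi, hbj⟩ := hmem b (by simp)
  obtain ⟨hcO, hci, hcj⟩ := hmem c (by simp)
  have hg : Function.Injective ![i, j, a, b, c] := by
    intro p q e; fin_cases p <;> fin_cases q <;> simp_all
  have hf : Function.Injective ![octPts 0, octPts 1, octPts 2, octPts 3, octPts 4] := by
    exact oct5_inj
  obtain ⟨σ, hσ, hm⟩ := exists_perm_tuple (le_refl 5) _ _ hf hg
  have himg : σ • octFix = o := by
    refine octad_eq_of_five_le (smul_mem_octads hσ octFix_mem) ho ?_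
    have hs : ({i, j, a, b, c} : Finset GolayPt) ⊆ (σ • octFix) ∩ o := by
      intro p hp
      simp only [mem_insert, mem_singleton] at hp
      rw [mem_inter, Finset.mem_smul_finset]
      rcases hp with rfl | rfl | rfl | rfl | rfl
      · exact ⟨⟨octPts 0, mem_image_of_mem _ (mem_univ _), hm 0⟩, hi⟩
      · exact ⟨⟨octPts 1, mem_image_of_mem _ (mem_univ _), hm 1⟩, hj⟩
      · exact ⟨⟨octPts 2, mem_image_of_mem _ (mem_univ _), hm 2⟩, haO⟩
      · exact ⟨⟨octPts 3, mem_image_of_mem _ (mem_univ _), hm 3⟩, hbO⟩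
      · exact ⟨⟨octPts 4, mem_image_of_mem _ (mem_univ _), hm 4⟩, hcO⟩
    refine le_trans ?_ (card_le_card hs)
    simp [hij, hai.symm, haj.symm, hbi.symm, hbj.symm, hci.symm, hcj.symm, hab, hac, hbc]
  have e0 : σ none = i := hm 0
  have e1 : σ (some 5) = j := hm 1
  rw [← hF.pol_signedPerm hσ empty_mem_code (vWord_mem octFix_mem.1) (vPair_mem none (some 5)), signedPerm_vWord,
    signedPerm_vPair, himg, e0, e1] at base
  exact base

theorem oct_outside {o : Finset GolayPt} (ho : o ∈ octads) {i j : GolayPt} (hi : i ∉ o) (hj : j ∉ o) (hij : i ≠ j) :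
    pol2 F (vWord o) (vPair i j) = 0 := by
  classical
  obtain ⟨s, hs, hs3⟩ := exists_subset_card_eq (show 3 ≤ o.card by rw [ho.2]; norm_num)
  have hu : (insert i (insert j s)).card = 5 := by
    rw [card_insert_of_notMem (by simp only [mem_insert, not_or]; exact ⟨hij, fun h => hi (hs h)⟩),
      card_insert_of_notMem (fun h => hj (hs h)), hs3]
  obtain ⟨o₁, ⟨ho₁, hsub⟩, -⟩ := octads_steiner.2 _ hu
  have hi1 : i ∈ o₁ := hsub (mem_insert_self _ _)
  have hj1 : j ∈ o₁ := hsub (mem_insert_of_mem (mem_insert_self _ _))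
  have h3 : 3 ≤ (o₁ ∩ o).card := hs3 ▸ card_le_card (fun p hp =>
    mem_inter.mpr ⟨hsub (mem_insert_of_mem (mem_insert_of_mem hp)), hs hp⟩)
  have h5 : (o₁ ∩ o).card ≤ 4 := by
    by_contra h
    exact hi ((octad_eq_of_five_le ho₁ ho (by omega)) ▸ hi1)
  obtain ⟨n, hn⟩ := even_card_inter ho₁.1 ho.1
  have hd := card_symmDiff_add (c := o) (d := o₁)
  rw [inter_comm, ho.2, ho₁.2] at hd
  have ho₂ : symmDiff o o₁ ∈ octads := ⟨symmDiff_mem_supports ho.1 ho₁.1, by omega⟩
  have e : vWord o = vWord o₁ + vWord (symmDiff o o₁) + -(fun k => 4 * indZ (o₁ ∩ symmDiff o o₁) k) := by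
    rw [← sub_eq_add_neg, ← vWord_symmDiff, symmDiff_comm o o₁, symmDiff_symmDiff_cancel_left]
  have hdd := inter_mem_dPart ho₁.1 ho₂.1
  rw [e, hF.pol_add (add_mem (vWord_mem ho₁.1) (vWord_mem ho₂.1)) (neg_mem (dPart_le hdd)) (vPair_mem _ _),
    hF.pol_add (vWord_mem ho₁.1) (vWord_mem ho₂.1) (vPair_mem _ _), hF.oct_inside ho₁ hi1 hj1 hij,
    hF.oct_inside ho₂ (mem_symmDiff.mpr (Or.inr ⟨hi1, hi⟩)) (mem_symmDiff.mpr (Or.inr ⟨hj1, hj⟩)) hij,
    hF.dPart_orth (neg_mem hdd) (vPair_mem_dPart hij)]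
  simp

theorem oct_same {o : Finset GolayPt} (ho : o ∈ octads) {i j : GolayPt} (h : i ∈ o ↔ j ∈ o) (hij : i ≠ j) :
    pol2 F (vWord o) (vPair i j) = 0 := by
  by_cases hi : i ∈ o
  · exact hF.oct_inside ho hi (h.mp hi) hij
  · exact hF.oct_outside ho hi (fun hj => hi (h.mpr hj)) hij

theorem oct_same_diff {o : Finset GolayPt} (ho : o ∈ octads) {i i' : GolayPt} (h : i ∈ o ↔ i' ∈ o) (k : GolayPt) :
    pol2 F (vWord o) (vPair i k) = pol2 F (vWord o) (vPair i' k) := by
  classical
  obtain ⟨l, hl, hl'⟩ : ∃ l, (l ∈ o ↔ i ∈ o) ∧ l ≠ i ∧ l ≠ i' := by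
    by_cases hi : i ∈ o
    · obtain ⟨l, hl, h1, h2⟩ := exists_mem_ne2 (s := o) (by rw [ho.2]; norm_num) i i'
      exact ⟨l, iff_of_true hl hi, h1, h2⟩
    · obtain ⟨l, hl, h1, h2⟩ := exists_mem_ne2 (s := oᶜ)
        (by rw [card_compl, ho.2, Fintype.card_option, ZMod.card]; norm_num) i i'
      exact ⟨l, iff_of_false (mem_compl.mp hl) hi, h1, h2⟩
  have e : vPair i k = vPair i' k + (vPair i l + -vPair i' l) := by
    funext p; simp only [vPair, Pi.add_apply, Pi.neg_apply]; ring
  have hneg : pol2 F (vWord o) (-vPair i' l) = 0 := by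
    rw [hF.pol_neg (vPair_mem _ _) (vWord_mem ho.1)]
    exact hF.oct_same ho (h.symm.trans hl.symm) hl'.2.symm
  rw [e, hF.pol_add' (vPair_mem _ _) (add_mem (vPair_mem _ _) (neg_mem (vPair_mem _ _))) (vWord_mem ho.1),
    hF.pol_add' (vPair_mem _ _) (neg_mem (vPair_mem _ _)) (vWord_mem ho.1),
    hF.oct_same ho hl.symm hl'.1.symm, hneg]
  simp

theorem oct_pairs (h₀ : pol2 F (vWord octFix) (vPair none (some 4)) = 0) {o : Finset GolayPt} (ho : o ∈ octads)
    {i j : GolayPt} (hij : i ≠ j) : pol2 F (vWord o) (vPair i j) = 0 := by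
  classical
  by_cases h : i ∈ o ↔ j ∈ o
  · exact hF.oct_same ho h hij
  -- map the fixed octad to the given one
  obtain ⟨t, ht, htc⟩ := exists_subset_card_eq (show 5 ≤ o.card by rw [ho.2]; norm_num)
  let g : Fin 5 → GolayPt := fun k => ((t.equivFinOfCardEq htc).symm k : GolayPt)
  have hg : Function.Injective g := Subtype.val_injective.comp (Equiv.injective _)
  have hf : Function.Injective ![octPts 0, octPts 1, octPts 2, octPts 3, octPts 4] := by
    exact oct5_inj
  obtain ⟨σ, hσ, hm⟩ := exists_perm_tuple (le_refl 5) _ g hf hg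
  have himg : σ • octFix = o := by
    refine octad_eq_of_five_le (smul_mem_octads hσ octFix_mem) ho (htc ▸ card_le_card fun p hp => ?_)
    refine mem_inter.mpr ⟨?_, ht hp⟩
    have := hm (t.equivFinOfCardEq htc ⟨p, hp⟩)
    simp only [g, Equiv.symm_apply_apply] at this
    rw [Finset.mem_smul_finset]
    refine ⟨_, ?_, this⟩
    generalize t.equivFinOfCardEq htc ⟨p, hp⟩ = k
    exact oct5_mem k
  have hin : σ none ∈ o := himg ▸ Finset.smul_mem_smul_finset (mem_image_of_mem octPts (mem_univ 0))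
  have hout : σ (some 4) ∉ o := by
    rw [← himg, show σ (some 4 : GolayPt) = σ • (some 4 : GolayPt) from rfl, Finset.smul_mem_smul_finset_iff]
    exact octFix_facts.2.2.2.1
  rw [← hF.pol_signedPerm hσ empty_mem_code (vWord_mem octFix_mem.1) (vPair_mem none (some 4)), signedPerm_vWord,
    signedPerm_vPair, himg] at h₀
  have main : ∀ p q, p ∈ o → q ∉ o → pol2 F (vWord o) (vPair p q) = 0 := by
    intro p q hp hq
    rw [hF.oct_same_diff ho (iff_of_true hp hin) q, vPair_comm, hF.oct_same_diff ho (iff_of_false hq hout),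
      vPair_comm]
    exact h₀
  by_cases hi : i ∈ o
  · exact main i j hi fun hj => h (iff_of_true hi hj)
  · rw [vPair_comm]
    exact main j i (by_contra fun hj => h (iff_of_false hi hj)) hi

theorem ePart_orth_dPart (h₀ : pol2 F (vWord octFix) (vPair none (some 4)) = 0) {x y : GolayPt → ℤ}
    (hx : x ∈ ePart) (hy : y ∈ dPart) : pol2 F x y = 0 := by
  rw [pol2_comm]
  refine hF.pol_zero_closure (s := {x | ∃ i j, i ≠ j ∧ x = vPair i j} ∪ {x | ∃ o ∈ octads, x = vWord o})
    ?_ (dPart_le hy) ?_ hx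
  · rintro a (⟨i, j, -, rfl⟩ | ⟨o, ho, rfl⟩)
    · exact vPair_mem i j
    · exact vWord_mem ho.1
  · rintro a (⟨i, j, hij, rfl⟩ | ⟨o, ho, rfl⟩)
    · exact hF.dPart_orth hy (vPair_mem_dPart hij)
    · rw [pol2_comm]
      exact hF.pol_vWord_dPart ho.1 hy fun i j hij => hF.oct_pairs h₀ ho hij

/-- The main lemma: such a form vanishing on one pair of test vectors is zero. -/
theorem eq_zero (h₀ : pol2 F (vWord octFix) (vPair none (some 4)) = 0) {x : GolayPt → ℤ} (hx : x ∈ leechLattice) :
    F x = 0 := by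
  classical
  have hem : pts octOddMask ∈ code := (mem_supports_iff _).mpr (by
    rw [mk_pts (lt_of_inCode octOdd_facts.1)]; exact octOdd_facts.1)
  have hom : pts octOddMask ∈ octads := ⟨hem, by rw [← pc_eq_card]; exact octOdd_facts.2.1⟩
  set x₀ := tetMap (vWord (pts octOddMask)) with hx₀
  have hx₀L : x₀ ∈ leechLattice := tetMap_mem (vWord_mem hem)
  -- eights are orthogonal to everything
  have h8 : ∀ k y, y ∈ leechLattice → pol2 F (vEight k) y = 0 := by
    intro k
    have h0 : pol2 F (vEight k) x₀ = 0 := by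
      rw [← hF.pol_tet (vEight_mem k) hx₀L, hx₀, tetMap_tetMap (vWord_mem hem), pol2_comm]
      exact hF.ePart_orth_dPart h₀ (vWord_mem_ePart hem) (tetMap_vEight_mem k)
    have hev : ∀ y ∈ ePart, pol2 F (vEight k) y = 0 := fun y hy => by
      rw [pol2_comm]; exact hF.ePart_orth_dPart h₀ hy (vEight_mem_dPart k)
    intro y hy
    by_cases he : y none % 2 = 0
    · exact hev y (mem_ePart hy he)
    · have hd : y - x₀ ∈ ePart := mem_ePart (sub_mem hy hx₀L) (by
        have : x₀ none % 2 = 1 := octOdd_facts.2.2 none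
        simp only [Pi.sub_apply]; omega)
      rw [show y = x₀ + (y - x₀) by abel, hF.pol_add' hx₀L (sub_mem hy hx₀L) (vEight_mem k), h0, hev _ hd]
      simp
  -- the odd vector and the pairs
  have h8' : ∀ k, pol2 F vOdd (vEight k) = 0 := fun k => by rw [pol2_comm]; exact h8 k _ vOdd_mem
  have tri : ∀ i j k, pol2 F vOdd (vPair i j) + pol2 F vOdd (vPair i k) + pol2 F vOdd (vPair j k) = 0 := by
    intro i j k
    have h := h8' i
    have hneg : pol2 F vOdd (-vPair j k) = pol2 F vOdd (vPair j k) := by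
      have e := hF.pol_add' (vPair_mem j k) (neg_mem (vPair_mem j k)) vOdd_mem
      rw [add_neg_cancel, hF.pol_zero] at e
      exact (by decide : ∀ a b : ZMod 2, 0 = a + b → b = a) _ _ e
    rwa [vEight_eq i j k, sub_eq_add_neg, hF.pol_add' (add_mem (vPair_mem _ _) (vPair_mem _ _))
      (neg_mem (vPair_mem _ _)) vOdd_mem, hF.pol_add' (vPair_mem _ _) (vPair_mem _ _) vOdd_mem, hneg] at h
  have hconst : ∀ {a b c d : GolayPt}, a ≠ none → b ≠ none → a ≠ b → c ≠ none → d ≠ none → c ≠ d →
      pol2 F vOdd (vPair a b) = pol2 F vOdd (vPair c d) := by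
    intro a b c d ha hb hab hc hd hcd
    obtain ⟨σ, hσ, hm⟩ := exists_perm_tuple (by norm_num : 3 ≤ 5) ![none, a, b] ![none, c, d]
      (inj3 ha.symm hb.symm hab) (inj3 hc.symm hd.symm hcd)
    have e0 := hm 0; have e1 := hm 1; have e2 := hm 2
    simp at e0 e1 e2
    rw [← hF.pol_signedPerm hσ empty_mem_code vOdd_mem (vPair_mem a b), signedPerm_vOdd e0, signedPerm_vPair,
      e1, e2]
  have hin : ∀ {a b : GolayPt}, a ≠ none → b ≠ none → a ≠ b → pol2 F vOdd (vPair a b) = 0 := by
    intro a b ha hb hab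
    obtain ⟨k, hk, hka, hkb⟩ := exists_mem_ne2 (s := ({none}ᶜ : Finset GolayPt))
      (by rw [card_compl, card_singleton, Fintype.card_option, ZMod.card]; norm_num) a b |>.imp fun k hk => hk
    have hkn : k ≠ none := by simpa using hk
    have h := tri a b k
    rw [hconst ha hkn hka.symm ha hb hab, hconst hb hkn hkb.symm ha hb hab] at h
    exact (by decide : ∀ z : ZMod 2, z + z + z = 0 → z = 0) _ h
  have hnone : ∀ j, j ≠ none → pol2 F vOdd (vPair none j) = 0 := by
    intro j hj
    obtain ⟨-, -, hinj, -, hsum⟩ := octFix_facts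
    have hne : ∀ {i : Fin 8}, i ≠ 0 → octPts i ≠ none := fun h e => h (hinj (e.trans (rfl : (none : GolayPt) = octPts 0)))
    have hne' : ∀ {i j : Fin 8}, i ≠ j → octPts i ≠ octPts j := fun h e => h (hinj e)
    have hz : pol2 F vOdd (vPair (octPts 0) (octPts 1) + vPair (octPts 2) (octPts 3) + vPair (octPts 4) (octPts 5)
        + vPair (octPts 6) (octPts 7)) = 0 := by
      rw [show vPair (octPts 0) (octPts 1) + vPair (octPts 2) (octPts 3) + vPair (octPts 4) (octPts 5)
        + vPair (octPts 6) (octPts 7) = vWord octFix + vWord octFix from (funext hsum).symm]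
      exact hF.pol_double vOdd_mem (vWord_mem octFix_mem.1)
    rw [hF.pol_add' (add_mem (add_mem (vPair_mem _ _) (vPair_mem _ _)) (vPair_mem _ _)) (vPair_mem _ _) vOdd_mem,
      hF.pol_add' (add_mem (vPair_mem _ _) (vPair_mem _ _)) (vPair_mem _ _) vOdd_mem,
      hF.pol_add' (vPair_mem _ _) (vPair_mem _ _) vOdd_mem,
      hin (hne (by decide)) (hne (by decide)) (hne' (by decide : (2 : Fin 8) ≠ 3)),
      hin (hne (by decide)) (hne (by decide)) (hne' (by decide : (4 : Fin 8) ≠ 5)),
      hin (hne (by decide)) (hne (by decide)) (hne' (by decide : (6 : Fin 8) ≠ 7)), add_zero, add_zero, add_zero,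
      show octPts 0 = none from rfl, show octPts 1 = some 5 from rfl] at hz
    by_cases hj5 : j = some 5
    · rw [hj5]; exact hz
    · have h := tri none j (some 5)
      rw [hz, hin hj (by simp) hj5] at h
      simpa using h
  have hoddD : ∀ y ∈ dPart, pol2 F vOdd y = 0 := by
    intro y hy
    refine hF.pol_zero_closure (s := {x | ∃ i j, i ≠ j ∧ x = vPair i j}) (fun a ⟨i, j, _, e⟩ => e ▸ vPair_mem i j) vOdd_mem ?_ hy
    rintro a ⟨i, j, hij, rfl⟩
    by_cases hi : i = none
    · subst hi; exact hnone j hij.symm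
    by_cases hj : j = none
    · subst hj; rw [vPair_comm]; exact hnone i hi
    exact hin hi hj hij
  -- sign changes of the odd vector
  have hflip : ∀ S ∈ code, F (vWord S) = pol2 F vOdd (vWord S) := by
    intro S hS
    have hi := hF.monoInv 1 (one_mem _) S hS _ vOdd_mem
    set E : GolayPt → ℤ := fun k => if k ∈ S ∧ k = none then 8 else 0 with hE
    have hEd : E ∈ dPart := by
      by_cases h : (none : GolayPt) ∈ S
      · rw [show E = vEight none from funext fun k => by
          simp only [hE, vEight]; exact if_congr ⟨fun a => a.2, fun a => ⟨a ▸ h, a⟩⟩ rfl rfl]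
        exact vEight_mem_dPart none
      · rw [show E = 0 from funext fun k => by
          simp only [hE, Pi.zero_apply]; exact if_neg fun ⟨a1, a2⟩ => h (a2 ▸ a1)]
        exact zero_mem _
    have e : signedPerm 1 S vOdd = (vOdd + -vWord S) + E := by
      funext k
      have h1 : (1 : Equiv.Perm GolayPt).symm k = k := rfl
      simp only [signedPerm, h1, vOdd, vWord, indZ, hE, Pi.add_apply, Pi.neg_apply]
      by_cases a2 : k = none
      · subst a2; by_cases a1 : (none : GolayPt) ∈ S <;> simp [a1]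
      · by_cases a1 : k ∈ S <;> simp [a1, a2]
    have hVe : -vWord S ∈ ePart := neg_mem (vWord_mem_ePart hS)
    have hneg : pol2 F vOdd (-vWord S) = pol2 F vOdd (vWord S) := by
      have e := hF.pol_add' (vWord_mem hS) (neg_mem (vWord_mem hS)) vOdd_mem
      rw [add_neg_cancel, hF.pol_zero] at e
      exact (by decide : ∀ a b : ZMod 2, 0 = a + b → b = a) _ _ e
    rw [e, F_add_eq F, F_add_eq F, hF.map_neg' (vWord_mem hS), hneg, hF.dPart_zero hEd,
      hF.pol_add vOdd_mem (neg_mem (vWord_mem hS)) (dPart_le hEd), hoddD E hEd,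
      hF.ePart_orth_dPart h₀ hVe hEd] at hi
    exact (by decide : ∀ a b c : ZMod 2, a + b + c + 0 + (0 + 0) = a → b = c) _ _ _ hi
  -- octads
  obtain ⟨b, hb⟩ : ∃ b, ∀ o ∈ octads, F (vWord o) = b := by
    refine ⟨F (vWord octFix), fun o ho => ?_⟩
    obtain ⟨t, ht, htc⟩ := exists_subset_card_eq (show 5 ≤ o.card by rw [ho.2]; norm_num)
    let g : Fin 5 → GolayPt := fun k => ((t.equivFinOfCardEq htc).symm k : GolayPt)
    have hg : Function.Injective g := Subtype.val_injective.comp (Equiv.injective _)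
    have hf : Function.Injective ![octPts 0, octPts 1, octPts 2, octPts 3, octPts 4] := by
      exact oct5_inj
    obtain ⟨σ, hσ, hm⟩ := exists_perm_tuple (le_refl 5) _ g hf hg
    have himg : σ • octFix = o := by
      refine octad_eq_of_five_le (smul_mem_octads hσ octFix_mem) ho (htc ▸ card_le_card fun p hp => ?_)
      refine mem_inter.mpr ⟨?_, ht hp⟩
      have := hm (t.equivFinOfCardEq htc ⟨p, hp⟩)
      simp only [g, Equiv.symm_apply_apply] at this
      rw [Finset.mem_smul_finset]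
      refine ⟨_, ?_, this⟩
      generalize t.equivFinOfCardEq htc ⟨p, hp⟩ = k
      exact oct5_mem k
    rw [← hF.monoInv σ hσ ∅ empty_mem_code _ (vWord_mem octFix_mem.1), signedPerm_vWord, himg]
  have hb0 : b = 0 := by
    have o1 := tetPair_mem (show (0 : Fin 6) ≠ 1 by decide)
    have o2 := tetPair_mem (show (0 : Fin 6) ≠ 2 by decide)
    have o3 := tetPair_mem (show (1 : Fin 6) ≠ 2 by decide)
    have d : (fun k => 4 * indZ (tetSet 0) k) ∈ dPart :=
      four_mul_mem_dPart (even_sum_ind (by rw [tetSet_card]; decide))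
    have h := hF.pol_add' (vWord_mem o1.1) (vWord_mem o2.1) vOdd_mem
    rw [show vWord (tetSet 0 ∪ tetSet 1) + vWord (tetSet 0 ∪ tetSet 2)
        = vWord (tetSet 1 ∪ tetSet 2) + fun k => 4 * indZ (tetSet 0) k from funext tetPair_identity,
      hF.pol_add' (vWord_mem o3.1) (dPart_le d) vOdd_mem, hoddD _ d, ← hflip _ o1.1, ← hflip _ o2.1,
      ← hflip _ o3.1, hb _ o1, hb _ o2, hb _ o3] at h
    exact (by decide : ∀ b : ZMod 2, b + 0 = b + b → b = 0) _ h
  subst hb0
  have hoddE : ∀ y ∈ ePart, pol2 F vOdd y = 0 := by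
    intro y hy
    refine hF.pol_zero_closure (s := {x | ∃ i j, i ≠ j ∧ x = vPair i j} ∪ {x | ∃ o ∈ octads, x = vWord o})
      ?_ vOdd_mem ?_ hy
    · rintro a (⟨i, j, -, rfl⟩ | ⟨o, ho, rfl⟩)
      · exact vPair_mem i j
      · exact vWord_mem ho.1
    · rintro a (⟨i, j, hij, rfl⟩ | ⟨o, ho, rfl⟩)
      · exact hoddD _ (vPair_mem_dPart hij)
      · rw [← hflip o ho.1, hb o ho]
  have hword : ∀ S ∈ code, F (vWord S) = 0 := fun S hS => by
    rw [hflip S hS]; exact hoddE _ (vWord_mem_ePart hS)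
  have hE0 : ∀ y ∈ ePart, F y = 0 := by
    intro y hy
    refine hF.zero_closure (s := {x | ∃ i j, i ≠ j ∧ x = vPair i j} ∪ {x | ∃ o ∈ octads, x = vWord o})
      ?_ ?_ ?_ hy
    · rintro a (⟨i, j, -, rfl⟩ | ⟨o, ho, rfl⟩)
      · exact vPair_mem i j
      · exact vWord_mem ho.1
    · rintro a (⟨i, j, hij, rfl⟩ | ⟨o, ho, rfl⟩)
      · exact hF.vPair_zero hij
      · exact hb o ho
    · rintro a (⟨i, j, hij, rfl⟩ | ⟨o, ho, rfl⟩) b (⟨k, l, hkl, rfl⟩ | ⟨o', ho', rfl⟩)
      · exact hF.pairs_orth hij hkl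
      · rw [pol2_comm]; exact hF.oct_pairs h₀ ho' hij
      · exact hF.oct_pairs h₀ ho hkl
      · have d := inter_mem_dPart ho.1 ho'.1
        have hsd := symmDiff_mem_supports ho.1 ho'.1
        have e : vWord o + vWord o' = vWord (symmDiff o o') + fun k => 4 * indZ (o ∩ o') k := by
          rw [vWord_symmDiff]; abel
        simp only [pol2, e, hb o ho, hb o' ho']
        rw [F_add_eq F, hword _ hsd, hF.dPart_zero d, hF.ePart_orth_dPart h₀ (vWord_mem_ePart hsd) d]
        simp
  -- finish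
  have hodd_val : F vOdd = 0 := by
    have h : F x₀ = 0 := by rw [hx₀, hF.tetInv _ (vWord_mem hem)]; exact hb _ hom
    have hd : x₀ - vOdd ∈ ePart := mem_ePart (sub_mem hx₀L vOdd_mem) (by
      have : x₀ none % 2 = 1 := octOdd_facts.2.2 none
      simp only [Pi.sub_apply, vOdd, if_true]; omega)
    rw [show x₀ = vOdd + (x₀ - vOdd) by abel, F_add_eq F, hE0 _ hd, hoddE _ hd] at h
    simpa using h
  by_cases he : x none % 2 = 0
  · exact hE0 x (mem_ePart hx he)
  · have hd : x - vOdd ∈ ePart := mem_ePart (sub_mem hx vOdd_mem) (by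
      simp only [Pi.sub_apply, vOdd, if_true]; omega)
    rw [show x = vOdd + (x - vOdd) by abel, F_add_eq F, hE0 _ hd, hoddE _ hd, hodd_val]
    simp

end InvQuad

/-- The norm form. -/
def normForm (x : GolayPt → ℤ) : ZMod 2 := ((Cfsg.sqNorm x / 16 : ℤ) : ZMod 2)

theorem normForm_test : (normForm (vWord octFix + vPair none (some 4)) + normForm (vWord octFix)
    + normForm (vPair none (some 4))) = 1 := by decide +kernel

theorem sqNorm_quad (x y w : GolayPt → ℤ) :
    Cfsg.sqNorm (x + y + w) + Cfsg.sqNorm x + Cfsg.sqNorm y + Cfsg.sqNorm w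
      = Cfsg.sqNorm (x + y) + Cfsg.sqNorm (x + w) + Cfsg.sqNorm (y + w) := by
  simp only [Cfsg.sqNorm, ← sum_add_distrib, Pi.add_apply]
  exact sum_congr rfl fun i _ => by ring

theorem normForm_invQuad : InvQuad normForm where
  coset x hx y hy := by
    have h1 := sixteen_dvd_sqNorm (add_mem hx hy)
    have h2 := sixteen_dvd_sqNorm hx
    have h3 := sixteen_dvd_sqNorm hy
    have e : Cfsg.sqNorm (x + (y + y)) + Cfsg.sqNorm x = 2 * Cfsg.sqNorm (x + y) + 2 * Cfsg.sqNorm y := by
      simp only [Cfsg.sqNorm, mul_sum, ← sum_add_distrib, Pi.add_apply]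
      exact sum_congr rfl fun i _ => by ring
    rw [normForm, normForm, ZMod.intCast_eq_intCast_iff']
    push_cast
    omega
  quad x hx y hy w hw := by
    have h1 := sixteen_dvd_sqNorm (add_mem (add_mem hx hy) hw)
    have h2 := sixteen_dvd_sqNorm hx
    have h3 := sixteen_dvd_sqNorm hy
    have h4 := sixteen_dvd_sqNorm hw
    have h5 := sixteen_dvd_sqNorm (add_mem hx hy)
    have h6 := sixteen_dvd_sqNorm (add_mem hx hw)
    have h7 := sixteen_dvd_sqNorm (add_mem hy hw)
    have e := sqNorm_quad x y w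
    simp only [normForm, ← Int.cast_add]
    congr 1
    omega
  monoInv σ _ c _ x _ := by rw [normForm, sqNorm_signedPerm, normForm]
  tetInv x hx := by rw [normForm, sqNorm_tetMap hx, normForm]

/-- An invariant form is a multiple of the norm form. -/
theorem InvQuad.eq_smul (hF : InvQuad F) : ∃ s : ZMod 2, ∀ x ∈ leechLattice, F x = s * normForm x := by
  set s := pol2 F (vWord octFix) (vPair none (some 4)) with hs
  refine ⟨s, fun x hx => ?_⟩
  have hN := normForm_invQuad
  have hG : InvQuad (fun x => F x + s * normForm x) :=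
    { coset := fun x hx y hy => by simp only [hF.coset x hx y hy, hN.coset x hx y hy]
      quad := fun x hx y hy w hw => by
        linear_combination hF.quad x hx y hy w hw + s * hN.quad x hx y hy w hw
      monoInv := fun σ hσ c hc x hx => by simp only [hF.monoInv σ hσ c hc x hx, hN.monoInv σ hσ c hc x hx]
      tetInv := fun x hx => by simp only [hF.tetInv x hx, hN.tetInv x hx] }
  have h := hG.eq_zero (by
    have hn := normForm_test
    simp only [pol2] at hs ⊢
    linear_combination (s * hn) - hs + z2_add_self s) hx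
  exact (by decide : ∀ a b : ZMod 2, a + b = 0 → a = b) _ _ h

end Cfsg.Lib.Leech
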