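import Cfsg.Agent.Leech.M24Fixed
import Cfsg.Agent.Leech.Triples
import Cfsg.Agent.Golay.Generators

/-!
The stabiliser of the standard frame is maximal.
-/

namespace Cfsg.Lib.Leech

open Cfsg Cfsg.Lib.Golay Finset MulAction

theorem mem_monoGroup_of_fixes {g : Co0} (hg : FixesFrame g) : g ∈ monoGroup := by
  obtain ⟨σ, c, hσ, hc, rfl⟩ := frame_is_monomial hg
  exact mono_mem_monoGroup hσ hc

theorem coe_monoGroup : (monoGroup : Set Co0) = {g | FixesFrame g} := by
  refine Set.Subset.antisymm (fun g hg => ?_) fun g hg => mem_monoGroup_of_fixes hg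
  induction hg using Subgroup.closure_induction with
  | mem g hg => obtain ⟨σ, c, hσ, hc, rfl⟩ := hg; exact fixesFrame_mono hσ hc
  | one => intro v hv; rwa [one_smul]
  | mul a b _ _ ha hb => intro v hv; rw [mul_smul]; exact ha _ (hb _ hv)
  | inv a _ ha =>
    intro v hv
    have hfin : {w : leechLattice | (w : GolayPt → ℤ) ∈ stdCross}.Finite := by
      refine (Set.finite_range fun p : GolayPt × Bool => if p.2 then -e8 p.1 else e8 p.1).subset ?_
      intro w hw
      obtain ⟨i, h | h⟩ := stdCross_eq_e8.mp hw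
      · exact ⟨(i, false), (Subtype.ext h).symm⟩
      · exact ⟨(i, true), (Subtype.ext h).symm⟩
    obtain ⟨w, hw, he⟩ : v ∈ (fun w => a • w) '' {w : leechLattice | (w : GolayPt → ℤ) ∈ stdCross} := by
      rw [Set.eq_of_subset_of_ncard_le (t := {w : leechLattice | (w : GolayPt → ℤ) ∈ stdCross})
        (by rintro _ ⟨w, hw, rfl⟩; exact ha w hw)
        (le_of_eq (Set.ncard_image_of_injective _ (MulAction.injective a)).symm) hfin]
      exact hv
    rw [← he]
    show ((a⁻¹ • a • w : leechLattice) : GolayPt → ℤ) ∈ stdCross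
    rwa [inv_smul_smul]

theorem eq_mono_of_e8 {M : Subgroup Co0} (hM : monoGroup ≤ M)
    (h : ∀ g ∈ M, ((g • e8 pN : leechLattice) : GolayPt → ℤ) ∈ stdCross) : M = monoGroup := by
  refine le_antisymm (fun g hg => ?_) hM
  obtain ⟨i, hi | hi⟩ := stdCross_eq_e8.mp (h g hg)
  all_goals
    first
    | obtain ⟨r, hr, hr8⟩ := frame_transitive i false
      have he : (r⁻¹ * g) • e8 pN = e8 pN := by
        rw [mul_smul, inv_smul_eq_iff, hr8]; exact Subtype.ext hi
      have := mul_mem (mem_monoGroup_of_fixes hr) (mem_monoGroup_of_fixes (stab_fixesFrame he))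
      rwa [mul_inv_cancel_left] at this
    | obtain ⟨r, hr, hr8⟩ := frame_transitive i true
      have he : (r⁻¹ * g) • e8 pN = e8 pN := by
        rw [mul_smul, inv_smul_eq_iff, hr8]; exact Subtype.ext hi
      have := mul_mem (mem_monoGroup_of_fixes hr) (mem_monoGroup_of_fixes (stab_fixesFrame he))
      rwa [mul_inv_cancel_left] at this

theorem dot_e8 (i : GolayPt) (x : GolayPt → ℤ) : dotInt (e8 i : GolayPt → ℤ) x = 8 * x i := by
  rw [dotInt, sum_eq_single i (fun k _ hk => by simp [e8, hk]) (by simp)]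
  simp [e8]

/-- A vector of norm 64 meeting all differences of two fours evenly. -/
theorem four_shape {y : GolayPt → ℤ} (hy : y ∈ leechLattice) (hn : Cfsg.sqNorm y = 64)
    (hd : ∀ k l : GolayPt, k ≠ l → ∀ s : ℤ, (s = 1 ∨ s = -1) → (16 : ℤ) ∣ dotInt (pairVec k l s) y) :
    y ∈ stdCross ∨ ∃ T : Finset GolayPt, T.card = 4 ∧ ∀ i, if i ∈ T then y i = 4 ∨ y i = -4 else y i = 0 := by
  classical
  have h4 : ∀ k, (4 : ℤ) ∣ y k - y pN ∧ y k % 2 = 0 := by
    intro k
    obtain ⟨l, -, hl⟩ := exists_mem_notMem_of_card_lt_card (s := ({k, pN} : Finset GolayPt)) (t := univ)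
      (by rw [card_pts]; exact lt_of_le_of_lt card_le_two (by norm_num))
    simp only [mem_insert, mem_singleton, not_or] at hl
    have a := hd k l (Ne.symm hl.1) 1 (Or.inl rfl)
    have b := hd k l (Ne.symm hl.1) (-1) (Or.inr rfl)
    have c := hd pN l (Ne.symm hl.2) 1 (Or.inl rfl)
    rw [dot_pairVec] at a b c
    omega
  have hn' : ∑ i, y i ^ 2 = 64 := hn
  have hdiv : ∀ k, (4 : ℤ) ∣ y k := by
    intro k
    by_contra hk
    have hall : ∀ i, 4 ≤ y i ^ 2 := fun i => by
      have h1 := h4 i; have h2 := h4 k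
      have : y i ≤ -2 ∨ 2 ≤ y i := by omega
      rcases this with h | h <;> nlinarith
    have := card_nsmul_le_sum univ (fun i => y i ^ 2) 4 fun i _ => hall i
    rw [hn', card_pts] at this
    norm_num at this
  by_cases h8 : ∃ i, y i = 8 ∨ y i = -8
  · obtain ⟨i, hi⟩ := h8
    left
    have h0 : ∀ j, j ≠ i → y j = 0 := fun j hj => by
      have h := add_sum_erase univ (fun k => y k ^ 2) (mem_univ i)
      have h64 : y i ^ 2 = 64 := by rcases hi with e | e <;> rw [e] <;> norm_num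
      rw [hn', h64] at h
      have hz : ∑ k ∈ univ.erase i, y k ^ 2 = 0 := by omega
      exact pow_eq_zero_iff two_ne_zero |>.mp
        ((sum_eq_zero_iff_of_nonneg fun k _ => sq_nonneg _).mp hz j (mem_erase.mpr ⟨hj, mem_univ j⟩))
    refine ⟨i, y i, hi, funext fun j => ?_⟩
    by_cases hj : j = i
    · subst hj; simp
    · simp [hj, h0 j hj]
  right
  push Not at h8
  have hb : ∀ k, y k = 0 ∨ y k = 4 ∨ y k = -4 := fun k => by
    have h := abs_le_eight (le_of_eq hn) k
    have := hdiv k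
    have := h8 k
    omega
  refine ⟨univ.filter fun k => y k ≠ 0, ?_, fun k => ?_⟩
  · have e : ∀ k, y k ^ 2 = 16 * (if y k ≠ 0 then 1 else 0) := fun k => by
      rcases hb k with e | e | e <;> rw [e] <;> norm_num
    simp only [e, ← mul_sum, sum_boole] at hn'
    have : (16 : ℤ) * ((univ.filter fun k => y k ≠ 0).card : ℤ) = 64 := hn'
    omega
  · simp only [mem_filter, mem_univ, true_and]
    split
    · have := hb k; omega
    · omega

theorem octad_one : ∃ m, inCode m = true ∧ pc m = 8 ∧ m.testBit (pidx pN) ∧ ¬ m.testBit (pidx pO) ∧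
    ¬ m.testBit (pidx pI) ∧ ¬ m.testBit (pidx pJ) := by
  have h : (octMasks.any fun m => inCode m && (pc m == 8) && m.testBit (pidx pN) && !m.testBit (pidx pO) &&
    !m.testBit (pidx pI) && !m.testBit (pidx pJ)) = true := by decide +kernel
  simp only [List.any_eq_true, Bool.and_eq_true, Bool.not_eq_true', beq_iff_eq] at h
  obtain ⟨m, -, ⟨⟨⟨⟨h1, h2⟩, h3⟩, h4⟩, h5⟩, h6⟩ := h
  exact ⟨m, h1, h2, h3, by simp [h4], by simp [h5], by simp [h6]⟩

theorem four_div_type {u : leechLattice} (hn : Cfsg.sqNorm (u : GolayPt → ℤ) = 32)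
    (h4 : ∀ i, (4 : ℤ) ∣ (u : GolayPt → ℤ) i) : RelIn monoGroup (u : GolayPt → ℤ) vA := by
  rcases class32 u.2 hn with ⟨-, h⟩ | ⟨-, h, -⟩ | ⟨h, -⟩
  · exact h
  · exact absurd h4 h
  · exact absurd (fun i => (dvd_trans (by norm_num) (h4 i) : (2 : ℤ) ∣ _)) h

theorem odd_type {u : leechLattice} (hn : Cfsg.sqNorm (u : GolayPt → ℤ) = 32)
    (ho : ¬ ∀ i, (2 : ℤ) ∣ (u : GolayPt → ℤ) i) : RelIn monoGroup (u : GolayPt → ℤ) vC := by
  rcases class32 u.2 hn with ⟨h4, -⟩ | ⟨h2, -, -⟩ | ⟨-, h⟩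
  · exact absurd (fun i => (dvd_trans (by norm_num) (h4 i) : (2 : ℤ) ∣ _)) ho
  · exact absurd h2 ho
  · exact h

theorem octad_type {u : leechLattice} (hn : Cfsg.sqNorm (u : GolayPt → ℤ) = 32)
    (h2 : ∀ i, (2 : ℤ) ∣ (u : GolayPt → ℤ) i) (h4 : ¬ ∀ i, (4 : ℤ) ∣ (u : GolayPt → ℤ) i) :
    RelIn monoGroup (u : GolayPt → ℤ) vB := by
  rcases class32 u.2 hn with ⟨h, -⟩ | ⟨-, -, h⟩ | ⟨h, -⟩
  · exact absurd h h4
  · exact h
  · exact absurd h2 h

section orbits

variable {M : Subgroup Co0} (hM : monoGroup ≤ M)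

/-- Being in the orbit of the base vector with two fours. -/
def InS (M : Subgroup Co0) (x : GolayPt → ℤ) : Prop := RelIn M x vA

theorem RelIn.symm {G : Subgroup Co0} {x y : GolayPt → ℤ} (h : RelIn G x y) : RelIn G y x := by
  obtain ⟨g, hg, v, h1, h2⟩ := h
  exact ⟨g⁻¹, inv_mem hg, g • v, h2, by rw [inv_smul_smul, h1]⟩

theorem RelIn.mem_left {G : Subgroup Co0} {x y : GolayPt → ℤ} (h : RelIn G x y) : x ∈ leechLattice := by
  obtain ⟨g, -, v, h1, -⟩ := h; exact h1 ▸ v.2

theorem RelIn.norm_eq {G : Subgroup Co0} {x y : GolayPt → ℤ} (h : RelIn G x y) : Cfsg.sqNorm y = Cfsg.sqNorm x :=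
  h.toRel.norm_eq

include hM in
theorem mrel_InS {x y : GolayPt → ℤ} (h : RelIn monoGroup x y) (hy : InS M y) : InS M x := by
  obtain ⟨g, hg, v, h1, h2⟩ := h
  exact RelIn.trans ⟨g, hM hg, v, h1, h2⟩ hy

theorem InS_smul {g : Co0} (hg : g ∈ M) {u : leechLattice} (hu : InS M u) :
    InS M ((g • u : leechLattice) : GolayPt → ℤ) :=
  RelIn.trans (y := (u : GolayPt → ℤ)) ⟨g⁻¹, inv_mem hg, g • u, rfl, by rw [inv_smul_smul]⟩ hu

theorem vA_InS : InS M vA := ⟨1, one_mem _, ⟨vA, vA_mem.1⟩, rfl, by rw [one_smul]⟩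

include hM in
theorem all_InS (hB : InS M vB) (hC : InS M vC) {x : GolayPt → ℤ} (hx : x ∈ leechLattice)
    (hn : Cfsg.sqNorm x = 32) : InS M x := by
  rcases class32 hx hn with ⟨-, h⟩ | ⟨-, -, h⟩ | ⟨-, h⟩
  exacts [mrel_InS hM h vA_InS, mrel_InS hM h hB, mrel_InS hM h hC]

/-- A witness for the closure property failing at the odd class. -/
def uW (m : ℕ) (p : GolayPt) : GolayPt → ℤ :=
  fun i => if i = p then -3 else if m.testBit (pidx i) then 1 else -1

theorem uW_ok : ∃ m p, inL (uW m p) = true ∧ Cfsg.sqNorm (uW m p) = 32 ∧ dotInt vC (uW m p) = -16 ∧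
    (∀ i, (2 : ℤ) ∣ (vC + uW m p) i) ∧ ¬ ∀ i, (4 : ℤ) ∣ (vC + uW m p) i := by
  have h : (octMasks.any fun m => m.testBit (pidx pN) && (List.range 24).any fun j => m.testBit j &&
      inL (uW m (ptAt j)) && decide (Cfsg.sqNorm (uW m (ptAt j)) = 32) && decide (dotInt vC (uW m (ptAt j)) = -16) &&
      decide (∀ i, (2 : ℤ) ∣ (vC + uW m (ptAt j)) i) && decide (¬ ∀ i, (4 : ℤ) ∣ (vC + uW m (ptAt j)) i)) = true := by
    decide +kernel
  simp only [List.any_eq_true, Bool.and_eq_true, decide_eq_true_eq] at h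
  obtain ⟨m, -, -, j, -, ⟨⟨⟨⟨-, h1⟩, h2⟩, h3⟩, h4⟩, h5⟩ := h
  exact ⟨m, ptAt j, h1, h2, h3, h4, h5⟩

theorem vC_odd : ¬ ∀ i, (2 : ℤ) ∣ vC i := fun h => absurd (h none) (by simp [vC])

include hM in
theorem InS_vB_of_vC (hC : InS M vC) : InS M vB := by
  by_contra hB
  obtain ⟨m, p, hu, hun, hud, hs2, hs4⟩ := uW_ok
  obtain ⟨g, hg, v, hv, hgv⟩ := hC
  set u : leechLattice := ⟨uW m p, mem_of_inL hu⟩
  have huS : InS M (u : GolayPt → ℤ) := by
    by_cases h2 : ∀ i, (2 : ℤ) ∣ uW m p i
    · exact absurd (fun i => by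
        have a := hs2 i; have b := h2 i
        simp only [Pi.add_apply] at a; omega) vC_odd
    · exact mrel_InS hM (odd_type (u := u) hun h2) ⟨g, hg, v, hv, hgv⟩
  set u' := g • u
  have hu'S : InS M (u' : GolayPt → ℤ) := InS_smul hg huS
  have hd : dotInt vA (u' : GolayPt → ℤ) = -16 := by rw [← hgv, dot_smul, hv]; exact hud
  have hu'n : Cfsg.sqNorm (u' : GolayPt → ℤ) = 32 := (g.2.2 u).trans hun
  have hsn : Cfsg.sqNorm (vA + (u' : GolayPt → ℤ)) = 32 := by
    rw [sqNorm_add, hd, hu'n, vA_mem.2]; norm_num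
  set w : leechLattice := g • v + u'
  have hwv : (w : GolayPt → ℤ) = vA + u' := by rw [AddSubgroup.coe_add, hgv]
  have hwS : InS M (w : GolayPt → ℤ) := by
    have hvA4 : ∀ i, (4 : ℤ) ∣ vA i := fun i => by simp only [vA]; split <;> norm_num
    rcases class32 u'.2 hu'n with ⟨h4, -⟩ | ⟨-, -, h⟩ | ⟨ho, -⟩
    · exact mrel_InS hM (four_div_type (u := w) (by rw [hwv]; exact hsn) fun i => by
        rw [hwv, Pi.add_apply]; exact dvd_add (hvA4 i) (h4 i)) vA_InS
    · exact absurd (RelIn.trans ((show RelIn M (u' : GolayPt → ℤ) vB from by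
        obtain ⟨a, ha, r⟩ := h; exact ⟨a, hM ha, r⟩).symm) hu'S) hB
    · refine mrel_InS hM (odd_type (u := w) (by rw [hwv]; exact hsn) fun h => ho fun i => ?_) ⟨g, hg, v, hv, hgv⟩
      have a := h i
      have b := hvA4 i
      rw [hwv, Pi.add_apply] at a
      omega
  have hsum : InS M ((v + u : leechLattice) : GolayPt → ℤ) := by
    have h1 := InS_smul (inv_mem hg) hwS
    have e : g⁻¹ • w = v + u := by
      rw [inv_smul_eq_iff, smul_add']
    rwa [e] at h1
  have hBt : RelIn monoGroup ((v + u : leechLattice) : GolayPt → ℤ) vB := by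
    refine octad_type ?_ ?_ ?_
    · rw [AddSubgroup.coe_add, hv, sqNorm_add, hud, show Cfsg.sqNorm (u : GolayPt → ℤ) = 32 from hun]
      have : Cfsg.sqNorm vC = 32 := by decide +kernel
      omega
    · intro i; rw [AddSubgroup.coe_add, hv]; exact hs2 i
    · intro h; exact hs4 fun i => by have := h i; rwa [AddSubgroup.coe_add, hv] at this
  exact hB ((show RelIn M ((v + u : leechLattice) : GolayPt → ℤ) vB from by
    obtain ⟨a, ha, r⟩ := hBt; exact ⟨a, hM ha, r⟩).symm.trans hsum)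

theorem fours_partners {y : GolayPt → ℤ} {T : Finset GolayPt} (hT : T.card = 4)
    (hy : ∀ i, if i ∈ T then y i = 4 ∨ y i = -4 else y i = 0)
    (F : Finset (GolayPt → ℤ)) (hF : ∀ a ∈ F, a ∈ leechLattice ∧ Cfsg.sqNorm a = 32 ∧ (∀ i, (4 : ℤ) ∣ a i) ∧
      dotInt y a = 32) : F.card ≤ 6 := by
  classical
  have key : ∀ a ∈ F, ∃ s ∈ T.powersetCard 2, ∀ i, a i = if i ∈ s then y i else 0 := by
    intro a ha
    obtain ⟨hmem, hn, h4, hd⟩ := hF a ha
    obtain ⟨p, hp⟩ : ∃ p, a p ≠ 0 := by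
      by_contra hcon
      push Not at hcon
      rw [show a = 0 from funext hcon] at hn
      simp [Cfsg.sqNorm] at hn
    have hb : ∀ i, a i = 0 ∨ a i = 4 ∨ a i = -4 := fun i => by
      have h := single_le_sum (f := fun j => a j ^ 2) (fun j _ => sq_nonneg _) (mem_univ i)
      have hn' : ∑ j, a j ^ 2 = 32 := hn
      have h2 : -5 ≤ a i ∧ a i ≤ 5 := by constructor <;> nlinarith
      have := h4 i
      omega
    obtain ⟨q, hqp, hq, h0⟩ := four_coord hmem hn (i := p) (by have := hb p; omega)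
    rw [dotInt, sum_eq_add p q hqp.symm (fun k _ hk => by rw [h0 k hk.1 hk.2, mul_zero]) (by simp) (by simp)] at hd
    have hp4 : a p = 4 ∨ a p = -4 := by have := hb p; omega
    have hyp := hy p; have hyq := hy q
    refine ⟨{p, q}, mem_powersetCard.mpr ⟨?_, card_pair hqp.symm⟩, fun i => ?_⟩
    · intro i hi
      by_contra hiT
      simp only [mem_insert, mem_singleton] at hi
      rcases hi with rfl | rfl
      · rw [if_neg hiT] at hyp
        rcases hq with e | e <;> rcases hp4 with e' | e' <;> rw [hyp, e, e'] at hd <;> split_ifs at hyq <;> omega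
      · rw [if_neg hiT] at hyq
        rcases hq with e | e <;> rcases hp4 with e' | e' <;> rw [hyq, e, e'] at hd <;> split_ifs at hyp <;> omega
    · by_cases hi : i ∈ ({p, q} : Finset GolayPt)
      · rw [if_pos hi]
        have hb' : ∀ j, y j = 0 ∨ y j = 4 ∨ y j = -4 := fun j => by have := hy j; split_ifs at this <;> omega
        simp only [mem_insert, mem_singleton] at hi
        rcases hp4 with e | e <;> rcases hq with e' | e' <;> rcases hb' p with f | f | f <;>
          rcases hb' q with f' | f' | f' <;> rw [e, e', f, f'] at hd <;> norm_num at hd <;>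
          rcases hi with rfl | rfl <;> omega
      · rw [if_neg hi]
        simp only [mem_insert, mem_singleton, not_or] at hi
        exact h0 i hi.1 hi.2
  choose s hs hsv using key
  have h : (univ : Finset {a // a ∈ F}).card ≤ (T.powersetCard 2).card :=
    card_le_card_of_injOn (fun a => s a.1 a.2) (fun a _ => hs a.1 a.2) fun a _ b _ h =>
      Subtype.ext (funext fun i => by rw [hsv a.1 a.2 i, hsv b.1 b.2 i, show s a.1 a.2 = s b.1 b.2 from h])
  rw [card_univ, Fintype.card_coe, card_powersetCard, hT] at h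
  exact h

/-- The partners of the base vector of the frame. -/
noncomputable def partners : Finset leechLattice :=
  (univ.erase pN).image fun k => ⟨pairVec pN k 1, pairVec_mem (Or.inl rfl)⟩

theorem partners_card : partners.card = 23 := by
  rw [partners, card_image_of_injOn, card_erase_of_mem (mem_univ _), card_pts]
  intro k hk l hl h
  have hk' : k ≠ pN := (mem_erase.mp hk).1
  have := congrFun (congrArg Subtype.val h) k
  simp only [pairVec, hk', if_false, if_true, zero_add] at this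
  by_contra hne
  simp [hne] at this

include hM in
theorem InS_vC {g₀ : Co0} (hg₀ : g₀ ∈ M) (hout : ((g₀ • e8 pN : leechLattice) : GolayPt → ℤ) ∉ stdCross) :
    InS M vC := by
  by_contra hC
  set y : GolayPt → ℤ := ((g₀ • e8 pN : leechLattice) : GolayPt → ℤ)
  have hyn : Cfsg.sqNorm y = 64 := (g₀.2.2 _).trans (sqNorm_e8 pN)
  have heven : ∀ u : leechLattice, InS M (u : GolayPt → ℤ) → ∀ i, (2 : ℤ) ∣ (u : GolayPt → ℤ) i := by
    intro u hu
    by_contra h
    exact hC ((show RelIn M (u : GolayPt → ℤ) vC from by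
      obtain ⟨a, ha, r⟩ := odd_type (u := u) (hu.norm_eq.symm.trans vA_mem.2) h; exact ⟨a, hM ha, r⟩).symm.trans hu)
  have hdiv : ∀ u : leechLattice, InS M (u : GolayPt → ℤ) → (16 : ℤ) ∣ dotInt (u : GolayPt → ℤ) y := by
    intro u hu
    have h1 := heven _ (InS_smul (inv_mem hg₀) hu) pN
    have h2 : dotInt (u : GolayPt → ℤ) y = dotInt ((g₀⁻¹ • u : leechLattice) : GolayPt → ℤ) (e8 pN : GolayPt → ℤ) := by
      conv_rhs => rw [← dot_smul g₀, smul_inv_smul]
    rw [h2, dot_comm, dot_e8]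
    omega
  rcases four_shape (g₀ • e8 pN).2 hyn (fun k l hkl s hs => hdiv ⟨_, pairVec_mem hs⟩
    (mrel_InS hM (four_div_type (u := ⟨_, pairVec_mem hs⟩) (pairVec_norm hkl hs) fun i => by
      simp only [pairVec]; exact dvd_mul_right 4 _) vA_InS)) with h | ⟨T, hT, hy⟩
  · exact hout h
  replace hy : ∀ i, if i ∈ T then y i = 4 ∨ y i = -4 else y i = 0 := hy
  by_cases hB : InS M vB
  · obtain ⟨a, b, c, d, h1, h2, h3, h4, h5, h6, rfl⟩ : ∃ a b c d : GolayPt,
        a ≠ b ∧ a ≠ c ∧ a ≠ d ∧ b ≠ c ∧ b ≠ d ∧ c ≠ d ∧ T = {a, b, c, d} := by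
      obtain ⟨a, t, hat, rfl, ht⟩ := card_eq_succ.mp hT
      obtain ⟨b, c, d, h1, h2, h3, rfl⟩ := card_eq_three.mp ht
      simp only [mem_insert, mem_singleton, not_or] at hat
      exact ⟨a, b, c, d, hat.1, hat.2.1, hat.2.2, h1, h2, h3, rfl⟩
    obtain ⟨σ, hσ, e1, e2, e3, e4⟩ := four_points a b c d h1 h2 h3 h4 h5 h6
    obtain ⟨m, hm, hm8, hN, hO, hI, hJ⟩ := octad_one
    have hlt : m < 2 ^ 24 := lt_of_inCode hm
    have hcode : pts m ∈ code := (mem_supports_iff _).mpr (by rwa [mk_pts hlt])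
    have hv : (fun i => 2 * indZ (pts m) i) ∈ leechLattice :=
      mem_lattice.mpr ⟨0, pts m, 0, hcode, fun i => by simp, by simp⟩
    have hmem := perm_mem hσ hv
    set o : leechLattice := ⟨_, hmem⟩
    have hoS : InS M (o : GolayPt → ℤ) := by
      refine mrel_InS hM (octad_type (u := o) ?_ ?_ ?_) hB
      · show ∑ i, (2 * indZ (pts m) (σ i)) ^ 2 = 32
        rw [Equiv.sum_comp σ fun i => (2 * indZ (pts m) i) ^ 2]
        rw [sum_congr rfl fun i _ => show (2 * indZ (pts m) i) ^ 2 = 4 * indZ (pts m) i by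
          simp only [indZ]; split <;> norm_num, ← mul_sum, card_filter_indZ, ← pc_eq_card, hm8]
        norm_num
      · exact fun i => dvd_mul_right 2 _
      · intro h
        have := h a
        simp only [o, e1, indZ, if_pos (mem_pts.mpr hN)] at this
        omega
    have h := hdiv o hoS
    have e : dotInt (o : GolayPt → ℤ) y = 2 * y a := by
      rw [dotInt, sum_eq_single a]
      · simp [o, e1, indZ, mem_pts.mpr hN]
      · intro i _ hi
        have hyi := hy i
        by_cases hiT : i ∈ ({a, b, c, d} : Finset GolayPt)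
        · simp only [mem_insert, mem_singleton] at hiT
          have hoi : (o : GolayPt → ℤ) i = 0 := by
            rcases hiT with rfl | rfl | rfl | rfl
            · exact absurd rfl hi
            · simp [o, e2, indZ, mem_pts, hO]
            · simp [o, e3, indZ, mem_pts, hI]
            · simp [o, e4, indZ, mem_pts, hJ]
          rw [hoi, zero_mul]
        · rw [if_neg hiT] at hyi; rw [hyi, mul_zero]
      · simp
    have hya := hy a
    rw [if_pos (mem_insert_self a _)] at hya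
    rw [e] at h
    omega
  · set F := partners.image fun p => ((g₀ • p : leechLattice) : GolayPt → ℤ)
    have hF : F.card = 23 := by
      rw [card_image_of_injective, partners_card]
      exact fun p q h => smul_left_cancel g₀ (Subtype.ext h)
    have h6 := fours_partners hT hy F fun a ha => by
      obtain ⟨p, hp, rfl⟩ := mem_image.mp ha
      obtain ⟨k, hk, rfl⟩ := mem_image.mp hp
      set P : leechLattice := ⟨pairVec pN k 1, pairVec_mem (Or.inl rfl)⟩
      have hk' : pN ≠ k := (mem_erase.mp hk).1.symm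
      have hPn : Cfsg.sqNorm (P : GolayPt → ℤ) = 32 := pairVec_norm hk' (Or.inl rfl)
      have hPS := InS_smul hg₀ (mrel_InS hM (four_div_type (u := P) hPn fun i => dvd_mul_right 4 _) vA_InS)
      have hn : Cfsg.sqNorm ((g₀ • P : leechLattice) : GolayPt → ℤ) = 32 := (g₀.2.2 P).trans hPn
      refine ⟨(g₀ • P).2, hn, ?_, ?_⟩
      · by_contra h4
        exact hB ((show RelIn M ((g₀ • P : leechLattice) : GolayPt → ℤ) vB from by
          obtain ⟨a, ha, r⟩ := octad_type (u := g₀ • P) hn (heven _ hPS) h4; exact ⟨a, hM ha, r⟩).symm.trans hPS)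
      · rw [dot_smul, dot_e8]
        simp [P, pairVec, hk']
    omega

end orbits

end Cfsg.Lib.Leech
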