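import Cfsg.Agent.Leech.MonsterFusion
import Cfsg.Agent.Leech.StabClass

/-!
Lifting the stabiliser of a class to the centralizer of an involution of `Q`, and the form on `Q`.
-/

namespace Cfsg.Lib.Leech

open Cfsg

variable {G : Type*} [Group G] [Finite G] {z : G} {Q : Subgroup (Subgroup.centralizer ({z} : Set G))} [Q.Normal]
  {e : (Subgroup.centralizer ({z} : Set G)) ⧸ Q ≃* Spor.Co1} {ψ : leechLattice → Q ⧸ Subgroup.center Q}

/-- The map to the additive quotient as a homomorphism. -/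
def psiHom (hψ : IsLeechModTwoIso Q e ψ) : leechLattice →+ Additive (Q ⧸ Subgroup.center Q) :=
  AddMonoidHom.mk' (fun v => Additive.ofMul (ψ v)) fun v w => by simp [hψ.1]

theorem psi_zero (hψ : IsLeechModTwoIso Q e ψ) : ψ 0 = 1 := congrArg Additive.toMul (psiHom hψ).map_zero

theorem psi_neg (hψ : IsLeechModTwoIso Q e ψ) (v : leechLattice) : ψ (-v) = ψ v := by
  have h : ψ (v + v) = 1 := (hψ.2.2.1 _).mpr ⟨v, rfl⟩
  rw [hψ.1] at h
  have h' : ψ (-v) * ψ v = 1 := by rw [← hψ.1, neg_add_cancel, psi_zero hψ]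
  exact mul_right_cancel (h'.trans h.symm)

theorem psi_eq_iff (hψ : IsLeechModTwoIso Q e ψ) {x y : leechLattice} :
    ψ x = ψ y ↔ ∃ w : leechLattice, x = y + (2 : ℤ) • w := by
  constructor
  · intro h
    have h1 : ψ (x - y) = 1 := by
      rw [sub_eq_add_neg, hψ.1, psi_neg hψ, h, ← hψ.1]
      exact (hψ.2.2.1 _).mpr ⟨y, rfl⟩
    obtain ⟨w, hw⟩ := (hψ.2.2.1 _).mp h1
    exact ⟨w, by rw [two_smul, ← hw]; abel⟩
  · rintro ⟨w, rfl⟩
    rw [hψ.1, two_smul, (hψ.2.2.1 _).mpr ⟨w, rfl⟩, mul_one]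

theorem psi_mul_comm (hψ : IsLeechModTwoIso Q e ψ) (a b : Q ⧸ Subgroup.center Q) : a * b = b * a ∧ a * a = 1 := by
  obtain ⟨v, rfl⟩ := hψ.2.1 a
  obtain ⟨w, rfl⟩ := hψ.2.1 b
  exact ⟨by rw [← hψ.1, ← hψ.1, add_comm], by rw [← hψ.1]; exact (hψ.2.2.1 _).mpr ⟨v, rfl⟩⟩

theorem sq_iff (hw : IsExtraspecialCentralizerSetting z Q 12) (hψ : IsLeechModTwoIso Q e ψ) {v : leechLattice}
    {a : Q} (hva : ψ v = QuotientGroup.mk a) :
    a * a = 1 ↔ (32 : ℤ) ∣ Cfsg.sqNorm (v : GolayPt → ℤ) := by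
  rw [monster_form z Q e ψ hw hψ v a hva.symm]
  obtain ⟨k, hk⟩ := sixteen_dvd_sqNorm v.2
  rw [hk, show (16 * k : ℤ) / 16 = k by omega, ZMod.intCast_zmod_eq_zero_iff_dvd]
  push_cast
  omega

theorem mul_self_mul {H : Type*} [Group H] {a b : H} (ha : a * a = 1) (hb : b * b = 1) :
    a * b * (a * b) = 1 ↔ a * b = b * a := by
  constructor
  · intro h
    calc a * b = a * (a * b * (a * b)) * b := by rw [h, mul_one]
      _ = (a * a) * (b * a) * (b * b) := by group
      _ = b * a := by rw [ha, hb, one_mul, mul_one]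
  · intro h
    calc a * b * (a * b) = a * b * (b * a) := by rw [← h]
      _ = a * (b * b) * a := by group
      _ = 1 := by rw [hb, mul_one, ha]

/-- Two involutions of `Q` commute exactly when their classes are orthogonal. -/
theorem commute_iff_dot (hw : IsExtraspecialCentralizerSetting z Q 12) (hψ : IsLeechModTwoIso Q e ψ)
    {v w : leechLattice} {a b : Q} (ha : ψ v = QuotientGroup.mk a) (hb : ψ w = QuotientGroup.mk b)
    (ha2 : a * a = 1) (hb2 : b * b = 1) :
    a * b = b * a ↔ (16 : ℤ) ∣ dotInt (v : GolayPt → ℤ) w := by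
  have h := sq_iff hw hψ (v := v + w) (a := a * b) (by rw [hψ.1, ha, hb, QuotientGroup.mk_mul])
  have h1 := (sq_iff hw hψ ha).mp ha2
  have h2 := (sq_iff hw hψ hb).mp hb2
  rw [mul_self_mul ha2 hb2, AddSubgroup.coe_add, sqNorm_add] at h
  rw [h]; omega

/-- A class-compatible lift of a lattice automorphism, seen through a change of base. -/
def Img (e : (Subgroup.centralizer ({z} : Set G)) ⧸ Q ≃* Spor.Co1) (k g : Co0)
    (x : Subgroup.centralizer ({z} : Set G)) : Prop :=
  e (QuotientGroup.mk x) = QuotientGroup.mk (k * g * k⁻¹)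

theorem img_exists (k : Co0) (x : Subgroup.centralizer ({z} : Set G)) : ∃ g, Img e k g x := by
  obtain ⟨g0, hg0⟩ := QuotientGroup.mk_surjective (e (QuotientGroup.mk x))
  exact ⟨k⁻¹ * g0 * k, by rw [Img, ← hg0]; congr 1; group⟩

theorem img_lift (k g : Co0) : ∃ x, Img e k g x := by
  obtain ⟨x, hx⟩ := QuotientGroup.mk_surjective (e.symm (QuotientGroup.mk (k * g * k⁻¹)))
  exact ⟨x, by rw [Img, hx, MulEquiv.apply_symm_apply]⟩

theorem img_mul {k g h : Co0} {x y : Subgroup.centralizer ({z} : Set G)} (hx : Img e k g x) (hy : Img e k h y) :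
    Img e k (g * h) (x * y) := by
  unfold Img at *
  rw [QuotientGroup.mk_mul, map_mul, hx, hy, ← QuotientGroup.mk_mul]
  congr 1; group

theorem img_inv {k g : Co0} {x : Subgroup.centralizer ({z} : Set G)} (hx : Img e k g x) : Img e k g⁻¹ x⁻¹ := by
  unfold Img at *
  rw [QuotientGroup.mk_inv, map_inv, hx, ← QuotientGroup.mk_inv]
  congr 1

theorem img_pow {k g : Co0} {x : Subgroup.centralizer ({z} : Set G)} (hx : Img e k g x) (n : ℕ) :
    Img e k (g ^ n) (x ^ n) := by
  induction n with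
  | zero => simp [Img]
  | succ n ih => rw [pow_succ, pow_succ]; exact img_mul ih hx

theorem img_conj {k g h : Co0} {x y : Subgroup.centralizer ({z} : Set G)} (hx : Img e k g x) (hy : Img e k h y) :
    Img e k (g * h * g⁻¹) (x * y * x⁻¹) :=
  img_mul (img_mul hx hy) (img_inv hx)

theorem img_mem_iff {k g : Co0} {x : Subgroup.centralizer ({z} : Set G)} (hx : Img e k g x) :
    x ∈ Q ↔ g ∈ Subgroup.center Co0 := by
  unfold Img at hx
  rw [← QuotientGroup.eq_one_iff, ← map_eq_one_iff e e.injective, hx, QuotientGroup.eq_one_iff]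
  constructor
  · intro h
    have := (inferInstance : (Subgroup.center Co0).Normal).conj_mem _ h k⁻¹
    rwa [show k⁻¹ * (k * g * k⁻¹) * (k⁻¹)⁻¹ = g by group] at this
  · exact fun h => (inferInstance : (Subgroup.center Co0).Normal).conj_mem _ h k

/-- Conjugation by a lift acts on classes as the automorphism. -/
theorem img_class (hψ : IsLeechModTwoIso Q e ψ) {k g : Co0} {x : Subgroup.centralizer ({z} : Set G)}
    (hx : Img e k g x) {y : leechLattice} {q : Q} (hq : ψ (k • y) = QuotientGroup.mk q) :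
    ψ (k • g • y) =
      QuotientGroup.mk ⟨x * q * x⁻¹, (inferInstance : Q.Normal).conj_mem (q : Subgroup.centralizer ({z} : Set G)) q.2 x⟩ := by
  have := hψ.2.2.2 x (k * g * k⁻¹) hx.symm (k • y) q hq
  rwa [show (k * g * k⁻¹) • k • y = k • g • y by rw [mul_smul, mul_smul, inv_smul_smul]] at this

theorem psi_smul_eq_iff (hψ : IsLeechModTwoIso Q e ψ) (k : Co0) {x y : leechLattice} :
    ψ (k • x) = ψ (k • y) ↔ ∃ w : leechLattice, x = y + (2 : ℤ) • w := by
  rw [psi_eq_iff hψ]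
  constructor
  · rintro ⟨w, hw⟩
    refine ⟨k⁻¹ • w, ?_⟩
    rw [← inv_smul_smul k x, hw, smul_add', smul_zsmul', inv_smul_smul]
  · rintro ⟨w, rfl⟩
    exact ⟨k • w, by rw [smul_add', smul_zsmul']⟩

/-- An automorphism fixing the class of `a` lifts into the centralizer of `a`. -/
theorem lift_stab (hw : IsExtraspecialCentralizerSetting z Q 12) (hψ : IsLeechModTwoIso Q e ψ) {k g : Co0}
    {v : leechLattice} {a : Q} (ha : a ∉ Subgroup.center Q) (hv : ψ (k • v) = QuotientGroup.mk a)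
    (hg : ψ (k • g • v) = ψ (k • v)) :
    ∃ x, Img e k g x ∧
      x * (a : Subgroup.centralizer ({z} : Set G)) * x⁻¹ = (a : Subgroup.centralizer ({z} : Set G)) := by
  obtain ⟨x, hx⟩ := img_lift (e := e) k g
  have h := img_class hψ hx hv
  rw [hg, hv] at h
  set b : Q := ⟨x * a * x⁻¹, (inferInstance : Q.Normal).conj_mem _ a.2 x⟩ with hb
  have hc : a⁻¹ * b ∈ Subgroup.center Q := QuotientGroup.eq.mp h
  rcases centerQ_cases hw hc with h1 | h1
  · exact ⟨x, hx, (congrArg Subtype.val (inv_mul_eq_one.mp h1)).symm⟩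
  -- correct the lift inside `Q`
  obtain ⟨q, hq⟩ : ∃ q : Q, q * a * q⁻¹ * a⁻¹ ≠ 1 := by
    by_contra! hall
    exact ha (Subgroup.mem_center_iff.mpr fun q => mul_inv_eq_iff_eq_mul.mp (mul_inv_eq_one.mp (hall q)))
  have hqc : q * a * q⁻¹ * a⁻¹ ∈ Subgroup.center Q := by
    rw [← QuotientGroup.eq_one_iff]
    simp only [QuotientGroup.mk_mul, QuotientGroup.mk_inv]
    rw [mul_inv_eq_one, mul_inv_eq_iff_eq_mul, (psi_mul_comm hψ _ _).1]
  obtain h2 := (centerQ_cases hw hqc).resolve_left hq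
  have hzc : zC z * zC z = (1 : Subgroup.centralizer ({z} : Set G)) := Subtype.ext (by
    have := pow_orderOf_eq_one z
    rw [hw.1, pow_two] at this
    exact this)
  have hxz : x * zC z * x⁻¹ = zC z := mul_inv_eq_iff_eq_mul.mpr
    (Subtype.ext (Subgroup.mem_centralizer_singleton_iff.mp x.2))
  refine ⟨x * q, ?_, ?_⟩
  · have hq' : (QuotientGroup.mk (q : Subgroup.centralizer ({z} : Set G)) : _ ⧸ Q) = 1 :=
      (QuotientGroup.eq_one_iff _).mpr q.2
    unfold Img at hx ⊢
    rw [QuotientGroup.mk_mul, hq', mul_one, hx]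
  · have e1 := congrArg Subtype.val h2
    have e2 := congrArg Subtype.val h1
    simp only [hb, Subgroup.coe_mul, Subgroup.coe_inv] at e1 e2
    have e1' : (q : Subgroup.centralizer ({z} : Set G)) * a * (q : Subgroup.centralizer ({z} : Set G))⁻¹ = zC z * a :=
      mul_inv_eq_iff_eq_mul.mp e1
    have e2' : x * (a : Subgroup.centralizer ({z} : Set G)) * x⁻¹ = a * zC z := inv_mul_eq_iff_eq_mul.mp e2
    calc x * q * (a : Subgroup.centralizer ({z} : Set G)) * (x * q)⁻¹
        = x * (q * a * (q : Subgroup.centralizer ({z} : Set G))⁻¹) * x⁻¹ := by group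
      _ = (x * zC z * x⁻¹) * (x * a * x⁻¹) := by rw [e1']; group
      _ = zC z * zC z * a := by
        rw [hxz, e2', show (a : Subgroup.centralizer ({z} : Set G)) * zC z = zC z * a from
          Subtype.ext (Subgroup.mem_centralizer_singleton_iff.mp (a : Subgroup.centralizer ({z} : Set G)).2),
          mul_assoc]
      _ = a := by rw [hzc, one_mul]

/-- The lattice vectors whose classes meet a subgroup of `Q`. -/
def classSub (hψ : IsLeechModTwoIso Q e ψ) (S : Subgroup Q) (k : Co0) : AddSubgroup (GolayPt → ℤ) :=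
  ((Subgroup.toAddSubgroup (S.map (QuotientGroup.mk' (Subgroup.center Q)))).comap
    ((psiHom hψ).comp (toHom k))).map leechLattice.subtype

theorem mem_classSub (hψ : IsLeechModTwoIso Q e ψ) {S : Subgroup Q} {k : Co0} {x : GolayPt → ℤ} :
    x ∈ classSub hψ S k ↔ ∃ h : x ∈ leechLattice, ∃ q ∈ S, ψ (k • ⟨x, h⟩) = QuotientGroup.mk q := by
  constructor
  · rintro ⟨v, ⟨q, hq, hq'⟩, rfl⟩
    exact ⟨v.2, q, hq, hq'.symm⟩
  · rintro ⟨h, q, hq, hq'⟩
    exact ⟨⟨x, h⟩, ⟨q, hq, hq'.symm⟩, rfl⟩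

theorem classSub_two (hψ : IsLeechModTwoIso Q e ψ) (S : Subgroup Q) (k : Co0) :
    ∀ v ∈ leechLattice, (2 : ℤ) • v ∈ classSub hψ S k := by
  intro v hv
  refine (mem_classSub hψ).mpr ⟨zsmul_mem hv 2, 1, one_mem _, ?_⟩
  rw [QuotientGroup.mk_one, ← psi_zero hψ, show (0 : leechLattice) = k • 0 from ((toHom k).map_zero).symm,
    psi_smul_eq_iff hψ]
  exact ⟨⟨v, hv⟩, by rw [zero_add]; rfl⟩

theorem classSub_le (hψ : IsLeechModTwoIso Q e ψ) (S : Subgroup Q) (k : Co0) : classSub hψ S k ≤ leechLattice :=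
  fun _ hx => ((mem_classSub hψ).mp hx).1

theorem classSub_invariant (hψ : IsLeechModTwoIso Q e ψ) {S : Subgroup Q} {k g : Co0}
    {x : Subgroup.centralizer ({z} : Set G)} (hx : Img e k g x)
    (hS : ∀ q : Q, q ∈ S → (⟨x * q * x⁻¹,
      (inferInstance : Q.Normal).conj_mem (q : Subgroup.centralizer ({z} : Set G)) q.2 x⟩ : Q) ∈ S)
    (v : leechLattice) (hv : (v : GolayPt → ℤ) ∈ classSub hψ S k) :
    ((g • v : leechLattice) : GolayPt → ℤ) ∈ classSub hψ S k := by
  obtain ⟨h, q, hq, hq'⟩ := (mem_classSub hψ).mp hv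
  exact (mem_classSub hψ).mpr ⟨(g • v).2, _, hS q hq, img_class hψ hx hq'⟩

end Cfsg.Lib.Leech
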