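import Cfsg.Agent.Leech.MonsterMeet
import Cfsg.Agent.Leech.Maximal
import Cfsg.Agent.Golay.Subgroups

/-!
The meet of two conjugate extraspecial subgroups when the second centre lies over a frame.
-/

namespace Cfsg.Lib.Leech

open Cfsg Cfsg.Lib.Golay Finset

variable {G : Type*} [Group G] [Finite G] {z : G} {Q : Subgroup (Subgroup.centralizer ({z} : Set G))} [Q.Normal]
  {e : (Subgroup.centralizer ({z} : Set G)) ⧸ Q ≃* Spor.Co1} {ψ : leechLattice → Q ⧸ Subgroup.center Q}

theorem e8_cong (i : GolayPt) : ∃ w : leechLattice, e8 i = e8 pN + (2 : ℤ) • w := by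
  refine ⟨⟨four (fun j => (if j = i then 1 else 0) - if j = pN then 1 else 0), four_mem (by
    rw [sum_sub_distrib, sum_ite, sum_ite]; rfl)⟩, Subtype.ext (funext fun j => ?_)⟩
  simp only [e8, AddSubgroup.coe_add, AddSubgroup.coe_zsmul, Pi.add_apply, Pi.smul_apply, smul_eq_mul, four,
    Pi.single_apply]
  split <;> split <;> norm_num

theorem neg_e8_cong (i : GolayPt) : ∃ w : leechLattice, -e8 i = e8 pN + (2 : ℤ) • w := by
  obtain ⟨w, hw⟩ := e8_cong i
  refine ⟨w - e8 i, ?_⟩
  rw [smul_sub, two_smul ℤ (e8 i)]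
  conv_lhs => rw [show -e8 i = e8 i - (e8 i + e8 i) by abel]
  nth_rewrite 1 [hw]
  abel

/-- The monomial group is the stabiliser of the frame class. -/
theorem monoGroup_iff {r : Co0} : r ∈ monoGroup ↔ ∃ w : leechLattice, r • e8 pN = e8 pN + (2 : ℤ) • w := by
  constructor
  · intro h
    have hf : FixesFrame r := by rw [← SetLike.mem_coe, coe_monoGroup] at h; exact h
    obtain ⟨i, hi | hi⟩ := stdCross_eq_e8.mp (hf (e8 pN) (e8_mem_stdCross pN))
    · rw [show r • e8 pN = e8 i from Subtype.ext hi]; exact e8_cong i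
    · rw [show r • e8 pN = -e8 i from Subtype.ext hi]; exact neg_e8_cong i
  · rintro ⟨w, hw⟩
    have hc : ((r • e8 pN : leechLattice) : GolayPt → ℤ) ∈ stdCross := by
      refine class_e8 (r • e8 pN).2 ((r.2.2 _).trans (sqNorm_e8 _)) ⟨-(w : GolayPt → ℤ), neg_mem w.2, ?_⟩
      rw [hw]
      simp only [AddSubgroup.coe_add, AddSubgroup.coe_zsmul, two_smul, smul_neg]
      abel
    obtain ⟨i, hi⟩ := stdCross_eq_e8.mp hc
    obtain ⟨σ, hσ, hσi⟩ := M24_pretransitive pN i
    have h0 : mono hσ empty_mem_code • e8 pN = e8 i := by rw [monoFun_e8, if_neg (notMem_empty _), hσi]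
    have key : ∀ h : Co0, h ∈ monoGroup → h • e8 pN = r • e8 pN → r ∈ monoGroup := fun h hh he => by
      have h1 : (h⁻¹ * r) ∈ monoGroup :=
        mem_monoGroup_of_fixes (stab_fixesFrame (by rw [mul_smul, ← he, inv_smul_smul]))
      simpa using mul_mem hh h1
    rcases hi with hi | hi
    · exact key _ (mono_mem_monoGroup hσ empty_mem_code) (h0.trans (Subtype.ext hi).symm)
    · refine key (negOne * mono hσ empty_mem_code)
        (mul_mem (mono_mem_monoGroup _ univ_mem_code) (mono_mem_monoGroup hσ empty_mem_code)) ?_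
      rw [mul_smul, h0, negOne_apply]
      exact (Subtype.ext hi : r • e8 pN = -e8 i).symm

theorem mono_one_mul {σ τ : Equiv.Perm GolayPt} (hσ : σ ∈ M24) (hτ : τ ∈ M24) :
    mono hσ empty_mem_code * mono hτ empty_mem_code = mono (mul_mem hσ hτ) empty_mem_code := by
  refine co0_ext fun v => Subtype.ext (funext fun i => ?_)
  rw [mul_smul, mono_apply, mono_apply, mono_apply]
  simp [signedPerm, Equiv.Perm.mul_def]

theorem mono_split {σ : Equiv.Perm GolayPt} {c : Finset GolayPt} (hσ : σ ∈ M24) (hc : c ∈ code) :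
    mono hσ hc = mono (one_mem M24) hc * mono hσ empty_mem_code := by
  refine co0_ext fun v => Subtype.ext (funext fun i => ?_)
  rw [mul_smul, mono_apply, mono_apply, mono_apply]
  simp [signedPerm, show (1 : Equiv.Perm GolayPt).symm i = i from rfl]

theorem flip_lines {c : Finset GolayPt} (hc : c ∈ code) (i : GolayPt) :
    mono (one_mem M24) hc • e8 i = e8 i ∨ mono (one_mem M24) hc • e8 i = -e8 i := by
  rw [monoFun_e8]
  simp only [Equiv.Perm.one_apply]
  by_cases h : i ∈ c
  · exact Or.inr (if_pos h)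
  · exact Or.inl (if_neg h)

theorem lines_perm {σ : Equiv.Perm GolayPt} {c : Finset GolayPt} (hσ : σ ∈ M24) (hc : c ∈ code)
    (h : ∀ i, mono hσ hc • e8 i = e8 i ∨ mono hσ hc • e8 i = -e8 i) : σ = 1 := by
  refine Equiv.ext fun i => ?_
  by_contra hne
  have hne' : i ≠ σ i := fun e => hne e.symm
  rcases h i with h' | h' <;> rw [monoFun_e8] at h' <;> have h1 := congrFun (congrArg Subtype.val h') i <;>
    split at h1 <;> simp [e8, hne'] at h1

theorem center_lines {r : Co0} (hr : r ∈ Subgroup.center Co0) (i : GolayPt) :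
    r • e8 i = e8 i ∨ r • e8 i = -e8 i := by
  rcases center_cases hr with rfl | rfl
  · exact Or.inl (one_smul _ _)
  · exact Or.inr (negOne_apply _)

theorem lines_mul {p q : Co0} (hp : ∀ i, p • e8 i = e8 i ∨ p • e8 i = -e8 i)
    (hq : ∀ i, q • e8 i = e8 i ∨ q • e8 i = -e8 i) (i : GolayPt) :
    (p * q) • e8 i = e8 i ∨ (p * q) • e8 i = -e8 i := by
  rw [mul_smul]
  rcases hq i with h | h <;> rw [h]
  · exact hp i
  · rw [smul_neg']
    rcases hp i with h' | h' <;> rw [h']
    · exact Or.inr rfl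
    · exact Or.inl (neg_neg _)

theorem count_half : (codeMasks.filter fun m => !m.testBit (pidx pN)).length = 2048 := by decide +kernel

theorem card_half : {c : Finset GolayPt | c ∈ code ∧ pN ∉ c}.ncard = 2048 := by
  rw [← count_half]
  exact ncard_supports_filter (fun s => pN ∉ s) _ fun m _ => by simp [mem_pts]

theorem singular_pair : pairVec pI pJ 1 ∈ singular :=
  ⟨0, fun k => (if k = pI then 1 else 0) + if k = pJ then 1 else 0, fun k => by simp [pairVec],
    by rw [sum_add_distrib, sum_ite, sum_ite]; rfl⟩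

theorem frame_partner : ∃ p : leechLattice, Cfsg.sqNorm (p : GolayPt → ℤ) = 32 ∧
    dotInt (e8 pN : GolayPt → ℤ) p = 0 ∧ dotInt (p : GolayPt → ℤ) (pairVec pI pJ 1) = 8 := by
  obtain ⟨m, hm, hI, hJ, hN, -⟩ := perp_witness_ok
  have hc : pts m ∈ code := (mem_supports_iff _).mpr (by
    have := (mem_octMasks.mp hm).1
    rwa [mk_pts (lt_of_inCode this)])
  refine ⟨⟨fun i => 2 * indZ (pts m) i, mem_lattice.mpr ⟨0, pts m, 0, hc, fun i => by simp, by simp⟩⟩, ?_, ?_, ?_⟩
  · unfold Cfsg.sqNorm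
    rw [sum_congr rfl fun i _ => show (2 * indZ (pts m) i) ^ 2 = 4 * indZ (pts m) i by
      simp only [indZ]; split <;> norm_num, ← mul_sum, card_filter_indZ, (mem_octMasks.mp hm).2]
    norm_num
  · rw [dot_e8]; simp [indZ, mem_pts, hN]
  · rw [dot_comm, dot_pairVec]; simp [indZ, mem_pts, hI, hJ]

section setting

variable (hw : IsExtraspecialCentralizerSetting z Q 12) (hψ : IsLeechModTwoIso Q e ψ) {g : G} {a : Q}
  (hag : ((a : Subgroup.centralizer ({z} : Set G)) : G) = g * z * g⁻¹) (ha : a ∉ Subgroup.center Q)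
  {k : Co0} (hv : ψ (k • e8 pN) = QuotientGroup.mk a)

include hψ in
theorem mono_fix {h : Co0} (hh : h ∈ monoGroup) : ψ (k • h • e8 pN) = ψ (k • e8 pN) :=
  (psi_smul_eq_iff hψ k).mpr (monoGroup_iff.mp hh)

include hψ hag hv in
theorem indGroup_mono {r : Co0} (hr : r ∈ indGroup e g k) : r ∈ monoGroup := by
  obtain ⟨u, hu, hr⟩ := hr
  exact monoGroup_iff.mpr (conjCent_img hψ hag hv hu hr)

include hw hψ hag ha hv in
theorem indGroup_lines {r : Co0} (hr : r ∈ indGroup e g k) (i : GolayPt) :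
    r • e8 i = e8 i ∨ r • e8 i = -e8 i := by
  classical
  have hf : FixesFrame r := by
    have := indGroup_mono hψ hag hv hr
    rw [← SetLike.mem_coe, coe_monoGroup] at this; exact this
  obtain ⟨j, hj⟩ := stdCross_eq_e8.mp (hf (e8 i) (e8_mem_stdCross i))
  by_cases hij : j = i
  · subst hij
    rcases hj with h | h
    · exact Or.inl (Subtype.ext h)
    · exact Or.inr (Subtype.ext h)
  exfalso
  have hfin : Finite Co0 := Nat.finite_of_card_ne_zero (by rw [card_co0]; norm_num)
  set O := MulAction.orbit (indGroup e g k) (e8 i)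
  have hneg : ∀ w, w ∈ O → -w ∈ O := by
    rintro _ ⟨p, rfl⟩
    exact ⟨⟨negOne, negOne_mem_indGroup⟩ * p,
      (mul_smul _ _ _).trans (negOne_apply _)⟩
  have hall : ∀ j', e8 j' ∈ O := by
    intro j'
    by_cases h' : j' = i
    · subst h'; exact MulAction.mem_orbit_self _
    obtain ⟨σ, hσ, s1, s2⟩ := two_points i j i j' (Ne.symm hij) (Ne.symm h')
    set p := mono hσ empty_mem_code
    have hp : p ∈ monoGroup := mono_mem_monoGroup hσ empty_mem_code
    have hi : p⁻¹ • e8 i = e8 i := by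
      rw [inv_smul_eq_iff, monoFun_e8, if_neg (notMem_empty _), s1]
    have hmem : (p * r * p⁻¹) • e8 i ∈ O :=
      ⟨⟨_, indGroup_normal hw hψ hag ha hv (mono_fix hψ hp) hr⟩, rfl⟩
    rw [mul_smul, mul_smul, hi] at hmem
    rcases hj with h | h
    · rw [show r • e8 i = e8 j from Subtype.ext h, monoFun_e8, if_neg (notMem_empty _), s2] at hmem
      exact hmem
    · rw [show r • e8 i = -e8 j from Subtype.ext h, smul_neg', monoFun_e8, if_neg (notMem_empty _), s2] at hmem
      simpa using hneg _ hmem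
  haveI : Finite ↑O := (Set.finite_range _).to_subtype
  haveI : Finite ↑(MulAction.orbit (indGroup e g k) (e8 i)) := ‹Finite ↑O›
  obtain ⟨n, hn⟩ := (indGroup_pgroup hw (e := e) (g := g) (k := k)).card_orbit (e8 i)
  let f : GolayPt × Bool → leechLattice := fun p => if p.2 then -e8 p.1 else e8 p.1
  have hf' : Function.Injective f := by
    rintro ⟨x, b⟩ ⟨y, c⟩ h
    have h1 := congrFun (congrArg Subtype.val h) x
    by_cases hxy : x = y
    · subst hxy; cases b <;> cases c <;> simp [f, e8] at h1 ⊢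
    · cases b <;> cases c <;> simp [f, e8, hxy] at h1
  have hO : O = Set.range f := by
    apply Set.Subset.antisymm
    · rintro _ ⟨⟨p, hp⟩, rfl⟩
      have hp' : FixesFrame p := by
        have := indGroup_mono hψ hag hv hp
        rw [← SetLike.mem_coe, coe_monoGroup] at this; exact this
      obtain ⟨l, hl | hl⟩ := stdCross_eq_e8.mp (hp' (e8 i) (e8_mem_stdCross i))
      · exact ⟨(l, false), (Subtype.ext hl : p • e8 i = e8 l).symm⟩
      · exact ⟨(l, true), (Subtype.ext hl : p • e8 i = -e8 l).symm⟩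
    · rintro _ ⟨⟨l, b⟩, rfl⟩
      cases b
      · exact hall l
      · exact hneg _ (hall l)
  change Nat.card O = 2 ^ n at hn
  rw [hO, Nat.card_range_of_injective hf', Nat.card_prod, Nat.card_eq_fintype_card, Nat.card_eq_fintype_card,
    Fintype.card_option, ZMod.card, Fintype.card_bool] at hn
  have h3 : 3 ∣ 2 ^ n := ⟨16, by omega⟩
  have := Nat.le_of_dvd (by norm_num) (Nat.prime_three.dvd_of_dvd_pow h3)
  omega

include hw hψ hag ha hv in
theorem indGroup_flip {r : Co0} (hr : r ∈ indGroup e g k) : ∃ (c : Finset GolayPt) (hc : c ∈ code),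
    r = mono (one_mem M24) hc := by
  have hf : FixesFrame r := by
    have := indGroup_mono hψ hag hv hr
    rw [← SetLike.mem_coe, coe_monoGroup] at this; exact this
  obtain ⟨σ, c, hσ, hc, rfl⟩ := frame_is_monomial hf
  obtain rfl := lines_perm hσ hc (indGroup_lines hw hψ hag ha hv hr)
  exact ⟨c, hc, rfl⟩

include hw hψ hag ha hv in
theorem mono_meet_inv : ∀ h ∈ monoGroup, ∀ w : leechLattice,
    (w : GolayPt → ℤ) ∈ classSub hψ (meetSub Q g) k →
      ((h • w : leechLattice) : GolayPt → ℤ) ∈ classSub hψ (meetSub Q g) k := by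
  intro h hh w hw'
  obtain ⟨x, hx, hxa⟩ := lift_stab hw hψ ha hv (mono_fix hψ hh)
  exact classSub_invariant hψ hx (meet_normal hag hxa) w hw'

include hw hψ hag ha hv in
theorem meet_further_class : ∃ x ∈ classSub hψ (meetSub Q g) k, x pN % 2 = 0 ∧
    (∀ w ∈ leechLattice, x ≠ (2 : ℤ) • w) ∧ (∀ w ∈ leechLattice, x ≠ (e8 pN : GolayPt → ℤ) + (2 : ℤ) • w) := by
  classical
  by_cases hsub : conjCent Q g ≤ Q
  · obtain ⟨x, hx, h1, h2⟩ := exists_meet_class hw hψ hag ha hv hsub
    refine ⟨x, hx, ?_, h1, h2⟩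
    have := meet_dot hw hψ hag ha (base_mem hw hψ hag hv) hx
    rw [dot_e8] at this
    omega
  obtain ⟨u, hu, huQ⟩ := Set.not_subset.mp hsub
  obtain ⟨r, hr⟩ := img_exists (e := e) k u
  obtain ⟨c, hc, rfl⟩ := indGroup_flip hw hψ hag ha hv ⟨u, hu, hr⟩
  have hc0 : c ≠ ∅ := by
    rintro rfl
    refine huQ ((img_mem_iff hr).mpr ?_)
    rw [show mono (one_mem M24) hc = 1 from co0_ext fun v => Subtype.ext (funext fun i => by
      rw [one_smul, mono_apply]; simp [signedPerm, show (1 : Equiv.Perm GolayPt).symm i = i from rfl])]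
    exact one_mem _
  have hc1 : c ≠ univ := by
    rintro rfl
    exact huQ ((img_mem_iff hr).mpr (Subgroup.mem_center_iff.mpr fun h => (negOne_comm h).symm))
  obtain ⟨o, ho, ho8, hoN, -, hcard⟩ := meet_witness hc hc0 hc1
  set y : leechLattice := ⟨fun i => 2 * indZ o i, mem_lattice.mpr ⟨0, o, 0, ho, fun i => by simp, by simp⟩⟩ with hy
  have hyn : Cfsg.sqNorm (y : GolayPt → ℤ) = 32 := by
    unfold Cfsg.sqNorm
    rw [sum_congr rfl fun i _ => show (y : GolayPt → ℤ) i ^ 2 = 4 * indZ o i by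
      simp only [hy, indZ]; split <;> norm_num, ← mul_sum, card_filter_indZ, ho8]
    norm_num
  obtain ⟨q, hq'⟩ := QuotientGroup.mk_surjective (ψ (k • y))
  have hq : ψ (k • y) = QuotientGroup.mk q := hq'.symm
  have hkn : Cfsg.sqNorm ((k • y : leechLattice) : GolayPt → ℤ) = 32 := (k.2.2 y).trans hyn
  have hq2 : q * q = 1 := (sq_iff hw hψ hq).mpr (by rw [hkn])
  have hqa : q * a = a * q := (commute_iff_dot hw hψ hq hv hq2
    (meet_involution hw hψ hag ha (a_mem_meet hw hag))).mpr (by
      rw [dot_smul, dot_comm, dot_e8]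
      simp [hy, indZ, hoN])
  set q' : Q := ⟨u * q * u⁻¹, (inferInstance : Q.Normal).conj_mem _ q.2 u⟩ with hq'def
  set x : leechLattice := mono (one_mem M24) hc • y - y with hxdef
  have hx : (x : GolayPt → ℤ) ∈ classSub hψ (meetSub Q g) k := by
    refine (mem_classSub hψ).mpr ⟨x.2, q' * q⁻¹, ?_, ?_⟩
    · show ((u : Subgroup.centralizer ({z} : Set G)) : G) * ((q : Subgroup.centralizer ({z} : Set G)) : G) *
        ((u : Subgroup.centralizer ({z} : Set G)) : G)⁻¹ * ((q : Subgroup.centralizer ({z} : Set G)) : G)⁻¹ ∈ QC Q g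
      rw [mul_assoc, mul_assoc]
      refine mul_mem hu ?_
      rw [← mul_assoc]
      refine QC_normalized ?_ (inv_mem hu)
      have := congrArg (fun t : Q => ((t : Subgroup.centralizer ({z} : Set G)) : G)) hqa
      simp only [Subgroup.coe_mul, hag] at this
      exact this
    · show ψ (k • x) = _
      rw [hxdef, sub_eq_add_neg, smul_add', smul_neg', hψ.1, psi_neg hψ, img_class hψ hr hq, hq, QuotientGroup.mk_mul,
        QuotientGroup.mk_inv]
      exact congrArg _ (inv_eq_of_mul_eq_one_left (psi_mul_comm hψ _ 1).2).symm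
  have hxe : (x : GolayPt → ℤ) = four (fun i => -(indZ c i * indZ o i)) := by
    funext i
    rw [hxdef, AddSubgroup.coe_sub, Pi.sub_apply, mono_apply]
    simp only [signedPerm, hy, four, indZ, show (1 : Equiv.Perm GolayPt).symm i = i from rfl]
    split_ifs <;> norm_num
  have hodd : oddSet (fun i => -(indZ c i * indZ o i)) = o ∩ c := by
    ext i
    simp only [mem_oddSet, mem_inter, indZ]
    split_ifs <;> simp_all
  have hnc : ∀ z' : GolayPt → ℤ, oddSet z' = o ∩ c → ∀ w ∈ leechLattice, four z' ≠ (2 : ℤ) • w := by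
    intro z' hz' w hw' he
    have hval : ∀ i, w i = 2 * z' i := fun i => by
      have := congrFun he i
      simp only [four, Pi.smul_apply, smul_eq_mul] at this
      omega
    refine small_not_code (e := o ∩ c) (by omega) (by omega) ?_
    rw [← hz']
    convert word_even hw' (fun i => by rw [hval i]; omega) using 1
    ext i
    rw [mem_oddSet, Finset.mem_filter, hval i]
    simp only [mem_univ, true_and]
    omega
  refine ⟨_, hx, ?_, ?_, ?_⟩
  · rw [hxe]; simp only [four]; omega
  · rw [hxe]; exact hnc _ hodd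
  · intro w hw' he
    refine hnc (fun i => -(indZ c i * indZ o i) - 2 * if i = pN then 1 else 0) ?_ w hw' ?_
    · rw [← hodd]; ext i; simp only [mem_oddSet]; omega
    · funext i
      have := congrFun (hxe.symm.trans he) i
      simp only [four, Pi.add_apply, Pi.smul_apply, smul_eq_mul, e8, Pi.single_apply] at this ⊢
      split_ifs at this ⊢ <;> omega

include hw hψ hag ha hv in
theorem meet_eq_singular : classSub hψ (meetSub Q g) k = singular := by
  obtain ⟨x, hx, hxe, h1, h2⟩ := meet_further_class hw hψ hag ha hv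
  exact eq_singular (classSub_two hψ _ k) (classSub_le hψ _ k) (base_mem hw hψ hag hv)
    (fun i j hij => pairs_of_class (classSub_two hψ _ k) (classSub_le hψ _ k) (mono_meet_inv hw hψ hag ha hv)
      (base_mem hw hψ hag hv) hx hxe h1 h2 hij)
    fun p hp q hq => meet_dot hw hψ hag ha hp hq

include hw hψ hag ha hv in
theorem center_le_meet : Subgroup.center Q ≤ meetSub Q g := by
  suffices hz : (⟨zC z, zC_mem hw⟩ : Q) ∈ meetSub Q g by
    intro c hc
    rcases centerQ_cases hw hc with rfl | rfl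
    · exact one_mem _
    · exact hz
  obtain ⟨p, hpn, hpd, hpb⟩ := frame_partner
  obtain ⟨hbL, q, hq, hqc⟩ := (mem_classSub hψ).mp
    ((meet_eq_singular hw hψ hag ha hv).ge singular_pair)
  obtain ⟨r, hr'⟩ := QuotientGroup.mk_surjective (ψ (k • p))
  have hr : ψ (k • p) = QuotientGroup.mk r := hr'.symm
  have hkn : Cfsg.sqNorm ((k • p : leechLattice) : GolayPt → ℤ) = 32 := (k.2.2 p).trans hpn
  have hr2 : r * r = 1 := (sq_iff hw hψ hr).mpr (by rw [hkn])
  have hra : r * a = a * r := (commute_iff_dot hw hψ hr hv hr2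
    (meet_involution hw hψ hag ha (a_mem_meet hw hag))).mpr (by rw [dot_smul, dot_comm, hpd]; norm_num)
  have hnc : r * q ≠ q * r := fun h => by
    have := (commute_iff_dot hw hψ hr hqc hr2 (meet_involution hw hψ hag ha hq)).mp h
    rw [dot_smul, hpb] at this
    norm_num at this
  have hmem := meet_normal hag (congrArg Subtype.val (mul_inv_eq_iff_eq_mul.mpr hra)) q hq
  have hc : r * q * r⁻¹ * q⁻¹ ∈ Subgroup.center Q := by
    rw [← QuotientGroup.eq_one_iff]
    simp only [QuotientGroup.mk_mul, QuotientGroup.mk_inv]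
    rw [mul_inv_eq_one, mul_inv_eq_iff_eq_mul, (psi_mul_comm hψ _ _).1]
  rcases centerQ_cases hw hc with h | h
  · exact absurd (mul_inv_eq_iff_eq_mul.mp (mul_inv_eq_one.mp h)) hnc
  · rw [← h]
    exact mul_mem hmem (inv_mem hq)

include hw hψ hag ha hv in
theorem card_meet : Nat.card (meetSub Q g) = 2 ^ 13 := by
  set μ := QuotientGroup.mk' (Subgroup.center Q)
  set T := (meetSub Q g).map μ with hT
  let φ : leechLattice →+ Additive (Q ⧸ Subgroup.center Q) := (psiHom hψ).comp (toHom k)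
  have hφ : Function.Surjective φ := fun x => by
    obtain ⟨y, hy⟩ := hψ.2.1 (Additive.toMul x)
    refine ⟨k⁻¹ • y, ?_⟩
    show Additive.ofMul (ψ (k • k⁻¹ • y)) = x
    rw [smul_inv_smul, hy]; rfl
  have hcomap : singular.addSubgroupOf leechLattice = (Subgroup.toAddSubgroup T).comap φ := by
    rw [← meet_eq_singular hw hψ hag ha hv]
    ext x
    constructor
    · rintro ⟨y, hy, hyx⟩
      obtain rfl : y = x := Subtype.ext hyx
      exact hy
    · exact fun hx => ⟨x, hx, rfl⟩
  have hidx : (Subgroup.toAddSubgroup T).index = 2 ^ 12 := by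
    rw [← AddSubgroup.index_comap_of_surjective _ hφ, ← hcomap, index_singular]
  have hidx' : T.index = 2 ^ 12 := hidx
  have hle := center_le_meet hw hψ hag ha hv
  have h1 : (meetSub Q g).index = 2 ^ 12 := by
    rw [← hidx', hT, Subgroup.index_map_eq (meetSub Q g) (QuotientGroup.mk'_surjective _)
      (by rw [QuotientGroup.ker_mk']; exact hle)]
  have h2 := (meetSub Q g).card_mul_index
  rw [h1, hw.2.2.2.1, show (2 : ℕ) ^ (2 * 12 + 1) = 2 ^ 13 * 2 ^ 12 by rw [← pow_add]] at h2
  exact Nat.eq_of_mul_eq_mul_right (Nat.two_pow_pos 12) h2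

end setting

/-- A fused involution of `Q` lies over a vector of squared length 64. -/
theorem fused_norm (hw : IsExtraspecialCentralizerSetting z Q 12) (hψ : IsLeechModTwoIso Q e ψ) {g : G} {a : Q}
    (hag : ((a : Subgroup.centralizer ({z} : Set G)) : G) = g * z * g⁻¹) (ha : a ∉ Subgroup.center Q)
    {v : leechLattice} (hv : ψ v = QuotientGroup.mk a) (hn : Cfsg.sqNorm (v : GolayPt → ℤ) = 32) : False := by
  obtain ⟨k, hk⟩ := transitive32 bP v (pairVec_norm (by decide) (Or.inl rfl)) hn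
  exact not_short hw hψ hag ha (k := k) (by rw [hk]; exact hv)

/-- A fused involution of `Q` in base position over the standard frame. -/
theorem fused_base (hw : IsExtraspecialCentralizerSetting z Q 12) (hψ : IsLeechModTwoIso Q e ψ) {s g : G}
    (hsQ : ∃ hsc : s ∈ Subgroup.centralizer ({z} : Set G), (⟨s, hsc⟩ : Subgroup.centralizer ({z} : Set G)) ∈ Q)
    (hs1 : s ≠ z) (hg : g * z * g⁻¹ = s) :
    ∃ (a : Q) (k : Co0), ((a : Subgroup.centralizer ({z} : Set G)) : G) = g * z * g⁻¹ ∧ a ∉ Subgroup.center Q ∧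
      ψ (k • e8 pN) = QuotientGroup.mk a ∧
      ∃ v : leechLattice, ψ v = QuotientGroup.mk a ∧ Cfsg.sqNorm (v : GolayPt → ℤ) = 64 := by
  have hs2 : orderOf s = 2 := by
    rw [← hg, ← MulAut.conj_apply, MulEquiv.orderOf_eq]; exact hw.1
  obtain ⟨a, has, -, ha, v, hv, hn⟩ := class_of_mem hw hψ hsQ hs2 hs1
  have hag := has.trans hg.symm
  have h64 := hn.resolve_left (fused_norm hw hψ hag ha hv)
  obtain ⟨k, hk⟩ := transitive64 (e8 pN) v (sqNorm_e8 _) h64
  exact ⟨a, k, hag, ha, by rw [hk]; exact hv, v, hv, h64⟩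

/-- The fused involutions of `Q` other than the central one are those over vectors of squared length 64. -/
theorem fused_iff (hw : IsExtraspecialCentralizerSetting z Q 12) (hψ : IsLeechModTwoIso Q e ψ) (x : Q) :
    (IsConj z ((x : Subgroup.centralizer ({z} : Set G)) : G) ∧ ((x : Subgroup.centralizer ({z} : Set G)) : G) ≠ z) ↔
      ∃ v : leechLattice, Cfsg.sqNorm (v : GolayPt → ℤ) = 64 ∧ ψ v = QuotientGroup.mk x := by
  constructor
  · rintro ⟨hc, hne⟩
    obtain ⟨g, hg⟩ := isConj_iff.mp hc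
    obtain ⟨a, -, hag, -, -, v, hv, hn⟩ := fused_base hw hψ
      (s := ((x : Subgroup.centralizer ({z} : Set G)) : G)) ⟨_, x.2⟩ hne hg
    exact ⟨v, hn, by rw [hv, show a = x from Subtype.ext (Subtype.ext (hag.trans hg))]⟩
  · rintro ⟨v, hn, hv⟩
    obtain ⟨g, hgQ, hgz⟩ := hw.2.2.2.2
    obtain ⟨a, -, hag, ha, -, w, hw', hwn⟩ := fused_base hw hψ hgQ hgz rfl
    have hx : x ∉ Subgroup.center Q := by
      intro hx
      rw [← QuotientGroup.eq_one_iff, ← hv, ← psi_zero hψ, psi_eq_iff hψ] at hx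
      obtain ⟨y, hy⟩ := hx
      rw [zero_add] at hy
      obtain ⟨-, h⟩ := s5551 (0 : GolayPt → ℤ) (v : GolayPt → ℤ) v.2 (by simp [Cfsg.sqNorm]) (by omega)
        ⟨-(y : GolayPt → ℤ), neg_mem y.2, by rw [hy]; simp [two_smul]⟩
      rcases h (by simp [Cfsg.sqNorm]) with h | h <;> rw [h] at hn <;> simp [Cfsg.sqNorm] at hn
    obtain ⟨h, -, hh⟩ := conj_of_class hw hψ hag rfl ha hw' hv (by omega) (Or.inr hwn)
    refine ⟨isConj_iff.mpr ⟨h * g, by rw [← hh]; group⟩, fun he => hx ?_⟩
    rw [coe_eq_z hw he]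
    exact Subgroup.mem_center_iff.mpr fun b =>
      Subtype.ext (Subtype.ext (Subgroup.mem_centralizer_singleton_iff.mp (b : Subgroup.centralizer ({z} : Set G)).2))

end Cfsg.Lib.Leech
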