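import Cfsg.Agent.Leech.MonsterClass
import Mathlib.GroupTheory.GroupAction.ConjAct

/-!
The intersection of two conjugate extraspecial subgroups, one centre lying in the other group.
-/

namespace Cfsg.Lib.Leech

open Cfsg

variable {G : Type*} [Group G] [Finite G] {z : G} {Q : Subgroup (Subgroup.centralizer ({z} : Set G))} [Q.Normal]
  {e : (Subgroup.centralizer ({z} : Set G)) ⧸ Q ≃* Spor.Co1} {ψ : leechLattice → Q ⧸ Subgroup.center Q}

/-- The extraspecial subgroup inside the whole group. -/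
abbrev QG (Q : Subgroup (Subgroup.centralizer ({z} : Set G))) : Subgroup G :=
  Q.map (Subgroup.centralizer ({z} : Set G)).subtype

/-- Its conjugate. -/
abbrev QC (Q : Subgroup (Subgroup.centralizer ({z} : Set G))) (g : G) : Subgroup G :=
  (QG Q).map (MulAut.conj g).toMonoidHom

/-- The elements of `Q` lying in the conjugate. -/
abbrev meetSub (Q : Subgroup (Subgroup.centralizer ({z} : Set G))) (g : G) : Subgroup Q :=
  (QC Q g).comap ((Subgroup.centralizer ({z} : Set G)).subtype.comp Q.subtype)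

/-- The centralizer of `z` in the conjugate, inside the centralizer. -/
abbrev conjCent (Q : Subgroup (Subgroup.centralizer ({z} : Set G))) (g : G) :
    Subgroup (Subgroup.centralizer ({z} : Set G)) :=
  (QC Q g).comap (Subgroup.centralizer ({z} : Set G)).subtype

section basic

theorem center_val (hw : IsExtraspecialCentralizerSetting z Q 12) {a : Q} (ha : a ∈ Subgroup.center Q) :
    ((a : Subgroup.centralizer ({z} : Set G)) : G) = 1 ∨ ((a : Subgroup.centralizer ({z} : Set G)) : G) = z := by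
  rcases centerQ_cases hw ha with h | h
  · exact Or.inl (by rw [h]; rfl)
  · exact Or.inr (by rw [h])

theorem QG_sq (hw : IsExtraspecialCentralizerSetting z Q 12) (hψ : IsLeechModTwoIso Q e ψ) {x : G}
    (hx : x ∈ QG Q) : x * x = 1 ∨ x * x = z := by
  obtain ⟨c, hc, rfl⟩ := hx
  have h : (⟨c, hc⟩ : Q) * ⟨c, hc⟩ ∈ Subgroup.center Q := by
    rw [← QuotientGroup.eq_one_iff, QuotientGroup.mk_mul]; exact (psi_mul_comm hψ _ 1).2
  exact center_val hw h

theorem QG_comm (hw : IsExtraspecialCentralizerSetting z Q 12) (hψ : IsLeechModTwoIso Q e ψ) {x y : G}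
    (hx : x ∈ QG Q) (hy : y ∈ QG Q) : x * y * x⁻¹ * y⁻¹ = 1 ∨ x * y * x⁻¹ * y⁻¹ = z := by
  obtain ⟨c, hc, rfl⟩ := hx
  obtain ⟨d, hd, rfl⟩ := hy
  have h : (⟨c, hc⟩ : Q) * ⟨d, hd⟩ * (⟨c, hc⟩ : Q)⁻¹ * (⟨d, hd⟩ : Q)⁻¹ ∈ Subgroup.center Q := by
    rw [← QuotientGroup.eq_one_iff]
    simp only [QuotientGroup.mk_mul, QuotientGroup.mk_inv]
    rw [mul_inv_eq_one, mul_inv_eq_iff_eq_mul, (psi_mul_comm hψ _ _).1]
  exact center_val hw h

theorem QC_mem {g x : G} : x ∈ QC Q g ↔ g⁻¹ * x * g ∈ QG Q := by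
  constructor
  · rintro ⟨y, hy, rfl⟩
    simpa [mul_assoc] using hy
  · exact fun h => ⟨_, h, by simp [mul_assoc]⟩

theorem QG_centralizes {x : G} (hx : x ∈ QG Q) : x * z = z * x := by
  obtain ⟨c, -, rfl⟩ := hx
  exact Subgroup.mem_centralizer_singleton_iff.mp c.2

theorem QC_centralizes {g x : G} (hx : x ∈ QC Q g) : x * (g * z * g⁻¹) = g * z * g⁻¹ * x := by
  have h := QG_centralizes (QC_mem.mp hx)
  calc x * (g * z * g⁻¹) = g * ((g⁻¹ * x * g) * z) * g⁻¹ := by group
    _ = g * (z * (g⁻¹ * x * g)) * g⁻¹ := by rw [h]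
    _ = g * z * g⁻¹ * x := by group

theorem QC_sq (hw : IsExtraspecialCentralizerSetting z Q 12) (hψ : IsLeechModTwoIso Q e ψ) {g x : G}
    (hx : x ∈ QC Q g) : x * x = 1 ∨ x * x = g * z * g⁻¹ := by
  rcases QG_sq hw hψ (QC_mem.mp hx) with h | h
  · left
    calc x * x = g * ((g⁻¹ * x * g) * (g⁻¹ * x * g)) * g⁻¹ := by group
      _ = 1 := by rw [h]; group
  · right
    calc x * x = g * ((g⁻¹ * x * g) * (g⁻¹ * x * g)) * g⁻¹ := by group
      _ = g * z * g⁻¹ := by rw [h]

theorem QC_comm (hw : IsExtraspecialCentralizerSetting z Q 12) (hψ : IsLeechModTwoIso Q e ψ) {g x y : G}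
    (hx : x ∈ QC Q g) (hy : y ∈ QC Q g) :
    x * y * x⁻¹ * y⁻¹ = 1 ∨ x * y * x⁻¹ * y⁻¹ = g * z * g⁻¹ := by
  have e1 : x * y * x⁻¹ * y⁻¹ = g * ((g⁻¹ * x * g) * (g⁻¹ * y * g) * (g⁻¹ * x * g)⁻¹ * (g⁻¹ * y * g)⁻¹) * g⁻¹ := by
    group
  rcases QG_comm hw hψ (QC_mem.mp hx) (QC_mem.mp hy) with h | h <;> rw [e1, h]
  · left; group
  · exact Or.inr rfl

theorem QC_normalized {g x y : G} (hx : x * (g * z * g⁻¹) = g * z * g⁻¹ * x) (hy : y ∈ QC Q g) :
    x * y * x⁻¹ ∈ QC Q g := by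
  obtain ⟨c, hc, hc'⟩ := QC_mem.mp hy
  have hxz : g⁻¹ * x * g ∈ Subgroup.centralizer ({z} : Set G) := Subgroup.mem_centralizer_singleton_iff.mpr (by
    calc g⁻¹ * x * g * z = g⁻¹ * (x * (g * z * g⁻¹)) * g := by group
      _ = g⁻¹ * (g * z * g⁻¹ * x) * g := by rw [hx]
      _ = z * (g⁻¹ * x * g) := by group)
  refine QC_mem.mpr ⟨⟨_, hxz⟩ * c * (⟨_, hxz⟩ : Subgroup.centralizer ({z} : Set G))⁻¹,
    (inferInstance : Q.Normal).conj_mem c hc _, ?_⟩
  simp only [map_mul, map_inv, hc']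
  show g⁻¹ * x * g * (g⁻¹ * y * g) * (g⁻¹ * x * g)⁻¹ = _
  group

theorem QG_conj {x y : G} (hx : x * z = z * x) (hy : y ∈ QG Q) : x * y * x⁻¹ ∈ QG Q := by
  obtain ⟨c, hc, rfl⟩ := hy
  exact ⟨⟨x, Subgroup.mem_centralizer_singleton_iff.mpr hx⟩ * c *
    (⟨x, Subgroup.mem_centralizer_singleton_iff.mpr hx⟩ : Subgroup.centralizer ({z} : Set G))⁻¹,
    (inferInstance : Q.Normal).conj_mem c hc _, rfl⟩

theorem card_QC (hw : IsExtraspecialCentralizerSetting z Q 12) (g : G) : Nat.card (QC Q g) = 2 ^ 25 := by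
  rw [QC, Subgroup.card_map_of_injective (MulAut.conj g).injective, QG,
    Subgroup.card_map_of_injective (Subgroup.subtype_injective _), hw.2.2.2.1]

theorem conjCent_pgroup (hw : IsExtraspecialCentralizerSetting z Q 12) (g : G) : IsPGroup 2 (conjCent Q g) := by
  intro u
  have hP : IsPGroup 2 (QC Q g) := IsPGroup.of_card (card_QC hw g)
  obtain ⟨n, hn⟩ := hP ⟨_, u.2⟩
  exact ⟨n, Subtype.ext (Subtype.ext (show (((u ^ 2 ^ n : conjCent Q g) : Subgroup.centralizer ({z} : Set G)) : G) = 1 by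
    have h : ((u : Subgroup.centralizer ({z} : Set G)) : G) ^ 2 ^ n = 1 := congrArg Subtype.val hn
    simp only [SubmonoidClass.coe_pow]; exact h))⟩

/-- An involution acting on `Q` fixes many elements. -/
theorem card_fixed (hw : IsExtraspecialCentralizerSetting z Q 12) (hψ : IsLeechModTwoIso Q e ψ)
    (y : Subgroup.centralizer ({z} : Set G)) (hy : y * y = 1) :
    2 ^ 12 ≤ Nat.card {q : Q // y * (q : Subgroup.centralizer ({z} : Set G)) = q * y} := by
  classical
  let τ : Q →* Q := MonoidHom.mk' (fun q => ⟨y * q * y⁻¹,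
      (inferInstance : Q.Normal).conj_mem (q : Subgroup.centralizer ({z} : Set G)) q.2 y⟩)
    fun a b => Subtype.ext (by simp only [Subgroup.coe_mul]; group)
  have hττ : ∀ q, τ (τ q) = q := fun q => Subtype.ext (by
    show y * (y * q * y⁻¹) * y⁻¹ = q
    have : y⁻¹ = y := inv_eq_of_mul_eq_one_left hy
    calc y * (y * q * y⁻¹) * y⁻¹ = (y * y) * q * (y⁻¹ * y⁻¹) := by group
      _ = q := by rw [this, hy, one_mul, mul_one])
  let μ := QuotientGroup.mk' (Subgroup.center Q)
  have hcomm : ∀ a b : Q ⧸ Subgroup.center Q, a * b = b * a := fun a b => (psi_mul_comm hψ a b).1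
  let φ : Q →* Q ⧸ Subgroup.center Q := MonoidHom.mk' (fun q => μ q * μ (τ q)) fun a b => by
    simp only [map_mul]
    rw [mul_assoc, ← mul_assoc (μ b), hcomm (μ b) (μ (τ a))]
    group
  have hZker : Subgroup.center Q ≤ φ.ker := fun c hc => by
    have h1 : μ c = 1 := (QuotientGroup.eq_one_iff c).mpr hc
    have h2 : μ (τ c) = 1 := (QuotientGroup.eq_one_iff _).mpr (Subgroup.mem_center_iff.mpr fun b => by
      have := congrArg τ (Subgroup.mem_center_iff.mp hc (τ b))
      rwa [map_mul, map_mul, hττ] at this)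
    show μ c * μ (τ c) = 1
    rw [h1, h2, one_mul]
  have hrange : φ.range ≤ φ.ker.map μ := by
    rintro _ ⟨q, rfl⟩
    refine ⟨q * τ q, ?_, map_mul μ q (τ q)⟩
    show μ (q * τ q) * μ (τ (q * τ q)) = 1
    rw [map_mul τ, hττ, map_mul μ, map_mul μ, hcomm (μ (τ q)) (μ q)]
    exact (psi_mul_comm hψ _ 1).2
  have hcardker : Nat.card φ.ker = 2 * Nat.card (φ.ker.map μ) := by
    have e0 : (φ.ker.map μ).index = φ.ker.index := Subgroup.index_map_eq φ.ker (QuotientGroup.mk'_surjective _)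
      (by rw [QuotientGroup.ker_mk']; exact hZker)
    have h2 : φ.ker.index ≠ 0 := Subgroup.index_ne_zero_of_finite
    have h3 := φ.ker.card_mul_index
    have h4 := (φ.ker.map μ).card_mul_index
    have h5 := Subgroup.card_eq_card_quotient_mul_card_subgroup (Subgroup.center Q)
    rw [e0] at h4
    rw [hw.2.2.1.2] at h5
    refine Nat.eq_of_mul_eq_mul_right (Nat.pos_of_ne_zero h2) ?_
    rw [h3, mul_assoc, h4, h5]; ring
  have h12 : 2 ^ 12 ≤ Nat.card (φ.ker.map μ) := by
    have h1 := Subgroup.index_ker φ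
    have h2 := φ.ker.card_mul_index
    have h3 := Subgroup.card_le_of_le hrange
    rw [h1, hcardker, hw.2.2.2.1] at h2
    by_contra hlt
    have hlt' : Nat.card (φ.ker.map μ) ≤ 2 ^ 12 - 1 := by omega
    have := Nat.mul_le_mul hlt' (h3.trans hlt')
    rw [mul_assoc] at h2
    omega
  -- on the kernel the displacement is a homomorphism to the centre
  have hdisp : ∀ q : φ.ker, τ q * (q : Q)⁻¹ ∈ Subgroup.center Q := fun q => by
    rw [← QuotientGroup.eq_one_iff]
    have h : μ q * μ (τ q) = 1 := q.2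
    have hs := (psi_mul_comm hψ (μ q) 1).2
    show μ (τ q * (q : Q)⁻¹) = 1
    rw [map_mul, map_inv, mul_inv_eq_one]
    exact (mul_left_cancel (h.trans hs.symm))
  let δ : φ.ker →* Subgroup.center Q := MonoidHom.mk' (fun q => ⟨τ q * (q : Q)⁻¹, hdisp q⟩) fun a b =>
    Subtype.ext (by
      have hc := Subgroup.mem_center_iff.mp (hdisp b) (τ a)
      show τ (a * b : Q) * ((a : Q) * b)⁻¹ = τ a * (a : Q)⁻¹ * (τ b * (b : Q)⁻¹)
      calc τ ((a : Q) * b) * ((a : Q) * b)⁻¹ = (τ a * (τ b * (b : Q)⁻¹)) * (a : Q)⁻¹ := by rw [map_mul]; group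
        _ = (τ b * (b : Q)⁻¹) * (τ a * (a : Q)⁻¹) := by rw [hc]; group
        _ = _ := (Subgroup.mem_center_iff.mp (hdisp b) (τ a * (a : Q)⁻¹)).symm)
  have hδ : 2 ^ 12 ≤ Nat.card δ.ker := by
    have h1 := δ.ker.card_mul_index
    have h2 := Subgroup.index_ker δ
    have h3 := Subgroup.card_le_card_group δ.range
    rw [hw.2.2.1.2] at h3
    rw [h2, hcardker] at h1
    have := Nat.mul_le_mul_left (Nat.card δ.ker) h3
    omega
  refine hδ.trans (Nat.card_le_card_of_injective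
    (fun q => (⟨((q : φ.ker) : Q), ?_⟩ : {q : Q // y * (q : Subgroup.centralizer ({z} : Set G)) = q * y})) ?_)
  · have h : τ (q : φ.ker) * ((q : φ.ker) : Q)⁻¹ = 1 := congrArg Subtype.val (q.2 : δ q.1 = 1)
    have := congrArg Subtype.val (mul_inv_eq_one.mp h)
    exact mul_inv_eq_iff_eq_mul.mp this
  · intro a b h
    exact Subtype.ext (Subtype.ext (congrArg (fun q => q.1) h))

theorem card_conjCent (hw : IsExtraspecialCentralizerSetting z Q 12) (hψ : IsLeechModTwoIso Q e ψ) {g : G}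
    (hs : g * z * g⁻¹ * z = z * (g * z * g⁻¹)) : 2 ^ 12 ≤ Nat.card (conjCent Q g) := by
  have hy : g⁻¹ * z * g ∈ Subgroup.centralizer ({z} : Set G) := Subgroup.mem_centralizer_singleton_iff.mpr (by
    calc g⁻¹ * z * g * z = g⁻¹ * (z * (g * z * g⁻¹)) * g := by group
      _ = g⁻¹ * (g * z * g⁻¹ * z) * g := by rw [hs]
      _ = z * (g⁻¹ * z * g) := by group)
  have hz2 : z * z = 1 := by
    have := pow_orderOf_eq_one z
    rw [hw.1, pow_two] at this
    exact this
  refine (card_fixed hw hψ ⟨_, hy⟩ (Subtype.ext ?_)).trans (Nat.card_le_card_of_injective (fun q =>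
    (⟨⟨g * ((q.1 : Subgroup.centralizer ({z} : Set G)) : G) * g⁻¹, ?_⟩, ?_⟩ : conjCent Q g)) ?_)
  · show g⁻¹ * z * g * (g⁻¹ * z * g) = 1
    calc g⁻¹ * z * g * (g⁻¹ * z * g) = g⁻¹ * (z * z) * g := by group
      _ = 1 := by rw [hz2]; group
  · refine Subgroup.mem_centralizer_singleton_iff.mpr ?_
    have h : g⁻¹ * z * g * ((q.1 : Subgroup.centralizer ({z} : Set G)) : G)
        = ((q.1 : Subgroup.centralizer ({z} : Set G)) : G) * (g⁻¹ * z * g) := congrArg Subtype.val q.2
    calc g * ((q.1 : Subgroup.centralizer ({z} : Set G)) : G) * g⁻¹ * z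
        = g * (((q.1 : Subgroup.centralizer ({z} : Set G)) : G) * (g⁻¹ * z * g)) * g⁻¹ := by group
      _ = g * (g⁻¹ * z * g * ((q.1 : Subgroup.centralizer ({z} : Set G)) : G)) * g⁻¹ := by rw [h]
      _ = z * (g * ((q.1 : Subgroup.centralizer ({z} : Set G)) : G) * g⁻¹) := by group
  · exact ⟨_, ⟨q.1, q.1.2, rfl⟩, rfl⟩
  · intro a b h
    have := congrArg (fun u : conjCent Q g => ((u : Subgroup.centralizer ({z} : Set G)) : G)) h
    simp only [mul_right_cancel_iff, mul_left_cancel_iff] at this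
    exact Subtype.ext (Subtype.ext (Subtype.ext this))

end basic

section setting

variable (hw : IsExtraspecialCentralizerSetting z Q 12) (hψ : IsLeechModTwoIso Q e ψ) {g : G} {a : Q}
  (hag : ((a : Subgroup.centralizer ({z} : Set G)) : G) = g * z * g⁻¹) (ha : a ∉ Subgroup.center Q)
  {k : Co0} {v : leechLattice} (hv : ψ (k • v) = QuotientGroup.mk a)

include hw in
theorem zG_mem : z ∈ QG Q := ⟨zC z, zC_mem hw, rfl⟩

include hw hag in
theorem a_mem_meet : a ∈ meetSub Q g :=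
  show ((a : Subgroup.centralizer ({z} : Set G)) : G) ∈ QC Q g from hag ▸ ⟨z, zG_mem hw, rfl⟩

include hag in
theorem s_commutes : g * z * g⁻¹ * z = z * (g * z * g⁻¹) := by
  rw [← hag]; exact Subgroup.mem_centralizer_singleton_iff.mp (a : Subgroup.centralizer ({z} : Set G)).2

include hw ha in
theorem a_ne_z : ((a : Subgroup.centralizer ({z} : Set G)) : G) ≠ z := fun h => ha (by
  rw [coe_eq_z hw h]
  exact Subgroup.mem_center_iff.mpr fun b =>
    Subtype.ext (Subtype.ext (Subgroup.mem_centralizer_singleton_iff.mp (b : Subgroup.centralizer ({z} : Set G)).2)))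

include hag in
theorem conjCent_commutes {u : Subgroup.centralizer ({z} : Set G)} (hu : u ∈ conjCent Q g) :
    u * (a : Subgroup.centralizer ({z} : Set G)) * u⁻¹ = a := by
  refine mul_inv_eq_iff_eq_mul.mpr (Subtype.ext ?_)
  simp only [Subgroup.coe_mul, hag]
  exact QC_centralizes hu

include hag in
theorem conjCent_normal {x u : Subgroup.centralizer ({z} : Set G)}
    (hx : x * (a : Subgroup.centralizer ({z} : Set G)) * x⁻¹ = a) (hu : u ∈ conjCent Q g) :
    x * u * x⁻¹ ∈ conjCent Q g := by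
  have h := congrArg Subtype.val (mul_inv_eq_iff_eq_mul.mp hx)
  simp only [Subgroup.coe_mul, hag] at h
  exact QC_normalized h hu

include hag in
theorem meet_normal {x : Subgroup.centralizer ({z} : Set G)}
    (hx : x * (a : Subgroup.centralizer ({z} : Set G)) * x⁻¹ = a) (q : Q) (hq : q ∈ meetSub Q g) :
    (⟨x * q * x⁻¹, (inferInstance : Q.Normal).conj_mem (q : Subgroup.centralizer ({z} : Set G)) q.2 x⟩ : Q) ∈
      meetSub Q g := by
  have h := congrArg Subtype.val (mul_inv_eq_iff_eq_mul.mp hx)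
  simp only [Subgroup.coe_mul, hag] at h
  exact QC_normalized h hq

include hw hψ hag ha in
theorem meet_involution {q : Q} (hq : q ∈ meetSub Q g) : q * q = 1 := by
  set x := ((q : Subgroup.centralizer ({z} : Set G)) : G)
  have hne : g * z * g⁻¹ ≠ z := hag ▸ a_ne_z hw ha
  rcases QC_sq hw hψ (show x ∈ QC Q g from hq) with h | h
  · exact Subtype.ext (Subtype.ext h)
  · rcases QG_sq hw hψ (show x ∈ QG Q from ⟨_, q.2, rfl⟩) with h' | h'
    · exact Subtype.ext (Subtype.ext h')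
    · exact absurd (h.symm.trans h') hne

include hw hψ hag ha in
theorem meet_commute {q r : Q} (hq : q ∈ meetSub Q g) (hr : r ∈ meetSub Q g) : q * r = r * q := by
  set x := ((q : Subgroup.centralizer ({z} : Set G)) : G)
  set y := ((r : Subgroup.centralizer ({z} : Set G)) : G)
  have hne : g * z * g⁻¹ ≠ z := hag ▸ a_ne_z hw ha
  have hfin : x * y * x⁻¹ * y⁻¹ = 1 → q * r = r * q := fun h =>
    Subtype.ext (Subtype.ext (mul_inv_eq_iff_eq_mul.mp (mul_inv_eq_one.mp h)))
  rcases QC_comm hw hψ (show x ∈ QC Q g from hq) (show y ∈ QC Q g from hr) with h | h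
  · exact hfin h
  · rcases QG_comm hw hψ (show x ∈ QG Q from ⟨_, q.2, rfl⟩) (show y ∈ QG Q from ⟨_, r.2, rfl⟩) with h' | h'
    · exact hfin h'
    · exact absurd (h.symm.trans h') hne

include hw hψ hag ha in
theorem meet_dot {x y : GolayPt → ℤ} (hx : x ∈ classSub hψ (meetSub Q g) k)
    (hy : y ∈ classSub hψ (meetSub Q g) k) : (16 : ℤ) ∣ dotInt x y := by
  obtain ⟨hxL, q, hq, hq'⟩ := (mem_classSub hψ).mp hx
  obtain ⟨hyL, r, hr, hr'⟩ := (mem_classSub hψ).mp hy
  have := (commute_iff_dot hw hψ hq' hr' (meet_involution hw hψ hag ha hq) (meet_involution hw hψ hag ha hr)).mp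
    (meet_commute hw hψ hag ha hq hr)
  rwa [dot_smul] at this

include hw hag hv in
theorem base_mem : (v : GolayPt → ℤ) ∈ classSub hψ (meetSub Q g) k :=
  (mem_classSub hψ).mpr ⟨v.2, a, a_mem_meet hw hag, hv⟩

include hag hψ hv in
theorem conjCent_img {r : Co0} {u : Subgroup.centralizer ({z} : Set G)} (hu : u ∈ conjCent Q g) (hr : Img e k r u) :
    ∃ w : leechLattice, r • v = v + (2 : ℤ) • w := by
  rw [← psi_smul_eq_iff hψ k, img_class hψ hr hv, hv]
  congr 1
  exact Subtype.ext (conjCent_commutes hag hu)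

/-- The automorphisms induced by the centralizer of `z` in the conjugate. -/
def indGroup (e : (Subgroup.centralizer ({z} : Set G)) ⧸ Q ≃* Spor.Co1) (g : G) (k : Co0) : Subgroup Co0 where
  carrier := {r | ∃ u ∈ conjCent Q g, Img e k r u}
  mul_mem' := fun ⟨u, hu, hr⟩ ⟨u', hu', hr'⟩ => ⟨u * u', mul_mem hu hu', img_mul hr hr'⟩
  one_mem' := ⟨1, one_mem _, by simp [Img]⟩
  inv_mem' := fun ⟨u, hu, hr⟩ => ⟨u⁻¹, inv_mem hu, img_inv hr⟩

theorem negOne_mem_indGroup : negOne ∈ indGroup e g k := by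
  refine ⟨1, one_mem _, ?_⟩
  unfold Img
  rw [QuotientGroup.mk_one, map_one]
  refine ((QuotientGroup.eq_one_iff _).mpr ?_).symm
  exact (inferInstance : (Subgroup.center Co0).Normal).conj_mem _
    (Subgroup.mem_center_iff.mpr fun h => (negOne_comm h).symm) k

include hw in
theorem indGroup_pgroup : IsPGroup 2 (indGroup e g k) := by
  rintro ⟨r, u, hu, hr⟩
  obtain ⟨n, hn⟩ := conjCent_pgroup hw g ⟨u, hu⟩
  have hn' : u ^ 2 ^ n = 1 := congrArg Subtype.val hn
  have h : r ^ 2 ^ n ∈ Subgroup.center Co0 := (img_mem_iff (img_pow hr (2 ^ n))).mp (by rw [hn']; exact one_mem _)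
  refine ⟨n + 1, Subtype.ext ?_⟩
  show r ^ 2 ^ (n + 1) = 1
  rw [pow_succ, pow_mul]
  rcases center_cases h with h1 | h1 <;> rw [h1]
  · exact one_pow _
  · rw [pow_two]; exact negOne_sq

include hag ha hw hψ hv in
theorem indGroup_normal {h r : Co0} (hh : ψ (k • h • v) = ψ (k • v)) (hr : r ∈ indGroup e g k) :
    h * r * h⁻¹ ∈ indGroup e g k := by
  obtain ⟨u, hu, hr'⟩ := hr
  obtain ⟨x, hx, hxa⟩ := lift_stab hw hψ ha hv hh
  exact ⟨x * u * x⁻¹, conjCent_normal hag hxa hu, img_conj hx hr'⟩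

include hw hψ hag ha hv in
/-- Some class outside the base class is fixed modulo the base class by all induced automorphisms. -/
theorem exists_fixed_class : ∃ y : leechLattice,
    (∀ w : leechLattice, y ≠ (2 : ℤ) • w) ∧ (∀ w : leechLattice, y ≠ v + (2 : ℤ) • w) ∧
    ∀ r ∈ indGroup e g k, ∃ w : leechLattice, r • y = y + (2 : ℤ) • w ∨ r • y = y + v + (2 : ℤ) • w := by
  classical
  let N : Subgroup Q := (Subgroup.zpowers (QuotientGroup.mk a : Q ⧸ Subgroup.center Q)).comap (QuotientGroup.mk' _)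
  haveI : N.Normal := ⟨fun n hn q => by
    show QuotientGroup.mk' _ (q * n * q⁻¹) ∈ Subgroup.zpowers _
    rw [map_mul, map_mul, map_inv, (psi_mul_comm hψ _ _).1, ← mul_assoc, inv_mul_cancel, one_mul]
    exact hn⟩
  let conjU : conjCent Q g → (Q →* Q) := fun u => MonoidHom.mk'
    (fun q => ⟨u * q * (u : Subgroup.centralizer ({z} : Set G))⁻¹,
      (inferInstance : Q.Normal).conj_mem (q : Subgroup.centralizer ({z} : Set G)) q.2 u⟩)
    fun p q => Subtype.ext (by simp only [Subgroup.coe_mul]; group)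
  have hua : ∀ u, conjU u a = a := fun u => Subtype.ext (conjCent_commutes hag u.2)
  have hcen : ∀ (u : conjCent Q g), ∀ c ∈ Subgroup.center Q, conjU u c ∈ Subgroup.center Q := by
    intro u c hc
    refine Subgroup.mem_center_iff.mpr fun b => Subtype.ext ?_
    obtain ⟨b', rfl⟩ : ∃ b', conjU u b' = b := ⟨⟨(u : Subgroup.centralizer ({z} : Set G))⁻¹ * b *
      ((u : Subgroup.centralizer ({z} : Set G))⁻¹)⁻¹, (inferInstance : Q.Normal).conj_mem _ b.2 _⟩,
      Subtype.ext (by simp [conjU, mul_assoc])⟩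
    have := congrArg (fun q => ((conjU u q : Q) : Subgroup.centralizer ({z} : Set G)))
      (Subgroup.mem_center_iff.mp hc b')
    simpa only [map_mul, Subgroup.coe_mul] using this
  have hN : ∀ u, N ≤ N.comap (conjU u) := by
    intro u n hn
    obtain ⟨m, hm⟩ := Subgroup.mem_zpowers_iff.mp hn
    have hd : (a ^ m)⁻¹ * n ∈ Subgroup.center Q := by
      rw [← QuotientGroup.eq_one_iff, QuotientGroup.mk_mul, QuotientGroup.mk_inv, QuotientGroup.mk_zpow, hm]
      exact inv_mul_cancel _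
    have e1 : conjU u n = a ^ m * conjU u ((a ^ m)⁻¹ * n) := by
      rw [map_mul, map_inv, map_zpow, hua]; group
    show QuotientGroup.mk' _ (conjU u n) ∈ Subgroup.zpowers _
    rw [e1, map_mul, map_zpow, show QuotientGroup.mk' (Subgroup.center Q) (conjU u ((a ^ m)⁻¹ * n)) = 1 from
      (QuotientGroup.eq_one_iff _).mpr (hcen u _ hd), mul_one]
    exact Subgroup.zpow_mem_zpowers _ m
  letI : MulAction (conjCent Q g) (Q ⧸ N) :=
    { smul := fun u => QuotientGroup.map N N (conjU u) (hN u)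
      one_smul := fun x => by
        induction x using QuotientGroup.induction_on with
        | H q => exact congrArg QuotientGroup.mk (Subtype.ext (by simp [conjU]))
      mul_smul := fun u u' x => by
        induction x using QuotientGroup.induction_on with
        | H q => exact congrArg QuotientGroup.mk (Subtype.ext
            (show (u : Subgroup.centralizer ({z} : Set G)) * u' * q *
                ((u : Subgroup.centralizer ({z} : Set G)) * u')⁻¹ =
              u * ((u' : Subgroup.centralizer ({z} : Set G)) * q * (u' : Subgroup.centralizer ({z} : Set G))⁻¹) *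
                (u : Subgroup.centralizer ({z} : Set G))⁻¹ by group)) }
  have hne : (QuotientGroup.mk a : Q ⧸ Subgroup.center Q) ≠ 1 := fun h => ha ((QuotientGroup.eq_one_iff _).mp h)
  have heven : 2 ∣ Nat.card (Q ⧸ N) := by
    have hP : IsPGroup 2 Q := IsPGroup.of_card hw.2.2.2.1
    obtain ⟨n, hn⟩ := (hP.to_quotient N).exists_card_eq
    rw [hn]
    refine dvd_pow_self 2 fun h0 => ?_
    rw [h0, pow_zero] at hn
    have htop : N = ⊤ := Subgroup.index_eq_one.mp hn
    -- then every class would be trivial or the base one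
    have h2 : Nat.card (Subgroup.zpowers (QuotientGroup.mk a : Q ⧸ Subgroup.center Q)) = 2 := by
      rw [Nat.card_zpowers]
      exact orderOf_eq_prime (by rw [pow_two]; exact (psi_mul_comm hψ _ 1).2) hne
    have hall : (Subgroup.zpowers (QuotientGroup.mk a : Q ⧸ Subgroup.center Q)) = ⊤ := eq_top_iff.mpr fun x _ => by
      obtain ⟨q, rfl⟩ := QuotientGroup.mk_surjective x
      exact (htop.ge (Subgroup.mem_top q) : q ∈ N)
    rw [hall, Subgroup.card_top] at h2
    have h5 := Subgroup.card_eq_card_quotient_mul_card_subgroup (Subgroup.center Q)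
    rw [hw.2.2.1.2, h2, hw.2.2.2.1] at h5
    norm_num at h5
  obtain ⟨x, hx, hx1⟩ := (conjCent_pgroup hw g).exists_fixed_point_of_prime_dvd_card_of_fixed_point (Q ⧸ N) heven
    (a := ((1 : Q) : Q ⧸ N)) (fun u => congrArg QuotientGroup.mk (map_one (conjU u)))
  obtain ⟨q, rfl⟩ := QuotientGroup.mk_surjective x
  obtain ⟨y0, hy0⟩ := hψ.2.1 (QuotientGroup.mk q)
  set y := k⁻¹ • y0
  have hy : ψ (k • y) = QuotientGroup.mk q := by rw [smul_inv_smul]; exact hy0
  have hqN : q ∉ N := fun h => hx1 ((QuotientGroup.eq_one_iff q).mpr h).symm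
  refine ⟨y, fun w hw' => hqN ?_, fun w hw' => hqN ?_, ?_⟩
  · show QuotientGroup.mk q ∈ Subgroup.zpowers _
    rw [← hy, (psi_smul_eq_iff hψ k (y := 0)).mpr ⟨w, by rw [zero_add]; exact hw'⟩,
      show k • (0 : leechLattice) = 0 from (toHom k).map_zero, psi_zero hψ]
    exact one_mem _
  · show QuotientGroup.mk q ∈ Subgroup.zpowers _
    rw [← hy, (psi_smul_eq_iff hψ k (y := v)).mpr ⟨w, hw'⟩, hv]
    exact Subgroup.mem_zpowers _
  rintro r ⟨u, hu, hr⟩
  have hfix : q⁻¹ * conjU ⟨u, hu⟩ q ∈ N :=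
    QuotientGroup.eq.mp ((hx ⟨u, hu⟩).symm : (q : Q ⧸ N) = (conjU ⟨u, hu⟩ q : Q))
  obtain ⟨m, hm⟩ := Subgroup.mem_zpowers_iff.mp hfix
  have h1 : ψ (k • r • y) = ψ (k • y) * (QuotientGroup.mk a) ^ m := by
    rw [img_class hψ hr hy, hy, hm, map_mul, map_inv]
    exact (mul_inv_cancel_left _ _).symm
  have hsq : (QuotientGroup.mk a : Q ⧸ Subgroup.center Q) ^ (2 : ℤ) = 1 := by
    rw [zpow_two]; exact (psi_mul_comm hψ _ 1).2
  rcases Int.emod_two_eq m with h0 | h0
  · rw [show m = 2 * (m / 2) by omega, zpow_mul, hsq, one_zpow, mul_one] at h1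
    obtain ⟨w, hw'⟩ := (psi_smul_eq_iff hψ k).mp h1
    exact ⟨w, Or.inl hw'⟩
  · rw [show m = 2 * (m / 2) + 1 by omega, zpow_add, zpow_mul, hsq, one_zpow, one_mul, zpow_one, ← hv, ← hψ.1,
      ← smul_add'] at h1
    obtain ⟨w, hw'⟩ := (psi_smul_eq_iff hψ k).mp h1
    exact ⟨w, Or.inr hw'⟩

include hw hψ hag ha hv in
/-- When the centralizer in the conjugate is inside `Q`, the meet has a further class. -/
theorem exists_meet_class (hsub : conjCent Q g ≤ Q) : ∃ x ∈ classSub hψ (meetSub Q g) k,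
    (∀ w ∈ leechLattice, x ≠ (2 : ℤ) • w) ∧ (∀ w ∈ leechLattice, x ≠ (v : GolayPt → ℤ) + (2 : ℤ) • w) := by
  classical
  by_contra hall
  push Not at hall
  have hin : ∀ q ∈ meetSub Q g, q ∈ ({1, ⟨zC z, zC_mem hw⟩, a, a * ⟨zC z, zC_mem hw⟩} : Finset Q) := by
    intro q hq
    simp only [Finset.mem_insert, Finset.mem_singleton]
    obtain ⟨y0, hy0⟩ := hψ.2.1 (QuotientGroup.mk q)
    set y := k⁻¹ • y0
    have hy : ψ (k • y) = QuotientGroup.mk q := by rw [smul_inv_smul]; exact hy0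
    have hmem : (y : GolayPt → ℤ) ∈ classSub hψ (meetSub Q g) k := (mem_classSub hψ).mpr ⟨y.2, q, hq, hy⟩
    by_cases h1 : ∀ w ∈ leechLattice, (y : GolayPt → ℤ) ≠ (2 : ℤ) • w
    · obtain ⟨w, hw', he⟩ := hall _ hmem h1
      have : ψ (k • y) = ψ (k • v) := (psi_smul_eq_iff hψ k).mpr ⟨⟨w, hw'⟩, Subtype.ext he⟩
      rw [hy, hv] at this
      rcases centerQ_cases hw (QuotientGroup.eq.mp this.symm) with h | h
      · exact Or.inr (Or.inr (Or.inl (inv_mul_eq_one.mp h).symm))
      · exact Or.inr (Or.inr (Or.inr (inv_mul_eq_iff_eq_mul.mp h)))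
    · push Not at h1
      obtain ⟨w, hw', he⟩ := h1
      have : ψ (k • y) = ψ (k • 0) :=
        (psi_smul_eq_iff hψ k).mpr ⟨⟨w, hw'⟩, Subtype.ext (by rw [zero_add]; exact he)⟩
      rw [hy, show k • (0 : leechLattice) = 0 from (toHom k).map_zero, psi_zero hψ] at this
      rcases centerQ_cases hw ((QuotientGroup.eq_one_iff q).mp this) with h | h
      · exact Or.inl h
      · exact Or.inr (Or.inl h)
  have h1 : Nat.card (conjCent Q g) ≤ Nat.card (meetSub Q g) := Nat.card_le_card_of_injective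
    (fun u => (⟨⟨u.1, hsub u.2⟩, u.2⟩ : meetSub Q g))
    fun u u' h => Subtype.ext (congrArg (fun q => ((q.1 : Q) : Subgroup.centralizer ({z} : Set G))) h)
  have h2 : Nat.card (meetSub Q g) ≤ 4 := by
    rw [← Set.ncard_univ]
    refine (Set.ncard_le_ncard_of_injOn (fun q : meetSub Q g => (q : Q)) (fun q _ => Finset.mem_coe.mpr (hin q q.2))
      (fun p _ q _ h => Subtype.ext h) (Finset.finite_toSet _)).trans ?_
    rw [Set.ncard_coe_finset]
    exact Finset.card_le_four
  have := card_conjCent hw hψ (s_commutes hag)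
  omega

include hw hψ hag ha in
/-- The base class is not of least norm. -/
theorem not_short (hv : ψ (k • bP) = QuotientGroup.mk a) : False := by
  classical
  set M := classSub hψ (meetSub Q g) k
  have hbn : Cfsg.sqNorm (bP : GolayPt → ℤ) = 32 := pairVec_norm (by decide) (Or.inl rfl)
  have hfix : ∀ h : Co0, h • bP = bP → ψ (k • h • bP) = ψ (k • bP) := fun h hh => by rw [hh]
  have hinv : ∀ h : Co0, h • bP = bP → ∀ w : leechLattice, (w : GolayPt → ℤ) ∈ M →
      ((h • w : leechLattice) : GolayPt → ℤ) ∈ M := by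
    intro h hh w hw'
    obtain ⟨x, hx, hxa⟩ := lift_stab hw hψ ha hv (hfix h hh)
    exact classSub_invariant hψ hx (meet_normal hag hxa) w hw'
  -- all induced automorphisms are central
  have hR : ∀ r ∈ indGroup e g k, r ∈ Subgroup.center Co0 := by
    obtain ⟨y, hy1, hy2, hyfix⟩ := exists_fixed_class hw hψ hag ha hv
    let F : AddSubgroup (GolayPt → ℤ) :=
      { carrier := {x | ∃ hx : x ∈ leechLattice, ∀ r ∈ indGroup e g k, ∃ w : leechLattice,
          r • (⟨x, hx⟩ : leechLattice) = ⟨x, hx⟩ + (2 : ℤ) • w ∨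
          r • (⟨x, hx⟩ : leechLattice) = ⟨x, hx⟩ + bP + (2 : ℤ) • w}
        zero_mem' := ⟨zero_mem _, fun r _ => ⟨0, Or.inl (by
          rw [smul_zero, add_zero]
          exact (toHom r).map_zero)⟩⟩
        add_mem' := by
          rintro x x' ⟨hx, h⟩ ⟨hx', h'⟩
          refine ⟨add_mem hx hx', fun r hr => ?_⟩
          obtain ⟨w, e1⟩ := h r hr
          obtain ⟨w', e2⟩ := h' r hr
          show ∃ u : leechLattice, r • ((⟨x, hx⟩ : leechLattice) + ⟨x', hx'⟩) = ((⟨x, hx⟩ : leechLattice) + ⟨x', hx'⟩) + (2 : ℤ) • u ∨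
            r • ((⟨x, hx⟩ : leechLattice) + ⟨x', hx'⟩) = ((⟨x, hx⟩ : leechLattice) + ⟨x', hx'⟩) + bP + (2 : ℤ) • u
          rw [smul_add']
          rcases e1 with e1 | e1 <;> rcases e2 with e2 | e2 <;> rw [e1, e2]
          · exact ⟨w + w', Or.inl (by rw [smul_add]; abel)⟩
          · exact ⟨w + w', Or.inr (by rw [smul_add]; abel)⟩
          · exact ⟨w + w', Or.inr (by rw [smul_add]; abel)⟩
          · exact ⟨w + w' + bP, Or.inl (by rw [smul_add, smul_add, two_smul ℤ bP]; abel)⟩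
        neg_mem' := by
          rintro x ⟨hx, h⟩
          refine ⟨neg_mem hx, fun r hr => ?_⟩
          obtain ⟨w, e1⟩ := h r hr
          show ∃ u : leechLattice, r • (-(⟨x, hx⟩ : leechLattice)) = (-(⟨x, hx⟩ : leechLattice)) + (2 : ℤ) • u ∨
            r • (-(⟨x, hx⟩ : leechLattice)) = (-(⟨x, hx⟩ : leechLattice)) + bP + (2 : ℤ) • u
          rw [smul_neg']
          rcases e1 with e1 | e1 <;> rw [e1]
          · exact ⟨-w, Or.inl (by rw [smul_neg]; abel)⟩
          · exact ⟨-w - bP, Or.inr (by rw [smul_sub, smul_neg, two_smul ℤ bP]; abel)⟩ }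
    have hF2 : ∀ x ∈ leechLattice, (2 : ℤ) • x ∈ F := by
      intro x hx
      refine ⟨zsmul_mem hx 2, fun r _ => ⟨r • (⟨x, hx⟩ : leechLattice) - ⟨x, hx⟩, Or.inl ?_⟩⟩
      show r • ((2 : ℤ) • (⟨x, hx⟩ : leechLattice)) = (2 : ℤ) • (⟨x, hx⟩ : leechLattice) + _
      rw [smul_zsmul', smul_sub]; abel
    have hFinv : ∀ h : Co0, h • bP = bP → ∀ w : leechLattice, (w : GolayPt → ℤ) ∈ F →
        ((h • w : leechLattice) : GolayPt → ℤ) ∈ F := by
      intro h hh w hwF
      obtain ⟨_, hw'⟩ := hwF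
      refine ⟨(h • w).2, fun r hr => ?_⟩
      have hh' : h⁻¹ • bP = bP := by rw [inv_smul_eq_iff, hh]
      obtain ⟨u, e1⟩ := hw' (h⁻¹ * r * h⁻¹⁻¹) (indGroup_normal hw hψ hag ha hv (hfix _ hh') hr)
      change (h⁻¹ * r * h⁻¹⁻¹) • w = w + (2 : ℤ) • u ∨ (h⁻¹ * r * h⁻¹⁻¹) • w = w + bP + (2 : ℤ) • u at e1
      show ∃ u : leechLattice, r • (h • w) = h • w + (2 : ℤ) • u ∨ r • (h • w) = h • w + bP + (2 : ℤ) • u
      have e2 : r • (h • w) = h • ((h⁻¹ * r * h⁻¹⁻¹) • w) := by rw [inv_inv, ← mul_smul, ← mul_smul]; group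
      refine ⟨h • u, ?_⟩
      rcases e1 with e1 | e1
      · exact Or.inl (by rw [e2, e1, smul_add', smul_zsmul'])
      · exact Or.inr (by rw [e2, e1, smul_add', smul_add', smul_zsmul', hh])
    have hFb : (bP : GolayPt → ℤ) ∈ F := by
      refine ⟨bP.2, fun r ⟨u, hu, hr⟩ => ?_⟩
      obtain ⟨w, hw'⟩ := conjCent_img hψ hag hv hu hr
      exact ⟨w, Or.inl hw'⟩
    have hW := short_perp_mem (M := F) hF2 (fun x hx => hx.1) hFinv
      (x := (y : GolayPt → ℤ)) ⟨y.2, hyfix⟩ hFb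
      (fun w hw' he => hy1 ⟨w, hw'⟩ (Subtype.ext he)) (fun w hw' he => hy2 ⟨w, hw'⟩ (Subtype.ext he))
    intro r hr
    obtain ⟨u, hu, hr'⟩ := id hr
    refine perp_faithful r ?_ fun w hwn hwd => ?_
    · obtain ⟨w, hw'⟩ := conjCent_img hψ hag hv hu hr'
      obtain ⟨-, h⟩ := s5551 ((r • bP : leechLattice) : GolayPt → ℤ) bP bP.2
        (by rw [show Cfsg.sqNorm ((r • bP : leechLattice) : GolayPt → ℤ) = 32 from (r.2.2 bP).trans hbn]; norm_num)
        (by rw [hbn]; norm_num) ⟨w, w.2, by rw [hw']; simp [two_smul]⟩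
      rcases h (by rw [show Cfsg.sqNorm ((r • bP : leechLattice) : GolayPt → ℤ) = 32 from (r.2.2 bP).trans hbn]; norm_num)
        with h | h
      · exact Or.inl (Subtype.ext h.symm)
      · exact Or.inr (Subtype.ext (by rw [AddSubgroup.coe_neg, h, neg_neg]))
    · obtain ⟨_, hW'⟩ := hW w hwn hwd
      exact hW' r hr
  have hsub : conjCent Q g ≤ Q := by
    intro u hu
    obtain ⟨r, hr⟩ := img_exists (e := e) k u
    exact (img_mem_iff hr).mpr (hR r ⟨u, hu, hr⟩)
  obtain ⟨x, hx, hx1, hx2⟩ := exists_meet_class hw hψ hag ha hv hsub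
  obtain ⟨p, q, hp, hq, hpd, hqd, hpq⟩ := perp_odd
  have hmem := short_perp_mem (classSub_two hψ _ k) (classSub_le hψ _ k) hinv hx (base_mem hw hψ hag hv) hx1 hx2
  have := meet_dot hw hψ hag ha (hmem p hp hpd) (hmem q hq hqd)
  rw [hpq] at this
  omega

end setting

end Cfsg.Lib.Leech
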