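import Cfsg.Agent.Leech.MonsterFrame

/-!
The stabiliser of a fused involution of `Q`, modulo `Q`.
-/

namespace Cfsg.Lib.Leech

open Cfsg Cfsg.Lib.Golay Finset

variable {G : Type*} [Group G] [Finite G] {z : G} {Q : Subgroup (Subgroup.centralizer ({z} : Set G))} [Q.Normal]
  {e : (Subgroup.centralizer ({z} : Set G)) ⧸ Q ≃* Spor.Co1} {ψ : leechLattice → Q ⧸ Subgroup.center Q}

/-- The permutation part, inside the quotient of the centralizer. -/
noncomputable def permHom (e : (Subgroup.centralizer ({z} : Set G)) ⧸ Q ≃* Spor.Co1) (k : Co0) :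
    M24 →* (Subgroup.centralizer ({z} : Set G)) ⧸ Q :=
  MonoidHom.mk' (fun σ => e.symm (QuotientGroup.mk (k * mono σ.2 empty_mem_code * k⁻¹))) fun σ τ => by
    rw [← map_mul, ← QuotientGroup.mk_mul]
    congr 2
    rw [show mono (σ * τ).2 empty_mem_code = mono σ.2 empty_mem_code * mono τ.2 empty_mem_code from
      (mono_one_mul σ.2 τ.2).symm]
    group

theorem img_mk {k r : Co0} {x : Subgroup.centralizer ({z} : Set G)} (hx : Img e k r x) :
    (QuotientGroup.mk x : _ ⧸ Q) = e.symm (QuotientGroup.mk (k * r * k⁻¹)) := by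
  rw [← hx, MulEquiv.symm_apply_apply]

theorem lines_of_eq {k p q : Co0} (hq : ∀ i, q • e8 i = e8 i ∨ q • e8 i = -e8 i)
    (h : (QuotientGroup.mk (k * p * k⁻¹) : Spor.Co1) = QuotientGroup.mk (k * q * k⁻¹)) (i : GolayPt) :
    p • e8 i = e8 i ∨ p • e8 i = -e8 i := by
  have h' := QuotientGroup.eq.mp h
  rw [show (k * p * k⁻¹)⁻¹ * (k * q * k⁻¹) = k * (p⁻¹ * q) * k⁻¹ by group] at h'
  have hc := (inferInstance : (Subgroup.center Co0).Normal).conj_mem _ h' k⁻¹
  rw [show k⁻¹ * (k * (p⁻¹ * q) * k⁻¹) * k⁻¹⁻¹ = p⁻¹ * q by group] at hc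
  have e1 : p = q * (p⁻¹ * q)⁻¹ := by group
  rw [e1]
  exact lines_mul hq (center_lines (inv_mem hc)) i

variable (hw : IsExtraspecialCentralizerSetting z Q 12) (hψ : IsLeechModTwoIso Q e ψ) {g : G} {a : Q}
  (hag : ((a : Subgroup.centralizer ({z} : Set G)) : G) = g * z * g⁻¹) (ha : a ∉ Subgroup.center Q)
  {k : Co0} (hv : ψ (k • e8 pN) = QuotientGroup.mk a)

include hw hψ hag ha hv in
theorem card_conjCent_eq : Nat.card (conjCent Q g) = 2 ^ 24 := by
  have hzU : z ∈ QC Q g := center_le_meet hw hψ hag ha hv (Subgroup.mem_center_iff.mpr fun b =>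
    Subtype.ext (Subtype.ext (Subgroup.mem_centralizer_singleton_iff.mp
      (b : Subgroup.centralizer ({z} : Set G)).2)) : (⟨zC z, zC_mem hw⟩ : Q) ∈ Subgroup.center Q)
  obtain ⟨c, hc, hcy⟩ := QC_mem.mp hzU
  set y : Q := ⟨c, hc⟩
  have hyv : ((y : Subgroup.centralizer ({z} : Set G)) : G) = g⁻¹ * z * g := hcy
  have hyc : y ∉ Subgroup.center Q := by
    intro h
    rcases center_val hw h with h' | h' <;> rw [hyv] at h'
    · have : z = 1 := by
        calc z = g * (g⁻¹ * z * g) * g⁻¹ := by group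
          _ = 1 := by rw [h']; group
      have hz := hw.1
      rw [this, orderOf_one] at hz
      exact absurd hz (by decide)
    · refine a_ne_z hw ha ?_
      calc ((a : Subgroup.centralizer ({z} : Set G)) : G) = g * z * g⁻¹ := hag
        _ = g * (g⁻¹ * z * g) * g⁻¹ := by rw [h']
        _ = z := by group
  have hcen : ∀ q : Q, y * q * y⁻¹ * q⁻¹ ∈ Subgroup.center Q := fun q => by
    rw [← QuotientGroup.eq_one_iff]
    simp only [QuotientGroup.mk_mul, QuotientGroup.mk_inv]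
    rw [mul_inv_eq_one, mul_inv_eq_iff_eq_mul, (psi_mul_comm hψ _ _).1]
  let δ : Q →* Subgroup.center Q := MonoidHom.mk' (fun q => ⟨_, hcen q⟩) fun p q => Subtype.ext (by
    show y * (p * q) * y⁻¹ * (p * q)⁻¹ = y * p * y⁻¹ * p⁻¹ * (y * q * y⁻¹ * q⁻¹)
    have h := Subgroup.mem_center_iff.mp (hcen q) p
    calc y * (p * q) * y⁻¹ * (p * q)⁻¹ = y * p * y⁻¹ * ((y * q * y⁻¹ * q⁻¹) * p⁻¹) := by group
      _ = y * p * y⁻¹ * (p⁻¹ * (y * q * y⁻¹ * q⁻¹)) := by
        rw [Subgroup.mem_center_iff.mp (hcen q) p⁻¹]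
      _ = _ := by group)
  have hker : Nat.card δ.ker = 2 ^ 24 := by
    have h1 := δ.ker.card_mul_index
    rw [Subgroup.index_ker, hw.2.2.2.1] at h1
    have h2 := Subgroup.card_le_card_group δ.range
    rw [hw.2.2.1.2] at h2
    rcases (show Nat.card δ.range = 1 ∨ Nat.card δ.range = 2 by
      have := Nat.card_pos (α := δ.range); omega) with h | h
    · exfalso
      refine hyc (Subgroup.mem_center_iff.mpr fun q => ?_)
      have : δ q ∈ δ.range := ⟨q, rfl⟩
      rw [Subgroup.card_eq_one.mp h, Subgroup.mem_bot] at this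
      exact (mul_inv_eq_iff_eq_mul.mp (mul_inv_eq_one.mp (congrArg Subtype.val this))).symm
    · rw [h] at h1; omega
  rw [← hker]
  refine (Nat.card_eq_of_bijective (fun q : δ.ker =>
    (⟨⟨g * ((q.1 : Subgroup.centralizer ({z} : Set G)) : G) * g⁻¹, ?_⟩, ?_⟩ : conjCent Q g)) ?_).symm
  · have h := mul_inv_eq_iff_eq_mul.mp (mul_inv_eq_one.mp (congrArg Subtype.val q.2))
    have h' : g⁻¹ * z * g * ((q.1 : Subgroup.centralizer ({z} : Set G)) : G) =
        ((q.1 : Subgroup.centralizer ({z} : Set G)) : G) * (g⁻¹ * z * g) := by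
      rw [← hyv]; exact congrArg (fun t : Q => ((t : Subgroup.centralizer ({z} : Set G)) : G)) h
    refine Subgroup.mem_centralizer_singleton_iff.mpr ?_
    calc g * ((q.1 : Subgroup.centralizer ({z} : Set G)) : G) * g⁻¹ * z
        = g * (((q.1 : Subgroup.centralizer ({z} : Set G)) : G) * (g⁻¹ * z * g)) * g⁻¹ := by group
      _ = g * (g⁻¹ * z * g * ((q.1 : Subgroup.centralizer ({z} : Set G)) : G)) * g⁻¹ := by rw [h']
      _ = z * (g * ((q.1 : Subgroup.centralizer ({z} : Set G)) : G) * g⁻¹) := by group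
  · exact ⟨_, ⟨q.1, q.1.2, rfl⟩, rfl⟩
  · refine ⟨fun p q h => ?_, fun u => ?_⟩
    · have := congrArg (fun u : conjCent Q g => ((u : Subgroup.centralizer ({z} : Set G)) : G)) h
      simp only [mul_right_cancel_iff, mul_left_cancel_iff] at this
      exact Subtype.ext (Subtype.ext (Subtype.ext this))
    · obtain ⟨d, hd, hd'⟩ := QC_mem.mp u.2
      have huz := Subgroup.mem_centralizer_singleton_iff.mp u.1.2
      have hd'' : ((d : Subgroup.centralizer ({z} : Set G)) : G) = g⁻¹ * (u.1 : G) * g := hd'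
      have hdk : (⟨d, hd⟩ : Q) ∈ δ.ker := by
        refine Subtype.ext (mul_inv_eq_one.mpr (mul_inv_eq_iff_eq_mul.mpr (Subtype.ext (Subtype.ext ?_))))
        show ((y : Subgroup.centralizer ({z} : Set G)) : G) * (d : G) = (d : G) * ((y : Subgroup.centralizer ({z} : Set G)) : G)
        rw [hyv, hd'']
        calc g⁻¹ * z * g * (g⁻¹ * (u.1 : G) * g) = g⁻¹ * (z * (u.1 : G)) * g := by group
          _ = g⁻¹ * ((u.1 : G) * z) * g := by rw [huz]
          _ = g⁻¹ * (u.1 : G) * g * (g⁻¹ * z * g) := by group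
      refine ⟨⟨⟨d, hd⟩, hdk⟩, Subtype.ext (Subtype.ext ?_)⟩
      show g * (d : G) * g⁻¹ = _
      rw [hd'']; group

include hw hψ hag ha hv in
theorem card_conjCent_image : Nat.card ((conjCent Q g).map (QuotientGroup.mk' Q)) = 2 ^ 11 := by
  set φ := (QuotientGroup.mk' Q).comp (conjCent Q g).subtype
  have hr : φ.range = (conjCent Q g).map (QuotientGroup.mk' Q) := by
    rw [MonoidHom.range_comp, Subgroup.range_subtype]
  have hk : Nat.card φ.ker = 2 ^ 13 := by
    rw [← card_meet hw hψ hag ha hv]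
    refine Nat.card_eq_of_bijective (fun u => (⟨⟨u.1.1, (QuotientGroup.eq_one_iff _).mp u.2⟩, u.1.2⟩ : meetSub Q g))
      ⟨fun p q h => ?_, fun q => ?_⟩
    · exact Subtype.ext (Subtype.ext (congrArg (fun t : meetSub Q g => ((t : Q) : Subgroup.centralizer ({z} : Set G))) h))
    · exact ⟨⟨⟨q.1.1, q.2⟩, (QuotientGroup.eq_one_iff _).mpr q.1.2⟩, rfl⟩
  have h := φ.ker.card_mul_index
  rw [Subgroup.index_ker, hr, hk, card_conjCent_eq hw hψ hag ha hv] at h
  omega

include hw hψ hag ha hv in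
/-- The structure of the stabiliser modulo `Q`. -/
theorem stab_structure (X E : Subgroup ((Subgroup.centralizer ({z} : Set G)) ⧸ Q))
    (hX : X = ((Subgroup.centralizer ({z} : Set G) ⊓ Subgroup.centralizer ({g * z * g⁻¹} : Set G)).subgroupOf
      (Subgroup.centralizer ({z} : Set G))).map (QuotientGroup.mk' Q))
    (hE : E = (conjCent Q g).map (QuotientGroup.mk' Q)) :
    E ≤ X ∧ (∀ x ∈ X, ∀ y ∈ E, x * y * x⁻¹ ∈ E) ∧ IsElementaryAbelian 2 E ∧ Nat.card E = 2 ^ 11 ∧
      ∃ K : Subgroup ((Subgroup.centralizer ({z} : Set G)) ⧸ Q), K ≤ X ∧ E ⊓ K = ⊥ ∧ E ⊔ K = X ∧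
        Nonempty (K ≃* M24) := by
  classical
  have hT : ∀ x : Subgroup.centralizer ({z} : Set G), x ∈ (Subgroup.centralizer ({z} : Set G) ⊓
      Subgroup.centralizer ({g * z * g⁻¹} : Set G)).subgroupOf (Subgroup.centralizer ({z} : Set G)) ↔
      x * (a : Subgroup.centralizer ({z} : Set G)) * x⁻¹ = a := by
    intro x
    rw [Subgroup.mem_subgroupOf, Subgroup.mem_inf, mul_inv_eq_iff_eq_mul, Subgroup.mem_centralizer_singleton_iff,
      Subgroup.mem_centralizer_singleton_iff, ← Subtype.coe_inj, Subgroup.coe_mul, Subgroup.coe_mul, hag]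
    exact ⟨fun h => h.2, fun h => ⟨Subgroup.mem_centralizer_singleton_iff.mp x.2, h⟩⟩
  have hEX : E ≤ X := by
    rw [hX, hE]
    exact Subgroup.map_mono fun u hu => (hT u).mpr (conjCent_commutes hag hu)
  have hcE : Nat.card E = 2 ^ 11 := hE ▸ card_conjCent_image hw hψ hag ha hv
  have hnorm : ∀ x ∈ X, ∀ y ∈ E, x * y * x⁻¹ ∈ E := by
    intro x hx y hy
    rw [hX] at hx
    rw [hE] at hy ⊢
    obtain ⟨p, hp, rfl⟩ := hx
    obtain ⟨u, hu, rfl⟩ := hy
    exact ⟨p * u * p⁻¹, conjCent_normal hag ((hT p).mp hp) hu, by simp⟩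
  have hsZ : ∀ x : Subgroup.centralizer ({z} : Set G), ((x : G) = 1 ∨ (x : G) = g * z * g⁻¹) →
      QuotientGroup.mk' Q x = 1 := by
    intro x hx
    refine (QuotientGroup.eq_one_iff x).mpr ?_
    rcases hx with h | h
    · rw [show x = 1 from Subtype.ext h]; exact one_mem _
    · rw [show x = (a : Subgroup.centralizer ({z} : Set G)) from Subtype.ext (h.trans hag.symm)]; exact a.2
  have helem : IsElementaryAbelian 2 E := by
    refine ⟨⟨⟨fun p q => ?_⟩⟩, fun p hp => ?_⟩
    · obtain ⟨u, hu, hpu⟩ :=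
        (hE ▸ p.2 : (p : (Subgroup.centralizer ({z} : Set G)) ⧸ Q) ∈ (conjCent Q g).map (QuotientGroup.mk' Q))
      obtain ⟨u', hu', hqu⟩ :=
        (hE ▸ q.2 : (q : (Subgroup.centralizer ({z} : Set G)) ⧸ Q) ∈ (conjCent Q g).map (QuotientGroup.mk' Q))
      refine Subtype.ext (mul_inv_eq_one.mp ?_)
      show (p : _ ⧸ Q) * q * ((q : _ ⧸ Q) * p)⁻¹ = 1
      rw [← hpu, ← hqu, ← map_mul, ← map_mul, ← map_inv, ← map_mul]
      refine hsZ _ ?_
      simpa [mul_assoc] using QC_comm hw hψ (show (u : G) ∈ QC Q g from hu) (show (u' : G) ∈ QC Q g from hu')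
    · rw [hE] at hp
      obtain ⟨u, hu, rfl⟩ := hp
      rw [pow_two, ← map_mul]
      exact hsZ _ (QC_sq hw hψ (show (u : G) ∈ QC Q g from hu))
  refine ⟨hEX, hnorm, helem, hcE, (permHom e k).range, ?_, ?_, ?_, ?_⟩
  · rintro _ ⟨σ, rfl⟩
    obtain ⟨x, hx, hxa⟩ := lift_stab hw hψ ha hv
      (mono_fix hψ (mono_mem_monoGroup σ.2 empty_mem_code) : ψ (k • mono σ.2 empty_mem_code • e8 pN) = _)
    rw [hX]
    exact ⟨x, (hT x).mpr hxa, img_mk hx⟩
  · rw [eq_bot_iff]
    rintro _ ⟨hxE, ⟨σ, rfl⟩⟩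
    rw [hE] at hxE
    obtain ⟨u, hu, hxu⟩ := hxE
    obtain ⟨r, hr⟩ := img_exists (e := e) k u
    have h : permHom e k σ = e.symm (QuotientGroup.mk (k * r * k⁻¹)) := hxu.symm.trans (img_mk hr)
    have hσ : (σ : Equiv.Perm GolayPt) = 1 := lines_perm σ.2 empty_mem_code
      (lines_of_eq (indGroup_lines hw hψ hag ha hv ⟨u, hu, hr⟩) (e.symm.injective h))
    rw [Subgroup.mem_bot, show σ = 1 from Subtype.ext hσ, map_one]
  · refine le_antisymm (sup_le hEX ?_) ?_
    · rintro _ ⟨σ, rfl⟩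
      obtain ⟨x, hx, hxa⟩ := lift_stab hw hψ ha hv
        (mono_fix hψ (mono_mem_monoGroup σ.2 empty_mem_code) : ψ (k • mono σ.2 empty_mem_code • e8 pN) = _)
      rw [hX]
      exact ⟨x, (hT x).mpr hxa, img_mk hx⟩
    -- the induced sign changes are all of them
    let F : code → (Subgroup.centralizer ({z} : Set G)) ⧸ Q := fun c =>
      e.symm (QuotientGroup.mk (k * mono (one_mem M24) c.2 * k⁻¹))
    have hFc : ∀ c : code, ∀ d : code, (d : Finset GolayPt) = (c : Finset GolayPt)ᶜ → F d = F c := by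
      intro c d hd
      simp only [F]
      congr 1
      refine QuotientGroup.eq.mpr ?_
      have e1 : mono (one_mem M24) d.2 = negOne * mono (one_mem M24) c.2 := by
        refine co0_ext fun v => Subtype.ext (funext fun i => ?_)
        rw [mul_smul, negOne_apply, AddSubgroup.coe_neg, Pi.neg_apply, mono_apply, mono_apply]
        simp only [signedPerm, hd, mem_compl]
        split <;> simp_all
      rw [e1, show (k * (negOne * mono (one_mem M24) c.2) * k⁻¹)⁻¹ * (k * mono (one_mem M24) c.2 * k⁻¹)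
        = k * ((mono (one_mem M24) c.2)⁻¹ * negOne⁻¹ * mono (one_mem M24) c.2) * k⁻¹ by group]
      refine (inferInstance : (Subgroup.center Co0).Normal).conj_mem _ ?_ k
      have hc := (inferInstance : (Subgroup.center Co0).Normal).conj_mem _
        (inv_mem (Subgroup.mem_center_iff.mpr fun h => (negOne_comm h).symm : negOne ∈ Subgroup.center Co0))
        (mono (one_mem M24) c.2)⁻¹
      rwa [inv_inv] at hc
    have hrange : (Set.range F).ncard ≤ 2048 := by
      set H := {c : code | pN ∉ (c : Finset GolayPt)}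
      have hH : H.ncard = 2048 := by
        rw [← card_half, ← Set.ncard_image_of_injective H Subtype.val_injective]
        congr 1
        ext s
        exact ⟨fun ⟨c, hc, hs⟩ => hs ▸ ⟨c.2, hc⟩, fun ⟨hs, hn⟩ => ⟨⟨s, hs⟩, hn, rfl⟩⟩
      have hsub : Set.range F ⊆ F '' H := by
        rintro _ ⟨c, rfl⟩
        by_cases h : pN ∈ (c : Finset GolayPt)
        · exact ⟨⟨(c : Finset GolayPt)ᶜ, compl_mem_supports c.2⟩, fun h' => (mem_compl.mp h') h, hFc c _ rfl⟩
        · exact ⟨c, h, rfl⟩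
      exact (Set.ncard_le_ncard hsub (Set.toFinite _)).trans ((Set.ncard_image_le (Set.toFinite _)).trans hH.le)
    have hsubE : (E : Set _) ⊆ Set.range F := by
      intro p hp
      rw [hE] at hp
      obtain ⟨u, hu, rfl⟩ := hp
      obtain ⟨r, hr⟩ := img_exists (e := e) k u
      obtain ⟨c, hc, rfl⟩ := indGroup_flip hw hψ hag ha hv ⟨u, hu, hr⟩
      exact ⟨⟨c, hc⟩, (img_mk hr).symm⟩
    have hEeq : (E : Set _) = Set.range F := Set.eq_of_subset_of_ncard_le hsubE
      (hrange.trans (by rw [← Nat.card_coe_set_eq]; exact (hcE.trans (by norm_num : (2 : ℕ) ^ 11 = 2048)).ge))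
      (Set.toFinite _)
    rw [hX]
    rintro _ ⟨x, hx, rfl⟩
    obtain ⟨r, hr⟩ := img_exists (e := e) k x
    have hrm : r ∈ monoGroup := by
      refine monoGroup_iff.mpr ((psi_smul_eq_iff hψ k).mp ?_)
      rw [img_class hψ hr hv, hv]
      exact congrArg QuotientGroup.mk (Subtype.ext ((hT x).mp hx))
    have hf : FixesFrame r := by rw [← SetLike.mem_coe, coe_monoGroup] at hrm; exact hrm
    obtain ⟨σ, c, hσ, hc, rfl⟩ := frame_is_monomial hf
    rw [QuotientGroup.mk'_apply, img_mk hr, mono_split hσ hc,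
      show k * (mono (one_mem M24) hc * mono hσ empty_mem_code) * k⁻¹ =
        k * mono (one_mem M24) hc * k⁻¹ * (k * mono hσ empty_mem_code * k⁻¹) by group, QuotientGroup.mk_mul, map_mul]
    exact Subgroup.mul_mem_sup (hEeq.ge ⟨⟨c, hc⟩, rfl⟩) ⟨⟨σ, hσ⟩, rfl⟩
  · refine ⟨(MonoidHom.ofInjective ?_).symm⟩
    rw [← MonoidHom.ker_eq_bot_iff, eq_bot_iff]
    intro σ hσ
    have h1 : (QuotientGroup.mk (k * mono σ.2 empty_mem_code * k⁻¹) : Spor.Co1) = QuotientGroup.mk (k * 1 * k⁻¹) := by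
      have h' : permHom e k σ = 1 := hσ
      have h'' := congrArg e h'
      simp only [permHom, MonoidHom.mk'_apply, MulEquiv.apply_symm_apply, map_one] at h''
      rw [h'', mul_one, mul_inv_cancel, QuotientGroup.mk_one]
    have := lines_perm σ.2 empty_mem_code (lines_of_eq (fun i => Or.inl (one_smul _ _)) h1)
    exact Subtype.ext this

end Cfsg.Lib.Leech
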