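import Cfsg.Agent.Leech.UniqueForm
import Cfsg.Prelude.Def_MonsterType

/-!
The extraspecial subgroup in a group of Monster type is of plus type.
-/

namespace Cfsg.Lib.Leech

open Cfsg

theorem monster_form {G : Type*} [Group G] [Finite G] (z : G)
    (Q : Subgroup (Subgroup.centralizer ({z} : Set G))) [Q.Normal]
    (e : (Subgroup.centralizer ({z} : Set G)) ⧸ Q ≃* Spor.Co1) (ψ : leechLattice → Q ⧸ Subgroup.center Q)
    (hw : Cfsg.IsExtraspecialCentralizerSetting z Q 12) (hψ : Cfsg.IsLeechModTwoIso Q e ψ)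
    (v : leechLattice) (a : Q) (hva : (QuotientGroup.mk a : Q ⧸ Subgroup.center Q) = ψ v) :
    a * a = 1 ↔ ((Cfsg.sqNorm (v : GolayPt → ℤ) / 16 : ℤ) : ZMod 2) = 0 := by
  classical
  obtain ⟨-, -, ⟨-, hZ2⟩, hcard, -⟩ := hw
  obtain ⟨hadd, hsurj, hker, heq⟩ := hψ
  have hz1 : ∀ a ∈ (Subgroup.center Q), a * a = 1 := fun a ha => by
    have := pow_card_eq_one' (G := (Subgroup.center Q)) (x := ⟨a, ha⟩)
    rw [hZ2] at this
    simpa [pow_two] using congrArg Subtype.val this
  -- squares and commutators are central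
  have hψ1 : ∀ v, ψ v * ψ v = 1 := fun v => by rw [← hadd]; exact (hker _).mpr ⟨v, rfl⟩
  have hsq : ∀ a : Q, a * a ∈ (Subgroup.center Q) := fun a => by
    obtain ⟨v, hv⟩ := hsurj (QuotientGroup.mk a)
    rw [← QuotientGroup.eq_one_iff, QuotientGroup.mk_mul, ← hv]
    exact hψ1 v
  have hcomm : ∀ a b : Q, (a * b) * (b * a)⁻¹ ∈ (Subgroup.center Q) := fun a b => by
    obtain ⟨v, hv⟩ := hsurj (QuotientGroup.mk a)
    obtain ⟨w, hw⟩ := hsurj (QuotientGroup.mk b)
    rw [← QuotientGroup.eq_one_iff, QuotientGroup.mk_mul, QuotientGroup.mk_inv, QuotientGroup.mk_mul,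
      QuotientGroup.mk_mul, ← hv, ← hw, ← hadd, ← hadd, add_comm v w, mul_inv_cancel]
  have hctr : ∀ c ∈ (Subgroup.center Q), ∀ d : Q, d * c = c * d := fun c hc d => Subgroup.mem_center_iff.mp hc d
  let sgn : Q → ZMod 2 := fun a => if a = 1 then 0 else 1
  have huniq : ∀ a ∈ (Subgroup.center Q), ∀ b ∈ (Subgroup.center Q), a ≠ 1 → b ≠ 1 → a = b := by
    intro a ha b hb h1 h2
    by_contra hab
    have hsub : ({⟨1, one_mem (Subgroup.center Q)⟩, ⟨a, ha⟩, ⟨b, hb⟩} : Set (Subgroup.center Q)).ncard = 3 :=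
      Set.ncard_eq_three.mpr ⟨_, _, _, fun h => h1 (congrArg Subtype.val h).symm,
        fun h => h2 (congrArg Subtype.val h).symm, fun h => hab (congrArg Subtype.val h), rfl⟩
    have := Set.ncard_le_ncard (Set.subset_univ ({⟨1, one_mem (Subgroup.center Q)⟩, ⟨a, ha⟩, ⟨b, hb⟩} : Set (Subgroup.center Q))) (Set.toFinite _)
    rw [hsub, Set.ncard_univ, hZ2] at this
    omega
  have hsgn : ∀ a ∈ (Subgroup.center Q), ∀ b ∈ (Subgroup.center Q), sgn (a * b) = sgn a + sgn b := by
    intro a ha b hb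
    by_cases h1 : a = 1
    · simp [sgn, h1]
    by_cases h2 : b = 1
    · simp [sgn, h2]
    have hab := huniq a ha b hb h1 h2
    subst hab
    simp only [sgn, hz1 a ha, h1, if_false, if_true]
    decide
  let k : Q → Q → Q := fun a b => (a * b) * (b * a)⁻¹
  have hk : ∀ a b c : Q, k (a * b) c = k b c * k a c := by
    intro a b c
    have := hctr (k b c) (hcomm b c) a
    calc k (a * b) c = a * k b c * (c * a⁻¹ * c⁻¹) := by simp only [k]; group
      _ = k b c * k a c := by rw [this]; simp only [k]; group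
  have hmulsq : ∀ a b : Q, (a * b) * (a * b) = k b a * ((a * a) * (b * b)) := by
    intro a b
    have := hctr (k b a) (hcomm b a) a
    calc (a * b) * (a * b) = a * k b a * (a * b * b) := by simp only [k]; group
      _ = k b a * ((a * a) * (b * b)) := by rw [this]; group
  -- the lift
  choose r hr using fun v : leechLattice => Quotient.exists_rep (ψ v)
  have hr' : ∀ v, (QuotientGroup.mk (r v) : Q ⧸ (Subgroup.center Q)) = ψ v := hr
  let P : leechLattice → ZMod 2 := fun v => sgn (r v * r v)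
  have hP : ∀ v a, (QuotientGroup.mk a : Q ⧸ (Subgroup.center Q)) = ψ v → sgn (a * a) = P v := by
    intro v a ha
    have hc : (r v)⁻¹ * a ∈ (Subgroup.center Q) := QuotientGroup.eq.mp ((hr' v).trans ha.symm)
    have : a * a = (r v * r v) * (((r v)⁻¹ * a) * ((r v)⁻¹ * a)) := by
      calc a * a = (r v * ((r v)⁻¹ * a)) * (r v * ((r v)⁻¹ * a)) := by group
        _ = r v * (((r v)⁻¹ * a) * r v) * ((r v)⁻¹ * a) := by group
        _ = r v * (r v * ((r v)⁻¹ * a)) * ((r v)⁻¹ * a) := by rw [← hctr _ hc (r v)]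
        _ = _ := by group
    rw [this, hz1 _ hc, mul_one]
  have hprod : ∀ v w a b, (QuotientGroup.mk a : Q ⧸ (Subgroup.center Q)) = ψ v → (QuotientGroup.mk b : Q ⧸ (Subgroup.center Q)) = ψ w →
      P (v + w) = sgn (k b a) + (P v + P w) := by
    intro v w a b ha hb
    rw [← hP (v + w) (a * b) (by rw [QuotientGroup.mk_mul, ha, hb, hadd]), hmulsq,
      hsgn _ (hcomm b a) _ (mul_mem (hsq a) (hsq b)), hsgn _ (hsq a) _ (hsq b), hP v a ha, hP w b hb]
  have hkr : ∀ a b c : Q, sgn (k (a * b) c) = sgn (k a c) + sgn (k b c) := fun a b c => by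
    rw [hk, hsgn _ (hcomm b c) _ (hcomm a c), add_comm]
  have hcoset : ∀ v w : leechLattice, P (v + (w + w)) = P v := by
    intro v w
    rw [← hP (v + (w + w)) (r v) (by rw [hadd v (w + w), hadd w w, hψ1 w, mul_one, hr'])]
  have hquad : ∀ u v w : leechLattice, P (u + v + w) + P u + P v + P w = P (u + v) + P (u + w) + P (v + w) := by
    intro u v w
    have huv : (QuotientGroup.mk (r u * r v) : Q ⧸ (Subgroup.center Q)) = ψ (u + v) := by rw [QuotientGroup.mk_mul, hr', hr', hadd]
    have h1 := hprod w (u + v) _ _ (hr' w) huv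
    rw [hkr, add_comm w (u + v)] at h1
    have h2 := hprod w u _ _ (hr' w) (hr' u)
    have h3 := hprod w v _ _ (hr' w) (hr' v)
    rw [add_comm w u] at h2
    rw [add_comm w v] at h3
    rw [h1, h2, h3]
    exact (by decide : ∀ a b c d e f : ZMod 2, a + b + (f + c) + d + e + f = c + (a + (f + d)) + (b + (f + e)))
      _ _ _ _ _ _
  have hinv : ∀ (g : Co0) (v : leechLattice), P (g • v) = P v := by
    intro g v
    obtain ⟨x, hx⟩ := QuotientGroup.mk_surjective (e.symm (QuotientGroup.mk g))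
    have := heq x g (by rw [hx, MulEquiv.apply_symm_apply]) v (r v) (hr' v).symm
    set b : Q := ⟨x * r v * x⁻¹, (inferInstance : Q.Normal).conj_mem _ (r v).2 x⟩ with hb
    rw [← hP _ b this.symm]
    have hconj : ((b * b : Q) : Subgroup.centralizer ({z} : Set G)) = x * (r v * r v : Q) * x⁻¹ := by
      simp only [hb, Subgroup.coe_mul]; group
    have hiff : b * b = 1 ↔ r v * r v = 1 := by
      rw [← Subtype.coe_inj, ← Subtype.coe_inj (a := r v * r v), hconj, Subgroup.coe_one, mul_inv_eq_one,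
        mul_eq_left]
    show (if b * b = 1 then (0 : ZMod 2) else 1) = if r v * r v = 1 then 0 else 1
    simp only [hiff]
  have hne : ∃ v, P v ≠ 0 := by
    by_contra! h
    have h2 : ∀ a : Q, a * a = 1 := by
      intro a
      obtain ⟨v, hv⟩ := hsurj (QuotientGroup.mk a)
      have h1 := (hP v a hv.symm).trans (h v)
      by_contra hne
      simp [sgn, hne] at h1
    have htop : (Subgroup.center Q) = ⊤ := eq_top_iff.mpr fun a _ => Subgroup.mem_center_iff.mpr fun b => by
      have e1 : a⁻¹ = a := inv_eq_of_mul_eq_one_left (h2 a)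
      have e2 : b⁻¹ = b := inv_eq_of_mul_eq_one_left (h2 b)
      have e3 : (b * a)⁻¹ = b * a := inv_eq_of_mul_eq_one_left (h2 _)
      rw [mul_inv_rev, e1, e2] at e3
      exact e3.symm
    rw [htop, Subgroup.card_top, hcard] at hZ2
    norm_num at hZ2
  have hform := unique_form P hcoset hquad hinv hne
  have h := (hP v a hva).trans (hform v)
  constructor
  · intro h1
    rw [← h]
    simp [sgn, h1]
  · intro h0
    rw [h0] at h
    by_contra hne
    simp [sgn, hne] at h

theorem monster_plus_type {G : Type*} [Group G] [Finite G] (z : G)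
    (Q : Subgroup (Subgroup.centralizer ({z} : Set G))) [Q.Normal] (hM : Cfsg.IsOfMonsterType z Q) :
    ∃ E : Subgroup Q, Cfsg.IsElementaryAbelian 2 E ∧ Nat.card E = 2 ^ 13 := by
  classical
  obtain ⟨hw, e, ψ, hadd, hsurj, hker, heq⟩ := hM
  obtain ⟨-, -, ⟨-, hZ2⟩, hcard, -⟩ := id hw
  -- the preimage of the singular subgroup
  let φ : leechLattice →+ Additive (Q ⧸ (Subgroup.center Q)) := AddMonoidHom.mk' (fun v => Additive.ofMul (ψ v)) fun v w => by
    simp [hadd]
  have hφs : Function.Surjective φ := fun y => ⟨(hsurj (Additive.toMul y)).choose,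
    congrArg Additive.ofMul (hsurj (Additive.toMul y)).choose_spec⟩
  set A := singular.addSubgroupOf leechLattice with hA
  have hkA : φ.ker ≤ A := by
    intro v hv
    obtain ⟨w, rfl⟩ := (hker v).mp hv
    exact double_le_singular ⟨(w : GolayPt → ℤ), w.2, by simp [double, two_mul]⟩
  have hidx : (A.map φ).index = 2 ^ 12 := by
    rw [A.index_map_eq hφs hkA, hA, index_singular]
  let M : Subgroup (Q ⧸ (Subgroup.center Q)) := AddSubgroup.toSubgroup' (A.map φ)
  have hMidx : M.index = 2 ^ 12 := hidx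
  have hMmem : ∀ q : Q ⧸ (Subgroup.center Q), q ∈ M → ∃ v ∈ A, ψ v = q := by
    intro q hq
    obtain ⟨v, hv, hvq⟩ := hq
    exact ⟨v, hv, hvq⟩
  set E := M.comap (QuotientGroup.mk' (Subgroup.center Q)) with hE
  have hEsq : ∀ a ∈ E, a * a = 1 := by
    intro a ha
    obtain ⟨v, hv, hva⟩ := hMmem _ ha
    have h := monster_form z Q e ψ hw ⟨hadd, hsurj, hker, heq⟩ v a hva.symm
    obtain ⟨t, ht⟩ : (32 : ℤ) ∣ Cfsg.sqNorm (v : GolayPt → ℤ) := singular_norm hv
    refine h.mpr ?_
    rw [ht, show (32 * t : ℤ) / 16 = 2 * t by omega, Int.cast_mul,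
      show ((2 : ℤ) : ZMod 2) = 0 from rfl, zero_mul]
  refine ⟨E, ⟨⟨⟨fun a b => ?_⟩⟩, fun a ha => by rw [pow_two]; exact hEsq a ha⟩, ?_⟩
  · have e1 : a⁻¹ = a := inv_eq_of_mul_eq_one_left (Subtype.ext (hEsq a a.2))
    have e2 : b⁻¹ = b := inv_eq_of_mul_eq_one_left (Subtype.ext (hEsq b b.2))
    have e3 : (a * b)⁻¹ = a * b := inv_eq_of_mul_eq_one_left (Subtype.ext (hEsq _ (mul_mem a.2 b.2)))
    rw [mul_inv_rev, e1, e2] at e3
    exact e3.symm
  · have h := E.card_mul_index
    rw [hE, Subgroup.index_comap_of_surjective M (QuotientGroup.mk'_surjective (Subgroup.center Q)), hMidx, hcard,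
      show (2 : ℕ) ^ (2 * 12 + 1) = 2 ^ 13 * 2 ^ 12 by rw [← pow_add]] at h
    exact Nat.eq_of_mul_eq_mul_right (Nat.two_pow_pos 12) h

end Cfsg.Lib.Leech
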