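import Cfsg.Agent.Leech.Stab.Configurations
import Cfsg.Agent.Leech.Stab.DataPair

/-!
The 2025 least vectors over a pair of least vectors of product -8: one orbit, and three long
suborbits of a point.
-/

namespace Cfsg.Lib.Leech.Stab

open Cfsg Cfsg.Lib.Golay Finset MulAction

theorem short_A : Short kA ∧ Short treeA330Root ∧ Short treeA462Root ∧ Short treeA1232Root :=
  ⟨⟨mem_of_inL (by decide +kernel), by decide +kernel⟩, ⟨mem_of_inL (by decide +kernel), by decide +kernel⟩,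
    ⟨mem_of_inL (by decide +kernel), by decide +kernel⟩, ⟨mem_of_inL (by decide +kernel), by decide +kernel⟩⟩

theorem dec_kA : dec kA = vC := funext (by decide +kernel)

/-- The third base vector. -/
abbrev bA : leechLattice := ⟨vC, vC_rel_vA.symm.mem_right⟩

/-- Product with the third base vector. -/
def dA (t : ℤ × ℤ × ℤ) : ℤ := t.1 - 4 * t.2.1

theorem dot_A (x : GolayPt → ℤ) : dotInt vC x = dA (tri x) := by
  rw [dotInt, dA, tri]
  have e : ∀ p, vC p * x p = x p - if p = none then 4 * x p else 0 := fun p => by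
    simp only [vC]; split <;> ring
  simp only [e, Finset.sum_sub_distrib, Finset.sum_ite_eq', Finset.mem_univ, if_true]

theorem count_A : countTri (fun t => dP t == 0 && dA t == 16) = 2025 ∧
    countTri (fun t => dP t == 0 && dA t == 16 && dQ t == 0) = 330 ∧
    countTri (fun t => dP t == 0 && dA t == 16 && dQ t == -16) = 462 ∧
    countTri (fun t => dP t == 0 && dA t == 16 && dQ t == -8) = 1232 := by decide +kernel

/-- The vectors over the pair. -/
def overPair (v w : leechLattice) : Set leechLattice :=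
  {x | Cfsg.sqNorm (x : GolayPt → ℤ) = 32 ∧ dotInt (v : GolayPt → ℤ) x = 0 ∧ dotInt (w : GolayPt → ℤ) x = 16}

theorem base_census : (overPair bP bA).ncard = 2025 := by
  rw [← count_A.1, ← censusTri]
  congr 1
  ext x
  simp only [overPair, Set.mem_ofPred_eq, Bool.and_eq_true, beq_iff_eq, ← (dots_tri _).2.1, ← dot_A, dec_kP]

theorem base_census_q (d : ℤ) :
    {x | x ∈ overPair bP bA ∧ dotInt (bQ : GolayPt → ℤ) x = d}.ncard =
      countTri (fun t => dP t == 0 && dA t == 16 && dQ t == d) := by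
  rw [← censusTri]
  congr 1
  ext x
  simp only [overPair, Set.mem_ofPred_eq, Bool.and_eq_true, beq_iff_eq, ← (dots_tri _).2.1, ← (dots_tri _).2.2,
    ← dot_A, dec_kP, dec_kQ, and_assoc]

theorem to_base (v w x : leechLattice) (hv : Cfsg.sqNorm (v : GolayPt → ℤ) = 32)
    (hw : Cfsg.sqNorm (w : GolayPt → ℤ) = 32) (hvw : dotInt (v : GolayPt → ℤ) w = -8)
    (hx : x ∈ overPair v w) : ∃ g : Co0, g • v = bP ∧ g • w = bA ∧ g • x = -bQ := by
  classical
  obtain ⟨hx32, hvx, hwx⟩ := hx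
  obtain ⟨g, hg1, hg2⟩ := to_pair v (-x) hv (by rw [← hx32]; exact Finset.sum_congr rfl fun i _ => neg_sq _)
    (by rw [AddSubgroup.coe_neg, dotInt]; simp only [Pi.neg_apply, mul_neg, Finset.sum_neg_distrib]
        rw [← dotInt, hvx, neg_zero])
  have hgx : g • x = -bQ := by rw [smul_neg', neg_eq_iff_eq_neg] at hg2; exact hg2
  set y : leechLattice := g • w with hy
  have hy32 : Cfsg.sqNorm (y : GolayPt → ℤ) = 32 := (g.2.2 w).trans hw
  have h1 := dot_smul g v w
  rw [hg1, ← hy, hvw] at h1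
  have h2 := dot_smul g x w
  rw [hgx, ← hy, dot_comm (x : GolayPt → ℤ), hwx, dot_comm, AddSubgroup.coe_neg,
    show -(bQ : GolayPt → ℤ) = (0 : GolayPt → ℤ) - (bQ : GolayPt → ℤ) from (zero_sub _).symm, dot_sub_right] at h2
  rw [show dotInt (y : GolayPt → ℤ) 0 = 0 by simp [dotInt], zero_sub, dot_comm] at h2
  change dotInt (pairVec pN pO 1) _ = _ at h1
  change -dotInt (pairVec pN pO (-1)) _ = _ at h2
  rw [dot_pairVec] at h1 h2
  have hN : (y : GolayPt → ℤ) none = -3 := by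
    have e1 : pN = none := rfl
    rw [e1] at h1 h2; omega
  have hO : (y : GolayPt → ℤ) (some 0) = 1 := by
    have e1 : pO = some 0 := rfl
    rw [show pN = none from rfl, e1] at h1 h2; omega
  obtain ⟨c, z, hd | hd⟩ := mem_lattice_normal.mp y.2
  · exfalso
    have := hd.hx none
    rw [hN] at this
    simp only [indZ] at this
    split at this <;> omega
  have hodd : ∀ i, (y : GolayPt → ℤ) i % 2 = 1 := fun i => by
    rw [hd.hx i]; simp only [indZ]; split <;> omega
  have hone : ∀ i, i ≠ none → (y : GolayPt → ℤ) i = 1 ∨ (y : GolayPt → ℤ) i = -1 := by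
    intro i hi
    have hsq : ∀ j, 1 ≤ (y : GolayPt → ℤ) j ^ 2 := fun j => by
      have h0 : (y : GolayPt → ℤ) j ≠ 0 := fun e => by have := hodd j; omega
      nlinarith [Int.one_le_abs h0, sq_abs ((y : GolayPt → ℤ) j)]
    have hsum : ∑ j, ((y : GolayPt → ℤ) j ^ 2 - 1) = 8 := by
      rw [Finset.sum_sub_distrib]
      have : ∑ j, (y : GolayPt → ℤ) j ^ 2 = 32 := hy32
      rw [this]; simp [Fintype.card_option, ZMod.card]
    have h3 : ((y : GolayPt → ℤ) none ^ 2 - 1) + ((y : GolayPt → ℤ) i ^ 2 - 1) ≤ 8 := by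
      rw [← hsum, ← Finset.sum_pair hi.symm (f := fun k => (y : GolayPt → ℤ) k ^ 2 - 1)]
      exact Finset.sum_le_sum_of_subset_of_nonneg (Finset.subset_univ _) fun k _ _ => by linarith [hsq k]
    rw [hN] at h3
    have h4 : (y : GolayPt → ℤ) i ^ 2 = 1 := le_antisymm (by linarith) (hsq i)
    exact sq_eq_one_iff.mp h4
  have hcN : (none : GolayPt) ∉ c := fun h => by
    have := hd.hx none; rw [hN, indZ, if_pos h] at this; omega
  have hcO : (some 0 : GolayPt) ∉ c := fun h => by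
    have := hd.hx (some 0); rw [hO, indZ, if_pos h] at this; omega
  set r : Co0 := mono (one_mem M24) hd.hc
  have hfixP : ∀ s : ℤ, ∀ i, (if i ∈ c then -pairVec pN pO s i else pairVec pN pO s i) = pairVec pN pO s i := by
    intro s i
    by_cases h : i ∈ c
    · have h1 : i ≠ pN := fun e => hcN (show (none : GolayPt) ∈ c from (show pN = none from rfl) ▸ e ▸ h)
      have h2 : i ≠ pO := fun e => hcO (show (some 0 : GolayPt) ∈ c from (show pO = some 0 from rfl) ▸ e ▸ h)
      simp [pairVec, h, h1, h2]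
    · rw [if_neg h]
  refine ⟨r * g, ?_, ?_, ?_⟩
  · rw [mul_smul, hg1]
    exact Subtype.ext (funext fun i => (flip_base hd.hc i bP).trans (hfixP 1 i))
  · rw [mul_smul, ← hy]
    refine Subtype.ext (funext fun i => (flip_base hd.hc i y).trans ?_)
    show _ = vC i
    by_cases hi : i = none
    · subst hi; rw [if_neg hcN, hN]; rfl
    · have h1 := hone i hi
      have h2 := hd.hx i
      rw [show vC i = 1 from if_neg hi]
      simp only [indZ] at h2
      split at h2 <;> rename_i h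
      · rw [if_pos h]; omega
      · rw [if_neg h]; omega
  · rw [mul_smul, hgx]
    refine Subtype.ext (funext fun i => (flip_base hd.hc i (-bQ)).trans ?_)
    have := hfixP (-1) i
    simp only [AddSubgroup.coe_neg, Pi.neg_apply]
    show (if i ∈ c then - -pairVec pN pO (-1) i else -pairVec pN pO (-1) i) = -pairVec pN pO (-1) i
    split at this <;> rename_i h
    · rw [if_pos h]; omega
    · rw [if_neg h]

theorem overPair_transitive (v w x x' : leechLattice) (hv : Cfsg.sqNorm (v : GolayPt → ℤ) = 32)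
    (hw : Cfsg.sqNorm (w : GolayPt → ℤ) = 32) (hvw : dotInt (v : GolayPt → ℤ) w = -8)
    (hx : x ∈ overPair v w) (hx' : x' ∈ overPair v w) : ∃ g : Co0, g • v = v ∧ g • w = w ∧ g • x = x' := by
  obtain ⟨g, g1, g2, g3⟩ := to_base v w x hv hw hvw hx
  obtain ⟨h, h1, h2, h3⟩ := to_base v w x' hv hw hvw hx'
  exact ⟨h⁻¹ * g, by rw [mul_smul, g1, ← h1, inv_smul_smul], by rw [mul_smul, g2, ← h2, inv_smul_smul],
    by rw [mul_smul, g3, ← h3, inv_smul_smul]⟩

theorem overPair_card (v w : leechLattice) (hv : Cfsg.sqNorm (v : GolayPt → ℤ) = 32)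
    (hw : Cfsg.sqNorm (w : GolayPt → ℤ) = 32) (hvw : dotInt (v : GolayPt → ℤ) w = -8) :
    (overPair v w).ncard = 2025 := by
  have hP : Cfsg.sqNorm (bP : GolayPt → ℤ) = 32 := pairVec_norm (by decide) (Or.inl rfl)
  have hA : Cfsg.sqNorm vC = 32 ∧ dotInt (pairVec pN pO 1) vC = -8 := by decide +kernel
  obtain ⟨r, hr⟩ := transitive32 v bP hv hP
  obtain ⟨s, hs1, hs2⟩ := eight_pairs bP (r • w) bA hP ((r.2.2 w).trans hw) hA.1
    (by rw [← hr, dot_smul, hvw]) hA.2
  rw [← base_census]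
  refine transport (s * r) fun x => ?_
  have e1 : (s * r) • v = bP := by rw [mul_smul, hr, hs1]
  have e2 : (s * r) • w = bA := by rw [mul_smul, hs2]
  have d1 := dot_smul (s * r) v x
  have d2 := dot_smul (s * r) w x
  rw [e1] at d1
  rw [e2] at d2
  simp only [overPair, Set.mem_ofPred_eq, norm_smul', d1, d2]

theorem suborbit {v w x : leechLattice} {g : Co0} (h1 : g • v = bP) (h2 : g • w = bA) (h3 : g • x = -bQ)
    {d : ℤ} {n root : ℕ} {t : NT} (hroot : Short root) (ok : orbitOK [kP, kQ, kA] gensPQ root n t = true)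
    (hn : countTri (fun t => dP t == 0 && dA t == 16 && dQ t == d) = n)
    (hr : ⟨dec root, hroot.1⟩ ∈ {z | z ∈ overPair bP bA ∧ dotInt (bQ : GolayPt → ℤ) z = d}) :
    ∃ y ∈ overPair v w, (orbit ↥(stabilizer Co0 v ⊓ stabilizer Co0 w ⊓ stabilizer Co0 x) y).ncard = n := by
  set T : Set leechLattice := {z | z ∈ overPair bP bA ∧ dotInt (bQ : GolayPt → ℤ) z = d} with hT
  have hTc : T.ncard = n := (base_census_q d).trans hn
  have hfix : ∀ C ∈ [kP, kQ, kA], Short C := by
    simp only [List.mem_cons, List.not_mem_nil, or_false]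
    rintro C (rfl | rfl | rfl)
    exacts [short_base.2.1, short_base.2.2.1, short_A.1]
  have hinv : ∀ k : Co0, k • bP = bP → k • bA = bA → k • bQ = bQ → ∀ z ∈ T, k • z ∈ T := by
    rintro k k1 k2 k3 z ⟨⟨z1, z2, z3⟩, z4⟩
    have d1 := dot_smul k bP z
    have d2 := dot_smul k bA z
    have d3 := dot_smul k bQ z
    rw [k1] at d1; rw [k2] at d2; rw [k3] at d3
    exact ⟨⟨(norm_smul' k z).trans z1, d1.trans z2, d2.trans z3⟩, d3.trans z4⟩
  set y₀ : leechLattice := ⟨dec root, hroot.1⟩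
  have horb : orbit ↥(stabilizer Co0 v ⊓ stabilizer Co0 w ⊓ stabilizer Co0 x) (g⁻¹ • y₀) = (fun z => g • z) ⁻¹' T := by
    ext z
    constructor
    · rintro ⟨⟨k, ⟨hk1, hk2⟩, hk3⟩, rfl⟩
      show g • k • g⁻¹ • y₀ ∈ T
      rw [← mul_smul, ← mul_smul]
      refine hinv _ ?_ ?_ ?_ _ hr
      · rw [← h1, mul_smul, inv_smul_smul, mul_smul, show k • v = v from hk1]
      · rw [← h2, mul_smul, inv_smul_smul, mul_smul, show k • w = w from hk2]
      · have : (g * k * g⁻¹) • (-bQ) = -bQ := by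
          rw [← h3, mul_smul, inv_smul_smul, mul_smul, show k • x = x from hk3]
        rwa [smul_neg', neg_inj] at this
    · intro hz
      obtain ⟨k, hk, he⟩ := orbit_eq hfix hroot ok T (minSet_finite.subset fun y hy => hy.1.1) hTc hr
        (fun k hk => hinv k (hk kP (by simp) bP dec_kP.symm) (hk kA (by simp) bA dec_kA.symm)
          (hk kQ (by simp) bQ dec_kQ.symm)) hr hz
      refine ⟨⟨g⁻¹ * k * g, ⟨?_, ?_⟩, ?_⟩, ?_⟩
      · show _ • _ = _; rw [mul_smul, h1, mul_smul, hk kP (by simp) bP dec_kP.symm, ← h1, inv_smul_smul]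
      · show _ • _ = _; rw [mul_smul, h2, mul_smul, hk kA (by simp) bA dec_kA.symm, ← h2, inv_smul_smul]
      · show _ • _ = _; rw [mul_smul, h3, mul_smul, smul_neg', hk kQ (by simp) bQ dec_kQ.symm, ← h3, inv_smul_smul]
      · show (g⁻¹ * k * g) • g⁻¹ • y₀ = z
        rw [mul_smul, smul_inv_smul, mul_smul, he, inv_smul_smul]
  refine ⟨g⁻¹ • y₀, ?_, ?_⟩
  · obtain ⟨⟨z1, z2, z3⟩, -⟩ := hr
    have e1 := dot_smul g v (g⁻¹ • y₀)
    have e2 := dot_smul g w (g⁻¹ • y₀)
    rw [h1, smul_inv_smul] at e1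
    rw [h2, smul_inv_smul] at e2
    exact ⟨(norm_smul' g⁻¹ y₀).trans z1, e1.symm.trans z2, e2.symm.trans z3⟩
  · rw [horb, ← hTc]
    exact transport g fun z => Iff.rfl

theorem roots_ok : (dotK kP treeA330Root = 0 ∧ dotK kA treeA330Root = 16 ∧ dotK kQ treeA330Root = 0 ∧ dotK treeA330Root treeA330Root = 32) ∧
    (dotK kP treeA462Root = 0 ∧ dotK kA treeA462Root = 16 ∧ dotK kQ treeA462Root = -16 ∧ dotK treeA462Root treeA462Root = 32) ∧
    (dotK kP treeA1232Root = 0 ∧ dotK kA treeA1232Root = 16 ∧ dotK kQ treeA1232Root = -8 ∧ dotK treeA1232Root treeA1232Root = 32) := by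
  decide +kernel

theorem root_mem {R : ℕ} {d : ℤ} (hR : Short R)
    (h : dotK kP R = 0 ∧ dotK kA R = 16 ∧ dotK kQ R = d ∧ dotK R R = 32) :
    (⟨dec R, hR.1⟩ : leechLattice) ∈ {z | z ∈ overPair bP bA ∧ dotInt (bQ : GolayPt → ℤ) z = d} := by
  simp only [dotK_eq, dec_kP, dec_kA, dec_kQ] at h
  exact ⟨⟨(sqNorm_eq_dot _).trans h.2.2.2, h.1, h.2.1⟩, h.2.2.1⟩

theorem overPair_suborbits (v w x : leechLattice) (hv : Cfsg.sqNorm (v : GolayPt → ℤ) = 32)
    (hw : Cfsg.sqNorm (w : GolayPt → ℤ) = 32) (hvw : dotInt (v : GolayPt → ℤ) w = -8) (hx : x ∈ overPair v w) :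
    ∃ y₁ ∈ overPair v w, ∃ y₂ ∈ overPair v w, ∃ y₃ ∈ overPair v w,
      (orbit ↥(stabilizer Co0 v ⊓ stabilizer Co0 w ⊓ stabilizer Co0 x) y₁).ncard = 330 ∧
      (orbit ↥(stabilizer Co0 v ⊓ stabilizer Co0 w ⊓ stabilizer Co0 x) y₂).ncard = 462 ∧
      (orbit ↥(stabilizer Co0 v ⊓ stabilizer Co0 w ⊓ stabilizer Co0 x) y₃).ncard = 1232 := by
  obtain ⟨g, h1, h2, h3⟩ := to_base v w x hv hw hvw hx
  obtain ⟨y1, m1, c1⟩ := suborbit h1 h2 h3 short_A.2.1 treeA330_ok count_A.2.1 (root_mem short_A.2.1 roots_ok.1)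
  obtain ⟨y2, m2, c2⟩ := suborbit h1 h2 h3 short_A.2.2.1 treeA462_ok count_A.2.2.1 (root_mem short_A.2.2.1 roots_ok.2.1)
  obtain ⟨y3, m3, c3⟩ := suborbit h1 h2 h3 short_A.2.2.2 treeA1232_ok count_A.2.2.2 (root_mem short_A.2.2.2 roots_ok.2.2)
  exact ⟨y1, m1, y2, m2, y3, m3, c1, c2, c3⟩

end Cfsg.Lib.Leech.Stab
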