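import Cfsg.Agent.Leech.InvForm

/-!
The invariant quadratic form on the lattice modulo two.
-/

namespace Cfsg.Lib.Leech

open Cfsg

theorem unique_form (Q : ↥Cfsg.leechLattice → ZMod 2)
    (hcoset : ∀ v w : ↥Cfsg.leechLattice, Q (v + (w + w)) = Q v)
    (hquad : ∀ u v w : ↥Cfsg.leechLattice, Q (u + v + w) + Q u + Q v + Q w = Q (u + v) + Q (u + w) + Q (v + w))
    (hinv : ∀ (g : ↥Cfsg.Co0) (v : ↥Cfsg.leechLattice), Q (g • v) = Q v)
    (hne : ∃ v : ↥Cfsg.leechLattice, Q v ≠ 0) (v : ↥Cfsg.leechLattice) :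
    Q v = ((Cfsg.sqNorm (v : Cfsg.GolayPt → ℤ) / 16 : ℤ) : ZMod 2) := by
  classical
  set F : (GolayPt → ℤ) → ZMod 2 := fun x => if h : x ∈ leechLattice then Q ⟨x, h⟩ else 0 with hF
  have hFv : ∀ v : ↥leechLattice, F v = Q v := fun v => dif_pos v.2
  have hI : InvQuad F :=
    { coset := fun x hx y hy => by
        have := hcoset ⟨x, hx⟩ ⟨y, hy⟩
        rwa [← hFv, ← hFv] at this
      quad := fun x hx y hy w hw => by
        have := hquad ⟨x, hx⟩ ⟨y, hy⟩ ⟨w, hw⟩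
        simp only [← hFv, AddSubgroup.coe_add] at this
        exact this
      monoInv := fun σ hσ c hc x hx => by
        have := hinv (mono hσ hc) ⟨x, hx⟩
        rwa [← hFv, ← hFv, mono_apply] at this
      tetInv := fun x hx => by
        have := hinv tetAut ⟨x, hx⟩
        rwa [← hFv, ← hFv, tetAut_apply] at this }
  obtain ⟨s, hs⟩ := hI.eq_smul
  have hs1 : s = 1 := by
    obtain ⟨w, hw⟩ := hne
    rw [← hFv, hs _ w.2] at hw
    exact (by decide : ∀ a b : ZMod 2, a * b ≠ 0 → a = 1) _ _ hw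
  rw [← hFv, hs _ v.2, hs1, one_mul]
  rfl

end Cfsg.Lib.Leech
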