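import Cfsg.Agent.Leech.FrameCounts
import Cfsg.Agent.Leech.ModTwo
import Mathlib.LinearAlgebra.Matrix.NonsingularInverse

/-!
Uniqueness of the even lattice of rank 24 without roots with the given numbers of short vectors.
-/

namespace Cfsg.Lib.Leech

open Cfsg Cfsg.Lib.Golay Finset Matrix

theorem two_sided {n : Type*} [Fintype n] [DecidableEq n] {P Q : Matrix n n ℤ} {m : ℤ} (hm : m ≠ 0)
    (h : P * Q = m • (1 : Matrix n n ℤ)) : Q * P = m • (1 : Matrix n n ℤ) := by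
  have hne : P.det ≠ 0 := fun h0 => by
    have := congrArg Matrix.det h
    rw [det_mul, h0, zero_mul, det_smul, det_one, mul_one] at this
    exact pow_ne_zero _ hm this.symm
  have h1 : P.det • (Q * P) = P.det • (m • (1 : Matrix n n ℤ)) := by
    calc P.det • (Q * P) = (P.adjugate * P) * (Q * P) := by rw [adjugate_mul, Matrix.smul_mul, Matrix.one_mul]
      _ = P.adjugate * ((P * Q) * P) := by simp only [Matrix.mul_assoc]
      _ = P.det • (m • (1 : Matrix n n ℤ)) := by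
          rw [h, Matrix.smul_mul, Matrix.one_mul, Matrix.mul_smul, adjugate_mul, smul_comm]
  ext j k
  have := congrFun (congrFun h1 j) k
  simp only [Matrix.smul_apply, smul_eq_mul] at this ⊢
  exact mul_left_cancel₀ hne this

theorem gram_frame (B : Matrix (Fin 24) (Fin 24) ℤ) (hsymm : B.IsSymm)
    (hpos : ∀ x : Fin 24 → ℤ, x ≠ 0 → 0 < x ⬝ᵥ (B *ᵥ x)) (heven : ∀ x : Fin 24 → ℤ, (2 : ℤ) ∣ x ⬝ᵥ (B *ᵥ x))
    (h2 : ∀ x : Fin 24 → ℤ, x ⬝ᵥ (B *ᵥ x) ≠ 2)
    (h4 : {x : Fin 24 → ℤ | x ⬝ᵥ (B *ᵥ x) = 4}.ncard = 196560)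
    (h6 : {x : Fin 24 → ℤ | x ⬝ᵥ (B *ᵥ x) = 6}.ncard = 16773120)
    (h8 : {x : Fin 24 → ℤ | x ⬝ᵥ (B *ᵥ x) = 8}.ncard = 398034000) :
    ∃ Y : Matrix (Fin 24) (Fin 24) ℤ, Y * (B * Yᵀ) = (8 : ℤ) • (1 : Matrix (Fin 24) (Fin 24) ℤ) ∧
      ∀ i j k, (2 : ℤ) ∣ Y i k - Y j k := by
  classical
  obtain ⟨x, hx⟩ := Set.nonempty_of_ncard_ne_zero (show {x : Fin 24 → ℤ | x ⬝ᵥ (B *ᵥ x) = 8}.ncard ≠ 0 by rw [h8]; norm_num)
  set C : Set (Fin 24 → ℤ) := {y | y ⬝ᵥ (B *ᵥ y) = 8 ∧ ∀ i, (2 : ℤ) ∣ (x - y) i}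
  have h48 : C.ncard = 48 := s1588 B hsymm hpos heven h2 h4 h6 h8 x hx
  have hfin : C.Finite := Set.finite_of_ncard_pos (by rw [h48]; norm_num)
  set F := hfin.toFinset
  have hF : F.card = 48 := by rw [← Set.ncard_eq_toFinset_card C hfin, h48]
  have hmem : ∀ y, y ∈ F ↔ y ∈ C := fun y => Set.Finite.mem_toFinset hfin
  have hneg : ∀ y ∈ F, -y ∈ F := by
    intro y hy
    obtain ⟨hy1, hy2⟩ := (hmem y).mp hy
    refine (hmem _).mpr ⟨by rw [← hy1]; simp [Matrix.mulVec_neg], fun i => ?_⟩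
    have := hy2 i
    simp only [Pi.sub_apply, Pi.neg_apply] at this ⊢
    omega
  have hne : ∀ y ∈ F, -y ≠ y := by
    intro y hy h
    have h0 : y = 0 := funext fun i => by have := congrFun h i; simp only [Pi.neg_apply] at this; simp; omega
    have := ((hmem y).mp hy).1
    simp [h0] at this
  obtain ⟨key, hkey⟩ := (inferInstance : Countable (Fin 24 → ℤ)).exists_injective_nat
  set H := F.filter fun y => key y < key (-y) with hH
  have hsplit : F = H ∪ H.image (fun y => -y) := by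
    ext y
    simp only [hH, mem_union, mem_filter, mem_image]
    constructor
    · intro hy
      rcases lt_or_gt_of_ne (hkey.ne (hne y hy).symm) with h | h
      · exact Or.inl ⟨hy, h⟩
      · exact Or.inr ⟨-y, ⟨hneg y hy, by rwa [neg_neg]⟩, neg_neg y⟩
    · rintro (⟨h, -⟩ | ⟨z, ⟨hz, -⟩, rfl⟩)
      · exact h
      · exact hneg z hz
  have hdisj : Disjoint H (H.image fun y => -y) := by
    refine disjoint_left.mpr fun y hy hy' => ?_
    obtain ⟨z, hz, rfl⟩ := mem_image.mp hy'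
    have h1 := (mem_filter.mp hy).2
    rw [neg_neg] at h1
    exact lt_asymm h1 (mem_filter.mp hz).2
  have hHc : H.card = 24 := by
    have := congrArg Finset.card hsplit
    rw [card_union_of_disjoint hdisj, card_image_of_injective _ neg_injective, hF] at this
    omega
  obtain ⟨e⟩ : Nonempty (Fin 24 ≃ H) := Fintype.card_eq.mp (by rw [Fintype.card_coe, hHc, Fintype.card_fin])
  have hC : ∀ k, (e k : Fin 24 → ℤ) ∈ C := fun k => (hmem _).mp (mem_filter.mp (e k).2).1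
  have hcong : ∀ i j k, (2 : ℤ) ∣ (e i : Fin 24 → ℤ) k - (e j : Fin 24 → ℤ) k := fun i j k => by
    have a := (hC i).2 k; have b := (hC j).2 k
    simp only [Pi.sub_apply] at a b
    omega
  refine ⟨Matrix.of fun k => (e k : Fin 24 → ℤ), ?_, hcong⟩
  ext i j
  have hij : (Matrix.of (fun k => (e k : Fin 24 → ℤ)) * (B * (Matrix.of fun k => (e k : Fin 24 → ℤ))ᵀ)) i j
      = (e i : Fin 24 → ℤ) ⬝ᵥ (B *ᵥ (e j : Fin 24 → ℤ)) := rfl
  rw [hij, Matrix.smul_apply, Matrix.one_apply]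
  by_cases h : i = j
  · subst h; rw [if_pos rfl, (hC i).1]; norm_num
  rw [if_neg h, smul_zero]
  rcases s1587 B hsymm hpos heven h2 _ _ (hC i).1 (hC j).1 (fun k => hcong i j k) with h' | h' | h'
  · exact absurd (e.injective (Subtype.ext h'.symm)) h
  · exact absurd (mem_image.mpr ⟨_, (e i).2, h'.symm⟩) (disjoint_left.mp hdisj (e j).2)
  · exact h'

theorem uniqueness (B : Matrix (Fin 24) (Fin 24) ℤ) (hsymm : B.IsSymm)
    (hpos : ∀ x : Fin 24 → ℤ, x ≠ 0 → 0 < x ⬝ᵥ (B *ᵥ x)) (heven : ∀ x : Fin 24 → ℤ, (2 : ℤ) ∣ x ⬝ᵥ (B *ᵥ x))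
    (h2 : ∀ x : Fin 24 → ℤ, x ⬝ᵥ (B *ᵥ x) ≠ 2)
    (h4 : {x : Fin 24 → ℤ | x ⬝ᵥ (B *ᵥ x) = 4}.ncard = 196560)
    (h6 : {x : Fin 24 → ℤ | x ⬝ᵥ (B *ᵥ x) = 6}.ncard = 16773120)
    (h8 : {x : Fin 24 → ℤ | x ⬝ᵥ (B *ᵥ x) = 8}.ncard = 398034000) :
    ∃ f : (Fin 24 → ℤ) ≃+ leechLattice,
      ∀ x : Fin 24 → ℤ, Cfsg.sqNorm ((f x : leechLattice) : GolayPt → ℤ) = 8 * (x ⬝ᵥ (B *ᵥ x)) := by
  classical
  obtain ⟨Y, hY, hcong⟩ := gram_frame B hsymm hpos heven h2 h4 h6 h8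
  have hQ : (B * Yᵀ) * Y = (8 : ℤ) • (1 : Matrix (Fin 24) (Fin 24) ℤ) := two_sided (by norm_num) hY
  obtain ⟨ι⟩ : Nonempty (GolayPt ≃ Fin 24) :=
    Fintype.card_eq.mp (by rw [Fintype.card_option, ZMod.card, Fintype.card_fin])
  let φ : (Fin 24 → ℤ) →+ (GolayPt → ℤ) := AddMonoidHom.mk' (fun v p => (Y *ᵥ (B *ᵥ v)) (ι p)) fun v w =>
    funext fun p => by simp [Matrix.mulVec_add]
  have hdot : ∀ v w, dotInt (φ v) (φ w) = 8 * (v ⬝ᵥ (B *ᵥ w)) := by
    intro v w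
    have h1 : dotInt (φ v) (φ w) = (Y *ᵥ (B *ᵥ v)) ⬝ᵥ (Y *ᵥ (B *ᵥ w)) :=
      Equiv.sum_comp ι (fun k => (Y *ᵥ (B *ᵥ v)) k * (Y *ᵥ (B *ᵥ w)) k)
    rw [h1, Matrix.mulVec_mulVec _ Y B, Matrix.mulVec_mulVec _ Y B, Matrix.dotProduct_mulVec, ← Matrix.mulVec_transpose,
      Matrix.mulVec_mulVec, transpose_mul, hsymm.eq, ← Matrix.mul_assoc, hQ, Matrix.smul_mul, Matrix.one_mul,
      Matrix.smul_mulVec, smul_dotProduct, smul_eq_mul, dotProduct_comm, Matrix.dotProduct_mulVec,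
      ← Matrix.mulVec_transpose, hsymm.eq, dotProduct_comm]
  have hnorm : ∀ v, Cfsg.sqNorm (φ v) = 8 * (v ⬝ᵥ (B *ᵥ v)) := fun v => by rw [sqNorm_eq_dot, hdot]
  have hinj : Function.Injective φ := fun v w h => by
    by_contra hne
    have := hpos (v - w) (sub_ne_zero.mpr hne)
    have h0 := hnorm (v - w)
    rw [map_sub, h, sub_self] at h0
    rw [show Cfsg.sqNorm (0 : GolayPt → ℤ) = 0 by simp [Cfsg.sqNorm]] at h0
    omega
  have hφY : ∀ k p, φ (Y k) p = if ι p = k then 8 else 0 := fun k p => by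
    have h : (Y * (B * Yᵀ)) (ι p) k = if ι p = k then 8 else 0 := by rw [hY, Matrix.smul_apply, Matrix.one_apply]; simp
    exact h
  set A := φ.range
  have hbase : FrameBase A := by
    refine ⟨fun x hx => ?_, ?_, ?_, ?_, ?_⟩
    · refine ⟨∑ p, (x p / 8) • Y (ι p), funext fun q => ?_⟩
      rw [map_sum, Finset.sum_apply, sum_eq_single q (fun p _ hp => by
        rw [map_zsmul, Pi.smul_apply, hφY, if_neg (fun e => hp (ι.injective e).symm), smul_zero]) (by simp)]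
      rw [map_zsmul, Pi.smul_apply, hφY, if_pos rfl, smul_eq_mul]
      have := hx q; omega
    · rintro _ ⟨v, rfl⟩ p
      obtain ⟨z, hz⟩ : ∃ z : Fin 24 → ℤ, ∀ k, Y (ι p) k - Y (ι none) k = 2 * z k :=
        ⟨fun k => (Y (ι p) k - Y (ι none) k) / 2, fun k => by have := hcong (ι p) (ι none) k; show _ = 2 * ((Y (ι p) k - Y (ι none) k) / 2); omega⟩
      have h : φ v p - φ v none = 2 * (z ⬝ᵥ (B *ᵥ v)) := by
        show (Y *ᵥ (B *ᵥ v)) (ι p) - (Y *ᵥ (B *ᵥ v)) (ι none) = _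
        have e : ((fun k => Y (ι p) k) - fun k => Y (ι none) k) = (2 : ℤ) • z := funext hz
        show (fun k => Y (ι p) k) ⬝ᵥ (B *ᵥ v) - (fun k => Y (ι none) k) ⬝ᵥ (B *ᵥ v) = _
        rw [← sub_dotProduct, e, smul_dotProduct, smul_eq_mul]
      omega
    · rintro _ ⟨v, rfl⟩ _ ⟨w, rfl⟩; exact ⟨_, hdot v w⟩
    · rintro _ ⟨v, rfl⟩; obtain ⟨t, ht⟩ := heven v; exact ⟨t, by rw [hnorm, ht]; ring⟩
    · rintro _ ⟨v, rfl⟩ h0
      have hv : v ≠ 0 := fun e => h0 (by rw [e, map_zero])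
      have := hpos v hv; have := heven v; have := h2 v
      rw [hnorm]; omega
  have hpair : ∀ p q : GolayPt, (fun i => 4 * ((if i = p then 1 else 0) - if i = q then 1 else 0 : ℤ)) ∈ A := by
    intro p q
    refine ⟨fun k => (Y (ι p) k - Y (ι q) k) / 2, funext fun i => ?_⟩
    have h : (2 : ℤ) * φ (fun k => (Y (ι p) k - Y (ι q) k) / 2) i = φ (Y (ι p)) i - φ (Y (ι q)) i := by
      rw [← smul_eq_mul, ← Pi.smul_apply, ← map_zsmul, ← Pi.sub_apply, ← map_sub]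
      refine congrArg (fun f => φ f i) (funext fun k => ?_)
      have := hcong (ι p) (ι q) k
      show (2 : ℤ) • ((Y (ι p) k - Y (ι q) k) / 2) = Y (ι p) k - Y (ι q) k
      rw [smul_eq_mul]; omega
    rw [hφY, hφY] at h
    simp only [ι.injective.eq_iff] at h
    split_ifs at h ⊢ <;> omega
  have hfour : ∀ u : GolayPt → ℤ, (∑ i, u i) % 2 = 0 → (fun i => 4 * u i) ∈ A := by
    intro u hu
    have e : (fun i => 4 * u i) = (∑ p, u p • fun i => 4 * ((if i = p then 1 else 0) - if i = none then 1 else 0 : ℤ))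
        + ((∑ p, u p) / 2) • (fun i => if i = (none : GolayPt) then (8 : ℤ) else 0) := by
      funext i
      simp only [Pi.add_apply, Finset.sum_apply, Pi.smul_apply, smul_eq_mul, mul_sub, mul_ite, mul_one, mul_zero,
        sum_sub_distrib, sum_ite_eq, mem_univ, if_true]
      split
      · have : ∑ p, u p * 4 = 2 * ((∑ p, u p) / 2) * 4 := by rw [← sum_mul]; congr 1; omega
        rw [this]; ring
      · simp; ring
    rw [e]
    exact add_mem (sum_mem fun p _ => zsmul_mem (hpair p none) _)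
      (zsmul_mem (hbase.eight _ fun i => by split <;> norm_num) _)
  have hfin : {x : Fin 24 → ℤ | x ⬝ᵥ (B *ᵥ x) = 4}.Finite := Set.finite_of_ncard_pos (by rw [h4]; norm_num)
  set S := hfin.toFinset.image φ
  have hS : ∀ x ∈ S, x ∈ A ∧ Cfsg.sqNorm x = 32 := by
    intro x hx
    obtain ⟨v, hv, rfl⟩ := mem_image.mp hx
    exact ⟨⟨v, rfl⟩, by rw [hnorm, show v ⬝ᵥ (B *ᵥ v) = 4 from (Set.Finite.mem_toFinset hfin).mp hv]; norm_num⟩
  have hSc : S.card = 196560 := by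
    rw [card_image_of_injective _ hinj, ← Set.ncard_eq_toFinset_card _ hfin, h4]
  obtain ⟨σ, D, hσD⟩ := (frame_data hbase hfour hS hSc).normalise
  let ψ : (GolayPt → ℤ) →+ (GolayPt → ℤ) := AddMonoidHom.mk' (signedPerm σ D) fun a b => funext fun i => by
    simp only [signedPerm, Pi.add_apply]; split <;> ring
  have hψinj : Function.Injective ψ := fun a b h => funext fun i => by
    have := congrFun h (σ i)
    simp only [ψ, AddMonoidHom.mk'_apply, signedPerm, Equiv.symm_apply_apply] at this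
    split at this
    · exact neg_injective this
    · exact this
  have hle : A.map ψ ≤ leechLattice := by rintro _ ⟨x, hx, rfl⟩; exact hσD x hx
  have heq : leechLattice ≤ A.map ψ := by
    rw [← s1567, AddSubgroup.closure_le]
    have hfin32 : {x : GolayPt → ℤ | x ∈ leechLattice ∧ Cfsg.sqNorm x = 32}.Finite :=
      Set.finite_of_ncard_pos (by rw [ncard_32]; norm_num)
    have himg : (S.image ψ : Set (GolayPt → ℤ)) = {x : GolayPt → ℤ | x ∈ leechLattice ∧ Cfsg.sqNorm x = 32} := by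
      refine Set.eq_of_subset_of_ncard_le ?_ ?_ hfin32
      · intro y hy
        obtain ⟨x, hx, rfl⟩ := mem_image.mp hy
        exact ⟨hσD x (hS x hx).1, (sqNorm_signedPerm σ D x).trans (hS x hx).2⟩
      · rw [ncard_32, Set.ncard_coe_finset, card_image_of_injective _ hψinj, hSc]
    intro y hy
    rw [← himg] at hy
    obtain ⟨x, hx, rfl⟩ := mem_image.mp hy
    exact ⟨x, (hS x hx).1, rfl⟩
  let F : (Fin 24 → ℤ) →+ leechLattice := (ψ.comp φ).codRestrict leechLattice fun v => hσD _ ⟨v, rfl⟩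
  have hFb : Function.Bijective F := by
    refine ⟨fun v w h => hinj (hψinj (congrArg Subtype.val h)), fun z => ?_⟩
    obtain ⟨_, ⟨v, rfl⟩, hv⟩ := heq z.2
    exact ⟨v, Subtype.ext hv⟩
  exact ⟨AddEquiv.ofBijective F hFb, fun v => (sqNorm_signedPerm σ D (φ v)).trans (hnorm v)⟩

end Cfsg.Lib.Leech
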