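import Cfsg.Agent.Leech.UnitarySixData
import Cfsg.Agent.Leech.Stab.Configurations
import Cfsg.Agent.FiPres.UniData

/-!
Computations for the stabiliser of two short vectors with the inner product minus two.
-/

set_option autoImplicit false
set_option maxRecDepth 100000
set_option Elab.async false

namespace Cfsg.Lib.Leech.UnitarySix

open Cfsg.Lib.PermCert Cfsg.Lib.CosetCert Cfsg.Lib.Leech Cfsg.Lib.Leech.Stab

/-- The atom of a generator. -/
def gen (l : ℕ) : Atom := gens7.getD l .xi

/-- A key of the 891. -/
def skey (i : ℕ) : ℕ := (keyRows.getD (i / 27) []).getD (i % 27) 0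

/-- A subset as a list. -/
def quad (j : ℕ) : List ℕ := (quadRows.getD (j / 21) []).getD (j % 21) []

/-- A list as a set of bits. -/
def mask : List ℕ → ℕ
  | [] => 0
  | a :: l => 2 ^ a ||| mask l

theorem base_ok : inL (dec kV) = true ∧ inL (dec kW) = true ∧ Cfsg.sqNorm (dec kV) = 32 ∧
    Cfsg.sqNorm (dec kW) = 32 ∧ Cfsg.dotInt (dec kV) (dec kW) = -16 := by decide +kernel

theorem keys_ok : ((List.range 891).all fun i => inL (dec (skey i)) &&
    decide (Cfsg.sqNorm (dec (skey i)) = 32) && Nat.blt (skey i) (2 ^ 120)) = true := by decide +kernel

theorem keys_incr : ((List.range 890).all fun i => Nat.blt (skey i) (skey (i + 1))) = true := by decide +kernel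

theorem gens_fix : ((List.range 7).all fun l => (gen l).ok && ((gen l).act kV == kV) && ((gen l).act kW == kW)) = true := by
  decide +kernel

theorem tabs_valid : vTabs.all (valid 891) = true ∧ sTabs.all (valid 693) = true ∧ vTabs.length = 7 ∧
    sTabs.length = 7 ∧ valid 693 ordTab = true := by decide +kernel

theorem quads_bound : ((List.range 693).all fun j => (quad j).all fun x => decide (x < 891)) = true := by decide +kernel

theorem quads_incr : ((List.range 692).all fun j =>
    Nat.blt (mask (quad (ap ordTab.1 j))) (mask (quad (ap ordTab.1 (j + 1))))) = true := by decide +kernel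

/-- One generator moves the vectors as its table. -/
def actOn (l : ℕ) : Bool :=
  (List.range 891).all fun i => (gen l).act (skey i) == skey (ap (vTabs.getD l (0, 0)).1 i)

/-- One generator moves the subsets as its table. -/
def setOn (l : ℕ) : Bool :=
  (List.range 693).all fun j =>
    mask ((quad j).map fun x => ap (vTabs.getD l (0, 0)).1 x) == mask (quad (ap (sTabs.getD l (0, 0)).1 j))

theorem act_0 : actOn 0 = true ∧ setOn 0 = true := by decide +kernel
theorem act_1 : actOn 1 = true ∧ setOn 1 = true := by decide +kernel
theorem act_2 : actOn 2 = true ∧ setOn 2 = true := by decide +kernel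
theorem act_3 : actOn 3 = true ∧ setOn 3 = true := by decide +kernel
theorem act_4 : actOn 4 = true ∧ setOn 4 = true := by decide +kernel
theorem act_5 : actOn 5 = true ∧ setOn 5 = true := by decide +kernel
theorem act_6 : actOn 6 = true ∧ setOn 6 = true := by decide +kernel

/-- A word of the seven tables is one of the unitary tables. -/
def wordOn (l : ℕ) : Bool :=
  ((sWords.getD l []).all fun a => decide (a < 7)) && (List.range 693).all fun x =>
    evalWord ((sWords.getD l []).map fun a => sTabs.getD a (0, 0)) x == ap (FiPres.uniTabs.getD l (0, 0)).1 x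

theorem words_low : ((List.range 5).all wordOn) = true := by decide +kernel
theorem words_high : ((List.range 5).all fun l => wordOn (l + 5)) = true := by decide +kernel

end Cfsg.Lib.Leech.UnitarySix
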